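import Mathlib
import Cfsg.Agent.Inv.Sieve

/-! The orders of the simple groups of composite order between `1093` and `3640` (sieve). -/

set_option autoImplicit false
set_option maxRecDepth 100000

namespace Cfsg.Agent.FG.H93.Sv

open Cfsg.Agent.Inv.Sieve

theorem lo_1093 : killAll [1344, 1512, 1680, 1800, 2448, 2520, 2700, 3360, 3420, 3600] 1093
  [(1093,1093),(2,547),(73,0),(2,137),(1097,1097),(61,0),(7,157),(11,0),(3,367),(29,0),
   (1103,1103),(23,0),(17,0),(79,0),(3,41),(2,277),(1109,1109),(37,0),(11,101),(2,139),(53,0),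
   (2,557),(5,223),(31,0),(1117,1117),(43,0),(3,373),(7,0),(19,59),(17,0),(1123,1123),(2,281),
   (3,5),(2,563),(7,23),(47,0),(1129,1129),(113,0),(29,0),(2,283),(11,103),(7,0),(5,227),(2,71),
   (3,379),(2,569),(17,67),(19,0),(7,163),(2,571),(3,127),(13,0),(5,229),(191,0),(31,37),(41,0),
   (3,383),(23,0),(1151,1151),(2,3),(1153,1153),(2,577),(11,0),(2,17),(13,89),(193,0),(19,61),
   (29,0),(3,43),(83,0),(1163,1163),(97,0),(5,233),(53,0),(3,389),(2,73),(7,167),(13,0),
   (1171,1171),(2,293),(23,0),(2,587),(5,47),(7,0),(11,107),(31,0),(3,131),(59,0),(1181,1181),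
   (197,0),(7,13),(2,37),(79,0),(2,593),(1187,1187),(11,0),(29,41),(17,0),(3,397),(2,149),
   (1193,1193),(199,0),(5,239),(23,0),(19,0),(2,599),(11,109),(5,0),(1201,1201),(2,601),(3,401),
   (43,0),(5,241),(67,0),(17,71),(2,151),(31,0),(11,0),(7,173),(101,0),(1213,1213),(2,607),(3,5),
   (2,19),(1217,1217),(29,0),(23,53),(61,0),(37,0),(47,0),(1223,1223),(17,0),(5,7),(2,613),
   (3,409),(2,307),(1229,1229),(41,0),(1231,1231),(11,0),(3,137),(2,617),(19,0),(103,0),
   (1237,1237),(2,619),(59,0),(31,0),(17,73),(23,0),(11,113),(2,311),(83,0),(89,0),(29,43),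
   (13,0),(1249,1249),(2,5),(3,139),(2,313),(7,179),(19,0),(5,251),(2,157),(3,419),(37,0),
   (1259,1259),(7,0),(13,97),(2,631),(3,421),(2,79),(23,0),(211,0),(7,181),(2,317),(3,47),
   (127,0),(31,41),(53,0),(19,67),(13,0),(17,0),(29,0),(1277,1277),(71,0),(1279,1279),(2,5),
   (61,0),(2,641),(1283,1283),(107,0),(5,257),(2,643),(13,0),(23,0),(1289,1289),(43,0),
   (1291,1291),(19,0)] = true := by
  decide +kernel

theorem lo_1293 : killAll [1344, 1512, 1680, 1800, 2448, 2520, 2700, 3360, 3420, 3600] 1293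
  [(3,431),(2,647),(37,0),(2,3),(1297,1297),(59,0),(3,433),(13,0),(1301,1301),(31,0),(1303,1303),
   (2,163),(29,0),(2,653),(1307,1307),(109,0),(17,0),(131,0),(23,0),(2,41),(13,101),(73,0),
   (5,263),(47,0),(3,439),(2,659),(1319,1319),(11,0),(1321,1321),(2,661),(3,7),(2,331),(5,53),
   (17,0),(1327,1327),(2,83),(3,443),(19,0),(11,11),(37,0),(31,43),(29,0),(89,0),(2,167),(7,191),
   (223,0),(13,103),(67,0),(3,149),(61,0),(17,79),(0,0),(5,269),(2,673),(3,449),(2,337),(19,71),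
   (5,0),(7,193),(2,13),(41,0),(2,677),(5,271),(113,0),(23,59),(97,0),(3,151),(17,0),(1361,1361),
   (227,0),(29,47),(31,0),(13,0),(2,683),(1367,1367),(19,0),(37,37),(137,0),(3,457),(2,7),
   (1373,1373),(229,0),(5,11),(2,43),(3,17),(53,0),(7,197),(23,0),(1381,1381),(2,691),(3,461),
   (2,173),(5,277),(11,0),(19,73),(2,347),(3,463),(139,0),(13,107),(29,0),(7,199),(41,0),(31,0),
   (2,349),(11,127),(233,0),(1399,1399),(7,0),(3,467),(2,701),(23,61),(13,0),(5,281),(37,0),
   (67,0),(2,11),(1409,1409),(47,0),(17,83),(2,353),(3,157),(101,0),(5,283),(59,0),(13,109),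
   (2,709),(43,0),(71,0),(7,29),(79,0),(1423,1423),(2,89),(19,0),(31,0),(1427,1427),(17,0),
   (1429,1429),(13,0),(3,53),(2,179),(1433,1433),(239,0),(41,0),(2,359),(3,479),(2,719),
   (1439,1439),(5,0),(11,131),(103,0),(37,0),(2,19),(5,17),(241,0),(1447,1447),(2,181),(23,0),
   (29,0),(1451,1451),(11,0),(1453,1453),(2,727),(97,0),(13,0),(31,47),(2,3),(1459,1459),(73,0),
   (3,487),(43,0),(19,0),(61,0),(5,293),(2,733),(3,163),(2,367),(13,113),(7,0),(1471,1471),
   (2,23),(3,491),(67,0),(5,59),(41,0),(7,211),(2,739),(29,0),(37,0),(1481,1481),(19,0),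
   (1483,1483),(53,0),(11,0),(2,743),(1487,1487),(31,0),(1489,1489),(149,0),(71,0),(2,373)] = true := by
  decide +kernel

theorem lo_1493 : killAll [1344, 1512, 1680, 1800, 2448, 2520, 2700, 3360, 3420, 3600] 1493
  [(1493,1493),(83,0),(23,0),(17,0),(3,499),(107,0),(1499,1499),(5,0),(19,79),(2,751),(3,167),
   (2,47),(43,0),(251,0),(11,137),(29,0),(3,503),(151,0),(1511,1511),(0,0),(17,89),(2,757),
   (101,0),(2,379),(37,41),(23,0),(7,31),(19,0),(3,13),(2,761),(1523,1523),(127,0),(5,61),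
   (109,0),(3,509),(2,191),(11,139),(17,0),(1531,1531),(2,383),(73,0),(59,0),(5,307),(2,3),
   (29,53),(2,769),(3,19),(11,0),(23,67),(257,0),(1543,1543),(2,193),(103,0),(2,773),(17,0),
   (43,0),(1549,1549),(31,0),(47,0),(2,97),(1553,1553),(37,0),(5,311),(2,389),(3,173),(41,0),
   (1559,1559),(13,0),(7,223),(71,0),(3,521),(23,0),(5,313),(29,0),(1567,1567),(2,7),(3,523),
   (157,0),(1571,1571),(131,0),(11,13),(2,787),(7,0),(2,197),(19,83),(263,0),(1579,1579),(79,0),
   (31,0),(113,0),(1583,1583),(11,0),(5,317),(61,0),(3,23),(2,397),(7,227),(53,0),(37,43),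
   (2,199),(3,59),(2,797),(29,0),(19,0),(1597,1597),(47,0),(41,0),(2,5),(1601,1601),(89,0),
   (7,229),(2,401),(107,0),(73,0),(1607,1607),(67,0),(1609,1609),(23,0),(3,179),(31,0),
   (1613,1613),(269,0),(19,0),(2,101),(11,0),(2,809),(1619,1619),(5,0),(1621,1621),(2,811),
   (3,541),(29,0),(5,13),(271,0),(1627,1627),(37,0),(3,181),(163,0),(7,233),(17,0),(23,71),
   (43,0),(109,0),(2,409),(1637,1637),(13,0),(11,149),(41,0),(3,547),(2,821),(31,53),(137,0),
   (47,0),(2,823),(3,61),(2,103),(17,97),(11,0),(13,127),(59,0),(29,0),(2,827),(5,331),(23,0),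
   (1657,1657),(2,829),(79,0),(83,0),(11,151),(277,0),(1663,1663),(2,13),(37,0),(17,0),
   (1667,1667),(139,0),(1669,1669),(167,0),(3,557),(19,0),(7,239),(31,0),(5,67),(2,419),(43,0),
   (2,839),(23,73),(0,0),(41,41),(2,29),(17,0),(2,421),(5,337),(281,0),(7,241),(2,211),(3,563),
   (13,0),(19,89),(47,0)] = true := by
  decide +kernel

theorem lo_1693 : killAll [1344, 1512, 1680, 1800, 2448, 2520, 2700, 3360, 3420, 3600] 1693
  [(1693,1693),(11,0),(113,0),(2,53),(1697,1697),(283,0),(1699,1699),(17,0),(3,7),(37,0),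
   (13,131),(71,0),(31,0),(2,853),(3,569),(61,0),(1709,1709),(19,0),(29,59),(2,107),(3,571),
   (2,857),(5,7),(3,0),(17,101),(2,859),(3,191),(43,0),(1721,1721),(41,0),(1723,1723),(2,431),
   (23,0),(2,863),(11,157),(2,3),(19,0),(173,0),(3,577),(2,433),(1733,1733),(17,0),(5,347),
   (31,0),(3,193),(79,0),(37,47),(29,0),(1741,1741),(67,0),(83,0),(2,109),(5,349),(97,0),
   (1747,1747),(23,0),(53,0),(7,0),(17,103),(73,0),(1753,1753),(2,877),(13,0),(2,439),(7,251),
   (293,0),(1759,1759),(11,0),(3,587),(2,881),(41,43),(7,0),(5,353),(2,883),(31,0),(17,0),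
   (29,61),(59,0),(23,0),(2,443),(3,197),(2,887),(5,71),(37,0),(1777,1777),(127,0),(3,593),
   (89,0),(13,137),(11,0),(1783,1783),(2,223),(17,0),(47,0),(1787,1787),(149,0),(1789,1789),
   (179,0),(3,199),(2,7),(11,163),(23,0),(5,359),(2,449),(3,599),(31,0),(7,257),(0,0),
   (1801,1801),(53,0),(3,601),(41,0),(5,19),(43,0),(13,139),(2,113),(3,67),(181,0),(1811,1811),
   (151,0),(7,37),(2,907),(11,0),(2,227),(23,79),(101,0),(17,107),(13,0),(3,607),(2,911),
   (1823,1823),(19,0),(5,73),(83,0),(29,0),(2,457),(31,59),(61,0),(1831,1831),(2,229),(47,0),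
   (131,0),(5,367),(17,0),(11,167),(2,919),(3,613),(23,0),(7,263),(307,0),(19,97),(2,461),(41,0),
   (71,0),(1847,1847),(11,0),(43,43),(37,0),(3,617),(2,463),(17,109),(103,0),(53,0),(2,29),
   (3,619),(2,929),(11,13),(31,0),(1861,1861),(19,0),(3,23),(2,233),(5,373),(311,0),(1867,1867),
   (2,467),(89,0),(17,0),(1871,1871),(13,0),(1873,1873),(2,937),(3,5),(67,0),(1877,1877),(313,0),
   (1879,1879),(47,0),(19,0),(2,941),(7,269),(157,0),(29,0),(41,0),(37,0),(2,59),(1889,1889),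
   (7,0),(31,61),(43,0)] = true := by
  decide +kernel

theorem lo_1893 : killAll [1344, 1512, 1680, 1800, 2448, 2520, 2700, 3360, 3420, 3600] 1893
  [(3,631),(2,947),(5,379),(79,0),(7,271),(73,0),(3,211),(19,0),(1901,1901),(317,0),(11,173),
   (17,0),(127,0),(2,953),(1907,1907),(53,0),(23,83),(191,0),(13,0),(2,239),(1913,1913),(29,0),
   (5,383),(2,479),(3,71),(137,0),(19,101),(5,0),(17,113),(2,31),(3,641),(37,0),(11,0),(107,0),
   (41,47),(2,241),(3,643),(193,0),(1931,1931),(23,0),(1933,1933),(2,967),(43,0),(2,11),(13,149),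
   (19,0),(7,277),(97,0),(3,647),(2,971),(29,67),(2,3),(5,389),(139,0),(59,0),(2,487),
   (1949,1949),(13,0),(1951,1951),(2,61),(31,0),(2,977),(23,0),(163,0),(19,103),(89,0),(3,653),
   (7,0),(37,53),(109,0),(13,151),(2,491),(131,0),(2,983),(7,281),(41,0),(11,179),(197,0),(3,73),
   (29,0),(1973,1973),(47,0),(5,79),(19,0),(3,659),(43,0),(1979,1979),(11,0),(7,283),(2,991),
   (3,661),(2,31),(5,397),(331,0),(1987,1987),(71,0),(17,0),(199,0),(11,181),(83,0),(1993,1993),
   (2,997),(19,0),(2,499),(1997,1997),(37,0),(1999,1999),(2,5),(29,0),(13,0),(2003,2003),(167,0),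
   (5,401),(59,0),(3,223),(2,251),(7,41),(67,0),(2011,2011),(2,503),(61,0),(53,0),(31,0),(7,0),
   (2017,2017),(2,1009),(3,673),(101,0),(43,47),(337,0),(7,17),(23,0),(3,5),(2,1013),(2027,2027),
   (13,0),(2029,2029),(29,0),(3,677),(2,127),(19,107),(113,0),(37,0),(2,509),(97,0),(2,1019),
   (2039,2039),(17,0),(13,157),(2,1021),(3,227),(73,0),(5,409),(31,0),(23,89),(2,2),(3,683),
   (41,0),(7,293),(19,0),(2053,2053),(79,0),(137,0),(2,257),(11,17),(7,0),(29,71),(103,0),
   (3,229),(2,1031),(2063,2063),(43,0),(59,0),(2,1033),(53,0),(47,0),(2069,2069),(23,0),(19,109),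
   (37,0),(3,691),(61,0),(5,83),(173,0),(31,67),(2,1039),(11,0),(13,0),(2081,2081),(347,0),
   (2083,2083),(2,521),(139,0),(149,0),(2087,2087),(29,0),(2089,2089),(19,0),(41,0),(2,523)] = true := by
  decide +kernel

theorem lo_2093 : killAll [1344, 1512, 1680, 1800, 2448, 2520, 2700, 3360, 3420, 3600] 2093
  [(23,0),(349,0),(5,419),(2,131),(3,233),(2,1049),(2099,2099),(7,0),(11,191),(2,1051),(3,701),
   (2,263),(5,421),(13,0),(7,43),(31,0),(37,0),(211,0),(2111,2111),(11,0),(2113,2113),(151,0),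
   (47,0),(2,23),(29,73),(353,0),(13,163),(53,0),(101,0),(2,1061),(11,193),(59,0),(5,17),
   (2,1063),(3,709),(19,0),(2129,2129),(71,0),(2131,2131),(41,0),(3,79),(97,0),(61,0),(89,0),
   (2137,2137),(2,1069),(31,0),(107,0),(2141,2141),(17,0),(2143,2143),(2,67),(13,0),(37,0),
   (19,113),(179,0),(7,307),(43,0),(3,239),(2,269),(2153,2153),(359,0),(5,431),(11,0),(3,719),
   (83,0),(17,127),(5,0),(2161,2161),(47,0),(103,0),(2,541),(5,433),(19,0),(11,197),(2,271),
   (3,241),(31,0),(13,167),(181,0),(41,53),(2,1087),(29,0),(2,17),(7,311),(11,0),(2179,2179),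
   (109,0),(3,727),(2,1091),(37,59),(13,0),(23,0),(2,1093),(3,3),(2,547),(11,199),(73,0),(7,313),
   (2,137),(43,0),(2,1097),(5,439),(61,0),(13,13),(157,0),(3,733),(11,0),(31,71),(367,0),
   (2203,2203),(29,0),(7,0),(2,1103),(2207,2207),(23,0),(47,47),(17,0),(67,0),(79,0),(2213,2213),
   (41,0),(5,443),(2,277),(3,739),(2,1109),(7,317),(37,0),(2221,2221),(101,0),(19,0),(2,139),
   (5,89),(53,0),(17,131),(2,557),(3,743),(223,0),(23,97),(31,0),(29,0),(2,1117),(149,0),(43,0),
   (2237,2237),(373,0),(2239,2239),(7,0),(3,83),(59,0),(2243,2243),(17,0),(5,449),(2,1123),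
   (107,0),(2,281),(13,173),(5,0),(2251,2251),(2,563),(3,751),(23,0),(41,0),(47,0),(37,61),
   (2,1129),(3,251),(113,0),(19,0),(29,0),(31,73),(2,283),(151,0),(103,0),(2267,2267),(7,0),
   (2269,2269),(227,0),(3,757),(2,71),(2273,2273),(379,0),(13,0),(2,569),(23,0),(67,0),(43,53),
   (19,0),(2281,2281),(163,0),(3,761),(2,571),(5,457),(127,0),(2287,2287),(13,0),(109,0),(229,0),
   (29,79),(191,0)] = true := by
  decide +kernel

theorem lo_2293 : killAll [1344, 1512, 1680, 1800, 2448, 2520, 2700, 3360, 3420, 3600] 2293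
  [(2293,2293),(37,0),(17,0),(41,0),(2297,2297),(383,0),(11,19),(23,0),(59,0),(2,1151),(7,47),
   (2,3),(5,461),(2,1153),(3,769),(2,577),(2309,2309),(11,0),(2311,2311),(2,17),(3,257),(89,0),
   (5,463),(193,0),(7,331),(61,0),(3,773),(29,0),(11,211),(43,0),(23,101),(83,0),(31,0),(2,1163),
   (13,179),(97,0),(17,137),(233,0),(37,0),(53,0),(2333,2333),(389,0),(5,467),(2,73),(41,0),
   (167,0),(2339,2339),(13,0),(2341,2341),(2,1171),(71,0),(2,293),(67,0),(23,0),(2347,2347),
   (2,587),(3,29),(47,0),(2351,2351),(7,0),(13,181),(107,0),(157,0),(31,0),(2357,2357),(131,0),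
   (7,337),(59,0),(3,787),(2,1181),(17,139),(197,0),(43,0),(13,0),(3,263),(2,37),(23,103),(79,0),
   (2371,2371),(2,593),(113,0),(2,1187),(5,19),(11,0),(2377,2377),(41,0),(61,0),(17,0),
   (2381,2381),(397,0),(2383,2383),(2,149),(53,0),(2,1193),(31,0),(199,0),(2389,2389),(239,0),
   (3,797),(23,0),(2393,2393),(19,0),(5,479),(2,599),(47,0),(109,0),(2399,2399),(3,0),(7,7),
   (2,1201),(3,89),(2,601),(37,0),(401,0),(29,83),(43,0),(73,0),(241,0),(2411,2411),(67,0),
   (19,127),(71,0),(23,0),(2,151),(2417,2417),(31,0),(41,59),(11,0),(3,269),(173,0),(2423,2423),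
   (101,0),(5,97),(2,1213),(3,809),(2,607),(7,347),(5,0),(17,0),(2,19),(3,811),(2,1217),(5,487),
   (29,0),(2437,2437),(53,0),(3,271),(61,0),(2441,2441),(37,0),(7,349),(47,0),(163,0),(2,1223),
   (2447,2447),(0,0),(31,79),(5,0),(43,0),(2,613),(11,223),(409,0),(5,491),(2,307),(13,0),
   (2,1229),(2459,2459),(41,0),(23,107),(2,1231),(3,821),(11,0),(29,0),(137,0),(2467,2467),
   (2,617),(3,823),(19,0),(7,353),(103,0),(2473,2473),(2,1237),(11,0),(2,619),(2477,2477),(59,0),
   (37,67),(31,0),(3,827),(73,0),(13,191),(23,0),(71,0),(113,0),(3,829),(2,311),(19,131),(83,0),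
   (47,53),(89,0)] = true := by
  decide +kernel

theorem lo_2493 : killAll [1344, 1512, 1680, 1800, 2448, 2520, 2700, 3360, 3420, 3600] 2493
  [(3,277),(43,0),(5,499),(13,0),(11,227),(2,1249),(17,0),(2,5),(41,61),(139,0),(2503,2503),
   (2,313),(167,0),(179,0),(23,109),(19,0),(13,193),(251,0),(3,31),(2,157),(7,359),(419,0),
   (5,503),(37,0),(3,839),(2,1259),(11,229),(0,0),(2521,2521),(97,0),(3,29),(2,631),(5,101),
   (421,0),(7,19),(2,79),(3,281),(23,0),(2531,2531),(211,0),(17,149),(181,0),(13,0),(2,317),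
   (43,59),(47,0),(2539,2539),(127,0),(11,0),(41,0),(2543,2543),(53,0),(5,509),(67,0),(3,283),
   (13,0),(2549,2549),(17,0),(2551,2551),(29,0),(37,0),(2,1277),(73,0),(71,0),(2557,2557),
   (2,1279),(3,853),(2,5),(13,197),(61,0),(11,233),(2,641),(19,0),(2,1283),(17,151),(107,0),
   (7,367),(257,0),(3,857),(2,643),(31,83),(13,0),(5,103),(23,0),(3,859),(2,1289),(2579,2579),
   (43,0),(29,89),(2,1291),(41,0),(19,0),(47,0),(431,0),(13,199),(2,647),(3,863),(37,0),
   (2591,2591),(2,3),(2593,2593),(2,1297),(173,0),(59,0),(7,53),(433,0),(23,113),(13,0),(3,17),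
   (2,1301),(19,137),(31,0),(5,521),(2,1303),(79,0),(2,163),(2609,2609),(29,0),(7,373),(2,653),
   (67,0),(2,1307),(5,523),(109,0),(2617,2617),(17,0),(3,97),(131,0),(2621,2621),(23,0),(43,61),
   (2,41),(7,0),(101,0),(37,71),(73,0),(11,239),(263,0),(3,877),(47,0),(2633,2633),(439,0),
   (31,0),(2,659),(3,293),(2,1319),(29,0),(11,0),(19,139),(2,1321),(3,881),(2,661),(5,23),(7,0),
   (2647,2647),(2,331),(3,883),(53,0),(11,241),(17,0),(7,379),(2,1327),(59,0),(2,83),(2657,2657),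
   (443,0),(2659,2659),(19,0),(3,887),(2,11),(2663,2663),(37,0),(41,0),(43,0),(127,0),(29,0),
   (17,157),(89,0),(2671,2671),(2,167),(3,11),(191,0),(5,107),(223,0),(2677,2677),(103,0),(47,0),
   (67,0),(7,383),(149,0),(2683,2683),(61,0),(179,0),(79,0),(2687,2687),(7,0),(2689,2689),
   (269,0),(23,0),(2,673)] = true := by
  decide +kernel

theorem lo_2693 : killAll [1344, 1512, 1680, 1800, 2448, 2520, 2700, 3360, 3420, 3600] 2693
  [(2693,2693),(449,0),(11,0),(2,337),(31,0),(71,0),(2699,2699),(0,0),(37,73),(193,0),(53,0),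
   (2,13),(5,541),(41,0),(2707,2707),(2,677),(43,0),(271,0),(2711,2711),(113,0),(2713,2713),
   (59,0),(181,0),(97,0),(19,0),(151,0),(2719,2719),(17,0),(3,907),(2,1361),(7,389),(227,0),
   (5,109),(47,0),(3,101),(31,0),(2729,2729),(13,0),(2731,2731),(2,683),(3,911),(2,1367),(5,547),
   (19,0),(23,0),(2,37),(83,0),(137,0),(2741,2741),(457,0),(13,211),(2,7),(61,0),(2,1373),
   (41,67),(229,0),(2749,2749),(11,0),(131,0),(2,43),(2753,2753),(17,0),(29,0),(53,0),(3,919),
   (197,0),(31,89),(23,0),(11,251),(2,1381),(3,307),(2,691),(79,0),(461,0),(2767,2767),(2,173),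
   (71,0),(277,0),(17,163),(11,0),(47,59),(73,0),(37,0),(2,347),(2777,2777),(463,0),(7,397),
   (139,0),(3,103),(107,0),(11,23),(29,0),(5,557),(199,0),(3,929),(41,0),(2789,2789),(31,0),
   (2791,2791),(2,349),(19,0),(127,0),(43,0),(233,0),(2797,2797),(2,1399),(3,311),(7,0),
   (2801,2801),(467,0),(2803,2803),(2,701),(17,0),(61,0),(7,401),(13,0),(53,53),(281,0),(3,937),
   (37,0),(29,97),(67,0),(5,563),(2,11),(3,313),(2,1409),(2819,2819),(47,0),(31,0),(83,0),
   (3,941),(2,353),(5,113),(157,0),(11,257),(101,0),(41,0),(283,0),(19,149),(59,0),(2833,2833),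
   (109,0),(7,0),(2,709),(2837,2837),(43,0),(17,167),(71,0),(3,947),(29,0),(2843,2843),(79,0),
   (5,569),(2,1423),(73,0),(2,89),(37,0),(19,0),(2851,2851),(31,0),(3,317),(2,1427),(5,571),
   (17,0),(2857,2857),(2,1429),(3,953),(13,0),(2861,2861),(53,0),(7,409),(2,179),(191,0),
   (2,1433),(47,61),(239,0),(19,151),(41,0),(29,0),(2,359),(13,17),(479,0),(5,23),(2,719),
   (137,0),(2,1439),(2879,2879),(5,0),(43,67),(131,0),(3,31),(103,0),(5,577),(37,0),(2887,2887),
   (2,19),(3,107),(17,0),(7,59),(241,0)] = true := by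
  decide +kernel

theorem lo_2893 : killAll [1344, 1512, 1680, 1800, 2448, 2520, 2700, 3360, 3420, 3600] 2893
  [(11,263),(2,1447),(193,0),(2,181),(2897,2897),(23,0),(13,223),(29,0),(3,967),(2,1451),
   (2903,2903),(11,0),(83,0),(2,1453),(19,0),(2,727),(2909,2909),(97,0),(41,71),(13,0),(3,971),
   (47,0),(53,0),(2,3),(2917,2917),(2,1459),(139,0),(73,0),(23,127),(487,0),(37,79),(43,0),
   (13,0),(19,0),(2927,2927),(61,0),(29,101),(293,0),(3,977),(2,733),(7,419),(163,0),(5,587),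
   (2,367),(89,0),(113,0),(2939,2939),(7,0),(17,173),(2,1471),(3,109),(2,23),(31,0),(491,0),
   (7,421),(67,0),(3,983),(59,0),(13,227),(41,0),(2953,2953),(211,0),(197,0),(2,739),(2957,2957),
   (29,0),(11,269),(37,0),(47,0),(2,1481),(2963,2963),(19,0),(5,593),(2,1483),(43,0),(53,0),
   (2969,2969),(11,0),(2971,2971),(2,743),(3,991),(2,1487),(17,0),(31,0),(13,229),(2,1489),
   (3,331),(149,0),(11,271),(71,0),(19,157),(2,373),(199,0),(2,1493),(29,103),(83,0),(7,61),
   (23,0),(3,997),(17,0),(41,73),(499,0),(5,599),(107,0),(3,37),(2,1499),(2999,2999),(5,0),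
   (3001,3001),(79,0),(13,0),(2,751),(5,601),(167,0),(31,97),(2,47),(59,0),(43,0),(3011,3011),
   (251,0),(23,131),(137,0),(67,0),(29,0),(7,431),(503,0),(3019,3019),(151,0),(53,0),(2,1511),
   (3023,3023),(7,0),(5,11),(89,0),(3,1009),(2,757),(13,233),(101,0),(7,433),(2,379),(3,337),
   (41,0),(5,607),(23,0),(3037,3037),(31,0),(3,1013),(19,0),(3041,3041),(13,0),(17,179),(2,761),
   (29,0),(2,1523),(11,277),(127,0),(3049,3049),(61,0),(3,113),(109,0),(43,71),(509,0),(47,0),
   (2,191),(3,1019),(139,0),(23,0),(17,0),(3061,3061),(2,1531),(3,1021),(2,383),(5,613),(73,0),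
   (3067,3067),(59,0),(31,0),(307,0),(37,83),(2,3),(7,439),(53,0),(41,0),(2,769),(17,181),(19,0),
   (3079,3079),(11,0),(79,0),(67,0),(3083,3083),(257,0),(5,617),(2,1543),(3,7),(2,193),
   (3089,3089),(103,0),(11,281),(2,773)] = true := by
  decide +kernel

theorem lo_3093 : killAll [1344, 1512, 1680, 1800, 2448, 2520, 2700, 3360, 3420, 3600] 3093
  [(3,1031),(17,0),(5,619),(43,0),(19,163),(2,1549),(3,1033),(31,0),(7,443),(47,0),(29,107),
   (2,97),(23,0),(2,1553),(13,239),(37,0),(3109,3109),(311,0),(61,0),(2,389),(11,283),(173,0),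
   (89,0),(41,0),(3,1039),(2,1559),(3119,3119),(13,0),(3121,3121),(223,0),(3,347),(71,0),(5,5),
   (521,0),(53,59),(23,0),(149,0),(313,0),(31,101),(29,0),(13,241),(2,1567),(19,0),(2,7),
   (3137,3137),(523,0),(43,73),(157,0),(3,349),(2,1571),(7,449),(131,0),(37,0),(13,0),(3,1049),
   (2,787),(47,67),(7,0),(23,137),(2,197),(3,1051),(83,0),(5,631),(263,0),(41,0),(2,1579),(3,13),
   (79,0),(29,109),(31,0),(3163,3163),(113,0),(211,0),(2,1583),(3167,3167),(11,0),(3169,3169),
   (317,0),(151,0),(61,0),(19,167),(23,0),(5,127),(2,397),(3,353),(227,0),(11,17),(53,0),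
   (3181,3181),(43,0),(3,1061),(2,199),(13,0),(59,0),(3187,3187),(2,797),(3,1063),(29,0),
   (3191,3191),(19,0),(31,103),(2,1597),(71,0),(47,0),(23,139),(41,0),(7,457),(2,5),(97,0),
   (2,1601),(3203,3203),(89,0),(5,641),(229,0),(3,1069),(2,401),(3209,3209),(107,0),(13,19),
   (73,0),(17,0),(2,1607),(5,643),(67,0),(3217,3217),(2,1609),(37,0),(23,0),(3221,3221),(179,0),
   (11,293),(31,0),(43,0),(2,1613),(7,461),(269,0),(3229,3229),(19,0),(3,359),(2,101),(53,61),
   (11,0),(5,647),(2,809),(83,0),(2,1619),(41,79),(5,0),(7,463),(2,1621),(47,0),(2,811),(59,0),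
   (541,0),(17,191),(29,0),(3,19),(13,0),(3251,3251),(271,0),(3253,3253),(2,1627),(31,0),(37,0),
   (3257,3257),(181,0),(3259,3259),(163,0),(3,1087),(233,0),(13,251),(17,0),(5,653),(71,0),
   (3,11),(43,0),(7,467),(109,0),(3271,3271),(2,409),(3,1091),(2,1637),(5,131),(13,0),(29,113),
   (149,0),(3,1093),(41,0),(17,193),(547,0),(7,67),(2,821),(73,0),(53,0),(19,173),(137,0),(23,0),
   (47,0),(3,1097),(2,823)] = true := by
  decide +kernel

theorem lo_3293 : killAll [1344, 1512, 1680, 1800, 2448, 2520, 2700, 3360, 3420, 3600] 3293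
  [(37,89),(61,0),(5,659),(2,103),(157,0),(97,0),(3299,3299),(11,0),(3301,3301),(127,0),(3,367),
   (59,0),(5,661),(29,0),(3307,3307),(2,827),(3,1103),(331,0),(43,0),(23,0),(3313,3313),(2,1657),
   (17,0),(2,829),(31,107),(79,0),(3319,3319),(83,0),(3,41),(151,0),(3323,3323),(277,0),(19,0),
   (2,1663),(3,1109),(2,13),(3329,3329),(37,0),(3331,3331),(17,0),(101,0),(2,1667),(29,0),
   (139,0),(47,71),(2,1669),(53,0),(167,0),(13,257),(557,0),(3343,3343),(19,0),(223,0),(239,0),
   (3347,3347),(31,0),(17,197),(67,0),(3,1117),(2,419),(7,479),(43,0),(61,0),(2,839),(3,373),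
   (73,0),(3359,3359),(0,0),(3361,3361),(2,41),(59,0),(2,29),(5,673),(17,0),(37,0),(2,421),
   (3,1123),(337,0),(3371,3371),(281,0),(3373,3373),(241,0),(3,5),(2,211),(11,307),(563,0),
   (31,109),(13,0),(23,0),(89,0),(17,199),(47,0),(5,677),(2,1693),(3,1129),(11,0),(3389,3389),
   (113,0),(3391,3391),(2,53),(29,0),(2,1697),(97,0),(283,0),(43,79),(2,1699),(103,0),(17,0),
   (19,179),(7,0),(41,83),(37,0),(227,0),(131,0),(3407,3407),(71,0),(7,487),(31,0),(3,379),
   (2,853),(3413,3413),(569,0),(5,683),(61,0),(67,0),(2,1709),(13,263),(0,0),(11,311),(59,0),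
   (163,0),(2,107),(5,137),(571,0),(23,149),(2,857),(3,127),(7,0),(47,73),(13,0),(3433,3433),
   (101,0),(229,0),(2,859),(7,491),(191,0),(19,181),(43,0),(37,0),(2,1721),(11,313),(41,0),
   (53,0),(2,1723),(3,383),(2,431),(3449,3449),(23,0),(29,0),(2,863),(3,1151),(157,0),(5,691),
   (2,3),(3457,3457),(19,0),(3,1153),(173,0),(3461,3461),(577,0),(3463,3463),(2,433),(11,0),
   (2,1733),(3467,3467),(17,0),(3469,3469),(347,0),(89,0),(31,0),(23,151),(193,0),(5,139),(79,0),
   (61,0),(47,0),(7,71),(29,0),(59,59),(2,1741),(3,43),(67,0),(41,0),(83,0),(11,317),(2,109),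
   (3,1163),(349,0),(3491,3491),(97,0)] = true := by
  decide +kernel

theorem lo_3493 : killAll [1344, 1512, 1680, 1800, 2448, 2520, 2700, 3360, 3420, 3600] 3493
  [(7,499),(2,1747),(233,0),(23,0),(13,269),(53,0),(3499,3499),(7,0),(3,389),(103,0),(31,113),
   (73,0),(5,701),(2,1753),(167,0),(2,877),(11,29),(13,0),(3511,3511),(2,439),(3,1171),(251,0),
   (37,0),(293,0),(3517,3517),(2,1759),(23,0),(11,0),(7,503),(587,0),(13,271),(2,881),(47,0),
   (43,0),(3527,3527),(7,0),(3529,3529),(353,0),(107,0),(2,883),(3533,3533),(31,0),(101,0),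
   (17,0),(3,131),(61,0),(3539,3539),(59,0),(3541,3541),(23,0),(3,1181),(2,443),(5,709),(197,0),
   (3547,3547),(2,887),(13,0),(71,0),(53,67),(37,0),(19,0),(2,1777),(79,0),(127,0),(3557,3557),
   (593,0),(3559,3559),(89,0),(3,1187),(137,0),(7,509),(11,0),(31,0),(2,1783),(41,0),(2,223),
   (43,83),(17,0),(3571,3571),(47,0),(3,397),(2,1787),(13,0),(149,0),(7,73),(2,1789),(3,1193),
   (179,0),(3581,3581),(199,0),(3583,3583),(2,7),(239,0),(163,0),(17,211),(23,0),(37,97),(359,0),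
   (19,0),(2,449),(3593,3593),(599,0),(5,719),(31,0),(109,0),(257,0),(59,61),(0,0),(13,277),
   (2,1801),(3,1201),(53,0),(103,0),(601,0),(3607,3607),(41,0),(3,401),(19,0),(23,157),(43,0),
   (3613,3613),(139,0),(241,0),(2,113),(3617,3617),(67,0),(47,0),(181,0),(71,0),(2,1811),
   (3623,3623),(151,0),(5,29),(37,0),(31,0),(2,907),(19,191),(11,0),(3631,3631),(2,227),(173,0),
   (79,0),(5,727),(101,0),(3637,3637),(107,0),(3,1213),(13,0)] = true := by
  decide +kernel

theorem card_mem_lo {G : Type*} [Group G] [Finite G] [IsSimpleGroup G]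
    (hG : ¬ (Nat.card G).Prime) (h0 : 1092 < Nat.card G) (h : Nat.card G ≤ 3640) :
    Nat.card G ∈ [1344, 1512, 1680, 1800, 2448, 2520, 2700, 3360, 3420, 3600] := by
  by_cases h1093 : Nat.card G ≤ 1292
  · exact mem_of_killAll hG _ _ lo_1093 (by omega)
      (by simp only [List.length_cons, List.length_nil]; omega)
  by_cases h1293 : Nat.card G ≤ 1492
  · exact mem_of_killAll hG _ _ lo_1293 (by omega)
      (by simp only [List.length_cons, List.length_nil]; omega)
  by_cases h1493 : Nat.card G ≤ 1692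
  · exact mem_of_killAll hG _ _ lo_1493 (by omega)
      (by simp only [List.length_cons, List.length_nil]; omega)
  by_cases h1693 : Nat.card G ≤ 1892
  · exact mem_of_killAll hG _ _ lo_1693 (by omega)
      (by simp only [List.length_cons, List.length_nil]; omega)
  by_cases h1893 : Nat.card G ≤ 2092
  · exact mem_of_killAll hG _ _ lo_1893 (by omega)
      (by simp only [List.length_cons, List.length_nil]; omega)
  by_cases h2093 : Nat.card G ≤ 2292
  · exact mem_of_killAll hG _ _ lo_2093 (by omega)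
      (by simp only [List.length_cons, List.length_nil]; omega)
  by_cases h2293 : Nat.card G ≤ 2492
  · exact mem_of_killAll hG _ _ lo_2293 (by omega)
      (by simp only [List.length_cons, List.length_nil]; omega)
  by_cases h2493 : Nat.card G ≤ 2692
  · exact mem_of_killAll hG _ _ lo_2493 (by omega)
      (by simp only [List.length_cons, List.length_nil]; omega)
  by_cases h2693 : Nat.card G ≤ 2892
  · exact mem_of_killAll hG _ _ lo_2693 (by omega)
      (by simp only [List.length_cons, List.length_nil]; omega)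
  by_cases h2893 : Nat.card G ≤ 3092
  · exact mem_of_killAll hG _ _ lo_2893 (by omega)
      (by simp only [List.length_cons, List.length_nil]; omega)
  by_cases h3093 : Nat.card G ≤ 3292
  · exact mem_of_killAll hG _ _ lo_3093 (by omega)
      (by simp only [List.length_cons, List.length_nil]; omega)
  by_cases h3293 : Nat.card G ≤ 3492
  · exact mem_of_killAll hG _ _ lo_3293 (by omega)
      (by simp only [List.length_cons, List.length_nil]; omega)
  exact mem_of_killAll hG _ _ lo_3493 (by omega)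
    (by simp only [List.length_cons, List.length_nil]; omega)

end Cfsg.Agent.FG.H93.Sv
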