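import Mathlib
import Cfsg.Agent.ABG.Char

/-! The semidihedral character theory of `ABG.CharSD` with the block membership of two
characters kept in the conclusion. -/

set_option autoImplicit false
set_option linter.style.haveILetI false

namespace Cfsg.Agent.FG.WS

open Cfsg.Agent.ABG Cfsg.Agent.Ch Cfsg.Agent.Blk Cfsg.Agent.Blk.PB Cfsg.Agent.Blk.Q8 Finset
open scoped ComplexConjugate

variable {G K : Type*} [Group G] [Group K] [Finite G]

section

variable {t : G} {π : Subgroup.centralizer ({t} : Set G) →* K} {P : Sylow 2 K}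
  {σ τ : K} {k : ℕ} {μ : K →* ℂˣ} {u : Subgroup.centralizer ({t} : Set G)} {X : Subgroup G}
  {hX : X ≤ Subgroup.centralizer ({t} : Set G)} {w : X →* X}

theorem core' (E : SDD t π P σ τ k μ u X hX w) (hG : ∀ K : Subgroup G, K.index ≠ 2) {F : Type*} [Field F] [Fintype F]
    (hF : Odd (Fintype.card F))
    (hL : ∃ N : Subgroup (Subgroup.centralizer ({t} : Set G) ⧸
      oddCore (Subgroup.centralizer ({t} : Set G))), N.Normal ∧
      Nonempty (N ≃* Matrix.SpecialLinearGroup (Fin 2) F)) :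
    ∃ Q f y : ℤ, (Q = Fintype.card F ∨ Q = -Fintype.card F) ∧ Q % 4 = 3 ∧
      (8 : ℤ) ∣ f + Q + 2 ∧ f ≠ Q ∧ y * (f - Q ^ 2) = Q ^ 2 * (f - 1) ∧
      (Nat.card G : ℤ) * (Nat.card (Subgroup.centralizer ({t, (u : G)} : Set G)) : ℤ) ^ 2 *
        (Q * (f - Q) ^ 2) =
        (Nat.card (Subgroup.centralizer ({t} : Set G)) : ℤ) ^ 3 * ((Q - 1) * f * (f - 1)) ∧
      ∃ M, IsPModular 2 M ∧ (∃ χ ∈ principalBlock M G, charDegree (χ : G → ℂ) = f.natAbs) ∧
        ∃ χ ∈ principalBlock M G, charDegree (χ : G → ℂ) = y.natAbs := by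
  classical
  obtain ⟨M, hM⟩ := exists_isPModular Nat.prime_two
  have := Finite.of_surjective _ E.bas.loc.surj
  have := Fintype.ofFinite K
  have := Fintype.ofFinite X
  have := Fintype.ofFinite (Subgroup.zpowers t)
  have := E.cyc
  have hZ := E.bas.hZ
  obtain ⟨S, ρ, Φ, Q, D, hQ⟩ := E.bas.exists_dih hM hF hL
  obtain ⟨d₁, d₂, C⟩ := E.bas.loc.exists_cols hM D
  obtain ⟨m, hm⟩ := D.exact
  have cZ : Nat.card (Subgroup.zpowers t) = 2 := by rw [Nat.card_zpowers, E.bas.ord]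
  obtain ⟨V, T, hV⟩ := E.ct.exists_tor C hM hZ E.bas.loc D.deg (η := 1) (m := -(2 * m + 1)) rfl
    (by rw [cZ, E.card]; push_cast; ring) (by rw [cZ, E.card]; push_cast; linear_combination -2 * hm)
  obtain ⟨l, hl⟩ := exists_inj_hom X
  have htZ := E.bas.mem
  let x : X := ⟨t, E.ct.le htZ⟩
  have hx1 : x ≠ 1 := fun e => E.bas.ne_one (congrArg Subtype.val e)
  have hwx : w x = x := (E.ct.fix x).2 htZ
  have lx : (l x : ℂ) = -1 := inj_hom_two hl (Subtype.ext E.bas.sq) hx1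
  let μX : X →* ℂˣ := μ.comp (π.comp (Subgroup.inclusion hX))
  have μZ : ∀ z : X, (z : G) ∈ Subgroup.zpowers t → μX z = 1 := fun z hz =>
    (congrArg μ (E.bas.loc.map_Z hz)).trans (map_one μ)
  have μw : ∀ a, μX (w a) = μX a := fun a => (hom_isConj μ (π.map_isConj (E.wH a))).symm
  obtain ⟨a₀, ha₀⟩ := E.gen
  have μa : (μX a₀ : ℂ) = -1 := (congrArg (fun g => (μ g : ℂ)) ha₀).trans E.bas.μσ
  have ha2 : ((a₀ * a₀ : X) : G) ∉ Subgroup.zpowers t := fun h => by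
    have e := E.bas.loc.map_Z (z := Subgroup.inclusion hX (a₀ * a₀)) h
    rw [map_mul, map_mul, ha₀, ← pow_two, ← orderOf_dvd_iff_pow_eq_one, E.bas.dd.ord] at e
    have := (Nat.pow_dvd_pow_iff_le_right one_lt_two (l := 1)).1 e
    have := E.bas.hk
    omega
  have ha1 : (a₀ : G) ∉ Subgroup.zpowers t := fun h => ha2 (mul_mem h h)
  -- the column `d₁ - d₂`
  have hσ : ∀ i : pb M G, ∃ n : ℤ, tf (Subgroup.zpowers t) d₁ d₂ (-1) t i = n ∧
      2 ∣ n - V μX i := fun i => by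
    obtain ⟨n, e, h1, h2, h3⟩ := hV μX i
    obtain ⟨-, e', -, h4, -⟩ := hV l i
    obtain ⟨n', h5⟩ := E.par (fun g => i.1.1 g * conj (1 - μ (π g) : ℂ))
      ((i.1.isGeneralizedCharacter.restrict _).mul (IsGeneralizedCharacter.one.sub
        (isCharacter_monoidHom_units (μ.comp π)).isGeneralizedCharacter).complexConj)
      fun g hg => by simp [hg]
    rw [sum_eq_zero fun z _ => by rw [μZ _ z.2]; simp, cZ] at h2
    rw [Fintype.sum_eq_single ⟨t, htZ⟩ fun z hz => by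
      rw [show z = 1 from Subtype.ext ((E.mem_Z.1 z.2).resolve_right fun e => hz (Subtype.ext e))]
      simp, cZ] at h4
    obtain rfl : e = 0 := by simpa using h2
    change d₂ t i * conj (1 - l x : ℂ) = _ at h4
    change 2 * ∑ a : X, i.1.1 a * conj (1 - μX a : ℂ) + _ = _ at h5
    rw [h1, E.μu, i.1.isClassFunction.eq_of_isConj (E.bas.one u
      ((Subgroup.orderOf_coe u).trans ((E.bas.hu u).1 (IsConj.refl _)).1))] at h5
    have h6 := C.val_self E.bas.loc htZ E.bas.ne_one i.2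
    refine ⟨2 * n' - n - (1 + Q) * e', ?_, n' - n - (1 + 2 ^ k * (2 * m + 1)) * e', ?_⟩
    · rw [tf_sing hZ htZ E.bas.ne_one (IsConj.refl _)]
      simp only [lx, D.deg, map_sub, map_one, map_neg] at h4 h5 h6
      apply mul_left_cancel₀ (natCard_ne_zero X)
      push_cast at h4 ⊢
      linear_combination h5 / 2 - Nat.card X * h6 - Nat.card X * (1 + Q) * h4 / 2
    · linear_combination -h3 - e' * hm
  choose sg hsg hpar using hσ
  have hv := T.vl C hM hZ E.ct.inv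
  have ne : ∀ {κ κ' : {κ : X →* ℂˣ // κ ≠ 1}} (a : X), κ.1 a ≠ κ'.1 a → κ ≠ κ' :=
    fun a h e => h (by rw [e])
  have nx : ∀ {κ κ' : {κ : X →* ℂˣ // κ ≠ 1}}, (κ.1 x : ℂ) = -1 → (κ'.1 x : ℂ) = 1 → κ ≠ κ' :=
    fun h h' e => by rw [e, h'] at h; norm_num at h
  have hl1 : ∀ {κ : X →* ℂˣ} (a : X), κ a ≠ 1 → κ ≠ 1 := fun a h e => h (by rw [e]; rfl)
  have ha3 : a₀ * a₀ ≠ 1 := fun e => ha2 (e ▸ one_mem _)
  have hw0 : l (w a₀) ≠ l a₀ := fun e => ha1 ((E.ct.fix _).1 (hl e))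
  obtain ⟨b, hb⟩ := E.ninv
  have hx0 : l x ≠ 1 := fun e => hx1 (hl (e.trans (map_one l).symm))
  have l2 : ((l * l) x : ℂ) = 1 := by simp [lx]
  obtain ⟨x₁, x₂, x₃, x₄, y, s₁, s₂, s₃, s₄, s, hp⟩ := hv.exists_pat (σ := sg)
    (a₁ := ⟨l, hl1 x hx0⟩) (a₂ := ⟨l⁻¹, hl1 x (by simpa using hx0)⟩)
    (m := ⟨μX, hl1 a₀ fun e => by rw [e] at μa; norm_num at μa⟩) (ne a₀ hw0)
    (ne a₀ fun e => hw0 (inv_injective e))
    (ne a₀ fun e => ha3 (hl (by rw [map_mul, map_one]; exact mul_eq_one_iff_eq_inv.2 e)))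
    (ne b fun e => hb (hl (e.trans (map_inv l b).symm)))
    (Or.inl ⟨⟨l * l, hl1 a₀ fun e => ha3 (hl (by rw [map_mul, map_one]; exact e))⟩,
      ne a₀ fun e => ha2 ((E.ct.fix _).1 (hl (by rw [map_mul, map_mul, map_mul]; exact e))),
      nx lx l2, nx (show (l (w x) : ℂ) = _ by rw [hwx, lx]) l2, nx (by simp [lx]) l2,
      nx (show ((l⁻¹ (w x) : ℂˣ) : ℂ) = _ by simp [hwx, lx]) l2⟩)
    (Subtype.ext (MonoidHom.ext μw)) (by
      exact_mod_cast (hsg (pbo hM G)).symm.trans (C.tf_one hZ t))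
    (by
      apply Int.cast_injective (α := ℂ)
      have := C.tf_sing_sing hZ (η := -1) (η' := -1) ⟨t, htZ, E.bas.ne_one, IsConj.refl _⟩
        (IsConj.refl t)
      rw [← sum_coe_sort, cZ] at this
      simp only [hsg, map_intCast] at this
      push_cast at this ⊢
      linear_combination this)
    (fun κ => by
      have := T.neg C hM hZ κ.1 ⟨1, E.bas.ord⟩ fun _ _ => ⟨t, htZ, E.bas.ne_one, IsConj.refl _⟩
      simp only [hsg] at this
      exact_mod_cast this) hpar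
  obtain ⟨v₁, v₂, v₃, -, vy⟩ := T.pat_vals hp (ne a₀ hw0) hx1
  obtain ⟨-, g₁, g₂, g₃, -, gy⟩ := hp.sig_vals
  have hQ' : S 1 = -((-Q : ℤ) : ℂ) := by simp [D.deg]
  have val := fun i => C.two_val hZ E.bas.loc htZ E.bas.ne_one i
  simp only [hsg, hQ'] at val
  simp only [μZ x htZ, hwx, lx, Units.val_one] at v₁ v₂ v₃ vy
  have hQ4 : (-Q) % 4 = 3 := by have := E.bas.mod D; omega
  replace hQ : -Q = Fintype.card F ∨ -Q = -Fintype.card F := by omega
  have e1 := E.class_eq D C hM T l (x := x) rfl (α := 1) (by rw [lx]; ring) fun a _ => by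
    rw [lx]; ring
  have e2 := E.class_eq D C hM T μX (x := x) rfl (α := 0) (by simp [μZ x htZ]) fun a ha => by
    rw [μw, μZ x htZ, show μX a = 1 from ha]; norm_num
  rw [show (Q : ℂ) = -((-Q : ℤ) : ℂ) by simp] at e1
  generalize -Q = q at *
  change tf _ _ _ 1 t _ = _ at v₁ v₂ v₃ vy
  have t₁ : x₁.1.1 t = s₁ * q := by have := val x₁; rw [v₁, g₁] at this; linear_combination this / 2
  have t₂ : x₂.1.1 t = s₂ * (-1 : ℤ) := by
    have := val x₂; rw [v₂, g₂] at this; push_cast at this ⊢; linear_combination this / 2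
  have t₃ : x₃.1.1 t = s₃ * (-q : ℤ) := by
    have := val x₃; rw [v₃, g₃] at this; push_cast at this ⊢; linear_combination this / 2
  have ty : y.1.1 t = s * (1 - q : ℤ) := by
    have := val y; rw [vy, gy] at this; push_cast at this ⊢; linear_combination this / 2
  have j₁ := (hp.sum_a pbd).symm.trans (hv.deg _)
  have j₂ := (hp.sum_m pbd).symm.trans (hv.deg _)
  simp only [Int.cast_id, hv.od] at j₁ j₂
  have k₁ : s * pbd y = s₁ * pbd x₁ - 1 := by omega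
  have k₂ : s₂ * pbd x₂ = s₁ * pbd x₁ - 1 + s₃ * pbd x₃ := by omega
  have dv : ∀ {r : ℤ} (i : pb M G) {d : ℤ}, r * pbd i = d → r * i.1.1 1 = d := fun i _ h => by
    rw [← h, ← pbd_cast, Int.cast_mul]
  rw [hp.sum_a, sg_div hp.sg₁ t₁ (dv _ rfl), sg_div hp.sg ty (dv _ k₁)] at e1
  rw [hp.sum_m, sg_div hp.sg₁ t₁ (dv _ rfl), sg_div hp.sg₂ t₂ (dv _ k₂),
    sg_div hp.sg₃ t₃ (dv _ rfl)] at e2
  obtain ⟨r₁, r₂, r₃⟩ := sd_arith Nat.card_pos.ne' Nat.card_pos.ne' Nat.card_pos.ne' hQ4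
    (sg_mul_ne hp.sg₁ x₁) (k₁ ▸ sg_mul_ne hp.sg y) (k₂ ▸ sg_mul_ne hp.sg₂ x₂) (sg_mul_ne hp.sg₃ x₃)
    (by convert e1 using 2 <;> simp [pbo, div_neg, sub_eq_add_neg])
    (by convert e2 using 2 <;> simp [pbo])
  refine ⟨q, s₁ * pbd x₁, s₃ * pbd x₃, hQ, hQ4, ?_, r₁, r₂.resolve_left fun e => ?_, r₃, M, hM,
    ⟨x₁.1, mem_pb.1 x₁.2, ?_⟩, x₃.1, mem_pb.1 x₃.2, ?_⟩
  · obtain ⟨n, hn⟩ := exists_int_sum x₁.1.isGeneralizedCharacter X
    have e : ∑ a : X, (x₁.1.1 a + s₁) = x₁.1.1 1 + s₁ + (x₁.1.1 t + s₁) :=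
      Fintype.sum_eq_add 1 x hx1.symm fun a ha => by
        have h : (a : G) ∉ Subgroup.zpowers t := fun h => (E.mem_Z.1 h).elim
          (fun e => ha.1 (Subtype.ext e)) fun e => ha.2 (Subtype.ext e)
        rw [← tf_reg (d₁ := d₁) fun h' => h (E.ct.sing a h'),
          (T.pat_vals hp (ne a₀ hw0) ha.1).1, neg_add_cancel]
    rw [sum_add_distrib, hn, sum_const, card_univ, ← Nat.card_eq_fintype_card, E.card, t₁,
      ← pbd_cast, nsmul_eq_mul] at e
    obtain ⟨j, rfl⟩ : ∃ j, k = j + 1 := ⟨k - 1, by have := E.bas.hk; omega⟩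
    have e' : 2 ^ (j + 1 + 2) * n + 2 ^ (j + 1 + 2) * s₁ = pbd x₁ + s₁ + (s₁ * q + s₁) := by
      exact_mod_cast e
    refine ⟨2 ^ j * (s₁ * n + 1), ?_⟩
    rcases hp.sg₁ with rfl | rfl
    exacts [by linear_combination -e', by linear_combination e']
  · have := pbd_pos x₂
    have h2 : s₂ = -1 ∧ pbd x₂ = 1 := by rcases hp.sg₂ with rfl | rfl <;> omega
    obtain ⟨f, hf⟩ := mem_range_linIrr_iff.2 (show x₂.1.1 1 = 1 by simp [← pbd_cast, h2.2])
    refine hom_ne_neg hG f a₀ ?_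
    have := (T.pat_vals hp (ne a₀ hw0) fun e : a₀ = 1 => ha1 (by simp [e])).2.1
    rw [tf_reg fun h' => ha1 (E.ct.sing _ h'), ← hf, h2.1] at this
    simpa [μa] using this
  · rcases hp.sg₁ with rfl | rfl <;> simp [pbd]
  · rcases hp.sg₃ with rfl | rfl <;> simp [pbd]

end

theorem sd_char' (hG : ∀ K : Subgroup G, K.index ≠ 2)
    (S : Sylow 2 G) (hS : Cfsg.IsQuasiDihedral (S : Subgroup G)) {z : G} (hz : orderOf z = 2)
    (hzc : ∀ s ∈ (S : Subgroup G), s * z = z * s) {U : Subgroup G} (hUS : U ≤ S)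
    (hU : IsKleinFour U) {F : Type*} [Field F] [Fintype F] (hF : Odd (Fintype.card F))
    (hL : ∃ N : Subgroup (Subgroup.centralizer ({z} : Set G) ⧸
      Cfsg.oddCore (Subgroup.centralizer ({z} : Set G))), N.Normal ∧
      Nonempty (N ≃* Matrix.SpecialLinearGroup (Fin 2) F)) :
    ∃ Q f y : ℤ, (Q = Fintype.card F ∨ Q = -Fintype.card F) ∧ Q % 4 = 3 ∧
      (8 : ℤ) ∣ f + Q + 2 ∧ f ≠ Q ∧ y * (f - Q ^ 2) = Q ^ 2 * (f - 1) ∧
      (Nat.card G : ℤ) * (Nat.card (Subgroup.centralizer (U : Set G)) : ℤ) ^ 2 * (Q * (f - Q) ^ 2) =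
        (Nat.card (Subgroup.centralizer ({z} : Set G)) : ℤ) ^ 3 * ((Q - 1) * f * (f - 1)) ∧
      ∃ M, IsPModular 2 M ∧ (∃ χ ∈ principalBlock M G, charDegree (χ : G → ℂ) = f.natAbs) ∧
        ∃ χ ∈ principalBlock M G, charDegree (χ : G → ℂ) = y.natAbs := by
  obtain ⟨K, _, π, P, σ, τ, k, μ, v, X, hX, w, E, e⟩ := exists_sdd hG S hS hz hzc hUS hU
  rw [← e]
  exact core' E hG hF hL

end Cfsg.Agent.FG.WS
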