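import Mathlib
import Cfsg.Prelude.Def_HallClasses
import Cfsg.Agent.GT.Conj
import Cfsg.Agent.GT.TransferSylow
import Cfsg.Agent.GT.PGroupBasic
import Cfsg.Agent.FG.ClassIdx

/-!
# Pronormal subgroups
-/

namespace Cfsg.Agent.FG.PN

open Cfsg.Agent.GT Subgroup

variable {G : Type*} [Group G]

local notation:75 H " ^ᶜ " g:76 => Subgroup.map (MulEquiv.toMonoidHom (MulAut.conj g)) H

/-- `K` and `K ^ g` are conjugate in the subgroup they generate -/
def ProAt (K : Subgroup G) (g : G) : Prop := ∃ x ∈ K ⊔ K ^ᶜ g, K ^ᶜ g = K ^ᶜ x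

theorem isPronormal_iff {K : Subgroup G} : IsPronormal K ↔ ∀ g, ProAt K g := Iff.rfl

theorem ProAt.congr {K : Subgroup G} {g g' : G} (h : ProAt K g) (e : K ^ᶜ g = K ^ᶜ g') :
    ProAt K g' := by
  unfold ProAt at h ⊢
  rwa [← e]

theorem ProAt.of_mul {K : Subgroup G} {g x : G} (hx : x ∈ K ⊔ K ^ᶜ g) (h : ProAt K (x⁻¹ * g)) :
    ProAt K g := by
  obtain ⟨w, hw, hwe⟩ := h
  have h1 : K ⊔ K ^ᶜ (x⁻¹ * g) ≤ K ⊔ K ^ᶜ g := by
    refine sup_le le_sup_left ?_
    rw [map_conj_mul]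
    exact map_conj_le_of_mem le_sup_right (Subgroup.inv_mem _ hx)
  refine ⟨x * w, Subgroup.mul_mem _ hx (h1 hw), ?_⟩
  rw [map_conj_mul, ← hwe, ← map_conj_mul, mul_inv_cancel_left]

theorem ProAt.of_mem_normalizer {K : Subgroup G} {g : G} (h : g ∈ normalizer (K : Set G)) :
    ProAt K g :=
  ⟨1, Subgroup.one_mem _, by rw [map_conj_one, map_conj_eq_of_mem_norm h]⟩

theorem ProAt.map {G' : Type*} [Group G'] {K : Subgroup G} {g : G} (h : ProAt K g) (f : G →* G') :
    ProAt (K.map f) (f g) := by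
  obtain ⟨x, hx, he⟩ := h
  refine ⟨f x, ?_, ?_⟩
  · rw [← map_map_conj, ← Subgroup.map_sup]
    exact ⟨x, hx, rfl⟩
  · rw [← map_map_conj, ← map_map_conj, he]

theorem ProAt.of_map {G' : Type*} [Group G'] {K : Subgroup G} {g : G} {f : G →* G'}
    (hk : f.ker ≤ K) (h : ProAt (K.map f) (f g)) : ProAt K g := by
  obtain ⟨y, hy, he⟩ := h
  rw [← map_map_conj, ← Subgroup.map_sup] at hy
  obtain ⟨x, hx, rfl⟩ := hy
  refine ⟨x, hx, ?_⟩
  have h1 := congrArg (Subgroup.comap f) he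
  rwa [comap_map_conj, comap_map_conj, Subgroup.comap_map_eq_self hk] at h1

theorem isPronormal_map {G' : Type*} [Group G'] {K : Subgroup G} (h : IsPronormal K)
    {f : G →* G'} (hf : Function.Surjective f) : IsPronormal (K.map f) := by
  intro g
  obtain ⟨g, rfl⟩ := hf g
  exact ProAt.map (h g) f

theorem isPronormal_of_map {G' : Type*} [Group G'] {K : Subgroup G} {f : G →* G'}
    (hk : f.ker ≤ K) (h : IsPronormal (K.map f)) : IsPronormal K :=
  fun g => ProAt.of_map hk (h (f g))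

theorem isPronormal_of_map_conj {K : Subgroup G} {c : G} (h : IsPronormal (K ^ᶜ c)) :
    IsPronormal K :=
  isPronormal_of_map (by
    rw [(MonoidHom.ker_eq_bot_iff _).2 (MulAut.conj c).injective]; exact bot_le) h

theorem proAt_of_subgroupOf {K N : Subgroup G} (hKN : K ≤ N) (h : IsPronormal (K.subgroupOf N))
    {g : G} (hg : g ∈ N) : ProAt K g := by
  have h1 := ProAt.map (h ⟨g, hg⟩) N.subtype
  rwa [Subgroup.subgroupOf_map_subtype, inf_eq_left.2 hKN] at h1

theorem isPronormal_of_normalizer {S H : Subgroup G} (hSH : S ≤ H) (hS : IsPronormal S)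
    (h : ∀ g ∈ normalizer (S : Set G), ProAt H g) : IsPronormal H := by
  intro g
  obtain ⟨x, hx, hxe⟩ := hS g
  exact ProAt.of_mul (sup_le_sup hSH (Subgroup.map_mono hSH) hx)
    (h _ (map_conj_eq_map_conj_iff.1 hxe))

theorem isPronormal_sylow [Finite G] {p : ℕ} [Fact p.Prime] (P : Sylow p G) :
    IsPronormal (P : Subgroup G) := by
  intro g
  have hi : ¬ p ∣ (P : Subgroup G).relIndex ((P : Subgroup G) ⊔ (P : Subgroup G) ^ᶜ g) :=
    fun h => P.not_dvd_index (h.trans (Subgroup.relIndex_dvd_index_of_le le_sup_left))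
  obtain ⟨h, hh, hc⟩ := Tr.exists_conj_le_sylowIn P.isPGroup' hi
    (Tr.isPGroup_map_conj P.isPGroup' g) le_sup_right
  refine ⟨h⁻¹, Subgroup.inv_mem _ hh, ?_⟩
  refine PG.eq_of_le_of_card_le (map_conj_le_iff.1 (map_conj_le_iff_forall.2 hc)) ?_
  rw [card_map_conj, card_map_conj]

theorem map_normalizer_eq_of_isPronormal {G' : Type*} [Group G'] {K : Subgroup G}
    (h : IsPronormal K) {f : G →* G'} (hf : Function.Surjective f) :
    (normalizer (K : Set G)).map f = normalizer ((K.map f : Subgroup G') : Set G') := by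
  refine le_antisymm (Subgroup.le_normalizer_map f) fun y hy => ?_
  obtain ⟨g, rfl⟩ := hf y
  obtain ⟨x, hx, he⟩ := h g
  have h1 : f x ∈ K.map f := by
    have h2 : f x ∈ (K ⊔ K ^ᶜ g).map f := ⟨x, hx, rfl⟩
    rwa [Subgroup.map_sup, map_map_conj, map_conj_eq_of_mem_norm hy, sup_idem] at h2
  obtain ⟨k, hk, hke⟩ := h1
  refine ⟨k * (x⁻¹ * g), Subgroup.mul_mem _ (Subgroup.le_normalizer hk)
    (map_conj_eq_map_conj_iff.1 he), ?_⟩
  rw [map_mul, map_mul, map_inv, hke, mul_inv_cancel_left]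

/-- the main reduction for overgroups of Sylow subgroups -/
theorem isPronormal_of_ext [Finite G] {p : ℕ} [Fact p.Prime] {A T K : Subgroup G} [A.Normal]
    (hT : IsPGroup p T) (hTi : ¬ p ∣ T.relIndex A) (hTA : T ≤ A) (hTK : T ≤ K)
    (hB : ∀ a ∈ A, ProAt (K ⊓ A) a)
    (hK₀ : ∀ t ∈ normalizer (T : Set G), ProAt (K ⊓ normalizer (T : Set G)) t)
    (hQ : IsPronormal (K.map (QuotientGroup.mk' A)))
    (hN : (normalizer (K : Set G)).map (QuotientGroup.mk' A) =
      normalizer ((K.map (QuotientGroup.mk' A) : Subgroup (G ⧸ A)) : Set (G ⧸ A))) :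
    IsPronormal K := by
  have hTB : T ≤ K ⊓ A := le_inf hTK hTA
  have hTi' : ¬ p ∣ T.relIndex (K ⊓ A) := fun h => hTi (h.trans
    (Dvd.intro _ (Subgroup.relIndex_mul_relIndex T (K ⊓ A) A hTB inf_le_right)))
  have hKB : K ≤ normalizer ((K ⊓ A : Subgroup G) : Set G) :=
    PG.le_normalizer_inf Subgroup.le_normalizer (by rw [A.normalizer_eq_top]; exact le_top)
  have hK : K = (K ⊓ A) ⊔ (K ⊓ normalizer (T : Set G)) := by
    refine le_antisymm (fun k hk => ?_) (sup_le inf_le_left inf_le_left)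
    obtain ⟨m, hm, n, hn, rfl⟩ := Tr.frattini_sylowIn hT hTB hTi' (hKB hk)
    exact Subgroup.mul_mem_sup hm ⟨(K.mul_mem_cancel_left hm.1).1 hk, hn⟩
  have hA : ∀ g ∈ normalizer ((K ⊓ A : Subgroup G) : Set G), ProAt K g := by
    intro g hg
    obtain ⟨b, hb, t, ht, rfl⟩ := Tr.frattini_sylowIn hT hTB hTi' hg
    refine ProAt.of_mul (x := b) (Subgroup.mem_sup_left hb.1) ?_
    rw [inv_mul_cancel_left]
    have htB : t ∈ normalizer ((K ⊓ A : Subgroup G) : Set G) :=
      (Subgroup.mul_mem_cancel_left _ (hKB hb.1)).1 hg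
    obtain ⟨w, hw, hwe⟩ := hK₀ t ht
    have hwB : w ∈ normalizer ((K ⊓ A : Subgroup G) : Set G) :=
      (sup_le (inf_le_left.trans hKB) (map_conj_le_of_mem (inf_le_left.trans hKB) htB)) hw
    refine ⟨w, sup_le_sup inf_le_left (Subgroup.map_mono inf_le_left) hw, ?_⟩
    rw [hK, map_conj_sup, map_conj_sup, hwe, map_conj_eq_of_mem_norm htB,
      map_conj_eq_of_mem_norm hwB]
  have hB' : ∀ a ∈ A, ProAt K a := by
    intro a ha
    obtain ⟨z, hz, hze⟩ := hB a ha
    exact ProAt.of_mul (sup_le_sup inf_le_left (Subgroup.map_mono inf_le_left) hz)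
      (hA _ (map_conj_eq_map_conj_iff.1 hze))
  intro g
  obtain ⟨y, hy, hye⟩ := hQ (QuotientGroup.mk' A g)
  rw [← map_map_conj, ← Subgroup.map_sup] at hy
  obtain ⟨x, hx, rfl⟩ := hy
  refine ProAt.of_mul hx ?_
  have h1 := map_conj_eq_map_conj_iff.1 hye
  rw [← hN, ← map_inv, ← map_mul] at h1
  obtain ⟨n, hn, hne⟩ := h1
  have h2 : x⁻¹ * g * n⁻¹ ∈ A := by
    rw [← QuotientGroup.eq_one_iff]
    change QuotientGroup.mk' A _ = 1
    rw [map_mul, ← hne, map_inv, mul_inv_cancel]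
  refine (hB' _ h2).congr ?_
  rw [map_conj_mul, map_conj_eq_of_mem_norm (Subgroup.inv_mem _ hn)]

end Cfsg.Agent.FG.PN
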