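import Mathlib
import Cfsg.Agent.FG.ZLPar
import Cfsg.Agent.Blk.DihGroup

/-!
Involution centralizers `Z₂ × L₂(q)`: the case of a dihedral Sylow 2-subgroup of order at least 8
in `L₂(q)` does not occur in a perfect group.
-/

set_option autoImplicit false
set_option linter.style.haveILetI false

namespace Cfsg.Agent.FG.ZL

open Subgroup Cfsg.Agent.Inv.Fz Cfsg.Agent.Blk.Q8

variable {G : Type*} [Group G]

/-- The dihedral configuration. -/
structure HB (t : G) (D : Subgroup G) (σ τ : G) (k : ℕ) : Prop where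
  ht : orderOf t = 2
  dd : DD D σ τ k
  hk : 1 ≤ k
  notMem : t ∉ D
  comm : ∀ d ∈ D, d * t = t * d
  syl : IsSylIn 2 (D ⊔ zpowers t) (centralizer {t})
  conj : ∀ x ∈ D, orderOf x = 2 → ∃ c ∈ centralizer ({t} : Set G), c * x * c⁻¹ = σ ^ 2 ^ k

namespace HB

variable [Finite G] {t σ τ : G} {D : Subgroup G} {k : ℕ} (h : HB t D σ τ k)
include h

omit [Finite G] in
theorem tt : t * t = 1 := by rw [← pow_two, ← h.ht, pow_orderOf_eq_one]

omit [Finite G] in
theorem tmul (x : G) : t * (t * x) = x := by rw [← mul_assoc, h.tt, one_mul]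

omit [Finite G] in
theorem norm : t ∈ normalizer (D : Set G) :=
  centralizer_le_normalizer _ (mem_centralizer_iff.2 fun d hd => h.comm d hd)

omit [Finite G] in
theorem memR {x : G} : x ∈ D ⊔ zpowers t ↔ x ∈ D ∨ t * x ∈ D :=
  mem_ext h.norm (h.tt ▸ one_mem D)

omit [Finite G] in
theorem sq_mul {d : G} (hd : d ∈ D) : t * d * (t * d) = d * d := by
  calc t * d * (t * d) = t * (d * t) * d := by group
    _ = d * d := by rw [h.comm d hd, ← mul_assoc, h.tt, one_mul]

theorem nsq {x y : G} (hy : IsConj t y) : x * x ≠ y := by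
  refine not_sq h.tt h.syl (fun r hr he => h.notMem ?_) hy
  rcases h.memR.1 hr with h1 | h1
  · exact he ▸ mul_mem h1 h1
  · have h2 := h.sq_mul h1
    rw [h.tmul] at h2
    rw [← he, h2]
    exact mul_mem h1 h1

theorem not_conj {x : G} (hx : x ∈ D) : ¬ IsConj t x := by
  intro hc
  have h1 : orderOf x = 2 := by
    obtain ⟨g, rfl⟩ := isConj_iff.1 hc
    rw [← h.ht]
    exact (MulAut.conj g).orderOf_eq t
  obtain ⟨c, -, hcx⟩ := h.conj x hx h1
  have h2 : σ ^ 2 ^ k = σ ^ 2 ^ (k - 1) * σ ^ 2 ^ (k - 1) := by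
    rw [← pow_add, ← two_mul, ← pow_succ', Nat.sub_add_cancel h.hk]
  exact h.nsq (hc.trans (hcx ▸ isConj_conj c x)) h2.symm

omit [Finite G] in
theorem conj_mul {x : G} (hx : x ∈ D) (h1 : x * x = 1) (h2 : x ≠ 1) :
    IsConj (t * σ ^ 2 ^ k) (t * x) := by
  obtain ⟨c, hc, hcx⟩ := h.conj x hx (orderOf_eq_prime (by rwa [pow_two]) h2)
  refine IsConj.symm (isConj_iff.2 ⟨c, ?_⟩)
  calc c * (t * x) * c⁻¹ = c * t * c⁻¹ * (c * x * c⁻¹) := by group
    _ = _ := by rw [conj_eq_of_mem hc, hcx]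

omit [Finite G] in
theorem cardR : Nat.card ↥(D ⊔ zpowers t) = 2 * Nat.card D :=
  card_ext h.norm (h.tt ▸ one_mem D) h.notMem

theorem odd_c : ∃ c, c % 2 = 1 ∧
    Nat.card (centralizer ({t} : Set G)) = Nat.card ↥(D ⊔ zpowers t) * c := by
  refine ⟨_, ?_, (card_mul_relIndex h.syl.le).symm⟩
  have := h.syl.not_dvd_relIndex
  omega

theorem conj_tz (hG : _root_.commutator G = ⊤) : IsConj t (t * σ ^ 2 ^ k) := by
  by_contra hn
  obtain ⟨c, hc, hC⟩ := h.odd_c
  obtain ⟨f, hf1, hf2⟩ := parity hG (D ⊔ zpowers t) h.tt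
  obtain ⟨f', hf1', hf2'⟩ := parity hG D h.tt
  have e1 : {y | IsConj t y ∧ y ∈ D ⊔ zpowers t} = {t} := by
    ext y
    simp only [Set.mem_setOf_eq, Set.mem_singleton_iff]
    constructor
    · rintro ⟨h1, h2⟩
      have h3 := (h.memR.1 h2).resolve_left fun h3 => h.not_conj h3 h1
      have h4 : y = t * (t * y) := by rw [← mul_assoc, h.tt, one_mul]
      have h5 : t * y * (t * y) = 1 := by
        rw [← h.sq_mul h3, ← h4]
        obtain ⟨g, rfl⟩ := isConj_iff.1 h1
        calc g * t * g⁻¹ * (g * t * g⁻¹) = g * (t * t) * g⁻¹ := by group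
          _ = 1 := by rw [h.tt]; group
      by_contra h6
      have h7 : t * y ≠ 1 := fun h7 => h6 (by rw [h4, h7, mul_one])
      exact hn (h1.trans (h4 ▸ (h.conj_mul h3 h5 h7).symm))
    · rintro rfl
      exact ⟨IsConj.refl _, mem_sup_right (mem_zpowers _)⟩
  have e2 : {y | IsConj t y ∧ y ∈ D} = ∅ :=
    Set.eq_empty_of_forall_notMem fun y hy => h.not_conj hy.2 hy.1
  rw [e1, Set.ncard_singleton, one_mul, hC] at hf2
  rw [e2, Set.ncard_empty, zero_mul] at hf2'
  have hp : 0 < Nat.card D := Nat.card_pos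
  have h1 : f = c := Nat.eq_of_mul_eq_mul_left Nat.card_pos hf2
  have h2 : f' = 0 := by simpa [hp.ne'] using hf2'
  have h3 := relIndex_mul_index (le_sup_left : D ≤ D ⊔ zpowers t)
  rw [relIndex_two_of_card le_sup_left h.cardR] at h3
  omega

theorem conj_iff (hG : _root_.commutator G = ⊤) {y : G} (hy : y ∈ D ⊔ zpowers t) :
    IsConj t y ↔ t * y ∈ D ∧ y * y = 1 := by
  have h4 : y = t * (t * y) := by rw [← mul_assoc, h.tt, one_mul]
  constructor
  · intro h1
    refine ⟨(h.memR.1 hy).resolve_left fun h3 => h.not_conj h3 h1, ?_⟩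
    obtain ⟨g, rfl⟩ := isConj_iff.1 h1
    calc g * t * g⁻¹ * (g * t * g⁻¹) = g * (t * t) * g⁻¹ := by group
      _ = 1 := by rw [h.tt]; group
  · rintro ⟨h1, h2⟩
    by_cases h7 : t * y = 1
    · rw [h4, h7, mul_one]
    · rw [h4]
      exact (h.conj_tz hG).trans (h.conj_mul h1 (by rw [← h.sq_mul h1, ← h4, h2]) h7)

/-- Of two commuting involutions `y`, `v y` with `v` conjugate to `t`, exactly one is conjugate
to `t`. -/
theorem xor (hG : _root_.commutator G = ⊤) {v y : G} (hv : IsConj t v) (hc : v * y = y * v)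
    (h2 : y * y = 1) : IsConj t y ↔ ¬ IsConj t (v * y) := by
  obtain ⟨g, rfl⟩ := isConj_iff.1 hv
  set a := g⁻¹ * y * g with ha
  have h1 : a ∈ centralizer ({t} : Set G) := by
    rw [mem_centralizer_singleton_iff]
    calc a * t = g⁻¹ * (y * (g * t * g⁻¹)) * g := by rw [ha]; group
      _ = t * a := by rw [← hc, ha]; group
  have h3 : a * a = 1 := by
    calc a * a = g⁻¹ * (y * y) * g := by rw [ha]; group
      _ = 1 := by rw [h2]; group
  obtain ⟨c, hc', hcr⟩ := exists_conj_mem h.syl h1 (n := 1) (by rw [pow_one, pow_two, h3])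
  set b := c * a * c⁻¹ with hb
  have h4 : b * b = 1 := by
    calc b * b = c * (a * a) * c⁻¹ := by rw [hb]; group
      _ = 1 := by rw [h3]; group
  have e1 : IsConj y b := isConj_iff.2 ⟨c * g⁻¹, by rw [hb, ha]; group⟩
  have e2 : IsConj (g * t * g⁻¹ * y) (t * b) := isConj_iff.2 ⟨c * g⁻¹, by
    calc c * g⁻¹ * (g * t * g⁻¹ * y) * (c * g⁻¹)⁻¹ = c * t * c⁻¹ * b := by rw [hb, ha]; group
      _ = t * b := by rw [conj_eq_of_mem hc']⟩
  have e3 : IsConj t y ↔ IsConj t b := ⟨fun x => x.trans e1, fun x => x.trans e1.symm⟩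
  have e4 : IsConj t (g * t * g⁻¹ * y) ↔ IsConj t (t * b) :=
    ⟨fun x => x.trans e2, fun x => x.trans e2.symm⟩
  have hbc : b * t = t * b := mem_centralizer_singleton_iff.1 (h.syl.le hcr)
  have h5 : t * b * (t * b) = 1 := by
    calc t * b * (t * b) = t * (b * t) * b := by group
      _ = t * t * (b * b) := by rw [hbc]; group
      _ = 1 := by rw [h.tt, h4, one_mul]
  rw [e3, e4, h.conj_iff hG hcr, h.conj_iff hG (mul_mem (mem_sup_right (mem_zpowers t)) hcr),
    h.tmul]
  simp only [h4, h5, and_true]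
  constructor
  · intro h6 h7
    exact h.notMem (by simpa using mul_mem h6 (inv_mem h7))
  · intro h6
    exact (h.memR.1 hcr).resolve_left h6

theorem ncard_conj (hG : _root_.commutator G = ⊤) :
    {y | IsConj t y ∧ y ∈ D ⊔ zpowers t}.ncard = 2 + 2 ^ (k + 1) := by
  have e1 : {y | IsConj t y ∧ y ∈ D ⊔ zpowers t} = (fun d => t * d) ''
      ({1, σ ^ 2 ^ k} ∪ ((D : Set G) \ zpowers σ)) := by
    ext y
    have h4 : y = t * (t * y) := by rw [← mul_assoc, h.tt, one_mul]
    simp only [Set.mem_setOf_eq, Set.mem_image]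
    constructor
    · rintro ⟨h1, h2⟩
      obtain ⟨h3, h5⟩ := (h.conj_iff hG h2).1 h1
      refine ⟨t * y, ?_, h4.symm⟩
      by_cases h6 : t * y ∈ zpowers σ
      · left
        by_cases h7 : t * y = 1
        · exact Or.inl h7
        · exact Or.inr (h.dd.eq_J h6 (orderOf_eq_prime
            (by rw [pow_two, ← h.sq_mul h3, ← h4, h5]) h7))
      · exact Or.inr ⟨h3, h6⟩
    · rintro ⟨d, hd, rfl⟩
      have h1 : d ∈ D ∧ d * d = 1 := by
        rcases hd with (rfl | rfl) | ⟨h1, h2⟩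
        · exact ⟨one_mem _, one_mul _⟩
        · exact ⟨h.dd.J_mem, h.dd.J_sq⟩
        · exact ⟨h1, by_contra fun h3 => h2 (h.dd.mem_rot_of_sq_ne h1 h3)⟩
      have h2 : t * d ∈ D ⊔ zpowers t :=
        mul_mem (mem_sup_right (mem_zpowers t)) (mem_sup_left h1.1)
      refine ⟨(h.conj_iff hG h2).2 ⟨?_, by rw [h.sq_mul h1.1, h1.2]⟩, h2⟩
      rw [← mul_assoc, h.tt, one_mul]
      exact h1.1
  rw [e1, Set.ncard_image_of_injective _ (mul_right_injective t), Set.ncard_union_eq,
    Set.ncard_pair h.dd.J_ne_one.symm, Set.ncard_diff (s := (zpowers σ : Set G)) h.dd.zpowers_le]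
  · have e2 : (D : Set G).ncard = 2 ^ (k + 2) := h.dd.card
    have e3 : (zpowers σ : Set G).ncard = 2 ^ (k + 1) := by
      rw [← h.dd.ord, ← Nat.card_zpowers]; rfl
    rw [e2, e3, pow_succ 2 (k + 1)]
    omega
  · rw [Set.disjoint_left]
    rintro x (rfl | rfl) ⟨-, h2⟩
    exacts [h2 (one_mem _), h2 DD.J_mem_rot]

theorem relIndex_syl (hG : _root_.commutator G = ⊤) {S : Sylow 2 G} (hS : D ⊔ zpowers t ≤ S) :
    (D ⊔ zpowers t).relIndex S = 2 := by
  obtain ⟨c, hc, hC⟩ := h.odd_c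
  obtain ⟨f, hf1, hf2⟩ := parity hG (D ⊔ zpowers t) h.tt
  rw [h.ncard_conj hG, hC, mul_left_comm] at hf2
  have h1 := Nat.eq_of_mul_eq_mul_left Nat.card_pos hf2
  obtain ⟨j, rfl⟩ : ∃ j, k = j + 1 := ⟨k - 1, by have := h.hk; omega⟩
  have h2 : (D ⊔ zpowers t).index % 4 = 2 := by
    rw [hf1, h1, show 2 ^ (j + 1 + 1) = 4 * 2 ^ j by ring, add_mul, mul_assoc]
    omega
  have h3 := relIndex_mul_index hS
  have h4 := S.not_dvd_index
  obtain ⟨n, hn⟩ := IsPGroup.iff_card.1 S.2
  have h5 : (D ⊔ zpowers t).relIndex S ∣ 2 ^ n := hn ▸ Dvd.intro_left _ (card_mul_relIndex hS)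
  obtain ⟨m, -, hm⟩ := (Nat.dvd_prime_pow Nat.prime_two).1 h5
  rw [hm] at h3 ⊢
  rcases m with _ | _ | m
  · omega
  · rfl
  · rw [show 2 ^ (m + 1 + 1) = 4 * 2 ^ m by ring, mul_assoc] at h3
    omega

theorem syl_facts (hG : _root_.commutator G = ⊤) {S : Sylow 2 G} (hS : D ⊔ zpowers t ≤ S) :
    (∀ s ∈ (S : Subgroup G), ∀ d ∈ D, s * d * s⁻¹ ∈ D) ∧
    (∀ s ∈ (S : Subgroup G), s ∉ D ⊔ zpowers t → s * t * s⁻¹ = t * σ ^ 2 ^ k) ∧
    ∀ s ∈ (S : Subgroup G), s * σ ^ 2 ^ k * s⁻¹ = σ ^ 2 ^ k := by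
  have h2 := h.relIndex_syl hG hS
  have hn : ∀ s ∈ (S : Subgroup G), ∀ r ∈ D ⊔ zpowers t, s * r * s⁻¹ ∈ D ⊔ zpowers t := by
    intro s hs r hr
    have := normal_of_index_eq_two (H := (D ⊔ zpowers t).subgroupOf S) h2
    exact this.conj_mem ⟨r, hS hr⟩ hr ⟨s, hs⟩
  have htR : t ∈ D ⊔ zpowers t := mem_sup_right (mem_zpowers t)
  have hD : ∀ s ∈ (S : Subgroup G), ∀ d ∈ D, s * d * s⁻¹ ∈ D := by
    intro s hs d hd
    have key : ∀ i : ℤ, s * (σ ^ i * τ) * s⁻¹ ∈ D := fun i => by
      have h3 := hn s hs _ (mem_sup_left (h.dd.refl_mem i))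
      refine (h.memR.1 h3).resolve_right fun h4 => h.not_conj (h.dd.refl_mem i) ?_
      refine ((h.conj_iff hG h3).2 ⟨h4, ?_⟩).trans (isConj_conj s _).symm
      calc _ = s * (σ ^ i * τ * (σ ^ i * τ)) * s⁻¹ := by group
        _ = 1 := by rw [h.dd.refl_sq]; group
    obtain ⟨i, rfl | rfl⟩ := h.dd.mem_iff.1 hd
    · have h3 : σ ^ i = σ ^ i * τ * (σ ^ (0 : ℤ) * τ) := by rw [h.dd.refl_mul_refl, sub_zero]
      have h4 := mul_mem (key i) (key 0)
      rwa [show s * (σ ^ i * τ) * s⁻¹ * (s * (σ ^ (0 : ℤ) * τ) * s⁻¹) =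
        s * (σ ^ i * τ * (σ ^ (0 : ℤ) * τ)) * s⁻¹ by group, ← h3] at h4
    · exact key i
  have ht : ∀ s ∈ (S : Subgroup G), s ∉ D ⊔ zpowers t → s * t * s⁻¹ = t * σ ^ 2 ^ k := by
    intro s hs hsR
    have h3 := hn s hs t htR
    obtain ⟨h4, h5⟩ := (h.conj_iff hG h3).1 (isConj_conj s t)
    set d := t * (s * t * s⁻¹) with hd
    have h6 : s * t * s⁻¹ = t * d := (h.tmul _).symm
    have h7 : d * d = 1 := by rw [← h.sq_mul h4, ← h6, h5]
    have h8 : d ≠ 1 := by
      intro h8
      rw [h8, mul_one] at h6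
      have h9 : s ∈ centralizer ({t} : Set G) := by
        rw [mem_centralizer_singleton_iff]
        calc s * t = s * t * s⁻¹ * s := by group
          _ = t * s := by rw [h6]
      have h10 := h.syl.eq_of_le (Q := (S : Subgroup G) ⊓ centralizer {t}) S.2.to_inf_left
        inf_le_right (le_inf hS h.syl.le)
      exact hsR (h10 ▸ (⟨hs, h9⟩ : s ∈ (S : Subgroup G) ⊓ centralizer {t}))
    have h9 : σ * d = d * σ := by
      have h10 := hD s⁻¹ (inv_mem hs) σ h.dd.sigma_mem
      have h11 := h.comm _ h10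
      have h12 : σ * (s * t * s⁻¹) = s * t * s⁻¹ * σ := by
        calc σ * (s * t * s⁻¹) = s * (s⁻¹ * σ * s⁻¹⁻¹ * t) * s⁻¹ := by group
          _ = _ := by rw [h11]; group
      rw [hd, ← mul_assoc, h.comm σ h.dd.sigma_mem, mul_assoc, h12, mul_assoc t]
    rcases h.dd.invol_cases h4 (orderOf_eq_prime (by rwa [pow_two]) h8) with h10 | ⟨i, h10⟩
    · rw [h6, h10]
    · exfalso
      have h11 := h.dd.refl_conj_rot i (mem_zpowers σ)
      rw [← h10, ← h9, mul_assoc, mul_inv_cancel, mul_one] at h11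
      have h12 : σ ^ 2 = 1 := by rw [pow_two]; nth_rewrite 2 [h11]; rw [mul_inv_cancel]
      have h13 := Nat.le_of_dvd (by norm_num) (orderOf_dvd_of_pow_eq_one h12)
      rw [h.dd.ord, pow_succ] at h13
      have : 2 ≤ 2 ^ k := by
        calc 2 = 2 ^ 1 := rfl
          _ ≤ _ := Nat.pow_le_pow_right (by norm_num) h.hk
      omega
  refine ⟨hD, ht, fun s hs => ?_⟩
  by_cases hsR : s ∈ D ⊔ zpowers t
  · rcases h.memR.1 hsR with h3 | h3
    · exact h.dd.conj_J h3
    · have h4 := h.dd.conj_J h3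
      have h5 := h.comm _ h.dd.J_mem
      calc s * σ ^ 2 ^ k * s⁻¹ = t⁻¹ * (t * s * σ ^ 2 ^ k * (t * s)⁻¹) * t := by group
        _ = _ := by rw [h4, mul_assoc, h5]; group
  · have h3 := ht s hs hsR
    have h4 := conj_eq_of_mem (h.syl.le (mul_mem_two h2 hs hs hsR hsR))
    calc s * σ ^ 2 ^ k * s⁻¹ = s * (t * (s * t * s⁻¹)) * s⁻¹ := by rw [h3, h.tmul]
      _ = s * t * s⁻¹ * (s * s * t * (s * s)⁻¹) := by group
      _ = σ ^ 2 ^ k := by rw [h3, h4, mul_assoc, h.comm _ h.dd.J_mem, h.tmul]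

/-- The final computation in the central product of two dihedral groups. -/
theorem final (hG : _root_.commutator G = ⊤) {u x : G} (hu : IsConj t u) (hx : x ∈ D)
    (hu' : IsConj t (u * t * x)) (hut : u * t = t * u * σ ^ 2 ^ k)
    (huz : u * σ ^ 2 ^ k = σ ^ 2 ^ k * u)
    (he : ∀ d ∈ D, u * d = d * u ∨ u * d = d * u * σ ^ 2 ^ k) : False := by
  set z := σ ^ 2 ^ k with hz
  have zz : z * z = 1 := h.dd.J_sq
  have hzD : ∀ d ∈ D, d * z = z * d := fun d hd => by
    calc d * z = d * z * d⁻¹ * d := by group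
      _ = z * d := by rw [hz, h.dd.conj_J hd]
  have sq : ∀ {y}, IsConj t y → y * y = 1 := fun hy => by
    obtain ⟨g, rfl⟩ := isConj_iff.1 hy
    calc g * t * g⁻¹ * (g * t * g⁻¹) = g * (t * t) * g⁻¹ := by group
      _ = 1 := by rw [h.tt]; group
  have uu := sq hu
  have zt : z * t = t * z := h.comm z h.dd.J_mem
  have htd : ∀ d ∈ D, d * d = 1 → IsConj t (t * d) := fun d hd h1 =>
    (h.conj_iff hG (mul_mem (mem_sup_right (mem_zpowers t)) (mem_sup_left hd))).2
      ⟨by rwa [h.tmul], by rw [h.sq_mul hd, h1]⟩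
  have hcom : ∀ d ∈ D, u * d = d * u * z → u * (t * d) = t * d * u := fun d hd h1 => by
    calc u * (t * d) = u * t * d := by group
      _ = t * u * (z * d) := by rw [hut]; group
      _ = t * (u * d) * z := by rw [← hzD d hd]; group
      _ = t * d * u * (z * z) := by rw [h1]; group
      _ = _ := by rw [zz, mul_one]
  have h0 := sq hu'
  rcases he x hx with h1 | h1
  · have h2 : x * x = z := by
      have : u * t * x * (u * t * x) = x * x * z := by
        calc u * t * x * (u * t * x) = u * t * (x * u) * t * x := by group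
          _ = u * t * u * (x * t) * x := by rw [← h1]; group
          _ = t * u * (z * u) * t * x * x := by rw [hut, h.comm x hx]; group
          _ = t * (u * u) * (z * t) * x * x := by rw [← huz]; group
          _ = t * (t * (z * (x * x))) := by rw [uu, zt]; group
          _ = x * x * z := by rw [h.tmul, hzD _ (mul_mem hx hx)]
      rw [h0] at this
      calc x * x = x * x * z * z := by rw [mul_assoc, zz, mul_one]
        _ = z := by rw [← this, one_mul]
    have h3 : x ∈ zpowers σ := h.dd.mem_rot_of_sq_ne hx (h2 ▸ h.dd.J_ne_one)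
    have h4 : τ * x * τ⁻¹ = x⁻¹ := by simpa using h.dd.refl_conj_rot 0 h3
    have hτ := h.dd.tau_mem
    have ττ := h.dd.sq
    have h5 : τ * x = x * z * τ := by
      calc τ * x = τ * x * τ⁻¹ * τ := by group
        _ = x * ((x * x)⁻¹ * (z * z)) * τ := by rw [h4, zz]; group
        _ = x * z * τ := by rw [h2]; group
    have h6 : x * τ * (x * τ) = 1 := by
      calc x * τ * (x * τ) = x * (τ * x * τ⁻¹) * (τ * τ) := by group
        _ = 1 := by rw [h4, ττ]; group
    rcases he τ hτ with h7 | h7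
    · have h8 : u * (x * τ) = x * τ * u := by rw [← mul_assoc, h1, mul_assoc, h7, mul_assoc]
      have h9 := (h.xor hG hu h8 h6).not.1 (h.not_conj (mul_mem hx hτ))
      have h10 : u * t * x * (t * τ) = u * (x * τ) := by
        calc u * t * x * (t * τ) = u * t * (x * t) * τ := by group
          _ = u * (t * (t * x)) * τ := by rw [h.comm x hx]; group
          _ = _ := by rw [h.tmul]; group
      have h11 : u * t * x * (t * τ) = t * τ * (u * t * x) := by
        calc u * t * x * (t * τ) = u * (x * τ) := h10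
          _ = t * (t * (u * (x * (z * z) * τ))) := by rw [h.tmul, zz, mul_one]
          _ = t * (t * u) * (x * z) * z * τ := by group
          _ = t * (t * u) * (z * x) * z * τ := by rw [hzD x hx]
          _ = t * (t * u * z) * (x * z * τ) := by group
          _ = t * u * (t * τ) * x := by rw [← hut, ← h5]; group
          _ = t * (u * τ) * t * x := by rw [← h.comm τ hτ]; group
          _ = _ := by rw [h7]; group
      have h12 := (h.xor hG hu' h11 (by rw [h.sq_mul hτ, ττ])).1 (htd τ hτ ττ)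
      exact h9 (h10 ▸ h12)
    · have h8 : u * (x * τ) = x * τ * u * z := by
        rw [← mul_assoc, h1, mul_assoc, h7]; group
      have h9 := (h.xor hG hu (hcom _ (mul_mem hx hτ) h8)
        (by rw [h.sq_mul (mul_mem hx hτ), h6])).1 (htd _ (mul_mem hx hτ) h6)
      have h10 : u * t * x * τ = τ * (u * t * x) := by
        calc u * t * x * τ = u * t * (x * (z * z) * τ) := by rw [zz]; group
          _ = u * t * (x * z) * z * τ := by group
          _ = u * t * (z * x) * z * τ := by rw [hzD x hx]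
          _ = u * (t * z) * (x * z * τ) := by group
          _ = u * z * (t * τ) * x := by rw [← h5, ← zt]; group
          _ = u * (z * τ) * t * x := by rw [← h.comm τ hτ]; group
          _ = u * τ * z * t * x := by rw [← hzD τ hτ]; group
          _ = τ * u * (z * z) * t * x := by rw [h7]; group
          _ = _ := by rw [zz]; group
      have h11 := (h.xor hG hu' h10 ττ).not.1 (h.not_conj hτ)
      exact h11 (by rwa [mul_assoc (u * t), mul_assoc u])
  · have h2 := hcom x hx h1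
    have h3 : x * x = 1 := by
      rw [← h.sq_mul hx]
      calc t * x * (t * x) = u * u * (t * x) * (t * x) := by rw [uu]; group
        _ = u * (u * (t * x)) * (t * x) := by group
        _ = u * t * x * (u * t * x) := by rw [h2]; group
        _ = 1 := h0
    exact (h.xor hG hu h2 (by rw [h.sq_mul hx, h3])).1 (htd x hx h3) (by rwa [← mul_assoc])

theorem false (hG : _root_.commutator G = ⊤) : False := by
  obtain ⟨S, hS⟩ := h.syl.isPGroup.exists_le_sylow
  have h2 := h.relIndex_syl hG hS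
  obtain ⟨hD, ht, hz⟩ := h.syl_facts hG hS
  have htR : t ∈ D ⊔ zpowers t := mem_sup_right (mem_zpowers t)
  have hDS : D ≤ S := le_sup_left.trans hS
  have hcS : Nat.card (S : Subgroup G) = 2 * (2 * Nat.card D) := by
    rw [← card_mul_relIndex hS, h2, h.cardR, mul_comm]
  have hN : ∀ s ∈ (S : Subgroup G), s ∈ normalizer (D : Set G) := fun s hs =>
    mem_normalizer_of_conj_mem (hD s hs)
  have htc : t ∈ _root_.commutator G := hG ▸ mem_top t
  have ht2 : t ^ 2 = 1 := by rw [pow_two, h.tt]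
  have hRc : ∀ x ∈ D ⊔ zpowers t, x * t = t * x := fun x hx =>
    mem_centralizer_singleton_iff.1 (h.syl.le hx)
  have main : ∀ s ∈ (S : Subgroup G), s ∉ D ⊔ zpowers t → s * s ∈ D →
      ∃ u : G, IsConj t u ∧ u * u = 1 ∧ s * u ∈ D ∧ u ∈ (S : Subgroup G) ∧
        ∃ A : Subgroup G, A.relIndex S = 2 ∧ ∀ x ∈ A, u * x = x * u := by
    intro s hs hsR hss
    have hsD : s ∉ D := fun h3 => hsR (mem_sup_left h3)
    have h3 : (D ⊔ zpowers s).relIndex S = 2 :=
      relIndex_two_of_card (sup_le hDS (zpowers_le.2 hs)) (by rw [hcS, card_ext (hN s hs) hss hsD])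
    haveI := normal_of_index_eq_two (H := (D ⊔ zpowers s).subgroupOf S) h3
    obtain ⟨g, h4, h5, h6⟩ := GT.Tr.thompson_transfer_of_isCyclic S.not_dvd_index
      (T := D ⊔ zpowers s) (isCyclic_of_prime_card (p := 2) h3) ht2 htc h.syl.isPGroup hRc
    refine ⟨_, isConj_conj g t, ?_, ((mem_ext (hN s hs) hss).1 h4).resolve_left
      fun h6 => h.not_conj h6 (isConj_conj g t), h5, cj g (D ⊔ zpowers t),
      relIndex_two_of_card (cj_le_iff.2 h6) (by rw [card_cj, h.cardR, hcS]), fun x hx => ?_⟩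
    · calc g * t * g⁻¹ * (g * t * g⁻¹) = g * (t * t) * g⁻¹ := by group
        _ = 1 := by rw [h.tt]; group
    · calc g * t * g⁻¹ * x = g * (t * (g⁻¹ * x * g)) * g⁻¹ := by group
        _ = _ := by rw [← hRc _ (mem_cj.1 hx)]; group
  obtain ⟨s, hs, hsR⟩ : ∃ s ∈ (S : Subgroup G), s ∉ D ⊔ zpowers t := by
    by_contra hn
    push Not at hn
    rw [relIndex_eq_one.2 hn] at h2
    omega
  have hss := mul_mem_two h2 hs hs hsR hsR
  rcases h.memR.1 hss with hss | hss
  · obtain ⟨u, hu, uu, h3, h4, A, hC, hCu⟩ := main s hs hsR hss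
    have huR : u ∉ D ⊔ zpowers t := fun h6 =>
      hsR ((mul_mem_cancel_right h6).1 (mem_sup_left h3))
    have hut := ht u h4 huR
    have huz := hz u h4
    set z := σ ^ 2 ^ k
    have huz' : u * z = z * u := by
      calc u * z = u * z * u⁻¹ * u := by group
        _ = _ := by rw [huz]
    have hut' : u * t = t * u * z := by
      calc u * t = u * t * u⁻¹ * u := by group
        _ = _ := by rw [hut, mul_assoc, ← huz', mul_assoc]
    have hss' : u * t * (u * t) ∈ D := by
      have : u * t * (u * t) = u * t * u⁻¹ * (u * u) * t := by group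
      rw [this, hut, uu, mul_one, mul_assoc, h.comm _ h.dd.J_mem, h.tmul]
      exact h.dd.J_mem
    obtain ⟨u', hu', -, h3', -⟩ := main (u * t) (mul_mem h4 (hS htR))
      (fun h3 => huR ((mul_mem_cancel_right htR).1 h3)) hss'
    have hx : (u * t)⁻¹ * u' ∈ D := by
      have : (u * t)⁻¹ * u' = (u * t * (u * t))⁻¹ * (u * t * u') := by group
      rw [this]
      exact mul_mem (inv_mem hss') h3'
    refine h.final hG hu hx (by rwa [mul_inv_cancel_left]) hut' huz' fun d hd => ?_
    by_cases h6 : d ∈ A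
    · exact Or.inl (hCu d h6)
    · right
      have h7 : t ∉ A := fun h7 => by
        rw [hCu t h7] at hut'
        exact h.dd.J_ne_one (by simpa using hut'.symm)
      have h8 := hCu _ (mul_mem_two hC (hDS hd) (hS htR) h6 h7)
      calc u * d = u * d * (t * t) := by rw [h.tt, mul_one]
        _ = u * (d * t) * t := by group
        _ = d * t * (u * t) := by rw [h8]; group
        _ = d * (t * (t * (u * z))) := by rw [hut']; group
        _ = d * u * z := by rw [h.tmul, mul_assoc]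
  · haveI : (D.subgroupOf S).Normal := normal_subgroupOf_of_le_normalizer hN
    have hc : Nat.card (↥(S : Subgroup G) ⧸ D.subgroupOf S) = 4 := by
      have h3 := card_mul_relIndex hDS
      rw [hcS, ← mul_assoc, mul_comm _ (Nat.card D)] at h3
      exact Nat.eq_of_mul_eq_mul_left Nat.card_pos h3
    have hcyc : IsCyclic (↥(S : Subgroup G) ⧸ D.subgroupOf S) := by
      refine isCyclic_of_orderOf_eq_card (QuotientGroup.mk ⟨s, hs⟩) ?_
      rw [hc, show 4 = 2 ^ (1 + 1) by norm_num]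
      refine orderOf_eq_prime_pow ?_ ?_
      · rw [← QuotientGroup.mk_pow, QuotientGroup.eq_one_iff, mem_subgroupOf]
        intro h3
        have h4 : s * s ∈ D := by simpa [pow_two] using h3
        exact h.notMem ((mul_mem_cancel_right h4).1 hss)
      · rw [← QuotientGroup.mk_pow, QuotientGroup.eq_one_iff, mem_subgroupOf]
        have h3 := mul_mem hss hss
        rw [← h.sq_mul hss, h.tmul] at h3
        have h4 : s ^ 2 ^ (1 + 1) = s * s * (s * s) := by
          rw [show 2 ^ (1 + 1) = 2 * 2 by norm_num, pow_mul, pow_two, pow_two]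
        rw [← h4] at h3
        exact h3
    obtain ⟨g, h4, -⟩ := GT.Tr.thompson_transfer_of_isCyclic S.not_dvd_index
      (T := D) hcyc ht2 htc h.syl.isPGroup hRc
    exact h.not_conj h4 (isConj_conj g t)

end HB

end Cfsg.Agent.FG.ZL
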