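import Mathlib
import Cfsg.Agent.FG.ZLTop
import Cfsg.Agent.FG.ZLDih
import Cfsg.Agent.Cl.PSL2Pairs
import Cfsg.Agent.Cl.ProTwo
import Cfsg.Agent.GT.PPrimeCore
import Cfsg.Agent.Inv.Basic

/-!
Involution centralizers `Z₂ × L₂(q)`: the local data coming from `L₂(q)`.
-/

set_option autoImplicit false
set_option linter.style.haveILetI false

namespace Cfsg.Agent.FG.ZL

open Subgroup Cfsg.Agent.Inv.Fz Cfsg.Agent.Blk.Q8 Cfsg.Agent.Cl.L2
open scoped MatrixGroups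

universe u

variable {G : Type u} [Group G]

theorem trans_of [Finite G] {U : Subgroup G} {h : G} (hN : h ∈ normalizer (U : Set G))
    (hf : ∀ j, 0 < j → j + 1 < Nat.card U → ∀ u ∈ U, h ^ j * u * (h ^ j)⁻¹ = u → u = 1)
    {u v : G} (hu : u ∈ U) (hv : v ∈ U) (hu1 : u ≠ 1) (hv1 : v ≠ 1) :
    ∃ j : ℕ, h ^ j * u * (h ^ j)⁻¹ = v := by
  have key : ∀ i j, i < j → j + 1 < Nat.card U →
      h ^ i * u * (h ^ i)⁻¹ ≠ h ^ j * u * (h ^ j)⁻¹ := fun i j hij hj e => by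
    obtain ⟨d, rfl⟩ := Nat.exists_eq_add_of_lt hij
    refine hu1 (hf (d + 1) d.succ_pos (by omega) u hu ?_)
    calc _ = (h ^ i)⁻¹ * (h ^ (i + d + 1) * u * (h ^ (i + d + 1))⁻¹) * h ^ i := by group
      _ = u := by rw [← e]; group
  have h1 : Set.InjOn (fun j : ℕ => h ^ j * u * (h ^ j)⁻¹) (Set.Iio (Nat.card U - 1)) := by
    intro i hi j hj e
    rw [Set.mem_Iio] at hi hj
    rcases lt_trichotomy i j with h2 | h2 | h2
    · exact absurd e (key i j h2 (by omega))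
    · exact h2
    · exact absurd e.symm (key j i h2 (by omega))
  have h2 : (fun j : ℕ => h ^ j * u * (h ^ j)⁻¹) '' Set.Iio (Nat.card U - 1) ⊆ U \ {1} := by
    rintro _ ⟨j, -, rfl⟩
    exact ⟨(mem_normalizer_iff.1 (pow_mem hN j) u).1 hu, fun e => hu1 (conj_eq_one_iff.1 e)⟩
  have h3 := Set.eq_of_subset_of_ncard_le h2 (by
    rw [h1.ncard_image, Set.ncard_diff_singleton_of_mem (one_mem U), ← Finset.coe_range,
      Set.ncard_coe_finset, Finset.card_range]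
    rfl)
  obtain ⟨j, -, hj⟩ := h3.symm.subset (⟨hv, hv1⟩ : v ∈ (U : Set G) \ {1})
  exact ⟨j, hj⟩

theorem conj_pow_congr {U : Subgroup G} {h h' : G} (hN : h ∈ normalizer (U : Set G))
    (he : ∀ u ∈ U, h' * u * h'⁻¹ = h * u * h⁻¹) (j : ℕ) :
    ∀ u ∈ U, h' ^ j * u * (h' ^ j)⁻¹ = h ^ j * u * (h ^ j)⁻¹ := by
  induction j with
  | zero => simp
  | succ j ih =>
    intro u hu
    calc h' ^ (j + 1) * u * (h' ^ (j + 1))⁻¹ = h' * (h' ^ j * u * (h' ^ j)⁻¹) * h'⁻¹ := by group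
      _ = _ := by rw [ih u hu, he _ ((mem_normalizer_iff.1 (pow_mem hN j) u).1 hu)]; group

/-- An elementary abelian subgroup whose normalizer acts as a Singer cycle. -/
structure Sing {X : Type*} [Group X] (P : Subgroup X) (h : X) : Prop where
  sq : ∀ u ∈ P, u * u = 1
  big : 2 < Nat.card P
  semi : ∀ a ∈ normalizer (P : Set X), ∀ u ∈ P, u ≠ 1 → a * u * a⁻¹ = u →
    ∀ v ∈ P, a * v * a⁻¹ = v
  hN : h ∈ normalizer (P : Set X)
  trans : ∀ u ∈ P, ∀ v ∈ P, u ≠ 1 → v ≠ 1 → ∃ j : ℕ, h ^ j * u * (h ^ j)⁻¹ = v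

theorem comm_of_sq {P : Subgroup G} (h : ∀ u ∈ P, u * u = 1) {x y : G} (hx : x ∈ P) (hy : y ∈ P) :
    x * y * x⁻¹ = y := by
  rw [← inv_eq_of_mul_eq_one_right (h _ (mul_mem hx hy)), mul_inv_rev,
    inv_eq_of_mul_eq_one_right (h _ hx), mul_assoc, h _ hx, mul_one,
    inv_eq_of_mul_eq_one_right (h _ hy)]

theorem psl_cases {F : Type*} [Field F] [Finite F] (hF : 3 < Nat.card F)
    (P : Sylow 2 PSL(2, F)) : (∃ σ τ k, 1 ≤ k ∧ DD (P : Subgroup PSL(2, F)) σ τ k) ∨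
      ∃ h, Sing (P : Subgroup PSL(2, F)) h := by
  by_cases h2 : (2 : F) = 0
  · right
    haveI : CharP F 2 := CharTwo.of_one_ne_zero_of_two_eq_zero one_ne_zero h2
    obtain ⟨x, hx⟩ := exists_sylow_eq_uniS 2 P
    obtain ⟨g, hg, -, ho⟩ := exists_fixS (F := F)
    obtain ⟨c, rfl⟩ := exists_smulS (inf : P1 F) x
    have hev : 2 ∣ Nat.card F := char_dvd_card 2
    have hodd : Nat.gcd 2 (Nat.card F - 1) = 1 :=
      (Nat.Prime.coprime_iff_not_dvd Nat.prime_two).2 (by omega)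
    rw [hodd, mul_one] at ho
    have hsq : ∀ u ∈ (P : Subgroup PSL(2, F)), u * u = 1 := fun u hu => by
      by_cases h1 : u = 1
      · rw [h1, one_mul]
      · have h3 := pow_orderOf_eq_one u
        rwa [orderOf_of_mem_uniS 2 (hx ▸ hu) h1, pow_two] at h3
    have hcen : ∀ a : PSL(2, F), ∀ u ∈ (P : Subgroup PSL(2, F)), u ≠ 1 → a * u * a⁻¹ = u →
        a ∈ (P : Subgroup PSL(2, F)) := fun a u hu h1 e => by
      rw [hx, ← torS_eq_uniS (hx ▸ hu) h1, ← centralizer_eq_torS_of_char_two h2,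
        mem_centralizer_singleton_iff]
      exact mul_inv_eq_iff_eq_mul.1 e
    have hc : Nat.card (P : Subgroup PSL(2, F)) = Nat.card F := by rw [hx, card_uniS]
    have hN : c * g * c⁻¹ ∈ normalizer ((P : Subgroup PSL(2, F)) : Set PSL(2, F)) := by
      rw [hx, normalizer_uniS, MulAction.mem_stabilizer_iff, mul_smul, mul_smul, inv_smul_smul, hg]
    refine ⟨c * g * c⁻¹, hsq, by omega, fun a _ u hu h1 e v hv =>
      comm_of_sq hsq (hcen a u hu h1 e) hv, hN, fun u hu v hv => trans_of hN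
        (fun j hj hj' w hw e => by_contra fun h1 => ?_) hu hv⟩
    have h3 := hsq _ (hcen _ w hw h1 e)
    rw [← pow_add, ← orderOf_dvd_iff_pow_eq_one, ← two_mul,
      show c * g * c⁻¹ = MulAut.conj c g from rfl, MulEquiv.orderOf_eq, ho] at h3
    have h4 := Nat.le_of_dvd hj (Nat.Coprime.dvd_of_dvd_mul_left (Nat.coprime_comm.1 hodd) h3)
    omega
  · obtain ⟨σ, τ, k, hD⟩ := psl_dd h2 P
    rcases k with _ | k
    swap
    · exact Or.inl ⟨σ, τ, k + 1, by omega, hD⟩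
    right
    have hc : Nat.card (P : Subgroup PSL(2, F)) = 4 := hD.card
    have hσ : σ * σ = 1 := by simpa using hD.J_sq
    have hsq : ∀ u ∈ (P : Subgroup PSL(2, F)), u * u = 1 := fun u hu => by
      obtain ⟨i, rfl | rfl⟩ := hD.mem_iff.1 hu
      · rw [← (Commute.refl σ).mul_zpow, hσ, one_zpow]
      · exact hD.refl_sq i
    have hK : IsKleinFour (P : Subgroup PSL(2, F)) := ⟨hc, by
      haveI : Nontrivial (P : Subgroup PSL(2, F)) := Finite.one_lt_card_iff_nontrivial.1 (by omega)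
      exact (Monoid.exponent_eq_prime_iff Nat.prime_two).2 fun u hu =>
        orderOf_eq_prime (Subtype.ext (by simpa [pow_two] using hsq u u.2)) hu⟩
    have hcen := fun a u hu h1 ha e => Cl.Pro.mem_of_commute h2 P hK (a := u) (y := a) hu h1 ha e
    haveI : IsMulCommutative (P : Subgroup PSL(2, F)) := ⟨⟨fun a b => Subtype.ext
      (mul_inv_eq_iff_eq_mul.1 (comm_of_sq hsq a.2 b.2))⟩⟩
    have hτ : orderOf τ = 2 := by simpa using hD.orderOf_refl 0
    obtain ⟨g, hg⟩ := isConj_iff.1 (isConjS_of_orderOf_two (by simpa using hD.ord) hτ : IsConj σ τ)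
    obtain ⟨n, hn, e⟩ := P.conj_eq_normalizer_conj_of_mem σ g⁻¹ hD.sigma_mem
      (by rw [inv_inv, hg]; exact hD.tau_mem)
    rw [inv_inv, hg] at e
    have hnP : n ∉ (P : Subgroup PSL(2, F)) := fun h3 => hD.notMem (by
      have h4 := comm_of_sq hsq (inv_mem h3) hD.sigma_mem
      rw [inv_inv, ← e] at h4
      exact h4 ▸ mem_zpowers _)
    refine ⟨n, hsq, by omega, fun a ha u hu h1 e v hv => comm_of_sq hsq (hcen a u hu h1 ha e) hv,
      hn, fun u hu v hv => trans_of hn (fun j hj hj' w hw e => by_contra fun h1 => hnP ?_) hu hv⟩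
    have h3 := hcen _ w hw h1 (pow_mem hn j) e
    obtain rfl | rfl : j = 1 ∨ j = 2 := by omega
    · rwa [pow_one] at h3
    · have h4 := P.3 (isPGroup_ext hn (by rwa [pow_two] at h3) P.2) le_sup_left
      exact h4 ▸ mem_sup_right (mem_zpowers n)

theorem exists_data [Finite G] {t : G} {Z : Type*} [Group Z]
    (e : closure {x : centralizer ({t} : Set G) ⧸ oddCore (centralizer ({t} : Set G)) |
      ∃ k : ℕ, orderOf x = 2 ^ k} ≃* Z) :
    ∃ (L : Subgroup G) (ψ : L →* Z), L ≤ centralizer {t} ∧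
      (∀ a ∈ centralizer ({t} : Set G), ∀ l ∈ L, a * l * a⁻¹ ∈ L) ∧ Function.Surjective ψ ∧
      (∀ l, ψ l = 1 → Odd (orderOf l)) ∧
      ∀ x ∈ centralizer ({t} : Set G), ∀ n : ℕ, x ^ 2 ^ n = 1 → x ∈ L := by
  set C := centralizer ({t} : Set G)
  set M := closure {x : C ⧸ oddCore C | ∃ k : ℕ, orderOf x = 2 ^ k} with hM
  let π := QuotientGroup.mk' (oddCore C)
  haveI : M.Normal := by
    refine ⟨fun x hx g => ?_⟩
    have h1 : M ≤ M.comap (MulAut.conj g).toMonoidHom := (closure_le _).2 fun y ⟨k, hk⟩ =>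
      subset_closure ⟨k, ((MulAut.conj g).orderOf_eq y).trans hk⟩
    exact h1 hx
  let i := equivMapOfInjective (M.comap π) C.subtype C.subtype_injective
  refine ⟨(M.comap π).map C.subtype,
    (e.toMonoidHom.comp (π.subgroupComap M)).comp i.symm.toMonoidHom, map_subtype_le _, ?_, ?_, ?_,
    fun x hx n hn => ⟨⟨x, hx⟩, subset_closure ?_, rfl⟩⟩
  · rintro a ha _ ⟨l, hl, rfl⟩
    exact ⟨_, (inferInstance : (M.comap π).Normal).conj_mem l hl ⟨a, ha⟩, rfl⟩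
  · exact (e.surjective.comp (π.subgroupComap_surjective_of_surjective M
      (QuotientGroup.mk'_surjective _))).comp i.symm.surjective
  · intro l hl
    obtain ⟨l, rfl⟩ := i.surjective l
    have h1 : π.subgroupComap M l = 1 := e.map_eq_one_iff.1 (by simpa using hl)
    have h2 : (l : C) ∈ oddCore C := (QuotientGroup.eq_one_iff _).1 (congrArg Subtype.val h1)
    rw [MulEquiv.orderOf_eq, ← orderOf_coe]
    exact GT.odd_card_oddCore.of_dvd_nat (Subgroup.orderOf_dvd_natCard _ h2)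
  · obtain ⟨k, -, hk⟩ := (Nat.dvd_prime_pow Nat.prime_two).1 (orderOf_dvd_of_pow_eq_one
      (show π ⟨x, hx⟩ ^ 2 ^ n = 1 by
        rw [← map_pow, show (⟨x, hx⟩ : C) ^ 2 ^ n = 1 from Subtype.ext hn, map_one]))
    exact ⟨k, hk⟩

theorem psl_data [Finite G] {t : G} (ht : orderOf t = 2) {F : Type*} [Field F] [Finite F]
    (hF : 3 < Nat.card F) {L : Subgroup G} (ψ : L →* Multiplicative (ZMod 2) × PSL(2, F))
    (hLC : L ≤ centralizer {t}) (hLn : ∀ a ∈ centralizer ({t} : Set G), ∀ l ∈ L, a * l * a⁻¹ ∈ L)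
    (hψ : Function.Surjective ψ) (hker : ∀ l, ψ l = 1 → Odd (orderOf l))
    (h2 : ∀ x ∈ centralizer ({t} : Set G), ∀ n : ℕ, x ^ 2 ^ n = 1 → x ∈ L) :
    (∃ D σ τ k, HB t D σ τ k) ∨ ∃ U h, HA t U h := by
  have tt : t * t = 1 := by rw [← pow_two, ← ht, pow_orderOf_eq_one]
  have htC : t ∈ centralizer ({t} : Set G) := mem_centralizer_singleton_iff.2 rfl
  obtain ⟨T, hT, htT⟩ := exists_isSylIn (isPGroup_zpowers_of_pow (x := t) (n := 1)
    (by rw [pow_one, pow_two, tt])) (zpowers_le.2 htC)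
  replace htT : t ∈ T := htT (mem_zpowers t)
  have hpL : ∀ Q : Subgroup G, IsPGroup 2 Q → Q ≤ centralizer {t} → Q ≤ L := fun Q hQ hle x hx => by
    obtain ⟨n, hn⟩ := hQ ⟨x, hx⟩
    exact h2 x (hle hx) n (congrArg Subtype.val hn)
  have hTL := hpL T hT.isPGroup hT.le
  have hinj : ∀ Q : Subgroup G, IsPGroup 2 Q → ∀ x y : L, (x : G) ∈ Q → (y : G) ∈ Q →
      ψ x = ψ y → x = y := fun Q hQ x y hx hy e => by
    have h3 := hker (x⁻¹ * y) (by rw [map_mul, map_inv, e, inv_mul_cancel])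
    obtain ⟨n, hn⟩ := hQ ⟨_, mul_mem (inv_mem hx) hy⟩
    have h4 : orderOf (x⁻¹ * y) ∣ 2 ^ n :=
      orderOf_dvd_of_pow_eq_one (Subtype.ext (congrArg Subtype.val hn :))
    exact inv_mul_eq_one.1 (orderOf_eq_one_iff.1 (Nat.eq_one_of_dvd_coprimes
      (Nat.Coprime.pow_right n (Nat.coprime_two_right.2 h3)) dvd_rfl h4))
  let lam := (MonoidHom.snd _ _).comp ψ
  let mu := (MonoidHom.fst _ _).comp ψ
  have hlam : Function.Surjective lam := fun x => by
    obtain ⟨l, hl⟩ := hψ (1, x)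
    exact ⟨l, congrArg Prod.snd hl⟩
  let t' : L := ⟨t, hTL htT⟩
  have hlt : lam t' = 1 := by
    haveI := isSimpleGroup_PSL (F := F) hF
    have h3 : lam t' ∈ center PSL(2, F) := mem_center_iff.2 fun x => by
      obtain ⟨l, rfl⟩ := hlam x
      rw [← map_mul, ← map_mul]
      exact congrArg lam (Subtype.ext (mem_centralizer_singleton_iff.1 (hLC l.2)))
    rcases (inferInstance : (center PSL(2, F)).Normal).eq_bot_or_eq_top with h4 | h4
    · exact mem_bot.1 (h4 ▸ h3)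
    · obtain ⟨g₀, hg₀, ho⟩ := exists_nofixS (F := F)
      obtain ⟨n₀, h5, h6⟩ := exists_mem_ntorS_not_mem (tauS_ne_four_of_nofix hg₀)
      have h7 := conj_eq_inv_of_mem_ntorS (tauS_ne_four_of_nofix hg₀) h5 h6 (self_mem_torS g₀)
      rw [mem_center_iff.1 (h4 ▸ mem_top g₀) n₀, mul_inv_cancel_right] at h7
      have h8 : orderOf g₀ ∣ 2 := orderOf_dvd_of_pow_eq_one (by
        rw [pow_two]; nth_rewrite 1 [h7]; rw [inv_mul_cancel])
      have h9 := Nat.mul_le_mul (Nat.le_of_dvd two_pos h8)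
        (Nat.le_of_dvd two_pos (Nat.gcd_dvd_left 2 (Nat.card F - 1)))
      omega
  have hmt : mu t' ≠ 1 := fun e => by
    have h3 := hker t' (Prod.ext e hlt)
    rw [orderOf_mk, ht] at h3
    exact absurd h3 (by decide)
  let D := T ⊓ mu.ker.map L.subtype
  have hD : ∀ x : L, (x : G) ∈ D ↔ (x : G) ∈ T ∧ mu x = 1 := fun x =>
    and_congr_right fun _ => ⟨fun ⟨y, hy, e⟩ => (Subtype.ext e : y = x) ▸ hy, fun e => ⟨x, e, rfl⟩⟩
  have hDT : D ≤ T := inf_le_left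
  have hDL : D ≤ L := hDT.trans hTL
  have htD : t ∉ D := fun e => hmt ((hD t').1 e).2
  have hcomm : ∀ d ∈ D, d * t = t * d := fun d hd =>
    mem_centralizer_singleton_iff.1 (hT.le (hDT hd))
  have hcases : ∀ x ∈ T, x ∈ D ∨ t * x ∈ D := fun x hx => by
    by_cases h3 : mu ⟨x, hTL hx⟩ = 1
    · exact Or.inl ((hD ⟨x, hTL hx⟩).2 ⟨hx, h3⟩)
    · refine Or.inr ((hD (t' * ⟨x, hTL hx⟩)).2 ⟨mul_mem htT hx, ?_⟩)
      rw [map_mul]
      revert hmt h3
      generalize mu t' = a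
      generalize mu ⟨x, hTL hx⟩ = b
      revert a b
      decide
  have hTD : D ⊔ zpowers t = T := le_antisymm (sup_le hDT (zpowers_le.2 htT)) fun x hx =>
    (mem_ext (centralizer_le_normalizer _ (mem_centralizer_iff.2 hcomm)) (tt ▸ one_mem D)).2
      (hcases x hx)
  have hsyl : IsSylIn 2 (D ⊔ zpowers t) (centralizer {t}) := hTD ▸ hT
  let P := (hT.mono hTL hLC).toSylow.mapSurjective hlam
  have hP : ∀ v, v ∈ (P : Subgroup PSL(2, F)) ↔ ∃ x : L, (x : G) ∈ D ∧ lam x = v := fun v => by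
    refine ⟨?_, fun ⟨x, hx, e⟩ => ⟨x, hDT hx, e⟩⟩
    rintro ⟨x, hx, rfl⟩
    rcases hcases x hx with h3 | h3
    · exact ⟨x, h3, rfl⟩
    · exact ⟨t' * x, h3, by rw [map_mul, hlt, one_mul]⟩
  have hDinj : ∀ x y : L, (x : G) ∈ D → (y : G) ∈ D → lam x = lam y → x = y :=
    fun x y hx hy e => hinj T hT.isPGroup x y (hDT hx) (hDT hy)
      (Prod.ext (((hD x).1 hx).2.trans ((hD y).1 hy).2.symm) e)
  let f : D →* PSL(2, F) := lam.comp (inclusion hDL)
  have hf : Function.Injective f := fun x y e =>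
    Subtype.ext (congrArg Subtype.val (hDinj _ _ x.2 y.2 e) :)
  have hfr : f.range = P := by
    ext v
    exact ⟨fun ⟨x, e⟩ => (hP v).2 ⟨_, x.2, e⟩, fun hv => by
      obtain ⟨x, hx, e⟩ := (hP v).1 hv
      exact ⟨⟨x, hx⟩, e⟩⟩
  have hcard : Nat.card D = Nat.card (P : Subgroup PSL(2, F)) := by
    rw [← hfr]; exact Nat.card_congr (MonoidHom.ofInjective hf).toEquiv
  have hord : ∀ x : L, (x : G) ∈ D → orderOf (lam x) = orderOf (x : G) := fun x hx =>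
    (orderOf_injective f hf ⟨x, hx⟩).trans (orderOf_mk _ _)
  rcases psl_cases hF P with ⟨σ₀, τ₀, k, hk, hdd⟩ | ⟨h₀, hS⟩
  · obtain ⟨σ, hσ, rfl⟩ := (hP _).1 hdd.sigma_mem
    obtain ⟨τ, hτ, rfl⟩ := (hP _).1 hdd.tau_mem
    have h3 : DD D (σ : G) τ k := by
      refine dd_of_card hσ hτ (hord σ hσ ▸ hdd.ord) ?_ ?_ ?_ (hcard ▸ hdd.card)
      · exact congrArg Subtype.val (hDinj (τ * τ) 1 (mul_mem hτ hτ) (one_mem D)
          (by rw [map_mul, hdd.sq, map_one]))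
      · exact congrArg Subtype.val (hDinj (τ * σ * τ⁻¹) σ⁻¹ (mul_mem (mul_mem hτ hσ) (inv_mem hτ))
          (inv_mem hσ) (by rw [map_mul, map_mul, map_inv, hdd.rel, map_inv]))
      · rintro ⟨i, hi⟩
        exact hdd.notMem ⟨i, by
          rw [show τ = σ ^ i from Subtype.ext hi.symm, map_zpow]⟩
    refine Or.inl ⟨D, σ, τ, k, ht, h3, hk, htD, hcomm, hsyl, fun x hx ho => ?_⟩
    obtain ⟨c, hc⟩ := isConj_iff.1 (isConjS_of_orderOf_two
      ((hord ⟨x, hDL hx⟩ hx).trans ho) hdd.orderOf_J)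
    obtain ⟨l, rfl⟩ := hlam c
    have h4 := hker (l * ⟨x, hDL hx⟩ * l⁻¹ * σ ^ 2 ^ k) (Prod.ext (by
      change mu _ = 1
      rw [map_mul, map_mul, map_mul, map_inv, ((hD ⟨x, hDL hx⟩).1 hx).2,
        ((hD (σ ^ 2 ^ k)).1 h3.J_mem).2]
      simp) (by
      change lam _ = 1
      rw [map_mul, map_mul, map_mul, map_inv, hc, map_pow, hdd.J_sq]))
    obtain ⟨d, hd, e⟩ := Inv.exists_conj_of_odd (x := l * x * (l : G)⁻¹) (y := (σ : G) ^ 2 ^ k)
      (sq_of_conj (by rw [← pow_two, ← ho, pow_orderOf_eq_one]) (isConj_conj _ x)) h3.J_sq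
      (by rwa [← orderOf_coe] at h4)
    refine ⟨d * l, hLC (mul_mem (zpowers_le.2
      (l * ⟨x, hDL hx⟩ * l⁻¹ * σ ^ 2 ^ k : L).2 hd) l.2), ?_⟩
    rw [← e]; group
  · right
    obtain ⟨l, rfl⟩ := hlam h₀
    let B := (mu.ker ⊓ (P : Subgroup PSL(2, F)).comap lam).map L.subtype
    have hDB : IsSylIn 2 D B := by
      refine ⟨fun x hx => ⟨⟨x, hDL hx⟩, ⟨((hD _).1 hx).2, (hP _).2 ⟨_, hx, rfl⟩⟩, rfl⟩,
        hT.isPGroup.to_le hDT, fun Q hQ h3 h4 => le_antisymm (fun x hx => ?_) h4⟩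
      obtain ⟨x, ⟨h5, h6⟩, rfl⟩ := h3 hx
      obtain ⟨y, hy, e⟩ := (hP _).1 h6
      exact hinj Q hQ y x (h4 hy) hx (Prod.ext (((hD y).1 hy).2.trans h5.symm) e) ▸ hy
    obtain ⟨_, ⟨b, ⟨-, hb⟩, rfl⟩, hN⟩ := hDB.frattini (g := l) (mem_normalizer_of_conj_mem (by
      rintro _ ⟨x, ⟨h5, h6⟩, rfl⟩
      refine ⟨l * x * l⁻¹, ⟨(inferInstance : mu.ker.Normal).conj_mem x h5 l, ?_⟩, rfl⟩
      change lam _ ∈ (P : Subgroup PSL(2, F))
      rw [map_mul, map_mul, map_inv]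
      exact (mem_normalizer_iff.1 hS.hN _).1 h6))
    have hN : ((b * l : L) : G) ∈ normalizer (D : Set G) := hN
    have hcj : ∀ y : L, (y : G) ∈ normalizer (D : Set G) → ∀ u (hu : u ∈ D) v (hv : v ∈ D),
        (y * u * (y : G)⁻¹ = v ↔ lam y * lam ⟨u, hDL hu⟩ * (lam y)⁻¹ = lam ⟨v, hDL hv⟩) :=
      fun y hy u hu v hv => by
        rw [← map_inv, ← map_mul, ← map_mul]
        exact ⟨fun e => congrArg lam (Subtype.ext e), fun e => congrArg Subtype.val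
          (hDinj _ _ ((mem_normalizer_iff.1 hy u).1 hu) hv e)⟩
    have hne : ∀ u (hu : u ∈ D), u ≠ 1 → lam ⟨u, hDL hu⟩ ≠ 1 := fun u hu h1 e =>
      h1 (congrArg Subtype.val (hDinj _ 1 hu (one_mem D) (e.trans (map_one _).symm)))
    have hmem : ∀ u (hu : u ∈ D), lam ⟨u, hDL hu⟩ ∈ (P : Subgroup PSL(2, F)) := fun u hu =>
      (hP _).2 ⟨_, hu, rfl⟩
    have htr : ∀ u ∈ D, ∀ v ∈ D, u ≠ 1 → v ≠ 1 →
        ∃ j : ℕ, ((b * l : L) : G) ^ j * u * (((b * l : L) : G) ^ j)⁻¹ = v := by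
      intro u hu v hv h3 h4
      obtain ⟨j, hj⟩ := hS.trans _ (hmem u hu) _ (hmem v hv) (hne u hu h3) (hne v hv h4)
      refine ⟨j, (hcj ((b * l) ^ j) (pow_mem hN j) u hu v hv).2 ?_⟩
      rw [map_pow, conj_pow_congr hS.hN (fun w hw => ?_) j _ (hmem u hu), hj]
      rw [← comm_of_sq hS.sq hb ((mem_normalizer_iff.1 hS.hN w).1 hw), map_mul]
      group
    refine ⟨D, (b * l : L), ht, fun u hu => congrArg Subtype.val (hDinj (⟨u, hDL hu⟩ * ⟨u, hDL hu⟩)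
      1 (mul_mem hu hu) (one_mem D) (by rw [map_mul, hS.sq _ (hmem u hu), map_one])),
      hcard ▸ hS.big, htD, hcomm, hsyl, hLC (b * l).2, hN, htr, fun a ha haN => ?_⟩
    haveI : Nontrivial D := Finite.one_lt_card_iff_nontrivial.1 (by have := hS.big; omega)
    obtain ⟨⟨u₀, hu₀⟩, h3⟩ := exists_ne (1 : D)
    have h3 : u₀ ≠ 1 := fun e => h3 (Subtype.ext e)
    let y : L := ⟨_, hLn a ha _ (b * l).2⟩
    have hy : (y : G) ∈ normalizer (D : Set G) := mul_mem (mul_mem haN hN) (inv_mem haN)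
    obtain ⟨j, hj⟩ := htr u₀ hu₀ _ ((mem_normalizer_iff.1 hy u₀).1 hu₀) h3
      fun e => h3 (conj_eq_one_iff.1 e)
    have h4 : ((((b * l) ^ j)⁻¹ * y : L) : G) ∈ normalizer (D : Set G) :=
      mul_mem (inv_mem (pow_mem hN j)) hy
    have h5 := hS.semi (lam (((b * l) ^ j)⁻¹ * y)) (mem_normalizer_of_conj_mem fun v hv => by
      obtain ⟨x, hx, rfl⟩ := (hP v).1 hv
      rw [← map_inv, ← map_mul, ← map_mul]
      exact (hP _).2 ⟨_, (mem_normalizer_iff.1 h4 x).1 hx, rfl⟩) _ (hmem u₀ hu₀) (hne u₀ hu₀ h3)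
      ((hcj _ h4 u₀ hu₀ u₀ hu₀).1 (by
        calc _ = (((b * l : L) : G) ^ j)⁻¹ * (y * u₀ * (y : G)⁻¹) * ((b * l : L) : G) ^ j := by
              push_cast; group
          _ = u₀ := by rw [← hj]; group))
    refine ⟨j, fun u hu => ?_⟩
    have h6 := (hcj _ h4 u hu u hu).2 (h5 _ (hmem u hu))
    nth_rewrite 2 [← h6]
    change (y : G) * u * (y : G)⁻¹ = _
    push_cast
    group

end Cfsg.Agent.FG.ZL
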