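import Mathlib
import Cfsg.Agent.FG.Metacyclic

/-!
# Bicyclic `2`-groups: two of the maximal subgroups are metacyclic
-/

set_option linter.unusedSectionVars false

open scoped Pointwise commutatorElement

namespace Cfsg.Agent.FG.BC

open Subgroup GT.PG FG.TM

universe u

variable {G : Type u} [Group G]

/-- Blackburn's lifting lemma. -/
theorem meta_lift [Finite G] (hG : IsPGroup 2 G) {z : G} (hz : z ∈ center G)
    (hzc : z ∈ commutator G) (hz2 : z ^ 2 = 1) [hZ : (zpowers z).Normal]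
    (h : IsMetacyclic (G ⧸ zpowers z)) : IsMetacyclic G ∨ commutator G = zpowers z := by
  obtain ⟨⟨a⟩, ⟨b⟩, hA, hab⟩ := isMetacyclic_iff.1 h
  change (zpowers (a : G ⧸ zpowers z)).Normal at hA
  change zpowers (a : G ⧸ zpowers z) ⊔ zpowers (b : G ⧸ zpowers z) = ⊤ at hab
  have hzF : z ∈ frattini G := commutator_le_frattini hG hzc
  have hab' : zpowers a ⊔ zpowers b = ⊤ := by
    rw [← QuotientGroup.mk'_apply, ← QuotientGroup.mk'_apply, ← MonoidHom.map_zpowers,
      ← MonoidHom.map_zpowers, ← Subgroup.map_sup] at hab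
    have := congrArg (comap (QuotientGroup.mk' (zpowers z))) hab
    rw [comap_map_eq, QuotientGroup.ker_mk', comap_top] at this
    exact frattini_nongenerating (eq_top_iff.2 (this ▸ sup_le_sup_left (zpowers_le.2 hzF) _))
  have hN : (zpowers z ⊔ zpowers a).Normal := by
    rw [← comap_zpowers_mk]; exact hA.comap _
  by_cases hb : b * a * b⁻¹ ∈ zpowers a
  · exact Or.inl (isMetacyclic_iff.2 ⟨a, b, normal_of_two_generators hab' (by simp) hb, hab'⟩)
  obtain ⟨w, hw, _, ⟨j, rfl⟩, e⟩ :=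
    mem_sup_of_normal_left.1 (hN.conj_mem a (mem_sup_right (mem_zpowers a)) b)
  have hza : z ∉ zpowers a := fun h =>
    hb (e ▸ mul_mem (zpowers_le.2 h hw) (zpow_mem (mem_zpowers a) j))
  have hwz : w = z := (eq_one_or_eq_of_mem_zpowers hz2 hw).resolve_left fun h =>
    hb (e ▸ mul_mem (h ▸ one_mem _) (zpow_mem (mem_zpowers a) j))
  subst hwz
  change w * a ^ j = _ at e
  have hwa : Commute w a := (commute_of_mem_center hz a).symm
  have hw2 : ∀ i : ℤ, w ^ (2 * i) = 1 := fun i => by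
    rw [zpow_mul, zpow_ofNat, hz2, one_zpow]
  obtain ⟨i, hi | hi⟩ := Int.even_or_odd' j
  · have h1 : b * a * b⁻¹ ∈ frattini G := by
      rw [← e, hi, mul_comm 2, zpow_mul, zpow_ofNat]
      exact mul_mem hzF (pow_mem_frattini hG _)
    have h2 : a ∈ frattini G := by
      simpa [mul_assoc] using (inferInstance : (frattini G).Normal).conj_mem _ h1 b⁻¹
    have hc : IsCyclic G := isCyclic_of_sup_frattini (x := b)
      (eq_top_iff.2 (hab' ▸ sup_le (zpowers_le.2 (mem_sup_right h2)) le_sup_left))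
    have := IsCyclic.isMulCommutative (α := G)
    exact Or.inl (isMetacyclic_iff.2 ⟨a, b, inferInstance, hab'⟩)
  subst hi
  have hc : ⁅b, a⁆ = w * a ^ (2 * i) := by
    rw [commutatorElement_def, ← e, zpow_add_one]; group
  have hpow : ∀ t : ℤ, (w * a ^ (2 * i)) ^ t = w ^ t * a ^ (2 * i * t) := fun t => by
    rw [(hwa.zpow_right _).mul_zpow, ← zpow_mul]
  have hCn : (zpowers (w * a ^ (2 * i))).Normal := by
    refine normal_of_two_generators hab' ?_ ⟨2 * i + 1, ?_⟩
    · rw [(hwa.symm.mul_right ((Commute.refl a).zpow_right _)).eq, mul_inv_cancel_right]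
      exact mem_zpowers _
    · change (w * a ^ (2 * i)) ^ (2 * i + 1) = _
      rw [hpow, ← conj_mul, ← conj_zpow, ← e, (hwa.zpow_right _).mul_zpow, hw2, zpow_add_one w, hw2,
        mem_center_iff.1 hz b, mul_inv_cancel_right, ← zpow_mul, one_mul, one_mul, mul_comm (2 * i)]
  have hle := commutator_le_of_two_generators hab' (zpowers (w * a ^ (2 * i)))
    (by rw [hc]; exact mem_zpowers _)
  obtain ⟨t, ht⟩ := hle hzc
  change (w * a ^ (2 * i)) ^ t = w at ht
  rw [hpow] at ht
  obtain ⟨s, rfl | rfl⟩ := Int.even_or_odd' t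
  · rw [hw2, one_mul] at ht
    exact absurd (ht ▸ zpow_mem (mem_zpowers a) _) hza
  rw [zpow_add_one, hw2, one_mul, mul_eq_left, zpow_mul] at ht
  obtain ⟨k, hk⟩ := IsPGroup.iff_orderOf.1 hG (a ^ (2 * i))
  have h1 := zpowers_zpow_eq_of_odd hk (k := 2 * s + 1) ⟨s, rfl⟩
  rw [ht, zpowers_one_eq_bot, eq_comm, zpowers_eq_bot] at h1
  rw [h1, mul_one] at hle
  exact Or.inr (le_antisymm hle (zpowers_le.2 hzc))

theorem mem_zpowers_zpow_of_odd [Finite G] (hG : IsPGroup 2 G) (x : G) {k : ℤ} (hk : Odd k) :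
    x ∈ zpowers (x ^ k) := by
  obtain ⟨n, hn⟩ := IsPGroup.iff_orderOf.1 hG x
  rw [zpowers_zpow_eq_of_odd hn hk]
  exact mem_zpowers x

/-- A group `⟨u⟩⟨v⟩` whose derived group is `⟨z⟩` of order two is metacyclic unless `z` is
`u ^ (2 i) v ^ (2 j)` with `i`, `j` odd. -/
theorem meta_or_odd [Finite G] (hG : IsPGroup 2 G) {u v z : G}
    (hb : ∀ g : G, ∃ i j : ℤ, g = u ^ i * v ^ j) (hz : z ∈ center G) (hz1 : z ≠ 1)
    (hz2 : z ^ 2 = 1) (hc : commutator G = zpowers z) :
    IsMetacyclic G ∨ (v * u * v⁻¹ = u * z ∧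
      ∃ i j : ℤ, Odd i ∧ Odd j ∧ z = (u ^ i) ^ 2 * (v ^ j) ^ 2) := by
  have htop : zpowers u ⊔ zpowers v = ⊤ := eq_top_iff.2 fun g _ => by
    obtain ⟨i, j, rfl⟩ := hb g
    exact mul_mem (mem_sup_left (zpow_mem (mem_zpowers u) i))
      (mem_sup_right (zpow_mem (mem_zpowers v) j))
  have hcm : ∀ a b : G, ⁅a, b⁆ = 1 ∨ ⁅a, b⁆ = z := fun a b =>
    eq_one_or_eq_of_mem_zpowers hz2 (hc ▸ commutator_mem_commutator (mem_top a) (mem_top b))
  have hzc : ∀ a : G, a * z = z * a := mem_center_iff.1 hz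
  have hconj : ∀ a b : G, b * a * b⁻¹ = a ∨ b * a * b⁻¹ = a * z := fun a b => by
    rcases hcm b a with h | h
    · left; rw [commutatorElement_def, mul_inv_eq_one] at h; exact h
    · right; rw [commutatorElement_def, mul_inv_eq_iff_eq_mul] at h; rw [h, hzc]
  have hsq : ∀ a b : G, Commute (a ^ 2) b := fun a b => by
    rw [commute_iff_conj_eq, ← conj_pow]
    rcases hconj a b with h | h
    · rw [h]
    · rw [h, (show Commute a z from hzc a).mul_pow, hz2, mul_one]
  have crit : ∀ g h : G, z ∈ zpowers g → zpowers g ⊔ zpowers h = ⊤ → IsMetacyclic G :=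
    fun g h hg ht => isMetacyclic_iff.2
      ⟨g, h, normal_of_commutator_le (hc ▸ zpowers_le.2 hg), ht⟩
  have huv : ¬ Commute u v := fun h => by
    have := commutator_eq_bot_iff.2 (isMulCommutative_of_zpowers_sup_eq_top htop h)
    rw [hc, zpowers_eq_bot] at this
    exact hz1 this
  have hvu : v * u * v⁻¹ = u * z := (hconj u v).resolve_left fun h =>
    huv (commute_iff_conj_eq.2 h)
  -- `z` is a product of squares
  obtain ⟨a, b, hab⟩ := hb z
  have ha : Even a := by
    by_contra ho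
    have h1 : Commute (u ^ a) v := by
      have : u ^ a = z * (v ^ b)⁻¹ := by rw [hab]; group
      rw [this]
      exact (show Commute z v from (hzc v).symm).mul_left ((Commute.refl v).zpow_left b).inv_left
    obtain ⟨k, hk⟩ := mem_zpowers_zpow_of_odd hG u (Int.not_even_iff_odd.1 ho)
    exact huv (hk ▸ h1.zpow_left k)
  have hb' : Even b := by
    by_contra ho
    have h1 : Commute u (v ^ b) := by
      have : v ^ b = (u ^ a)⁻¹ * z := by rw [hab]; group
      rw [this]
      exact ((Commute.refl u).zpow_right a).inv_right.mul_right (hzc u)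
    obtain ⟨k, hk⟩ := mem_zpowers_zpow_of_odd hG v (Int.not_even_iff_odd.1 ho)
    exact huv (hk ▸ h1.zpow_right k)
  have h0 : ∃ i j : ℤ, z = (u ^ i) ^ 2 ^ (0 + 1) * (v ^ j) ^ 2 ^ (0 + 1) := by
    obtain ⟨i, rfl⟩ := ha
    obtain ⟨j, rfl⟩ := hb'
    exact ⟨i, j, by rw [hab, zpow_add, zpow_add]; simp [sq]⟩
  obtain ⟨n, hn⟩ := IsPGroup.iff_card.1 hG
  have hN : ¬ ∃ i j : ℤ, z = (u ^ i) ^ 2 ^ (n + 1) * (v ^ j) ^ 2 ^ (n + 1) := by
    rintro ⟨i, j, e⟩
    rw [pow_succ, pow_mul, pow_mul, ← hn, pow_card_eq_one', pow_card_eq_one', one_pow,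
      one_mul] at e
    exact hz1 e
  obtain ⟨m, ⟨i, j, e⟩, hm⟩ : ∃ m, (∃ i j : ℤ, z = (u ^ i) ^ 2 ^ (m + 1) * (v ^ j) ^ 2 ^ (m + 1)) ∧
      ¬ ∃ i j : ℤ, z = (u ^ i) ^ 2 ^ (m + 1 + 1) * (v ^ j) ^ 2 ^ (m + 1 + 1) := by
    by_contra hc
    push Not at hc
    have : ∀ m, ∃ i j : ℤ, z = (u ^ i) ^ 2 ^ (m + 1) * (v ^ j) ^ 2 ^ (m + 1) := fun m => by
      induction m with
      | zero => exact h0
      | succ m ih => exact hc m ih
    exact hN (this n)
  have hodd : Odd i ∨ Odd j := by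
    by_contra hc
    rw [not_or, Int.not_odd_iff_even, Int.not_odd_iff_even] at hc
    obtain ⟨⟨i, rfl⟩, ⟨j, rfl⟩⟩ := hc
    refine hm ⟨i, j, ?_⟩
    rw [e, zpow_add, zpow_add, ← sq, ← sq, ← pow_mul, ← pow_mul, pow_succ' 2 (m + 1)]
  have hgen : ∃ h, zpowers (u ^ i * v ^ j) ⊔ zpowers h = ⊤ := by
    rcases hodd with h | h
    · refine ⟨v, eq_top_iff.2 (htop ▸ sup_le (zpowers_le.2 ?_) le_sup_right)⟩
      refine zpowers_le.2 ?_ (mem_zpowers_zpow_of_odd hG u h)
      simpa using mul_mem (mem_sup_left (mem_zpowers (u ^ i * v ^ j)))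
        (mem_sup_right (T := zpowers v) (inv_mem (zpow_mem (mem_zpowers v) j)))
    · refine ⟨u, eq_top_iff.2 (htop ▸ sup_le le_sup_right (zpowers_le.2 ?_))⟩
      refine zpowers_le.2 ?_ (mem_zpowers_zpow_of_odd hG v h)
      simpa using mul_mem (mem_sup_right (T := zpowers u) (inv_mem (zpow_mem (mem_zpowers u) i)))
        (mem_sup_left (mem_zpowers (u ^ i * v ^ j)))
  obtain ⟨h, hh⟩ := hgen
  have hcomm : Commute (u ^ i) (v ^ j) → IsMetacyclic G := fun hc =>
    crit _ h ⟨(2 ^ (m + 1) : ℕ), by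
      change (u ^ i * v ^ j) ^ ((2 ^ (m + 1) : ℕ) : ℤ) = z
      rw [zpow_natCast, hc.mul_pow, e]⟩ hh
  rcases m with _ | m
  · by_cases hi : Odd i
    · by_cases hj : Odd j
      · exact Or.inr ⟨hvu, i, j, hi, hj, by simpa using e⟩
      · obtain ⟨j, rfl⟩ := Int.not_odd_iff_even.1 hj
        exact Or.inl (hcomm (by rw [zpow_add, ← sq]; exact (hsq _ _).symm))
    · obtain ⟨i, rfl⟩ := Int.not_odd_iff_even.1 hi
      exact Or.inl (hcomm (by rw [zpow_add, ← sq]; exact hsq _ _))
  · refine Or.inl (crit _ h ⟨(2 ^ (m + 1 + 1) : ℕ), ?_⟩ hh)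
    change (u ^ i * v ^ j) ^ ((2 ^ (m + 1 + 1) : ℕ) : ℤ) = z
    generalize u ^ i = A at *
    generalize v ^ j = B at *
    have h4 : (A * B) ^ 4 = A ^ 4 * B ^ 4 := by
      rcases hconj A B with h | h
      · exact (commute_iff_conj_eq.2 h).mul_pow 4
      · have h2 : (A * B) ^ 2 = z * (A ^ 2 * B ^ 2) := by
          calc (A * B) ^ 2 = A * (B * A * B⁻¹) * B * B := by rw [sq]; group
            _ = _ := by rw [h, hzc A, ← mul_assoc, hzc A, sq, sq]; group
        rw [show 4 = 2 * 2 from rfl, pow_mul, h2, (show Commute z _ from (hzc _).symm).mul_pow,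
          hz2, one_mul, (hsq _ _).mul_pow, ← pow_mul, ← pow_mul]
    have h5 : Commute (A ^ 4) (B ^ 4) := by
      rw [show A ^ 4 = (A ^ 2) ^ 2 by rw [← pow_mul]]; exact hsq _ _
    rw [zpow_natCast, e, show 2 ^ (m + 1 + 1) = 4 * 2 ^ m by ring, pow_mul, pow_mul, pow_mul, h4,
      h5.mul_pow]

/-- In a bicyclic `2`-group `⟨x⟩⟨y⟩` a maximal subgroup containing `x` is metacyclic. -/
theorem meta_of_index_two [Finite G] (hG : IsPGroup 2 G) {x y : G}
    (hb : ∀ g : G, ∃ i j : ℤ, g = x ^ i * y ^ j) {M : Subgroup G} (hM : M.index = 2)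
    (hx : x ∈ M) : IsMetacyclic M := by
  induction hn : Nat.card G using Nat.strong_induction_on generalizing G with
  | _ n ih =>
  have hMn := normal_of_index_eq_two hM
  have hy : y ∉ M := fun hy => by
    have : M = ⊤ := eq_top_iff.2 fun g _ => by
      obtain ⟨i, j, rfl⟩ := hb g
      exact mul_mem (zpow_mem hx i) (zpow_mem hy j)
    rw [this, index_top] at hM
    omega
  have hy2 : y ^ 2 ∈ M := sq_mem_of_index_two hM y
  have hbM : ∀ g : M, ∃ i j : ℤ, g = (⟨x, hx⟩ : M) ^ i * (⟨y ^ 2, hy2⟩ : M) ^ j := by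
    rintro ⟨g, hg⟩
    obtain ⟨i, j, rfl⟩ := hb g
    obtain ⟨k, rfl | rfl⟩ := Int.even_or_odd' j
    · exact ⟨i, k, Subtype.ext (by simp [zpow_mul])⟩
    · exfalso
      rw [zpow_add_one, zpow_mul, zpow_ofNat, ← mul_assoc,
        mul_mem_cancel_left (mul_mem (zpow_mem hx i) (zpow_mem hy2 k))] at hg
      exact hy hg
  by_cases hna : IsMulCommutative M
  · refine isMetacyclic_iff.2 ⟨⟨x, hx⟩, ⟨y ^ 2, hy2⟩, inferInstance, eq_top_iff.2 fun g _ => ?_⟩
    obtain ⟨i, j, rfl⟩ := hbM g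
    exact mul_mem (mem_sup_left (zpow_mem (mem_zpowers _) i))
      (mem_sup_right (zpow_mem (mem_zpowers _) j))
  have hMM : (commutator M).map M.subtype = ⁅M, M⁆ := by
    rw [commutator_def, map_commutator, ← MonoidHom.range_eq_map, range_subtype]
  obtain ⟨z, hzc, hz, hz1, hz2⟩ := exists_mem_center_of_normal hG ⁅M, M⁆ fun e =>
    hna (commutator_eq_bot_iff.1 (by
      rw [← hMM, map_eq_bot_iff_of_injective _ M.subtype_injective] at e; exact e))
  rw [← hMM] at hzc
  obtain ⟨⟨z, hzM⟩, hzc, rfl⟩ := hzc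
  change z ∈ center G at hz
  change z ≠ 1 at hz1
  change z ^ 2 = 1 at hz2
  have hZ := normal_zpowers_of_mem_center hz
  have hcZ : Nat.card (zpowers z) = 2 := by rw [Nat.card_zpowers, orderOf_eq_prime hz2 hz1]
  have hcard : Nat.card G = Nat.card (G ⧸ zpowers z) * 2 := by
    rw [card_eq_card_quotient_mul_card_subgroup (zpowers z), hcZ]
  have hq := ih _ (by have := Nat.card_pos (α := G ⧸ zpowers z); omega)
    (hG.to_quotient (zpowers z)) (x := (x : G ⧸ zpowers z)) (y := (y : G ⧸ zpowers z))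
    (by rintro ⟨g⟩; obtain ⟨i, j, rfl⟩ := hb g; exact ⟨i, j, rfl⟩)
    (M := M.map (QuotientGroup.mk' _))
    (by rw [index_map_eq _ (QuotientGroup.mk'_surjective _)
      (by rw [QuotientGroup.ker_mk']; exact zpowers_le.2 hzM), hM]) ⟨x, hx, rfl⟩ rfl
  have hz' : (⟨z, hzM⟩ : M) ∈ center M :=
    mem_center_iff.2 fun g => Subtype.ext (mem_center_iff.1 hz g)
  have hz2' : (⟨z, hzM⟩ : M) ^ 2 = 1 := Subtype.ext hz2
  have hZ' := normal_zpowers_of_mem_center hz'
  have hq' : IsMetacyclic (M ⧸ zpowers (⟨z, hzM⟩ : M)) := by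
    have hk : ((QuotientGroup.mk' (zpowers z)).subgroupMap M).ker = zpowers (⟨z, hzM⟩ : M) := by
      ext g
      rw [MonoidHom.mem_ker, Subtype.ext_iff]
      change ((g : G) : G ⧸ zpowers z) = 1 ↔ _
      rw [QuotientGroup.eq_one_iff]
      constructor
      · rintro ⟨k, hk⟩; exact ⟨k, Subtype.ext (by simpa using hk)⟩
      · rintro ⟨k, hk⟩; exact ⟨k, by simpa using congrArg Subtype.val hk⟩
    have h1 := isMetacyclic_of_injective hq _
      (QuotientGroup.kerLift_injective ((QuotientGroup.mk' (zpowers z)).subgroupMap M))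
    exact isMetacyclic_of_injective h1 (QuotientGroup.quotientMulEquivOfEq hk.symm).toMonoidHom
      (QuotientGroup.quotientMulEquivOfEq hk.symm).injective
  rcases meta_lift (hG.to_subgroup M) hz' hzc hz2' hq' with h | h
  · exact h
  rcases meta_or_odd (hG.to_subgroup M) hbM hz' (fun e => hz1 (congrArg Subtype.val e)) hz2' h with
    h' | ⟨h1, i, j, hi, hj, h2⟩
  · exact h'
  have h1 : y ^ 2 * x * (y ^ 2)⁻¹ = x * z := congrArg Subtype.val h1
  have h2 : z = (x ^ i) ^ 2 * ((y ^ 2) ^ j) ^ 2 := by simpa using congrArg Subtype.val h2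
  have hzc : ∀ a : G, Commute a z := mem_center_iff.1 hz
  have hyx : Commute y (x ^ 2) := by
    have h3 : Commute y ((x ^ 2) ^ i) := by
      have : (x ^ 2) ^ i = z * (((y ^ 2) ^ j) ^ 2)⁻¹ := by rw [h2]; group
      rw [this]
      exact (hzc y).mul_right ((((Commute.refl y).pow_right 2).zpow_right j).pow_right 2).inv_right
    obtain ⟨k, hk⟩ := mem_zpowers_zpow_of_odd hG (x ^ 2) hi
    exact hk ▸ h3.zpow_right k
  have hd : x⁻¹ * (y * x * y⁻¹) ∈ M := mul_mem (inv_mem hx) (hMn.conj_mem x hx y)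
  obtain ⟨k, l, hkl⟩ := hbM ⟨_, hd⟩
  have hkl : x⁻¹ * (y * x * y⁻¹) = x ^ k * (y ^ 2) ^ l := by simpa using congrArg Subtype.val hkl
  have hk : Even k := by
    by_contra ho
    obtain ⟨k, rfl⟩ := Int.not_even_iff_odd.1 ho
    have e : y * x * y⁻¹ = (x ^ 2) ^ (k + 1) * (y ^ 2) ^ l := by
      rw [inv_mul_eq_iff_eq_mul.1 hkl]
      group
    have h3 : Commute y (y * x * y⁻¹) := by
      rw [e]
      exact (hyx.zpow_right _).mul_right (((Commute.refl y).pow_right 2).zpow_right l)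
    have h4 : Commute y x := by
      have := h3.conj y⁻¹
      simpa [mul_assoc] using this
    rw [(h4.pow_left 2).eq, mul_inv_cancel_right, left_eq_mul] at h1
    exact hz1 h1
  obtain ⟨k, rfl⟩ := hk
  have hdy : Commute y (x ^ (k + k) * (y ^ 2) ^ l) := by
    rw [← two_mul, zpow_mul, zpow_ofNat]
    exact (hyx.zpow_right _).mul_right (((Commute.refl y).pow_right 2).zpow_right l)
  have hd2 : (x ^ (k + k) * (y ^ 2) ^ l) ^ 2 = z := by
    have e1 : y * x * y⁻¹ = x * (x ^ (k + k) * (y ^ 2) ^ l) := by rw [← hkl]; group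
    have e2 : y ^ 2 * x * (y ^ 2)⁻¹ = y * (y * x * y⁻¹) * y⁻¹ := by rw [sq]; group
    rw [e2, e1, ← conj_mul, e1, hdy.eq, mul_inv_cancel_right, mul_assoc, mul_right_inj] at h1
    rw [sq, h1]
  have hx4 : (x ^ 2) ^ 2 ∈ zpowers (y ^ 2) := by
    refine zpowers_le.2 ?_ (mem_zpowers_zpow_of_odd hG _ hi)
    have e : ((x ^ 2) ^ 2) ^ i = (z * (((y ^ 2) ^ j) ^ 2)⁻¹) ^ 2 := by rw [h2]; group
    rw [e, (hzc _).symm.mul_pow, hz2, one_mul]
    exact pow_mem (inv_mem (pow_mem (zpow_mem (mem_zpowers _) j) 2)) 2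
  have hzy : z ∈ zpowers (y ^ 2) := by
    rw [← hd2, ← two_mul, zpow_mul, zpow_ofNat,
      ((hyx.pow_left 2).zpow_zpow l k).symm.mul_pow, ← zpow_natCast ((x ^ 2) ^ k), ← zpow_mul,
      mul_comm k, zpow_mul, zpow_natCast]
    exact mul_mem (zpow_mem hx4 k) (pow_mem (zpow_mem (mem_zpowers _) l) 2)
  obtain ⟨t, ht⟩ := hzy
  refine isMetacyclic_iff.2 ⟨⟨y ^ 2, hy2⟩, ⟨x, hx⟩, normal_of_commutator_le (h ▸ zpowers_le.2
    ⟨t, Subtype.ext (by simpa using ht)⟩), eq_top_iff.2 fun g _ => ?_⟩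
  obtain ⟨i, j, rfl⟩ := hbM g
  exact mul_mem (mem_sup_right (zpow_mem (mem_zpowers _) i))
    (mem_sup_left (zpow_mem (mem_zpowers _) j))

theorem meta_of_cyclic (h : IsCyclic G) : IsMetacyclic G :=
  ⟨⊤, inferInstance, inferInstance,
    isCyclic_of_surjective _ (QuotientGroup.mk'_surjective ⊤)⟩

theorem eq_of_index_two {H K : Subgroup G} (h : H ≤ K) (hH : H.index = 2) (hK : K.index = 2) :
    H = K := by
  have := relIndex_mul_index h
  rw [hH, hK] at this
  exact le_antisymm h (relIndex_eq_one.1 (by omega))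

theorem relIndex_ne_zero [Finite G] {H K : Subgroup G} : H.relIndex K ≠ 0 :=
  index_ne_zero_of_finite

theorem relIndex_le_of_meta [Finite G] {K N H : Subgroup G} (hK : IsPGroup 2 K)
    (h : IsMetacyclic K) (hH : H ≤ K) (hp : ∀ x ∈ H, x ^ 2 ∈ N) : N.relIndex H ≤ 4 := by
  rw [← inf_relIndex_right]
  exact SR.subgroup_iff.1 (sectional_of_isMetacyclic hK h) (N ⊓ H) H inf_le_right hH
    (SR.commutator_le_of_sq fun x hx => ⟨hp x hx, pow_mem hx 2⟩)
    fun x hx => ⟨hp x hx, pow_mem hx 2⟩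

theorem meta_of_proper [Finite G] (hG : IsPGroup 2 G) (h : (frattini G).index ≤ 4)
    (hp : ∀ H : Subgroup G, H ≠ ⊤ → IsMetacyclic H) : IsMetacyclic G := by
  refine isMetacyclic_of_sectional hG (SR.of_relIndex_le fun N H _ hc hs => ?_)
  by_cases hH : H = ⊤
  · subst hH
    rw [relIndex_top_right]
    exact (Nat.le_of_dvd (Nat.pos_of_ne_zero index_ne_zero_of_finite)
      (index_dvd_of_le (frattini_le Nat.prime_two hc fun y => hs y (mem_top y)))).trans h
  · exact relIndex_le_of_meta (hG.to_subgroup H) (hp H hH) le_rfl hs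

theorem meta_of_maxTwo {m : ℕ} {a b : G} (h : MaxTwo m a b) : IsMetacyclic G :=
  isMetacyclic_iff.2 ⟨a, b, h.normal, h.sup_eq_top⟩

/-- A two-generator non-metacyclic `2`-group all of whose proper subgroups not contained in the
maximal subgroup `M` are metacyclic. -/
structure NM (M : Subgroup G) : Prop where
  pg : IsPGroup 2 G
  nm : ¬ IsMetacyclic G
  idx : (frattini G).index = 4
  idxM : M.index = 2
  mc : ∀ H : Subgroup G, H ≠ ⊤ → ¬ H ≤ M → IsMetacyclic H

theorem exists_nm [Finite G] (hG : IsPGroup 2 G) {x y : G}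
    (hb : ∀ g : G, ∃ i j : ℤ, g = x ^ i * y ^ j) (hm : ¬ IsMetacyclic G) :
    ∃ M : Subgroup G, NM M := by
  classical
  have hb' : ∀ g : G, ∃ i j : ℤ, g = y ^ i * x ^ j := fun g => by
    obtain ⟨i, j, e⟩ := hb g⁻¹
    exact ⟨-j, -i, by rw [← inv_inv g, e]; group⟩
  have hnc : ¬ IsCyclic G := fun h => hm (meta_of_cyclic h)
  have hi : (frattini G).index = 4 := by
    have h1 := index_frattini_le_of_closure_eq_top hG {x, y} (eq_top_iff.2 fun g _ => by
      obtain ⟨i, j, rfl⟩ := hb g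
      exact mul_mem (zpow_mem (subset_closure (by simp)) i) (zpow_mem (subset_closure (by simp)) j))
    have h2 := Nat.pow_le_pow_right two_pos (Finset.card_le_two (a := x) (b := y))
    have h3 := Nat.le_of_dvd (Nat.pos_of_ne_zero index_ne_zero_of_finite)
      (sq_dvd_index_frattini_of_not_isCyclic hG hnc)
    omega
  have hxy : x * y ∉ frattini G := fun h => hnc (isCyclic_of_sup_frattini (x := x)
    (eq_top_iff.2 fun g _ => by
      obtain ⟨i, j, rfl⟩ := hb g
      refine mul_mem (mem_sup_left (zpow_mem (mem_zpowers x) i)) (zpow_mem ?_ j)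
      simpa using mul_mem (mem_sup_left (inv_mem (mem_zpowers x))) (mem_sup_right h)))
  have h1 := relIndex_sup_zpowers Nat.prime_two (le_normalizer_of_normal (mem_top _)) hxy
    (pow_mem_frattini hG _)
  have h2 := relIndex_mul_index (le_sup_left : frattini G ≤ frattini G ⊔ zpowers (x * y))
  have h3 : (frattini G ⊔ zpowers (x * y)).index = 2 := by rw [h1, hi] at h2; omega
  refine ⟨_, hG, hm, hi, h3, fun H hH hle => ?_⟩
  obtain ⟨M, hHM, hM⟩ := exists_index_eq_prime_of_ne_top hG hH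
  by_cases hx : x ∈ M
  · exact isMetacyclic_of_le (meta_of_index_two hG hb hM hx) hHM
  by_cases hy : y ∈ M
  · exact isMetacyclic_of_le (meta_of_index_two hG hb' hM hy) hHM
  have h4 : frattini G ⊔ zpowers (x * y) ≤ M := sup_le (frattini_le_coatom
    (isCoatom_of_index_prime Nat.prime_two hM)) (zpowers_le.2
      ((mul_mem_iff_of_index_two hM).2 (iff_of_false hx hy)))
  exact absurd (hHM.trans (eq_of_index_two h4 h3 hM).ge) hle

theorem frattini_le_of_index_two {M : Subgroup G} (h : M.index = 2) : frattini G ≤ M :=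
  frattini_le_coatom (isCoatom_of_index_prime Nat.prime_two h)

namespace NM

variable [Finite G] {M : Subgroup G} (h : NM M)
include h

theorem fr_le : frattini G ≤ M := frattini_le_of_index_two h.idxM

theorem normal : M.Normal := normal_of_index_eq_two h.idxM

theorem not_cyclic : ¬ IsCyclic G := fun hc => h.nm (meta_of_cyclic hc)

theorem index_sup {u : G} (hu : u ∉ frattini G) : (frattini G ⊔ zpowers u).index = 2 := by
  have h1 := relIndex_sup_zpowers Nat.prime_two (le_normalizer_of_normal (mem_top _)) hu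
    (pow_mem_frattini h.pg _)
  have h2 := relIndex_mul_index (le_sup_left : frattini G ≤ frattini G ⊔ zpowers u)
  rw [h1, h.idx] at h2
  omega

theorem eq_sup {K : Subgroup G} (hK : K.index = 2) {u : G} (huK : u ∈ K) (hu : u ∉ frattini G) :
    frattini G ⊔ zpowers u = K :=
  eq_of_index_two (sup_le (frattini_le_of_index_two hK) (zpowers_le.2 huK)) (h.index_sup hu) hK

theorem top_of {K : Subgroup G} (hK : K.index = 2) {u g : G} (huK : u ∈ K) (hu : u ∉ frattini G)
    (hg : g ∉ K) : zpowers u ⊔ zpowers g = ⊤ :=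
  frattini_nongenerating (by
    rw [sup_comm, ← sup_assoc, h.eq_sup hK huK hu]
    exact sup_zpowers_eq_top_of_index_prime Nat.prime_two hK hg)

theorem mul_mem_fr {K : Subgroup G} (hK : K.index = 2) {u v : G} (huK : u ∈ K)
    (hu : u ∉ frattini G) (hvK : v ∈ K) (hv : v ∉ frattini G) : u⁻¹ * v ∈ frattini G := by
  have h2 := relIndex_mul_index (frattini_le_of_index_two hK)
  rw [hK, h.idx] at h2
  have h3 : ((frattini G).subgroupOf K).index = 2 := by
    change (frattini G).relIndex K = 2; omega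
  exact (mul_mem_iff_of_index_two h3 (a := ⟨u⁻¹, inv_mem huK⟩) (b := ⟨v, hvK⟩)).2
    (iff_of_false (fun e => hu (inv_mem_iff.1 e)) hv)

theorem exists_notMem : ∃ a, a ∉ M := by
  obtain ⟨a, -, ha⟩ := SetLike.exists_of_lt (isCoatom_of_index_prime Nat.prime_two h.idxM).lt_top
  exact ⟨a, ha⟩

theorem meta_sup {a : G} (ha : a ∉ M) : IsMetacyclic (frattini G ⊔ zpowers a : Subgroup G) :=
  h.mc _ (fun e => by
    have := h.index_sup fun e => ha (h.fr_le e)
    rw [e, index_top] at this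
    omega) fun e => ha (e (mem_sup_right (mem_zpowers a)))

theorem meta_fr : IsMetacyclic (frattini G) := by
  obtain ⟨a, ha⟩ := h.exists_notMem
  exact isMetacyclic_of_le (h.meta_sup ha) le_sup_left

theorem not_meta : ¬ IsMetacyclic M := fun hM =>
  h.nm (meta_of_proper h.pg h.idx.le fun H hH => by
    by_cases hle : H ≤ M
    · exact isMetacyclic_of_le hM hle
    · exact h.mc H hH hle)

theorem characteristic : M.Characteristic := by
  refine characteristic_iff_map_le.2 fun φ => ?_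
  by_contra hle
  refine h.not_meta (isMetacyclic_of_injective (h.mc _ (fun e => ?_) hle)
    (φ.subgroupMap M).toMonoidHom (φ.subgroupMap M).injective)
  have := h.idxM
  rw [← index_map_equiv M φ] at this
  rw [show M.map (φ : G →* G) = ⊤ from e, index_top] at this
  omega

theorem relIndex_le_eight {N H : Subgroup G} (hp : ∀ x ∈ H, x ^ 2 ∈ N) : N.relIndex H ≤ 8 := by
  by_cases hH : H = ⊤
  · subst hH
    rw [relIndex_top_right]
    have := Nat.le_of_dvd (Nat.pos_of_ne_zero index_ne_zero_of_finite)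
      (index_dvd_of_le (frattini_le Nat.prime_two (commutator_le_of_sq_mem fun y => hp y (mem_top y))
        fun y => hp y (mem_top y)))
    have := h.idx
    omega
  by_cases hle : H ≤ M
  · have h1 := relIndex_le_of_meta (h.pg.to_subgroup _) h.meta_fr
      (inf_le_left : frattini G ⊓ H ≤ _) (N := N) fun x hx => hp x hx.2
    have h2 : (frattini G).relIndex H ≤ 2 := by
      have h3 := relIndex_mul_index h.fr_le
      rw [h.idxM, h.idx] at h3
      have := relIndex_le_of_le_right (H := frattini G) hle relIndex_ne_zero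
      omega
    have h4 := relIndex_inf_mul_relIndex N (frattini G) H
    have h5 := relIndex_le_of_le_left (inf_le_left : N ⊓ frattini G ≤ N)
      (relIndex_ne_zero (K := H))
    nlinarith
  · have := relIndex_le_of_meta (h.pg.to_subgroup _) (h.mc H hH hle) le_rfl hp
    omega

end NM

end Cfsg.Agent.FG.BC
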