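import Mathlib
import Cfsg.Agent.FG.Bicyclic
import Cfsg.Agent.Fus.Meta
import Cfsg.Agent.Fus.SL2Act

/-!
# Bicyclic `2`-groups with non-cyclic derived group
-/

set_option linter.unusedSectionVars false

open scoped Pointwise commutatorElement

namespace Cfsg.Agent.FG.BC

open Subgroup GT.PG FG.TM Fus

universe u

variable {G : Type u} [Group G]

theorem commute_of_normal_zpowers {w x : G} [hn : (zpowers w).Normal] (hx : x ∈ commutator G) :
    Commute w x := by
  have : commutator G ≤ centralizer {w} := by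
    refine commutator_le.2 fun a _ b _ => mem_centralizer_singleton_iff.2 ?_
    obtain ⟨i, hi⟩ := hn.conj_mem w (mem_zpowers w) a⁻¹
    obtain ⟨j, hj⟩ := hn.conj_mem w (mem_zpowers w) b⁻¹
    have h1 := mul_conj_eq hi.symm hj.symm
    have h2 := mul_conj_eq hj.symm hi.symm
    rw [mul_comm j, ← h1] at h2
    calc ⁅a, b⁆ * w = a * b * (a⁻¹ * b⁻¹ * w * (a⁻¹ * b⁻¹)⁻¹) * (a⁻¹ * b⁻¹) := by
          rw [commutatorElement_def]; group
      _ = w * ⁅a, b⁆ := by rw [← h2, commutatorElement_def]; group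
  exact (mem_centralizer_singleton_iff.1 (this hx)).symm

theorem exists_der_eq_zpowers [Finite G] {K : Subgroup G} (h : IsMetacyclic K) :
    ∃ w, ⁅K, K⁆ = zpowers w := by
  obtain ⟨a, b, hn, hab⟩ := isMetacyclic_iff.1 h
  refine ⟨((⁅b, a⁆ : K) : G), ?_⟩
  have := congrArg (Subgroup.map K.subtype) (commutator_eq_zpowers hab).2
  rwa [commutator_def, map_commutator, ← MonoidHom.range_eq_map, range_subtype,
    MonoidHom.map_zpowers] at this

theorem conj_conj_comm {a b x : G} (h : ∀ y ∈ commutator G, ∀ z ∈ commutator G, Commute y z)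
    (hx : x ∈ commutator G) : a * (b * x * b⁻¹) * a⁻¹ = b * (a * x * a⁻¹) * b⁻¹ := by
  have h1 := h ⁅b⁻¹, a⁻¹⁆ (commutator_mem_commutator (mem_top _) (mem_top _)) x hx
  calc a * (b * x * b⁻¹) * a⁻¹ = b * a * (⁅b⁻¹, a⁻¹⁆⁻¹ * (x * ⁅b⁻¹, a⁻¹⁆)) * a⁻¹ * b⁻¹ := by
        rw [commutatorElement_def]; group
    _ = _ := by rw [← h1.eq]; group

/-- The four-group of involutions of `Φ(G)`. -/
structure Four (V : Subgroup G) : Prop where
  normal : V.Normal
  card : Nat.card V = 4
  sq : ∀ v ∈ V, v ^ 2 = 1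
  le : V ≤ commutator G
  cen : ∀ v ∈ V, ∀ f ∈ frattini G, Commute v f
  mem : ∀ f ∈ frattini G, f ^ 2 = 1 → f ∈ V
  ex : ∃ z ∈ V, z ∈ center G ∧ z ≠ 1 ∧ ∀ v ∈ V, v = 1 ∨ v = z ∨
    ∀ w ∈ V, w = 1 ∨ w = z ∨ w = v ∨ w = v * z

namespace NM

variable [Finite G] {M : Subgroup G} (h : NM M)
include h

theorem der_comm : ∀ y ∈ commutator G, ∀ z ∈ commutator G, Commute y z := by
  obtain ⟨a, ha⟩ := h.exists_notMem
  obtain ⟨u, huM, hu⟩ : ∃ u ∈ M, u ∉ frattini G := by
    by_contra hc
    push Not at hc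
    have := h.idxM
    rw [← le_antisymm h.fr_le hc, h.idx] at this
    omega
  have hau : a * u ∉ M := fun e => ha ((mul_mem_cancel_right huM).1 e)
  have htop : zpowers a ⊔ zpowers (a * u) = ⊤ := by
    refine eq_top_iff.2 (h.top_of h.idxM huM hu ha ▸ sup_le (zpowers_le.2 ?_) le_sup_left)
    simpa using mul_mem (mem_sup_left (inv_mem (mem_zpowers a)))
      (mem_sup_right (mem_zpowers (a * u)))
  obtain ⟨w₁, h1⟩ := exists_der_eq_zpowers (h.meta_sup ha)
  obtain ⟨w₂, h2⟩ := exists_der_eq_zpowers (h.meta_sup hau)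
  have n1 := normal_of_frattini_le h.pg (le_sup_left : frattini G ≤ frattini G ⊔ zpowers a)
  have n2 := normal_of_frattini_le h.pg (le_sup_left : frattini G ≤ frattini G ⊔ zpowers (a * u))
  have m1 : (zpowers w₁).Normal := h1 ▸ inferInstance
  have m2 : (zpowers w₂).Normal := h2 ▸ inferInstance
  set N := zpowers w₁ ⊔ zpowers w₂ with hN
  have hNc : N ≤ centralizer (commutator G : Set G) := sup_le
    (zpowers_le.2 fun x hx => (commute_of_normal_zpowers hx).eq.symm)
    (zpowers_le.2 fun x hx => (commute_of_normal_zpowers hx).eq.symm)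
  have hNX : N ≤ commutator G := sup_le (h1 ▸ commutator_mono le_top le_top)
    (h2 ▸ commutator_mono le_top le_top)
  have hv : ⁅a * u, a⁆ ∈ commutator G := commutator_mem_commutator (mem_top _) (mem_top _)
  have hvF := commutator_le_frattini h.pg hv
  have hvN : ∀ g, ⁅g, ⁅a * u, a⁆⁆ ∈ N := fun g => by
    have : (⊤ : Subgroup G) ≤ (centralizer {((⁅a * u, a⁆ : G) : G ⧸ N)}).comap
        (QuotientGroup.mk' N) := by
      have key : ∀ g, ⁅g, ⁅a * u, a⁆⁆ ∈ N → g ∈ (centralizer {((⁅a * u, a⁆ : G) : G ⧸ N)}).comap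
          (QuotientGroup.mk' N) := fun g hg => by
        rw [mem_comap, mem_centralizer_singleton_iff, ← QuotientGroup.mk'_apply,
          ← commutatorElement_eq_one_iff_mul_comm, ← map_commutatorElement]
        exact (QuotientGroup.eq_one_iff _).2 hg
      refine htop ▸ sup_le (zpowers_le.2 (key _ (mem_sup_left ?_)))
        (zpowers_le.2 (key _ (mem_sup_right ?_)))
      · exact h1 ▸ commutator_mem_commutator (mem_sup_right (mem_zpowers _)) (mem_sup_left hvF)
      · exact h2 ▸ commutator_mem_commutator (mem_sup_right (mem_zpowers _)) (mem_sup_left hvF)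
    have := this (mem_top g)
    rw [mem_comap, mem_centralizer_singleton_iff, ← QuotientGroup.mk'_apply,
      ← commutatorElement_eq_one_iff_mul_comm, ← map_commutatorElement] at this
    exact (QuotientGroup.eq_one_iff _).1 this
  have hn : (N ⊔ zpowers ⁅a * u, a⁆).Normal := by
    refine normalizer_eq_top_iff.1 (eq_top_iff.2 (le_normalizer_of_forall_map_le fun g _ => ?_))
    rw [Subgroup.map_sup, MonoidHom.map_zpowers]
    refine sup_le (le_sup_of_le_left ?_) (zpowers_le.2 ?_)
    · rintro _ ⟨x, hx, rfl⟩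
      exact (inferInstance : N.Normal).conj_mem x hx g
    · have := mul_mem (mem_sup_left (T := zpowers ⁅a * u, a⁆) (hvN g))
        (mem_sup_right (mem_zpowers ⁅a * u, a⁆))
      rwa [commutatorElement_def g, inv_mul_cancel_right] at this
  have hle := commutator_le_of_two_generators htop _ (mem_sup_right (S := N) (mem_zpowers _))
  intro y hy z hz
  obtain ⟨n, hn, _, ⟨i, rfl⟩, rfl⟩ := mem_sup_of_normal_left.1 (hle hy)
  refine Commute.mul_left (hNc hn z hz).symm (Commute.zpow_left ?_ i)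
  obtain ⟨n, hn, _, ⟨i, rfl⟩, rfl⟩ := mem_sup_of_normal_left.1 (hle hz)
  exact Commute.mul_right (hNc hn _ hv) ((Commute.refl _).zpow_right i)

theorem der_isMulCommutative : IsMulCommutative (commutator G) :=
  ⟨⟨fun a b => Subtype.ext (h.der_comm a a.2 b b.2)⟩⟩

theorem card_le_four {A : Subgroup G} (hA : A ≤ frattini G) (h2 : ∀ x ∈ A, x ^ 2 = 1) :
    Nat.card A ≤ 4 := by
  have := relIndex_le_of_meta (h.pg.to_subgroup _) h.meta_fr hA (N := ⊥) h2
  rwa [relIndex_bot_left] at this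

theorem exists_four (hc : ¬ IsCyclic (commutator G)) : ∃ V : Subgroup G, Four V := by
  have hX := h.der_isMulCommutative
  have hF := commutator_le_frattini h.pg
  have hV : ∀ {v}, v ∈ omegaOne 2 (commutator G) ↔ v ∈ commutator G ∧ v ^ 2 = 1 :=
    mem_omegaOne_iff hX
  have hcard : Nat.card (omegaOne 2 (commutator G)) = 4 := le_antisymm
    (h.card_le_four (fun v hv => hF (hV.1 hv).1) fun v hv => (hV.1 hv).2)
    (sq_le_card_omegaOne_of_not_isCyclic (h.pg.to_subgroup _) hX hc)
  generalize omegaOne_normal (p := 2) (commutator G) = hn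
  generalize omegaOne 2 (commutator G) = V at *
  obtain ⟨z, hzV, hz, hz1, hz2⟩ := exists_mem_center_of_normal h.pg V fun e => by
    rw [e, card_bot] at hcard; omega
  have hZ := normal_zpowers_of_mem_center hz
  have hcZ : Nat.card (zpowers z) = 2 := by rw [Nat.card_zpowers, orderOf_eq_prime hz2 hz1]
  have hi : (zpowers z).relIndex V = 2 := by
    have := relIndex_mul_card (zpowers_le.2 hzV)
    rw [hcZ, hcard] at this
    omega
  have hcm := (commutator_le_of_relIndex_prime (h.pg.to_subgroup V) (h.pg.to_subgroup ⊤)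
    (le_normalizer_of_normal) (le_normalizer_of_normal) (zpowers_le.2 hzV) hi).1
  have hcen : ∀ v ∈ V, ∀ f ∈ frattini G, Commute v f := fun v hv f hf => by
    have : frattini G ≤ centralizer {v} := by
      rw [frattini_eq_powerClosure_two h.pg, powerClosure_one_le_iff]
      intro g _
      rw [mem_centralizer_singleton_iff]
      rcases eq_one_or_eq_of_mem_zpowers hz2 (hcm (commutator_mem_commutator hv (mem_top g))) with
        e | e
      · exact ((commutatorElement_eq_one_iff_commute.1 e).pow_right 2).eq.symm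
      · have e1 : v * g * v⁻¹ = z * g := by rw [← e, commutatorElement_def]; group
        have e2 : v * g ^ 2 * v⁻¹ = g ^ 2 := by
          rw [← conj_pow, e1, (commute_of_mem_center hz g).symm.mul_pow, hz2, one_mul]
        rw [← e2, inv_mul_cancel_right, e2]
    exact (mem_centralizer_singleton_iff.1 (this hf)).symm
  refine ⟨V, hn, hcard, fun v hv => (hV.1 hv).2, fun v hv => (hV.1 hv).1, hcen, fun f hf hf2 => ?_,
    z, hzV, hz, hz1, fun v hv => ?_⟩
  · have := h.card_le_four (A := V ⊔ zpowers f) (sup_le (fun v hv => hF (hV.1 hv).1)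
      (zpowers_le.2 hf)) fun x hx => by
        obtain ⟨v, hv, _, ⟨i, rfl⟩, rfl⟩ := mem_sup_of_normal_left.1 hx
        change (v * f ^ i) ^ 2 = 1
        rw [((hcen v hv f hf).zpow_right i).mul_pow, (hV.1 hv).2, ← zpow_natCast (f ^ i),
          ← zpow_mul, mul_comm i, zpow_mul, zpow_natCast, hf2, one_zpow, one_mul]
    rw [eq_of_le_of_card_le (le_sup_left : V ≤ V ⊔ zpowers f) (by omega)]
    exact mem_sup_right (mem_zpowers f)
  · by_cases hvz : v ∈ zpowers z
    · rcases eq_one_or_eq_of_mem_zpowers hz2 hvz with e | e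
      · exact Or.inl e
      · exact Or.inr (Or.inl e)
    refine Or.inr (Or.inr fun w hw => ?_)
    by_cases hwz : w ∈ zpowers z
    · rcases eq_one_or_eq_of_mem_zpowers hz2 hwz with e | e
      · exact Or.inl e
      · exact Or.inr (Or.inl e)
    have := (mul_mem_iff_of_index_two hi (a := ⟨v⁻¹, inv_mem hv⟩) (b := ⟨w, hw⟩)).2
      (iff_of_false (fun e => hvz (inv_mem_iff.1 e)) hwz)
    rcases eq_one_or_eq_of_mem_zpowers hz2 this with e | e
    · exact Or.inr (Or.inr (Or.inl (inv_mul_eq_one.1 e).symm))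
    · exact Or.inr (Or.inr (Or.inr (inv_mul_eq_iff_eq_mul.1 e)))

/-- An element of `M ∖ Φ(G)` with central square inverts the derived group. -/
theorem inverts {u : G} (huM : u ∈ M) (hu : u ∉ frattini G) (h2 : u ^ 2 ∈ center G) :
    ∀ x ∈ commutator G, u * x * u⁻¹ = x⁻¹ := by
  obtain ⟨a, ha⟩ := h.exists_notMem
  have hc := h.der_comm
  let I : Subgroup G :=
    { carrier := {x | x ∈ commutator G ∧ u * x * u⁻¹ = x⁻¹}
      one_mem' := ⟨one_mem _, by simp⟩
      mul_mem' := fun {x y} hx hy => ⟨mul_mem hx.1 hy.1, by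
        rw [← conj_mul, hx.2, hy.2, (hc x hx.1 y hy.1).eq, mul_inv_rev]⟩
      inv_mem' := fun {x} hx => ⟨inv_mem hx.1, by rw [← conj_inv, hx.2]⟩ }
  have hn : I.Normal := ⟨fun x hx g => ⟨(inferInstance : (commutator G).Normal).conj_mem x hx.1 g,
    by rw [conj_conj_comm hc hx.1, hx.2, conj_inv]⟩⟩
  have hle := commutator_le_of_two_generators ((sup_comm _ _).trans (h.top_of h.idxM huM hu ha) :
    zpowers a ⊔ zpowers u = ⊤) I ⟨commutator_mem_commutator (mem_top _) (mem_top _), by
      calc u * ⁅u, a⁆ * u⁻¹ = u ^ 2 * a * u⁻¹ * a⁻¹ * u⁻¹ := by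
            rw [commutatorElement_def, sq]; group
        _ = _ := by rw [← mem_center_iff.1 h2 a, commutatorElement_def, sq]; group⟩
  exact fun x hx => (hle hx).2

/-- If the derived group `X` is not cyclic and inverted by `u ∈ M ∖ Φ(G)`, the class of `u` is
`u X`. -/
theorem exists_conj_eq (hc : ¬ IsCyclic (commutator G)) {u : G} (huM : u ∈ M)
    (hu : u ∉ frattini G) (hi : ∀ x ∈ commutator G, u * x * u⁻¹ = x⁻¹) {x : G}
    (hx : x ∈ commutator G) : ∃ g, g * u * g⁻¹ = u * x := by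
  obtain ⟨a, ha⟩ := h.exists_notMem
  have hcm := h.der_comm
  have hX := h.der_isMulCommutative
  have hXn : (commutator G).Normal := inferInstance
  have htop := h.top_of h.idxM huM hu ha
  set X := commutator G with hXd
  have hv : u⁻¹ * (a * u * a⁻¹) ∈ X := by
    have : ⁅u⁻¹, a⁆ ∈ X := commutator_mem_commutator (mem_top u⁻¹) (mem_top a)
    simpa [commutatorElement_def, mul_assoc] using this
  set v := u⁻¹ * (a * u * a⁻¹) with hvd
  have s1 : ∀ x ∈ X, ∀ y ∈ X, (∃ g, g * u * g⁻¹ = u * x) → ∃ g, g * u * g⁻¹ = u * (x * y ^ 2) := by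
    rintro x hx y hy ⟨g, e⟩
    refine ⟨y⁻¹ * g, ?_⟩
    have e1 : y⁻¹ * u = u * y := by rw [← hi y hy]; group
    calc y⁻¹ * g * u * (y⁻¹ * g)⁻¹ = y⁻¹ * (g * u * g⁻¹) * y := by group
      _ = _ := by rw [e, ← mul_assoc, e1, mul_assoc u, (hcm y hy x hx).eq, sq]; group
  have s2 : ∀ x, (∃ g, g * u * g⁻¹ = u * x) → ∃ g, g * u * g⁻¹ = u * (v * (a * x * a⁻¹)) := by
    rintro x ⟨g, e⟩
    refine ⟨a * g, ?_⟩
    calc a * g * u * (a * g)⁻¹ = a * (g * u * g⁻¹) * a⁻¹ := by group
      _ = _ := by rw [e, hvd]; group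
  obtain ⟨C, _, π, hπ⟩ := exists_isSec (powerClosure_le (p := 2) 1 X)
    (le_normalizer_of_normal)
  have hmem : ∀ {y}, y ∈ powerClosure 2 1 X ↔ ∃ w ∈ X, w ^ 2 = y := by
    intro y; rw [mem_powerClosure_iff hX]; simp
  have s3 : ∀ x ∈ X, ∀ y ∈ X, π x = π y → (∃ g, g * u * g⁻¹ = u * x) →
      ∃ g, g * u * g⁻¹ = u * y := fun x hx y hy e hg => by
    obtain ⟨w, hw, e⟩ := hmem.1 ((hπ.eq_iff hx hy).1 e)
    have := s1 x hx w hw hg
    rwa [e, mul_inv_cancel_left] at this
  have hC : Nat.card C = 4 := by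
    rw [hπ.card_eq]
    refine le_antisymm (relIndex_le_of_meta (h.pg.to_subgroup _) h.meta_fr
      (commutator_le_frattini h.pg) fun x hx => pow_mem_powerClosure_one hx) ?_
    have h1 := Nat.le_of_dvd (Nat.pos_of_ne_zero index_ne_zero_of_finite)
      (sq_dvd_index_frattini_of_not_isCyclic (h.pg.to_subgroup X) hc)
    rw [← relIndex_map_subtype_top, map_frattini_eq (h.pg.to_subgroup X), sup_eq_right.2] at h1
    · exact h1
    · exact commutator_le.2 fun x hx y hy => by
        rw [commutatorElement_eq_one_iff_commute.2 (hcm x hx y hy)]; exact one_mem _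
  have := hπ.finite
  have : Nontrivial C := Finite.one_lt_card_iff_nontrivial.1 (by omega)
  have hK : IsKleinFour C := ⟨hC, (Monoid.exponent_eq_prime_iff Nat.prime_two).2 fun c hc =>
      orderOf_eq_prime (hπ.pow_eq_one (fun x hx => pow_mem_powerClosure_one hx) c) hc⟩
  have ca : ∀ {x}, x ∈ X → a * x * a⁻¹ ∈ X := fun hx => hXn.conj_mem _ hx a
  have hne : π (a * v * a⁻¹) ≠ π v := fun e => by
    have hn : (powerClosure 2 1 X ⊔ zpowers v).Normal := by
      refine normalizer_eq_top_iff.1 (eq_top_iff.2 (htop ▸ sup_le (zpowers_le.2 ?_)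
        (zpowers_le.2 ?_)))
      · exact mem_normalizer_sup (le_normalizer_of_normal (mem_top u))
          (mem_normalizer_zpowers (by rw [hi v hv]; exact inv_mem (mem_zpowers v)))
      · refine mem_normalizer_fintype fun y hy => ?_
        obtain ⟨n, hn, _, ⟨i, rfl⟩, rfl⟩ := mem_sup_of_normal_left.1 hy
        change a * (n * v ^ i) * a⁻¹ ∈ _
        rw [← conj_mul, ← conj_zpow]
        refine mul_mem (mem_sup_left ((inferInstance : (powerClosure 2 1 X).Normal).conj_mem n hn a))
          (zpow_mem ?_ i)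
        simpa using mul_mem (mem_sup_right (mem_zpowers v))
          (mem_sup_left ((hπ.eq_iff hv (ca hv)).1 e.symm))
    have hle := commutator_le_of_two_generators htop (powerClosure 2 1 X ⊔ zpowers v) (by
      have := hn.conj_mem _ (mem_sup_right (mem_zpowers v)) u
      simpa [hvd, commutatorElement_def, mul_assoc] using this)
    have := hπ.isCyclic hv hle
    exact IsKleinFour.not_isCyclic this
  have cΦ : ∀ g : G, ∀ {x y}, x ∈ X → y ∈ X → π x = π y → π (g * x * g⁻¹) = π (g * y * g⁻¹) := by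
    intro g x y hx hy e
    rw [hπ.eq_iff (hXn.conj_mem _ hx g) (hXn.conj_mem _ hy g)]
    simpa [mul_assoc] using (inferInstance : (powerClosure 2 1 X).Normal).conj_mem _
      ((hπ.eq_iff hx hy).1 e) g
  have hv1 : π v ≠ 1 := fun e => hne (by
    rw [cΦ a hv (one_mem _) (e.trans hπ.map_one.symm), e]; simpa using hπ.map_one)
  have hw1 : π (a * v * a⁻¹) ≠ 1 := fun e => hv1 (by
    simpa [mul_assoc, hπ.map_one] using cΦ a⁻¹ (ca hv) (one_mem _) (e.trans hπ.map_one.symm))
  have h2 : π (a * (a * v * a⁻¹) * a⁻¹) = π v := by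
    by_contra e
    let K : Subgroup G :=
      { carrier := {g | π (g * v * g⁻¹) = π v}
        one_mem' := by simp
        mul_mem' := fun {g k} hg hk => by
          have := cΦ g (hXn.conj_mem _ hv k) hv hk
          rw [show π (g * v * g⁻¹) = π v from hg] at this
          simpa [mul_assoc] using this
        inv_mem' := fun {g} hg => by
          simpa [mul_assoc] using (cΦ g⁻¹ (hXn.conj_mem _ hv g) hv hg).symm }
    have e1 : π (a * (a * v * a⁻¹) * a⁻¹) ≠ 1 := fun e => hw1 (by
      simpa [mul_assoc, hπ.map_one] using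
        cΦ a⁻¹ (ca (ca hv)) (one_mem _) (e.trans hπ.map_one.symm))
    have e2 : π (a * (a * v * a⁻¹) * a⁻¹) ≠ π (a * v * a⁻¹) := fun e => hne (by
      simpa [mul_assoc] using cΦ a⁻¹ (ca (ca hv)) (ca hv) e)
    have e3 := IsKleinFour.eq_mul_of_ne_all hv1 hw1 hne.symm e1 e e2
    have e4 := cΦ a (ca (ca hv)) (mul_mem hv (ca hv)) (e3.trans (hπ.map_mul hv (ca hv)).symm)
    rw [← @conj_mul _ _ v a, hπ.map_mul (ca hv) (ca (ca hv)), e3,
      IsKleinFour.isMulCommutative.is_comm.comm (π v), ← mul_assoc (π _),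
      IsKleinFour.mul_self, one_mul] at e4
    have e5 : a ^ (3 : ℤ) ∈ K := by
      change π _ = π v
      rw [← e4, show (3 : ℤ) = 1 + 1 + 1 from rfl, zpow_add, zpow_add, zpow_one]
      congr 1; group
    exact hne (zpowers_le.2 e5 (mem_zpowers_zpow_of_odd h.pg a (by decide)))
  have g0 : ∃ g, g * u * g⁻¹ = u * 1 := ⟨1, by simp⟩
  have g1 := s2 _ g0
  have g2 := s2 _ g1
  have g3 := s2 _ g2
  simp only [mul_one, mul_inv_cancel] at g1 g2 g3
  by_cases e0 : π x = 1
  · exact s3 1 (one_mem _) x hx (hπ.map_one.trans e0.symm) g0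
  by_cases e1 : π x = π v
  · exact s3 v hv x hx e1.symm g1
  by_cases e2 : π x = π (a * v * a⁻¹)
  · refine s3 _ (mul_mem hv (ca (mul_mem hv (ca hv)))) x hx ?_ g3
    rw [e2, ← @conj_mul _ _ v a, hπ.map_mul hv (mul_mem (ca hv) (ca (ca hv))),
      hπ.map_mul (ca hv) (ca (ca hv)), h2, IsKleinFour.isMulCommutative.is_comm.comm (π v),
      mul_assoc, IsKleinFour.mul_self, mul_one]
  · refine s3 _ (mul_mem hv (ca hv)) x hx ?_ g2
    rw [hπ.map_mul hv (ca hv)]
    exact (IsKleinFour.eq_mul_of_ne_all hv1 hw1 hne.symm e0 e1 e2).symm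

end NM

end Cfsg.Agent.FG.BC
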