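import Mathlib
import Cfsg.Agent.Loc.MssSyl
import Cfsg.Agent.FG.ClassCount
import Cfsg.Agent.S0205
import Cfsg.Agent.S4039

/-! Chains of subgroups: `Ch n A B` says that there is a chain of length `n` between `A` and `B`. -/

set_option autoImplicit false
open Cfsg Subgroup

namespace Cfsg.Agent.FG.H93

open Cfsg.Agent.GT Cfsg.Agent.Loc.Mss

/-- a chain `A ≤ c₀ < c₁ < ⋯ < cₙ ≤ B` -/
inductive Ch {G : Type*} [Group G] : ℕ → Subgroup G → Subgroup G → Prop
  | zero {A B : Subgroup G} : A ≤ B → Ch 0 A B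
  | succ {n : ℕ} {A K B : Subgroup G} : Ch n A K → K < B → Ch (n + 1) A B

variable {G : Type*} [Group G] {G' : Type*} [Group G']

namespace Ch

theorem le {n : ℕ} {A B : Subgroup G} (h : Ch n A B) : A ≤ B := by
  induction h with
  | zero h => exact h
  | succ _ h ih => exact ih.trans h.le

theorem mono_right {n : ℕ} {A B B' : Subgroup G} (h : Ch n A B) (h' : B ≤ B') : Ch n A B' := by
  cases h with
  | zero h => exact zero (h.trans h')
  | succ h1 h2 => exact succ h1 (h2.trans_le h')

theorem mono_left {n : ℕ} {A A' B : Subgroup G} (h : Ch n A B) (h' : A' ≤ A) : Ch n A' B := by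
  induction h with
  | zero h => exact zero (h'.trans h)
  | succ _ h ih => exact succ (ih h') h

theorem trans {m n : ℕ} {A B C : Subgroup G} (h : Ch m A B) (h' : Ch n B C) : Ch (m + n) A C := by
  induction h' with
  | zero h' => exact h.mono_right h'
  | succ _ h2 ih => exact succ (ih h) h2

theorem pred {n : ℕ} {A B : Subgroup G} (h : Ch (n + 1) A B) : Ch n A B := by
  cases h with
  | succ h1 h2 => exact h1.mono_right h2.le

theorem of_le {m n : ℕ} {A B : Subgroup G} (h : Ch m A B) (hn : n ≤ m) : Ch n A B := by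
  induction hn with
  | refl => exact h
  | step _ ih => exact ih h.pred

theorem one {A B : Subgroup G} (h : A < B) : Ch 1 A B := succ (zero le_rfl) h

theorem map {n : ℕ} {A B : Subgroup G} (h : Ch n A B) (f : G →* G') (hf : Function.Injective f) :
    Ch n (A.map f) (B.map f) := by
  induction h with
  | zero h => exact zero (map_mono h)
  | succ _ h ih => exact succ ih (lt_of_le_of_ne (map_mono h.le)
      fun e => h.ne (map_injective hf e))

theorem comap {n : ℕ} {A B : Subgroup G'} (h : Ch n A B) (f : G →* G')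
    (hf : Function.Surjective f) : Ch n (A.comap f) (B.comap f) := by
  induction h with
  | zero h => exact zero (comap_mono h)
  | succ _ h ih => exact succ ih (lt_of_le_of_ne (comap_mono h.le)
      fun e => h.ne (comap_injective hf e))

theorem exists_strictAnti {n : ℕ} {A B : Subgroup G} (h : Ch n A B) :
    ∃ c : Fin (n + 1) → Subgroup G, StrictAnti c ∧ c 0 ≤ B := by
  induction h with
  | @zero A B h => exact ⟨fun _ => B, fun a b hab => absurd hab (by omega), le_rfl⟩
  | @succ n A K B _ h ih =>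
    obtain ⟨c, h1, h2⟩ := ih
    refine ⟨Fin.cons B c, ?_, by simp⟩
    rw [Fin.strictAnti_iff_succ_lt]
    intro i
    refine Fin.cases ?_ (fun j => ?_) i
    · simpa using h2.trans_lt h
    · simpa [← Fin.succ_castSucc] using h1 (Fin.castSucc_lt_succ (i := j))

/-- chains in a subgroup -/
theorem subtype {n : ℕ} {K : Subgroup G} {A B : Subgroup K} (h : Ch n A B) :
    Ch n (A.map K.subtype) (B.map K.subtype) := h.map _ K.subtype_injective

theorem of_sub {n : ℕ} {K : Subgroup G} (h : Ch n (⊥ : Subgroup K) ⊤) : Ch n ⊥ K := by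
  have := h.subtype
  rwa [Subgroup.map_bot, map_subtype_top] at this

theorem of_equiv {n : ℕ} (e : G ≃* G') (h : Ch n (⊥ : Subgroup G') ⊤) :
    Ch n (⊥ : Subgroup G) ⊤ :=
  ((h.comap (e : G →* G') e.surjective).mono_left bot_le).mono_right le_top

/-- chains in a section -/
theorem of_quot {n : ℕ} {K M : Subgroup G} [(M.subgroupOf K).Normal] (hM : M ≤ K)
    (h : Ch n (⊥ : Subgroup (K ⧸ M.subgroupOf K)) ⊤) : Ch n M K := by
  have := (h.comap _ (QuotientGroup.mk'_surjective _)).subtype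
  rwa [MonoidHom.comap_bot, QuotientGroup.ker_mk', comap_top, map_subtype_top,
    subgroupOf_map_subtype, inf_eq_left.mpr hM] at this

theorem sup {n : ℕ} {X Y A : Subgroup G} (h : Ch n X Y) (hY : Y ≤ 𝐍[A]) (h0 : A ⊓ Y = ⊥) :
    Ch n (A ⊔ X) (A ⊔ Y) := by
  induction h with
  | zero h => exact zero (sup_le_sup_left h _)
  | @succ n X K B _ h ih =>
    refine succ (ih (h.le.trans hY) (le_bot_iff.mp (h0 ▸ inf_le_inf_left _ h.le)))
      (lt_of_le_of_ne (sup_le_sup_left h.le _) fun e => h.ne ?_)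
    have h1 := dedekind' (N := A) (h.le.trans hY) h.le
    rw [e, h0, bot_sup_eq, inf_eq_right.mpr le_sup_right] at h1
    exact h1.symm

end Ch

theorem not_ch_of {n : ℕ} (h : ∀ c : Fin (n + 1) → Subgroup G, ¬ StrictAnti c) :
    ¬ Ch n (⊥ : Subgroup G) ⊤ := fun hc =>
  let ⟨c, h1, _⟩ := hc.exists_strictAnti
  h c h1

variable [Finite G]

theorem ch_pow_top {p : ℕ} [Fact p.Prime] {n : ℕ} (h : p ^ n ∣ Nat.card G) :
    ∃ P : Subgroup G, Nat.card P = p ^ n ∧ Ch n ⊥ P := by
  induction n with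
  | zero => exact ⟨⊥, by simp, Ch.zero le_rfl⟩
  | succ n ih =>
    obtain ⟨P, h1, h2⟩ := ih ((pow_dvd_pow p n.le_succ).trans h)
    obtain ⟨K, h3, h4⟩ := Sylow.exists_subgroup_card_pow_succ h h1
    refine ⟨K, h3, h2.succ (lt_of_le_of_ne h4 fun e => ?_)⟩
    rw [← e, h1] at h3
    exact absurd (Nat.pow_right_injective (Fact.out : p.Prime).two_le h3) (by omega)

theorem ch_pow {p : ℕ} [Fact p.Prime] {n : ℕ} {H : Subgroup G} (h : p ^ n ∣ Nat.card H) :
    ∃ P ≤ H, Nat.card P = p ^ n ∧ Ch n ⊥ P := by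
  obtain ⟨P, h1, h2⟩ := ch_pow_top (G := H) h
  refine ⟨P.map H.subtype, map_subtype_le _, by rw [card_map_of_injective H.subtype_injective, h1],
    ?_⟩
  simpa using h2.subtype

theorem ch_of_dvd {p : ℕ} [Fact p.Prime] {n : ℕ} {H : Subgroup G} (h : p ^ n ∣ Nat.card H) :
    Ch n ⊥ H :=
  let ⟨_, h1, _, h2⟩ := ch_pow h
  h2.mono_right h1

theorem ch_of_dvd_ne {p : ℕ} [Fact p.Prime] {n : ℕ} {H : Subgroup G} (h : p ^ n ∣ Nat.card H)
    (h' : Nat.card H ≠ p ^ n) : Ch (n + 1) ⊥ H :=
  let ⟨_, h1, h3, h2⟩ := ch_pow h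
  h2.succ (lt_of_le_of_ne h1 fun e => h' (e ▸ h3))

theorem ch_two {n : ℕ} {H : Subgroup G} (h : 2 ^ n ∣ Nat.card H) : Ch n ⊥ H :=
  haveI : Fact (Nat.Prime 2) := ⟨Nat.prime_two⟩
  ch_of_dvd h

/-- a subgroup of a non-solvable group that is nilpotent of class at most two is not maximal -/
theorem ch_two_of_class {P : Subgroup G} (hG : ¬ Group.IsSolvable G) (hP : IsPGroup 2 P)
    (hc : Group.nilpotencyClass P ≤ 2) : Ch 2 P ⊤ := by
  haveI : Fact (Nat.Prime 2) := ⟨Nat.prime_two⟩
  have hn := hP.isNilpotent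
  have h1 : P ≠ ⊤ := fun e => hG (by
    subst e
    exact solvable_of_surjective (f := (⊤ : Subgroup G).subtype) fun g => ⟨⟨g, trivial⟩, rfl⟩)
  have h2 : ¬ IsCoatom P := fun h => hG (S4039.result P h hn hc)
  rw [isCoatom_iff_ge_of_le] at h2
  push Not at h2
  obtain ⟨K, h3, h4, h5⟩ := h2 h1
  exact (Ch.one (lt_of_le_not_ge h4 h5)).succ (lt_top_iff_ne_top.mpr h3)

theorem class_le_two_of_card {P : Type*} [Group P] [Finite P] (hP : IsPGroup 2 P)
    (h : Nat.card P ∣ 8) : Group.nilpotencyClass P ≤ 2 := by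
  haveI : Fact (Nat.Prime 2) := ⟨Nat.prime_two⟩
  have hn := hP.isNilpotent
  rcases subsingleton_or_nontrivial P with h0 | h0
  · rw [Group.nilpotencyClass_zero_iff_subsingleton.mpr h0]; omega
  have h1 : Nontrivial (center P) := hP.center_nontrivial
  have h2 : Nat.card (P ⧸ center P) ∣ 4 := by
    have h3 := card_eq_card_quotient_mul_card_subgroup (center P)
    obtain ⟨k, hk⟩ := (hP.to_subgroup (center P)).exists_card_eq
    have h4 : 1 < Nat.card (center P) := Finite.one_lt_card
    have h5 : k ≠ 0 := by rintro rfl; omega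
    obtain ⟨j, rfl⟩ := Nat.exists_eq_succ_of_ne_zero h5
    rw [h3, hk, pow_succ, ← mul_assoc, show 8 = 4 * 2 from rfl] at h
    exact (Dvd.intro _ rfl).trans (Nat.dvd_of_mul_dvd_mul_right two_pos h)
  have h3 : IsMulCommutative (P ⧸ center P) := by
    have : Nat.card (P ⧸ center P) ∣ 2 ^ 2 := h2
    obtain ⟨j, hj, e⟩ := (Nat.dvd_prime_pow Nat.prime_two).mp this
    interval_cases j
    · haveI := (Nat.card_eq_one_iff_unique.mp e).1
      exact ⟨⟨fun a b => Subsingleton.elim _ _⟩⟩
    · haveI := isCyclic_of_prime_card (p := 2) e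
      infer_instance
    · exact ⟨⟨IsPGroup.commutative_of_card_eq_prime_sq e⟩⟩
  rw [nilpotencyClass_eq_quotient_center_plus_one]
  have : Group.nilpotencyClass (P ⧸ center P) ≤ 1 := by
    letI : CommGroup (P ⧸ center P) := { (inferInstance : Group _) with mul_comm := h3.1.1 }
    exact CommGroup.nilpotencyClass_le_one
  omega

/-- a non-solvable group has order divisible by 4 -/
theorem four_dvd_of_not_solvable (hG : ¬ Group.IsSolvable G) : 4 ∣ Nat.card G := by
  haveI : Fact (Nat.Prime 2) := ⟨Nat.prime_two⟩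
  by_contra h4
  obtain ⟨P⟩ : Nonempty (Sylow 2 G) := inferInstance
  have h2 : 2 ∣ Nat.card G := by
    by_contra h2
    exact hG (S0205.result (Nat.odd_iff.mpr (by omega)))
  have h3 : Nat.card P = 2 := by
    obtain ⟨k, hk⟩ := P.isPGroup'.exists_card_eq
    have h5 := P.dvd_card_of_dvd_card h2
    have h6 : 2 ^ k ∣ Nat.card G := hk ▸ card_subgroup_dvd_card _
    rw [hk] at h5 ⊢
    rcases k with _ | _ | k
    · simp at h5
    · rfl
    · exact absurd ((show 4 ∣ 2 ^ (k + 1 + 1) from ⟨2 ^ k, by ring⟩).trans h6) h4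
  have hc : IsCyclic P := isCyclic_of_prime_card h3
  have hm : (Nat.card G).minFac = 2 := (Nat.minFac_eq_two_iff _).mpr h2
  have h5 := IsCyclic.isComplement' hm hc
  set K := (MonoidHom.transferSylow P (IsCyclic.normalizer_le_centralizer hm hc)).ker
  have h6 : Group.IsSolvable K := S0205.result (by
    have := h5.card_mul
    rw [h3] at this
    exact Nat.odd_iff.mpr (by omega))
  have h7 : Group.IsSolvable (G ⧸ K) := by
    have : Nat.card (G ⧸ K) = 2 := by rw [← K.index_eq_card, h5.symm.index_eq_card, h3]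
    haveI := isCyclic_of_prime_card this
    exact isSolvable_of_comm fun a b => mul_comm' a b
  exact hG (solvable_of_ker_le_range K.subtype (QuotientGroup.mk' K) (by simp))

theorem ch_four_top (hG : ¬ Group.IsSolvable G) : Ch 4 (⊥ : Subgroup G) ⊤ := by
  haveI : Fact (Nat.Prime 2) := ⟨Nat.prime_two⟩
  obtain ⟨P, h1, h2⟩ := ch_pow_top (p := 2) (n := 2) (four_dvd_of_not_solvable hG)
  have hP : IsPGroup 2 P := IsPGroup.of_card h1
  exact h2.trans (ch_two_of_class hG hP (class_le_two_of_card hP (by rw [h1]; norm_num)))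

theorem ch_five_top (hG : ¬ Group.IsSolvable G) (h8 : 8 ∣ Nat.card G) :
    Ch 5 (⊥ : Subgroup G) ⊤ := by
  haveI : Fact (Nat.Prime 2) := ⟨Nat.prime_two⟩
  obtain ⟨P, h1, h2⟩ := ch_pow_top (p := 2) (n := 3) h8
  have hP : IsPGroup 2 P := IsPGroup.of_card h1
  exact h2.trans (ch_two_of_class hG hP (class_le_two_of_card hP (by rw [h1]; norm_num)))

theorem ch_four {K : Subgroup G} (hK : ¬ Group.IsSolvable K) : Ch 4 ⊥ K :=
  (ch_four_top hK).of_sub

/-- above a solvable normal subgroup of a non-solvable subgroup there are four steps -/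
theorem ch_four_of_normal {K M : Subgroup G} (hK : ¬ Group.IsSolvable K) (hM : M ≤ K)
    (hn : K ≤ 𝐍[M]) (hs : Group.IsSolvable M) : Ch 4 M K := by
  haveI : (M.subgroupOf K).Normal := normal_subgroupOf_of_le_normalizer hn
  refine Ch.of_quot hM (ch_four_top fun h => hK ?_)
  haveI : Group.IsSolvable (M.subgroupOf K) :=
    solvable_of_solvable_injective (f := (subgroupOfEquivOfLe hM).toMonoidHom)
      (subgroupOfEquivOfLe hM).injective
  exact solvable_of_ker_le_range (M.subgroupOf K).subtype (QuotientGroup.mk' (M.subgroupOf K)) (by simp)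

end Cfsg.Agent.FG.H93
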