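import Mathlib
import Cfsg.Agent.S3627
import Cfsg.Agent.FG.H98SqA
import Cfsg.Agent.FG.ClassCount
import Cfsg.Agent.Inv.ZStarSimple

/-! Element orders and Frobenius subgroups of the first Janko group. -/

set_option autoImplicit false

namespace Cfsg.Agent.FG.H98.J

open Cfsg Cfsg.Agent.GT Cfsg.Agent.Inv.Fz Subgroup Cfsg.Spor Cfsg.Agent.Spor.MJ1
  Cfsg.Agent.Inv Cfsg.Agent.Perm

section
variable {G : Type*} [Group G] [Finite G] {p : ℕ}

/-- With a Sylow subgroup of prime order, commuting pairs can be moved to a fixed generator. -/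
theorem exists_commute (hp : p.Prime) (h2 : ¬ p ^ 2 ∣ Nat.card G) {x y w : G} (hx : orderOf x = p)
    (hy : orderOf y = p) (hc : Commute y w) : ∃ u, orderOf u = orderOf w ∧ Commute x u := by
  haveI := Fact.mk hp
  obtain ⟨P, hP⟩ := PS.exists_sylow_eq h2 hx
  obtain ⟨c, hc'⟩ := exists_cj_le_sylow P (isPGroup_zpowers_of_orderOf hy)
  rw [hP, cj_zpowers, zpowers_le] at hc'
  have h1 : orderOf (c * y * c⁻¹) = p := by simpa [hy] using (MulAut.conj c).orderOf_eq y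
  refine ⟨c * w * c⁻¹, by simpa using (MulAut.conj c).orderOf_eq w, ?_⟩
  refine (commute_of_mem_zpowers (y := c * y * c⁻¹) ?_
    (zpowers_eq_of_prime hp hx h1 hc' ▸ mem_zpowers x)).symm
  simpa using hc.symm.map (MulAut.conj c)

theorem dvd_cent_of_commute {x u : G} (h : Commute x u) :
    orderOf u ∣ Nat.card (centralizer {x}) :=
  orderOf_dvd_natCard _ (mem_centralizer_singleton_iff.2 h.symm.eq)

theorem dvd_cent_of_order (hp : p.Prime) (h2 : ¬ p ^ 2 ∣ Nat.card G) {x z : G}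
    (hx : orderOf x = p) (hz : p ∣ orderOf z) : orderOf z ∣ Nat.card (centralizer {x}) := by
  obtain ⟨k, hk⟩ := PG.exists_pow_orderOf z hz
  obtain ⟨u, hu, hc⟩ := exists_commute hp h2 hx hk (Commute.self_pow z k).symm
  exact hu ▸ dvd_cent_of_commute hc

theorem exists_of_dvd_cent (hp : p.Prime) {x : G} (h : p ∣ Nat.card (centralizer {x})) :
    ∃ y, orderOf y = p ∧ Commute y x := by
  obtain ⟨y, hy, ho⟩ := exists_mem_orderOf_eq_prime hp h
  exact ⟨y, ho, mem_centralizer_singleton_iff.1 hy⟩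

theorem count_in_cent (hp : p.Prime) (h2 : ¬ p ^ 2 ∣ Nat.card G) {x y : G} (hx : orderOf x = p)
    (hc : Commute y x) : ∃ d, d ∣ Nat.card (normalizer (zpowers x : Set G)) ∧ orderOf y ∣ d ∧
      p ∣ d ∧ Nat.card (centralizer {y}) / d % p = 1 % p := by
  haveI := Fact.mk hp
  have hxy : x ∈ centralizer {y} := mem_centralizer_singleton_iff.2 hc.symm.eq
  have hr := PS.relIndex_normalizer_modEq h2 hx hxy
  have hd := Fz.card_mul_relIndex (inf_le_right (a := normalizer (zpowers x : Set G))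
    (b := centralizer {y}))
  rw [inf_relIndex_right] at hd
  refine ⟨_, card_dvd_of_le (inf_le_left (b := centralizer {y})), orderOf_dvd_natCard _
    ⟨centralizer_le_normalizer _ ?_, mem_centralizer_singleton_iff.2 rfl⟩,
    hx ▸ orderOf_dvd_natCard _ ⟨le_normalizer (mem_zpowers x), hxy⟩, ?_⟩
  · rw [PS.centralizer_zpowers]
    exact mem_centralizer_singleton_iff.2 hc.eq
  · rw [← hd, Nat.mul_div_cancel_left _ Nat.card_pos]
    exact hr

/-- A Frobenius section with kernel an `s`-group and complement of order `l`. -/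
def Fro (L : Subgroup G) (s l : ℕ) : Prop :=
  ∃ J ≤ L, IsPGroup s J ∧ J ≠ ⊥ ∧ ∃ m ∈ L, orderOf m = l ∧ m ∈ normalizer (J : Set G) ∧
    ∀ k ∈ J, Commute k m → k = 1

omit [Finite G] in
theorem Fro.map {H : Type*} [Group H] {L : Subgroup G} {s l : ℕ} (h : Fro L s l) {f : G →* H}
    (hf : Function.Injective f) : Fro (L.map f) s l := by
  obtain ⟨J, h1, h2, h3, m, h4, h5, h6, h7⟩ := h
  refine ⟨J.map f, map_mono h1, h2.map f, by rwa [Ne, map_eq_bot_iff_of_injective _ hf], f m,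
    mem_map_of_mem f h4, by rw [orderOf_injective f hf, h5], le_normalizer_map f
      (mem_map_of_mem f h6), ?_⟩
  rintro _ ⟨k, hk, rfl⟩ hc
  rw [h7 k hk (hf (by simpa using hc.eq)), map_one]

theorem fro_of_dvd {s l : ℕ} (hs : s.Prime) (hl : l.Prime) (hne : s ≠ l) {J : Subgroup G}
    (hJ : IsPGroup s J) (h1 : J ≠ ⊥) (hd : l ∣ Nat.card (normalizer (J : Set G)))
    (hno : ∀ g : G, orderOf g ≠ s * l) : Fro (⊤ : Subgroup G) s l := by
  obtain ⟨m, hm, ho⟩ := exists_mem_orderOf_eq_prime hl hd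
  refine ⟨J, le_top, hJ, h1, m, trivial, ho, hm, fun k hk hc => ?_⟩
  by_contra hk1
  obtain ⟨w, hw, hwo⟩ := exists_pow_orderOf_eq hs hJ hk hk1
  obtain ⟨z, hz⟩ := PG.exists_orderOf_of_commute (commute_of_mem_zpowers hc.symm hw).symm
    hwo.symm.dvd ho.symm.dvd ((Nat.coprime_primes hs hl).2 hne)
  exact hno z hz

end

theorem exists_prime {p : ℕ} (hp : p.Prime) (h : p ∣ 175560) : ∃ x : J1, orderOf x = p :=
  have := Fact.mk hp
  exists_prime_orderOf_dvd_card' p (card_J1 ▸ h)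

theorem exists_ten : ∃ x : J1, orderOf x = 10 := by
  obtain ⟨y, hy, hc⟩ := exists_of_dvd_cent Nat.prime_five (x := g 3)
    (by rw [card_centralizer]; norm_num)
  exact PG.exists_orderOf_of_commute (m := 5) (n := 2) hc hy.symm.dvd orderOf_t.symm.dvd
    (by norm_num)

theorem not_thirty (z : J1) : ¬ 30 ∣ orderOf z := fun h => by
  obtain ⟨k, hk⟩ := PG.exists_pow_orderOf z h
  obtain ⟨u, hu⟩ := S3627.exists_conj_mem (z := z ^ k) (by rw [hk]; norm_num)
  obtain ⟨e⟩ := centralizer_iso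
  rw [← S3627.orderOf_conj' u] at hk
  have h1 : orderOf (e ⟨_, hu⟩) = 30 := by rw [e.orderOf_eq, ← orderOf_coe, hk]
  have h2 : ∀ a : Multiplicative (ZMod 2), a ^ 6 = 1 ∧ a ^ 10 = 1 := by decide
  have h3 : ∀ a : alternatingGroup (Fin 5), a ^ 6 = 1 ∨ a ^ 10 = 1 := by
    have : ∀ a : Equiv.Perm (Fin 5), Equiv.Perm.sign a = 1 → a ^ 6 = 1 ∨ a ^ 10 = 1 := by
      decide +kernel
    exact fun a => (this a a.2).imp Subtype.ext Subtype.ext
  rcases h3 (e ⟨_, hu⟩).2 with h4 | h4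
  · have := h1 ▸ orderOf_dvd_of_pow_eq_one (Prod.ext (h2 _).1 h4 : e ⟨_, hu⟩ ^ 6 = 1)
    omega
  · have := h1 ▸ orderOf_dvd_of_pow_eq_one (Prod.ext (h2 _).2 h4 : e ⟨_, hu⟩ ^ 10 = 1)
    omega

theorem not_prime_card : ¬ (Nat.card J1).Prime := by rw [card_J1]; norm_num

theorem not_dvd_cent {p r : ℕ} (hr : r.Prime)
    (h : ∀ x : J1, orderOf x = r → Nat.card (centralizer {x}) = r) {y : J1} (hy : orderOf y = p)
    (hpr : ¬ p ∣ r) : ¬ r ∣ Nat.card (centralizer {y}) := fun hd => by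
  obtain ⟨x, hx, hc⟩ := exists_of_dvd_cent hr hd
  exact hpr (hy ▸ h x hx ▸ dvd_cent_of_commute hc)

theorem odd_cent {p : ℕ} {y : J1} (hy : orderOf y = p) (h2 : p.Coprime 2) (h : ¬ p ∣ 120) :
    ¬ 2 ∣ Nat.card (centralizer {y}) := fun hd => by
  obtain ⟨x, hx, hc⟩ := exists_of_dvd_cent Nat.prime_two hd
  obtain ⟨z, hz⟩ := PG.exists_orderOf_of_commute hc.symm hy.symm.dvd hx.symm.dvd h2
  exact h (dvd_of_mul_right_dvd (hz ▸ S3627.dvd_of_even (hz ▸ dvd_mul_left _ _)))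

theorem data7 {x : J1} (hx : orderOf x = 7) : Nat.card (centralizer {x}) = 7 ∧
    Nat.card (normalizer (zpowers x : Set J1)) = 42 := by
  haveI : Fact (Nat.Prime 7) := ⟨by norm_num⟩
  have h7 : ¬ 7 ^ 2 ∣ Nat.card J1 := by rw [card_J1]; norm_num
  have h3 : ¬ 3 ^ 2 ∣ Nat.card J1 := by rw [card_J1]; norm_num
  obtain ⟨n, e, v, -, hv, hN, h1, h2, -, h4, h5⟩ := PS.prime_data not_prime_card h7 hx
  have a1 := odd_cent hx (by norm_num) (by norm_num)
  have a2 := not_dvd_cent (by norm_num) (fun _ => S3627.card_cent) hx (by norm_num)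
  have key : ∀ v ∈ Nat.divisors 25080, ¬ 2 ∣ v * 7 → ¬ 19 ∣ v * 7 → ∀ e ∈ Nat.divisors 6, 1 < e →
      e * v ∣ 25080 → 25080 / (e * v) % 7 = 1 → (v = 1 ∧ e = 6) ∨ (v = 3 ∧ e = 2) := by
    decide +kernel
  have h6 : e * v * n = 25080 := by rw [card_J1] at h1; linarith
  have h0 : 0 < e * v := Nat.pos_of_ne_zero (by rintro h; rw [h] at h6; omega)
  rcases key v (Nat.mem_divisors.2 ⟨⟨e * n, by linarith⟩, by norm_num⟩) (hv ▸ a1) (hv ▸ a2) e
    (Nat.mem_divisors.2 ⟨h4, by norm_num⟩) h5 ⟨n, h6.symm⟩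
    (by rwa [← h6, Nat.mul_div_cancel_left _ h0]) with ⟨rfl, rfl⟩ | ⟨rfl, rfl⟩
  · exact ⟨hv, hN⟩
  exfalso
  haveI : Fact (Nat.Prime 3) := ⟨Nat.prime_three⟩
  obtain ⟨y, hy, hc⟩ := exists_of_dvd_cent Nat.prime_three (x := x) (by rw [hv]; norm_num)
  obtain ⟨d, d1, d2, d3, d4⟩ := count_in_cent (by norm_num) h7 hx hc
  obtain ⟨n', e', v', -, b2, -, b3, b4, -, b5, b6⟩ := PS.prime_data not_prime_card h3 hy
  obtain rfl : e' = 2 := le_antisymm (Nat.le_of_dvd two_pos b5) b6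
  obtain ⟨a, ha⟩ := S3627.exists_six
  obtain ⟨b, hb⟩ := S3627.exists_fifteen
  obtain ⟨k, hk⟩ : 210 ∣ Nat.card (centralizer {y}) := Nat.lcm_dvd (Nat.lcm_dvd
    (ha ▸ dvd_cent_of_order Nat.prime_three h3 hy (by rw [ha]; norm_num))
    (hb ▸ dvd_cent_of_order Nat.prime_three h3 hy (by rw [hb]; norm_num)))
    (hx ▸ dvd_cent_of_commute hc)
  have a3 := not_dvd_cent (by norm_num) (fun _ => S3627.card_cent) hy (by norm_num)
  have key2 : ∀ k ∈ Nat.divisors 418, ¬ 19 ∣ 210 * k → 418 / k % 3 = 1 →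
      ∀ d ∈ Nat.divisors 42, 3 ∣ d → 7 ∣ d → 210 * k / d % 7 ≠ 1 % 7 := by decide +kernel
  have h8 : k * n' = 418 := by rw [← b2, hk, card_J1] at b3; linarith
  exact key2 k (Nat.mem_divisors.2 ⟨⟨_, h8.symm⟩, by norm_num⟩) (hk ▸ a3)
    (by rwa [← h8, Nat.mul_div_cancel_left _ (Nat.pos_of_ne_zero (by rintro rfl; omega))]) d
    (Nat.mem_divisors.2 ⟨by rwa [hN] at d1, by norm_num⟩) (hy ▸ d2) d3 (hk ▸ d4)

theorem data11 {x : J1} (hx : orderOf x = 11) : Nat.card (centralizer {x}) = 11 ∧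
    Nat.card (normalizer (zpowers x : Set J1)) = 110 := by
  haveI : Fact (Nat.Prime 11) := ⟨by norm_num⟩
  have h7 : ¬ 11 ^ 2 ∣ Nat.card J1 := by rw [card_J1]; norm_num
  have h3 : ¬ 5 ^ 2 ∣ Nat.card J1 := by rw [card_J1]; norm_num
  obtain ⟨n, e, v, -, hv, hN, h1, h2, -, h4, h5⟩ := PS.prime_data not_prime_card h7 hx
  have a1 := odd_cent hx (by norm_num) (by norm_num)
  have a2 := not_dvd_cent (by norm_num) (fun _ => S3627.card_cent) hx (by norm_num)
  have a2' := not_dvd_cent (by norm_num) (fun _ h => (data7 h).1) hx (by norm_num)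
  have key : ∀ v ∈ Nat.divisors 15960, ¬ 2 ∣ v * 11 → ¬ 19 ∣ v * 11 → ¬ 7 ∣ v * 11 →
      ∀ e ∈ Nat.divisors 10, 1 < e → e * v ∣ 15960 → 15960 / (e * v) % 11 = 1 →
        (v = 1 ∧ e = 10) ∨ (v = 5 ∧ e = 2) := by
    decide +kernel
  have h6 : e * v * n = 15960 := by rw [card_J1] at h1; linarith
  have h0 : 0 < e * v := Nat.pos_of_ne_zero (by rintro h; rw [h] at h6; omega)
  rcases key v (Nat.mem_divisors.2 ⟨⟨e * n, by linarith⟩, by norm_num⟩) (hv ▸ a1) (hv ▸ a2)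
    (hv ▸ a2') e (Nat.mem_divisors.2 ⟨h4, by norm_num⟩) h5 ⟨n, h6.symm⟩
    (by rwa [← h6, Nat.mul_div_cancel_left _ h0]) with ⟨rfl, rfl⟩ | ⟨rfl, rfl⟩
  · exact ⟨hv, hN⟩
  exfalso
  haveI : Fact (Nat.Prime 5) := ⟨Nat.prime_five⟩
  obtain ⟨y, hy, hc⟩ := exists_of_dvd_cent Nat.prime_five (x := x) (by rw [hv]; norm_num)
  obtain ⟨d, d1, d2, d3, d4⟩ := count_in_cent (by norm_num) h7 hx hc
  obtain ⟨n', e', v', -, b2, -, b3, b4, -, b5, b6⟩ := PS.prime_data not_prime_card h3 hy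
  obtain ⟨a, ha⟩ := exists_ten
  obtain ⟨b, hb⟩ := S3627.exists_fifteen
  obtain ⟨k, hk⟩ : 330 ∣ Nat.card (centralizer {y}) := Nat.lcm_dvd (Nat.lcm_dvd
    (ha ▸ dvd_cent_of_order Nat.prime_five h3 hy (by rw [ha]; norm_num))
    (hb ▸ dvd_cent_of_order Nat.prime_five h3 hy (by rw [hb]; norm_num)))
    (hx ▸ dvd_cent_of_commute hc)
  have a3 := not_dvd_cent (by norm_num) (fun _ => S3627.card_cent) hy (by norm_num)
  have a4 := not_dvd_cent (by norm_num) (fun _ h => (data7 h).1) hy (by norm_num)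
  have key2 : ∀ k ∈ Nat.divisors 532, ¬ 19 ∣ 330 * k → ¬ 7 ∣ 330 * k → ∀ e ∈ Nat.divisors 4,
      1 < e → e * k ∣ 532 → 532 / (e * k) % 5 = 1 →
      ∀ d ∈ Nat.divisors 110, 5 ∣ d → 11 ∣ d → 330 * k / d % 11 ≠ 1 % 11 := by decide +kernel
  have h8 : e' * k * n' = 532 := by rw [← b2, hk, card_J1] at b3; linarith
  have h9 : 0 < e' * k := Nat.pos_of_ne_zero (by rintro h; rw [h] at h8; omega)
  exact key2 k (Nat.mem_divisors.2 ⟨⟨e' * n', by linarith⟩, by norm_num⟩) (hk ▸ a3) (hk ▸ a4) e'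
    (Nat.mem_divisors.2 ⟨b5, by norm_num⟩) b6 ⟨_, h8.symm⟩
    (by rwa [← h8, Nat.mul_div_cancel_left _ h9]) d
    (Nat.mem_divisors.2 ⟨by rwa [hN] at d1, by norm_num⟩) (hy ▸ d2) d3 (hk ▸ d4)

/-- The maximal element orders of the first Janko group. -/
def mu : List ℕ := [6, 10, 15, 7, 11, 19]

theorem j1_dvd (z : J1) : ∃ a ∈ mu, orderOf z ∣ a := by
  have aux : ∀ r, (∀ x : J1, orderOf x = r → Nat.card (centralizer {x}) = r) → r ∣ orderOf z →
      orderOf z ∣ r := fun r h hd => by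
    obtain ⟨k, hk⟩ := PG.exists_pow_orderOf z hd
    exact h _ hk ▸ S3627.dvd_cent z k
  by_cases h7 : 7 ∣ orderOf z
  · exact ⟨7, by decide, aux 7 (fun _ h => (data7 h).1) h7⟩
  by_cases h11 : 11 ∣ orderOf z
  · exact ⟨11, by decide, aux 11 (fun _ h => (data11 h).1) h11⟩
  rcases S3627.ord_cases z with h | h
  · exact ⟨19, by decide, h⟩
  have key : ∀ d ∈ Nat.divisors 2310, ¬ 7 ∣ d → ¬ 11 ∣ d → ¬ 30 ∣ d → ∃ a ∈ mu, d ∣ a := by
    decide +kernel
  exact key _ (Nat.mem_divisors.2 ⟨h, by norm_num⟩) h7 h11 (not_thirty z)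

theorem j1_ne {n : ℕ} (h : ∀ a ∈ mu, ¬ n ∣ a) (z : J1) : orderOf z ≠ n := fun e => by
  obtain ⟨a, ha, hd⟩ := j1_dvd z
  exact h a ha (e ▸ hd)

theorem fro_cyc {s l : ℕ} (hs : s.Prime) (hl : l.Prime) (hne : s ≠ l) (h1 : s ∣ 175560)
    (hd : ∀ x : J1, orderOf x = s → l ∣ Nat.card (normalizer (zpowers x : Set J1)))
    (hno : ∀ a ∈ mu, ¬ s * l ∣ a) : Fro (⊤ : Subgroup J1) s l := by
  obtain ⟨x, hx⟩ := exists_prime hs h1
  exact fro_of_dvd hs hl hne (isPGroup_zpowers_of_orderOf hx) (fun e => hs.one_lt.ne' (by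
    rw [← hx, zpowers_eq_bot.1 e, orderOf_one])) (hd x hx) (j1_ne hno)

theorem fro_7_3 : Fro (⊤ : Subgroup J1) 7 3 :=
  fro_cyc (by norm_num) (by norm_num) (by norm_num) (by norm_num)
    (fun _ h => by rw [(data7 h).2]; norm_num) (by decide)

theorem fro_11_5 : Fro (⊤ : Subgroup J1) 11 5 :=
  fro_cyc (by norm_num) (by norm_num) (by norm_num) (by norm_num)
    (fun _ h => by rw [(data11 h).2]; norm_num) (by decide)

theorem j1_conj {t u : J1} (ht : orderOf t = 2) (hu : orderOf u = 2) : IsConj t u := by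
  have aux : ∀ t : J1, orderOf t = 2 → IsConj (g 3) t := fun t ht =>
    isConj_iff.2 (conj_t (fun e => by rw [e, orderOf_one] at ht; omega) (ht ▸ pow_orderOf_eq_one t))
  exact (aux t ht).symm.trans (aux u hu)

theorem fro_2_7 : Fro (⊤ : Subgroup J1) 2 7 := by
  obtain ⟨T⟩ : Nonempty (Sylow 2 J1) := inferInstance
  have hc : Nat.card T = 8 := by
    rw [T.card_eq_multiplicity, card_J1, show 175560 = 2 ^ 3 * 21945 by norm_num,
      Nat.factorization_mul (by norm_num) (by norm_num), Nat.Prime.factorization_pow Nat.prime_two]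
    simp [Nat.factorization_eq_zero_of_not_dvd (show ¬ 2 ∣ 21945 by norm_num)]
  have ho : ∀ t ∈ T, t ≠ 1 → orderOf t = 2 := fun t ht h1 => by
    have h2 := hc ▸ orderOf_dvd_natCard _ ht
    have h3 := S3627.not_four_dvd t
    have h4 : orderOf t ≠ 1 := fun e => h1 (orderOf_eq_one_iff.1 e)
    have key : ∀ d ∈ Nat.divisors 8, ¬ 4 ∣ d → d ≠ 1 → d = 2 := by decide
    exact key _ (Nat.mem_divisors.2 ⟨h2, by norm_num⟩) h3 h4
  have hsq : ∀ t ∈ T, t * t = 1 := fun t ht => by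
    by_cases h1 : t = 1
    · simp [h1]
    · rw [← sq, ← ho t ht h1, pow_orderOf_eq_one]
  have hcm : ∀ t ∈ T, ∀ s ∈ T, s * t = t * s := fun t ht s hs => by
    have h1 := hsq _ (mul_mem hs ht)
    rw [← mul_inv_eq_one, mul_inv_rev, ← eq_inv_of_mul_eq_one_left (hsq t ht),
      ← eq_inv_of_mul_eq_one_left (hsq s hs), h1]
  have hne : (T : Subgroup J1) ≠ ⊥ := fun e => by rw [e, card_bot] at hc; omega
  obtain ⟨⟨t, ht⟩, ht1⟩ := ne_bot_iff_exists_ne_one.1 hne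
  replace ht1 : t ≠ 1 := fun e => ht1 (Subtype.ext e)
  refine fro_of_dvd Nat.prime_two (by norm_num) (by norm_num) T.isPGroup' hne ?_ (j1_ne (by decide))
  have h1 : {y | ∃ h ∈ normalizer ((T : Subgroup J1) : Set J1), h * t * h⁻¹ = y} =
      ((T : Subgroup J1) : Set J1) \ {1} := by
    ext y
    constructor
    · rintro ⟨h, hh, rfl⟩
      exact ⟨(mem_normalizer_iff.1 hh t).1 ht, by simpa using ht1⟩
    · rintro ⟨hy, hy1⟩
      obtain ⟨c, rfl⟩ := isConj_iff.1 (j1_conj (ho t ht ht1) (ho y hy hy1))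
      exact ZS.exists_mem_normalizer_conj_eq T (hcm t ht) (hcm _ hy)
  have h2 := ncard_conj_orbit_subgroup (normalizer ((T : Subgroup J1) : Set J1)) t
  rw [h1, Set.ncard_diff_singleton_of_mem T.one_mem, ← Nat.card_coe_set_eq,
    show Nat.card ((T : Subgroup J1) : Set J1) = 8 from hc] at h2
  exact (Dvd.intro 1 h2).trans (relIndex_dvd_card (centralizer {t}) _)

end Cfsg.Agent.FG.H98.J
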