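import Mathlib
import Cfsg.Agent.GT.Conj
import Cfsg.Agent.GT.PPrimeCore
import Cfsg.Agent.GT.PSolvable
import Cfsg.Agent.GT.CoprimeProd
import Cfsg.Agent.FG.ClassIdx
import Cfsg.Agent.FG.ClassCount
import Cfsg.Agent.FG.RealElts
import Cfsg.Agent.FG.H94Orb2

/-!
# Elements of prime power index
-/

set_option autoImplicit false

namespace Cfsg.Agent.FG.Baer
open Subgroup Cfsg.Agent.GT Cfsg.Agent.GT.CopAct Cfsg.Agent.FG.CI
open scoped Pointwise commutatorElement

variable {G : Type*} [Group G] [Finite G]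

theorem exists_normal_perfect (h : ¬ Group.IsSolvable G) :
    ∃ R : Subgroup G, R.Normal ∧ R ≠ ⊥ ∧ ⁅R, R⁆ = R := by
  obtain ⟨_, ⟨n, rfl⟩, hn⟩ := (wellFounded_lt (α := Subgroup G)).has_min
    (Set.range (derivedSeries G)) (Set.range_nonempty _)
  exact ⟨_, derivedSeries_normal G n, fun e => h ⟨⟨n, e⟩⟩,
    eq_of_le_of_not_lt (commutator_le_self _) (hn _ ⟨n + 1, rfl⟩)⟩

/-- If `|x^G|`, `|y^G|` are coprime and `|(xy)^G| ≤ |x^G|`, then `|[G,y]|` divides `|x^G|`. -/
theorem card_commutator_dvd {x y : G} (hc : (cidx x).Coprime (cidx y))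
    (hle : cidx (x * y) ≤ cidx x) : Nat.card (⁅(⊤ : Subgroup G), zpowers y⁆ : Subgroup G) ∣ cidx x := by
  set X := {h : G | IsConj x h} with hX
  have h1 : ∀ g : G, (· * (g * y * g⁻¹)) '' X = {h | IsConj (x * y) h} := by
    intro g
    refine Set.eq_of_subset_of_ncard_le ?_ ?_
    · rintro _ ⟨_, hx', rfl⟩
      obtain ⟨h, rfl⟩ := isConj_iff.1 hx'
      obtain ⟨a, ha, b, hb, hab⟩ := exists_mul_of_coprime_index hc (h⁻¹ * g)
      refine isConj_iff.2 ⟨h * a, ?_⟩
      have e1 : g = h * a * b := by rw [mul_assoc, ← hab]; group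
      calc h * a * (x * y) * (h * a)⁻¹ = h * (a * x * a⁻¹) * h⁻¹ * (h * a * y * (h * a)⁻¹) := by
            group
        _ = h * x * h⁻¹ * (g * y * g⁻¹) := by
            rw [mem_cent'.1 ha, e1]
            nth_rewrite 1 [← mem_cent'.1 hb]
            group
    · rw [Set.ncard_image_of_injective _ (mul_left_injective _), ncard_isConj_eq_index,
        ncard_isConj_eq_index]
      exact hle
  let T : Subgroup G :=
    { carrier := {k | (· * k) '' X = X}
      mul_mem' := fun {a b} ha hb => by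
        change (· * (a * b)) '' X = X
        have ha' : (· * a) '' X = X := ha
        have hb' : (· * b) '' X = X := hb
        rw [← hb']; nth_rewrite 2 [← ha']
        rw [hb', Set.image_image]; simp only [mul_assoc]
      one_mem' := by simp
      inv_mem' := fun {a} ha => by
        change (· * a⁻¹) '' X = X
        have ha' : (· * a) '' X = X := ha
        nth_rewrite 1 [← ha']
        rw [Set.image_image]; simp }
  have h2 : ∀ g : G, ⁅g, y⁆ ∈ T := by
    intro g
    change (· * ⁅g, y⁆) '' X = X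
    have e := (h1 g).trans (h1 1).symm
    have := congrArg (Set.image (· * y⁻¹)) e
    simp only [Set.image_image, mul_assoc, one_mul, inv_one, mul_one, mul_inv_cancel,
      Set.image_id'] at this
    simpa only [commutatorElement_def, mul_assoc] using this
  have h3 : (⁅(⊤ : Subgroup G), zpowers y⁆ : Subgroup G) ≤ T := by
    have hn : T.Normal := ⟨fun k hk g => by
      change (· * (g * k * g⁻¹)) '' X = X
      have hk' : (· * k) '' X = X := hk
      refine Set.eq_of_subset_of_ncard_le ?_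
        (Set.ncard_image_of_injective _ (mul_left_injective _)).ge
      rintro _ ⟨z, hz, rfl⟩
      have h4 : g⁻¹ * z * g * k ∈ X :=
        hk' ▸ ⟨_, IsConj.trans hz (isConj_iff.2 ⟨g⁻¹, by rw [inv_inv]⟩), rfl⟩
      exact IsConj.trans h4 (isConj_iff.2 ⟨g, by group⟩)⟩
    rw [commutator_le_iff_map_mk', CopAct.commutator_eq_bot_iff, MonoidHom.map_zpowers, zpowers_le,
      mem_centralizer_iff]
    rintro _ ⟨g, -, rfl⟩
    rw [← commutatorElement_eq_one_iff_mul_comm, ← map_commutatorElement]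
    exact (QuotientGroup.eq_one_iff _).2 (h2 g)
  refine (card_dvd_of_le h3).trans ?_
  have h4 : X * (T : Set G) = X := by
    refine subset_antisymm ?_ fun z hz => ⟨z, hz, 1, T.one_mem, mul_one z⟩
    rintro _ ⟨z, hz, k, hk, rfl⟩
    have hk' : (· * k) '' X = X := hk
    exact hk' ▸ ⟨z, hz, rfl⟩
  have h5 := card_mul_eq_card_subgroup_mul_card_quotient T X
  rw [h4] at h5
  rw [cidx, ← ncard_isConj_eq_index]
  exact ⟨_, h5⟩

theorem cidx_dvd_card_commutator {y : G}
    (hc : (orderOf y).Coprime (Nat.card (⁅(⊤ : Subgroup G), zpowers y⁆ : Subgroup G))) :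
    cidx y ∣ Nat.card (⁅(⊤ : Subgroup G), zpowers y⁆ : Subgroup G) := by
  set K : Subgroup G := ⁅(⊤ : Subgroup G), zpowers y⁆
  have hn : K.Normal := normalizer_eq_top_iff.1 (top_le_iff.1 (normalizer_commutator_ge_left _ _))
  have h1 := sup_inf_centralizer_eq_of_commutator_le (A := zpowers y) (K := ⊤) (N := K) le_top
    (by rwa [Nat.card_zpowers]) (Or.inl (isSolvable_zpowers y)) le_rfl
  rw [top_inf_eq, centralizer_zpowers, sup_comm] at h1
  rw [cidx, index_eq_relIndex_of_sup_eq_top h1]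
  exact relIndex_dvd_card _ _

variable {q : ℕ} [hq : Fact q.Prime]

theorem exists_conj_mem_centralizer (Q : Sylow q G) {w : G} (hw : ∃ a, cidx w = q ^ a) {r : ℕ}
    [hr : Fact r.Prime] (hrq : r ≠ q) (R : Sylow r G) :
    ∃ u ∈ (Q : Subgroup G), u * w * u⁻¹ ∈ centralizer ((R : Subgroup G) : Set G) := by
  obtain ⟨a, ha⟩ := hw
  obtain ⟨g, hg⟩ := (not_dvd_cidx_iff_conj R w).1 (by
    rw [ha]
    exact fun h => hrq ((Nat.prime_dvd_prime_iff_eq hr.out hq.out).1 (hr.out.dvd_of_dvd_pow h)))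
  obtain ⟨u, hu, c, hc, rfl⟩ := exists_mul_of_coprime_index (H := (Q : Subgroup G))
    (K := centralizer {w}) (by
      rw [← cidx, ha]
      exact Nat.Coprime.pow_right _ ((hq.out.coprime_iff_not_dvd.2 Q.not_dvd_index).symm)) g
  refine ⟨u, hu, ?_⟩
  rwa [show u * c * w * (u * c)⁻¹ = u * (c * w * c⁻¹) * u⁻¹ by group, mem_cent'.1 hc] at hg

/-- Two `q`-elements with indices powers of distinct primes. -/
theorem pair (hB : ∀ x : G, (∃ k : ℕ, orderOf x = q ^ k) → ∃ r a : ℕ, r.Prime ∧ cidx x = r ^ a)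
    {x y : G} (hx : ∃ k : ℕ, orderOf x = q ^ k) (hy : ∃ k : ℕ, orderOf y = q ^ k) {p r a b : ℕ}
    (hp : p.Prime) (hr : r.Prime) (hpr : p ≠ r) (ha : cidx x = p ^ a) (hb : cidx y = r ^ b)
    (hb0 : b ≠ 0) (hle : r ^ b ≤ p ^ a) : p = q ∧ y ∈ pCore q G := by
  obtain ⟨Q⟩ : Nonempty (Sylow q G) := inferInstance
  obtain ⟨g, hg⟩ := exists_conj_mem_sylow Q hx
  obtain ⟨h, hh⟩ := exists_conj_mem_sylow Q hy
  rw [← cidx_conj x g] at ha
  rw [← cidx_conj y h] at hb
  set x' := g * x * g⁻¹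
  set y' := h * y * h⁻¹ with hy'
  have hpr' : p.Coprime r := (Nat.coprime_primes hp hr).2 hpr
  have hc : (cidx x').Coprime (cidx y') := by rw [ha, hb]; exact hpr'.pow _ _
  obtain ⟨s, c, hs, hsc⟩ := hB _ (orderOf_of_mem Q.isPGroup' (mul_mem hg hh))
  have h1 : cidx (x' * y') ∣ p ^ a * r ^ b := by
    rw [← ha, ← hb, ← index_inf_of_coprime hc]
    exact index_dvd_of_le (inf_cent_le_cent_mul _ _)
  have h2 : cidx (x' * y') ≤ cidx x' := by
    rw [hsc] at h1 ⊢
    rw [ha]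
    by_cases h3 : s = p
    · subst h3
      exact Nat.le_of_dvd (pow_pos hs.pos _) ((hpr'.pow _ _).dvd_of_dvd_mul_right h1)
    · exact (Nat.le_of_dvd (pow_pos hr.pos _)
        ((((Nat.coprime_primes hs hp).2 h3).pow _ _).dvd_of_dvd_mul_left h1)).trans hle
  have h3 := card_commutator_dvd hc h2
  rw [ha] at h3
  obtain ⟨k, hk⟩ := orderOf_of_mem Q.isPGroup' hh
  have h4 : p = q := by
    by_contra h4
    have h5 := (cidx_dvd_card_commutator (y := y') (by
      rw [hk]
      exact (((Nat.coprime_primes hq.out hp).2 (Ne.symm h4)).pow _ _).coprime_dvd_right h3)).trans h3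
    rw [hb] at h5
    exact hpr ((Nat.prime_dvd_prime_iff_eq hr hp).1
      (hr.dvd_of_dvd_pow ((dvd_pow_self r hb0).trans h5))).symm
  subst h4
  refine ⟨rfl, ?_⟩
  set K : Subgroup G := ⁅(⊤ : Subgroup G), zpowers y'⁆
  have hn : K.Normal := normalizer_eq_top_iff.1 (top_le_iff.1 (normalizer_commutator_ge_left _ _))
  have hn' : (K ⊔ zpowers y').Normal := by
    refine normalizer_eq_top_iff.1 (top_le_iff.1 fun t _ => mem_normalizer_of_map_conj_le ?_)
    rw [Subgroup.map_sup]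
    refine sup_le (le_sup_of_le_left (map_conj_le_of_normal le_rfl t))
      (map_conj_le_iff_forall.2 fun z hz => ?_)
    rw [show t * z * t⁻¹ = ⁅t, z⁆ * z by rw [commutatorElement_def]; group]
    exact mul_mem (mem_sup_left (commutator_mem_commutator (mem_top t) hz)) (mem_sup_right hz)
  have h5 : IsPGroup p (K ⊔ zpowers y' : Subgroup G) :=
    IsPGroup.to_sup_of_normal_left (IsPGroup.of_card_dvd_pow h3) (isPGroup_zpowers ⟨k, hk⟩)
  have h6 : y' ∈ pCore p G := le_pCore h5 (mem_sup_right (mem_zpowers y'))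
  have := (inferInstance : (pCore p G).Normal).conj_mem _ h6 h⁻¹
  simpa [hy', mul_assoc] using this

/-- In a `q`-Baer group one prime serves for all `q`-elements. -/
theorem exists_prime
    (hB : ∀ x : G, (∃ k : ℕ, orderOf x = q ^ k) → ∃ r a : ℕ, r.Prime ∧ cidx x = r ^ a) :
    ∃ p : ℕ, p.Prime ∧ ∀ x : G, (∃ k : ℕ, orderOf x = q ^ k) → ∃ a, cidx x = p ^ a := by
  by_contra! hc
  obtain ⟨y, hy, hy'⟩ := hc q hq.out
  obtain ⟨r, b, hr, hb⟩ := hB y hy
  have hrq : r ≠ q := fun h => hy' b (h ▸ hb)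
  have hb0 : b ≠ 0 := fun h => hy' 0 (by rw [hb, h, pow_zero, pow_zero])
  obtain ⟨x, hx, hx'⟩ := hc r hr
  obtain ⟨s, a, hs, ha⟩ := hB x hx
  have hsr : s ≠ r := fun h => hx' a (h ▸ ha)
  have ha0 : a ≠ 0 := fun h => hx' 0 (by rw [ha, h, pow_zero, pow_zero])
  have hsq : s = q := by
    rcases le_total (r ^ b) (s ^ a) with h | h
    · exact (pair hB hx hy hs hr hsr ha hb hb0 h).1
    · exact absurd (pair hB hy hx hr hs hsr.symm hb ha ha0 h).1 hrq
  subst hsq
  have key : ∀ w : G, (∃ k : ℕ, orderOf w = s ^ k) → w ∈ pCore s G := by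
    intro w hw
    obtain ⟨t, c, ht, hc⟩ := hB w hw
    by_cases h1 : t = s
    · exact mem_pCore_of_cidx_pow hw ⟨c, h1 ▸ hc⟩
    by_cases h2 : c = 0
    · exact mem_pCore_of_cidx_pow hw ⟨0, by rw [hc, h2, pow_zero, pow_zero]⟩
    rcases le_total (t ^ c) (s ^ a) with h | h
    · exact (pair hB hx hw hs ht (Ne.symm h1) ha hc h2 h).2
    · exact absurd (pair hB hw hx ht hs h1 hc ha ha0 h).1 h1
  obtain ⟨Q⟩ : Nonempty (Sylow s G) := inferInstance
  have hQ : ∀ w : G, (∃ k : ℕ, orderOf w = s ^ k) → w ∈ (Q : Subgroup G) :=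
    fun w hw => pCore_le_sylow Q (key w hw)
  have := Fact.mk hr
  obtain ⟨R⟩ : Nonempty (Sylow r G) := inferInstance
  set Z := centralizer ((Q : Subgroup G) : Set G) with hZ
  set C := centralizer ((R : Subgroup G) : Set G) with hC
  have h1 : ∀ w ∈ (Q : Subgroup G), w ∈ Z ∨ ∃ u ∈ (Q : Subgroup G), u * w * u⁻¹ ∈ C := by
    intro w hw
    have hw' := orderOf_of_mem Q.isPGroup' hw
    obtain ⟨t, c, ht, hc⟩ := hB w hw'
    by_cases h1 : t = s
    · exact Or.inr (exists_conj_mem_centralizer Q ⟨c, h1 ▸ hc⟩ hrq R)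
    · obtain ⟨S, -, hS⟩ := exists_sylow_mem_le_cent hw' (by
        rw [hc]
        exact fun h => h1 ((Nat.prime_dvd_prime_iff_eq hs ht).1 (hs.dvd_of_dvd_pow h)).symm)
      refine Or.inl (le_cent_iff.1 fun z hz => hS ?_)
      exact pCore_le_sylow S (key z (orderOf_of_mem Q.isPGroup' hz))
  have h2 : ((Q ⊓ Z) ⊔ (Q ⊓ C) : Subgroup G).subgroupOf Q = ⊤ := by
    refine eq_top_of_forall_conj_mem fun w => ?_
    rcases h1 w w.2 with h | ⟨u, hu, h⟩
    · exact ⟨1, mem_subgroupOf.2 (mem_sup_left ⟨by simp, by simpa using h⟩)⟩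
    · exact ⟨⟨u, hu⟩, mem_subgroupOf.2 (mem_sup_right ⟨(⟨u, hu⟩ * w * ⟨u, hu⟩⁻¹ : Q).2, h⟩)⟩
  have h3 : (Q : Subgroup G) ≤ normalizer (((Q : Subgroup G) ⊓ C : Subgroup G) : Set G) :=
    (subgroupOf_eq_top.1 h2).trans (sup_le (GT.le_normalizer_of_le_centralizer
      (inf_le_right.trans (GT.centralizer_anti inf_le_left))) le_normalizer)
  rcases Orb2.le_or_le_of_forall (X := (Q : Subgroup G)) (A := Z) (B := C) (fun w hw =>
    (h1 w hw).imp id fun ⟨u, hu, h⟩ => by
      have := conj_mem_of_mem_normalizer' (h3 hu)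
        (mem_inf.2 ⟨mul_mem (mul_mem hu hw) (inv_mem hu), h⟩)
      simpa [mul_assoc] using this.2) with h | h
  · exact not_dvd_cidx_of_mem_centralizer Q (h (hQ x hx)) (ha ▸ dvd_pow_self s ha0)
  · exact not_dvd_cidx_of_mem_centralizer R (h (hQ y hy)) (hb ▸ dvd_pow_self r hb0)

end Cfsg.Agent.FG.Baer
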