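import Mathlib
import Cfsg.Agent.Sym.Orbits

/-! Bases (tuples with trivially acting common stabiliser) for groups acting on finite abelian
groups: definitions, imprimitivity systems, the wreath step, the affine structure of primitive
solvable permutation groups. -/

set_option autoImplicit false

namespace Cfsg.Agent.FG.BS

universe u

variable {G : Type*} {V : Type*} [Group G] [AddCommGroup V] [DistribMulAction G V]

/-- `U` is invariant under `G`. -/
def Invt (G : Type*) {V : Type*} [Group G] [AddCommGroup V] [DistribMulAction G V]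
    (U : AddSubgroup V) : Prop := ∀ g : G, ∀ v ∈ U, g • v ∈ U

/-- irreducible action (the zero module is allowed) -/
def Irr (G V : Type*) [Group G] [AddCommGroup V] [DistribMulAction G V] : Prop :=
  ∀ U : AddSubgroup V, Invt G U → U = ⊥ ∨ U = ⊤

/-- the common stabiliser of the tuple acts trivially -/
def IsBase (G : Type*) {V : Type*} [Group G] [AddCommGroup V] [DistribMulAction G V]
    {ι : Type*} (t : ι → V) : Prop := ∀ g : G, (∀ i, g • t i = t i) → ∀ x : V, g • x = x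

/-- independence of a finite family of subgroups -/
def Indep {ι : Type*} [Fintype ι] (W : ι → AddSubgroup V) : Prop :=
  ∀ w : ι → V, (∀ i, w i ∈ W i) → ∑ i, w i = 0 → ∀ i, w i = 0

theorem Indep.eq {ι : Type*} [Fintype ι] {W : ι → AddSubgroup V} (h : Indep W) {w w' : ι → V}
    (hw : ∀ i, w i ∈ W i) (hw' : ∀ i, w' i ∈ W i) (hs : ∑ i, w i = ∑ i, w' i) (i : ι) :
    w i = w' i := by
  have := h (fun i => w i - w' i) (fun i => (W i).sub_mem (hw i) (hw' i))
    (by rw [Finset.sum_sub_distrib, hs, sub_self]) i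
  exact sub_eq_zero.mp this

/-- eigenspace-type independence criterion -/
theorem indep_of_sep {ι : Type*} [Fintype ι] (W : ι → AddSubgroup V)
    (h : ∀ i j, i ≠ j → ∃ φ : V →+ V, (∀ k, ∀ x ∈ W k, φ x ∈ W k) ∧ (∀ x ∈ W j, φ x = 0) ∧
      ∀ x ∈ W i, φ x = 0 → x = 0) : Indep W := by
  classical
  have key : ∀ s : Finset ι, ∀ w : ι → V, (∀ i, w i ∈ W i) → ∑ i ∈ s, w i = 0 →
      ∀ i ∈ s, w i = 0 := by
    intro s
    induction s using Finset.induction_on with
    | empty => intro w _ _ i hi; simp at hi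
    | insert j s hj ih =>
      intro w hw hs
      rw [Finset.sum_insert hj] at hs
      have h1 : ∀ i ∈ s, w i = 0 := by
        intro i hi
        obtain ⟨φ, hφ1, hφ2, hφ3⟩ := h i j (fun e => hj (e ▸ hi))
        refine hφ3 _ (hw i) (ih (fun k => φ (w k)) (fun k => hφ1 k _ (hw k)) ?_ i hi)
        have := congrArg φ hs
        rwa [map_add, hφ2 _ (hw j), zero_add, map_zero, map_sum] at this
      intro i hi
      rcases Finset.mem_insert.mp hi with rfl | hi
      · rwa [Finset.sum_eq_zero h1, add_zero] at hs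
      · exact h1 i hi
  intro w hw hs i
  exact key Finset.univ w hw hs i (Finset.mem_univ i)

/-- the action of a subgroup on an invariant subgroup -/
@[reducible] def subAct (H : Subgroup G) (W : AddSubgroup V) (hW : ∀ h ∈ H, ∀ v ∈ W, h • v ∈ W) :
    DistribMulAction H W where
  smul h w := ⟨(h : G) • (w : V), hW h h.2 w w.2⟩
  one_smul w := Subtype.ext (one_smul G (w : V))
  mul_smul a b w := Subtype.ext (mul_smul (a : G) (b : G) (w : V))
  smul_zero a := Subtype.ext (smul_zero (a : G))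
  smul_add a x y := Subtype.ext (smul_add (a : G) (x : V) (y : V))

/-- a transitive system of imprimitivity -/
structure Imprim (G : Type*) {V Ω : Type*} [Group G] [AddCommGroup V] [DistribMulAction G V]
    [Fintype Ω] [MulAction G Ω] (W : Ω → AddSubgroup V) : Prop where
  equiv : ∀ (g : G) (ω : Ω), ∀ x ∈ W ω, g • x ∈ W (g • ω)
  indep : Indep W
  span : ∀ v : V, ∃ w : Ω → V, (∀ ω, w ω ∈ W ω) ∧ ∑ ω, w ω = v
  trans : ∀ ω ω' : Ω, ∃ g : G, g • ω = ω'

section imprim
variable {Ω : Type*} [Fintype Ω] [MulAction G Ω] {W : Ω → AddSubgroup V}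

theorem Imprim.comp (h : Imprim G W) (g : G) {w w' : Ω → V} (hw : ∀ ω, w ω ∈ W ω)
    (hw' : ∀ ω, w' ω ∈ W ω) (hg : g • ∑ ω, w ω = ∑ ω, w' ω) (ω : Ω) : g • w ω = w' (g • ω) := by
  have h1 : ∑ ω, g • w (g⁻¹ • ω) = ∑ ω, w' ω := by
    rw [← hg, Finset.smul_sum]
    exact Fintype.sum_equiv (MulAction.toPerm g⁻¹) _ _ (fun _ => rfl)
  have h2 := h.indep.eq (w := fun ω => g • w (g⁻¹ • ω)) (fun ω => by
    have := h.equiv g _ _ (hw (g⁻¹ • ω)); rwa [smul_inv_smul] at this) hw' h1 (g • ω)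
  simpa using h2

theorem Imprim.stab_inv (h : Imprim G W) (ω : Ω) :
    ∀ g ∈ MulAction.stabilizer G ω, ∀ x ∈ W ω, g • x ∈ W ω := fun g hg x hx => by
  have := h.equiv g ω x hx
  rwa [MulAction.mem_stabilizer_iff.mp hg] at this

/-- the wreath step -/
theorem Imprim.wreath (h : Imprim G W) (ω0 : Ω) {ι γ : Type*} (t : γ → ι → V)
    (ht : ∀ c i, t c i ∈ W ω0)
    (hb : ∀ c, ∀ g : G, g • ω0 = ω0 → (∀ i, g • t c i = t c i) → ∀ x ∈ W ω0, g • x = x)
    (hne : ∀ c c', ∀ g : G, g • ω0 = ω0 → (∀ i, g • t c i = t c' i) → c = c')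
    (χ : Ω → γ) (hχ : ∀ g : G, (∀ ω, χ (g • ω) = χ ω) → ∀ ω : Ω, g • ω = ω) :
    ∃ v : ι → V, IsBase G v := by
  choose s hs using h.trans ω0
  have hmem : ∀ i ω, s ω • t (χ ω) i ∈ W ω := fun i ω => by
    have := h.equiv (s ω) ω0 _ (ht (χ ω) i); rwa [hs] at this
  refine ⟨fun i => ∑ ω, s ω • t (χ ω) i, fun g hg => ?_⟩
  have h1 : ∀ ω i, ((s (g • ω))⁻¹ * g * s ω) • t (χ ω) i = t (χ (g • ω)) i := fun ω i => by
    have := h.comp g (hmem i) (hmem i) (hg i) ω
    rw [mul_smul, mul_smul, this, inv_smul_smul]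
  have h0 : ∀ ω, ((s (g • ω))⁻¹ * g * s ω) • ω0 = ω0 := fun ω => by
    rw [mul_smul, mul_smul, hs, inv_smul_eq_iff, hs]
  have h2 : ∀ ω, χ (g • ω) = χ ω := fun ω => (hne _ _ _ (h0 ω) (h1 ω)).symm
  have h3 := hχ g h2
  intro x
  obtain ⟨w, hw, rfl⟩ := h.span x
  rw [Finset.smul_sum]
  refine Finset.sum_congr rfl fun ω _ => ?_
  have h4 := hb (χ ω) _ (h0 ω) (fun i => by rw [h1, h2]) ((s ω)⁻¹ • w ω) (by
    have := h.equiv (s ω)⁻¹ ω _ (hw ω)
    rwa [inv_smul_eq_iff.mpr (hs ω).symm] at this)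
  rw [h3, mul_smul, mul_smul, smul_inv_smul] at h4
  exact MulAction.injective _ h4

/-- a block of an irreducible module is irreducible for its stabiliser -/
theorem Imprim.irr_block (h : Imprim G W) (hirr : Irr G V) (ω0 : Ω) :
    @Irr (MulAction.stabilizer G ω0) (W ω0) _ _ (subAct _ _ (h.stab_inv ω0)) := by
  classical
  intro U hU
  choose s hs using h.trans ω0
  let U' : AddSubgroup V := U.map (W ω0).subtype
  have hU' : ∀ g : G, g • ω0 = ω0 → ∀ x ∈ U', g • x ∈ U' := by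
    rintro g hg _ ⟨y, hy, rfl⟩
    exact ⟨_, hU ⟨g, hg⟩ y hy, rfl⟩
  have hU'W : ∀ x ∈ U', x ∈ W ω0 := by rintro _ ⟨y, -, rfl⟩; exact y.2
  let T : AddSubgroup V :=
    { carrier := {v | ∃ w : Ω → V, (∀ ω, (s ω)⁻¹ • w ω ∈ U') ∧ ∑ ω, w ω = v}
      zero_mem' := ⟨0, fun ω => by simp, by simp⟩
      add_mem' := by
        rintro _ _ ⟨w, hw, rfl⟩ ⟨w', hw', rfl⟩
        exact ⟨w + w', fun ω => by simpa using U'.add_mem (hw ω) (hw' ω),
          by simp [Finset.sum_add_distrib]⟩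
      neg_mem' := by
        rintro _ ⟨w, hw, rfl⟩
        exact ⟨-w, fun ω => by simpa using hw ω, by simp⟩ }
  have hT : Invt G T := by
    rintro g _ ⟨w, hw, rfl⟩
    refine ⟨fun ω => g • w (g⁻¹ • ω), fun ω => ?_, ?_⟩
    · have := hU' ((s ω)⁻¹ * g * s (g⁻¹ • ω))
        (by rw [mul_smul, mul_smul, hs, smul_inv_smul, inv_smul_eq_iff, hs]) _ (hw (g⁻¹ • ω))
      rwa [mul_smul, mul_smul, smul_inv_smul] at this
    · rw [Finset.smul_sum]
      exact Fintype.sum_equiv (MulAction.toPerm g⁻¹) _ _ (fun _ => rfl)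
  have hsingle : ∀ x : V, ∑ ω, (Pi.single ω0 x : Ω → V) ω = x := fun x => by simp
  rcases hirr T hT with h0 | h1
  · left
    rw [eq_bot_iff]
    intro y hy
    have : (y : V) ∈ T := by
      refine ⟨Pi.single ω0 y, fun ω => ?_, hsingle _⟩
      by_cases hω : ω = ω0
      · subst hω
        rw [Pi.single_eq_same]
        exact hU' _ (inv_smul_eq_iff.mpr (hs ω).symm) _ ⟨y, hy, rfl⟩
      · rw [Pi.single_eq_of_ne hω, smul_zero]; exact U'.zero_mem
    rw [h0, AddSubgroup.mem_bot] at this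
    exact AddSubgroup.mem_bot.mpr (Subtype.ext this)
  · right
    rw [eq_top_iff]
    intro y _
    obtain ⟨w, hw, hsum⟩ : (y : V) ∈ T := h1 ▸ AddSubgroup.mem_top _
    have hwW : ∀ ω, w ω ∈ W ω := fun ω => by
      have := h.equiv (s ω) ω0 _ (hU'W _ (hw ω))
      rwa [smul_inv_smul, hs] at this
    have := h.indep.eq hwW (w' := Pi.single ω0 y) (fun ω => by
      by_cases hω : ω = ω0
      · subst hω; rw [Pi.single_eq_same]; exact y.2
      · rw [Pi.single_eq_of_ne hω]; exact (W ω).zero_mem) (by rw [hsum, hsingle]) ω0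
    rw [Pi.single_eq_same] at this
    have h2 := hU' (s ω0) (hs ω0) _ (hw ω0)
    rw [smul_inv_smul, this] at h2
    obtain ⟨z, hz, hzy⟩ := h2
    exact (Subtype.ext hzy : z = y) ▸ hz

theorem Imprim.card_index_lt [Finite V] (h : Imprim G W) (ω0 : Ω) (h0 : W ω0 ≠ ⊥) :
    Nat.card Ω < Nat.card V := by
  classical
  obtain ⟨x, hx, hx0⟩ := (AddSubgroup.bot_or_exists_ne_zero _).resolve_left h0
  choose s hs using h.trans ω0
  have hmem : ∀ ω, s ω • x ∈ W ω := fun ω => by
    have := h.equiv (s ω) ω0 _ hx; rwa [hs] at this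
  have hne : ∀ ω, s ω • x ≠ 0 := fun ω e => hx0 ((smul_eq_zero_iff_eq _).mp e)
  let f : Option Ω → V := fun o => o.elim 0 (fun ω => s ω • x)
  have hf : Function.Injective f := by
    rintro (_ | a) (_ | b) hab
    · rfl
    · exact absurd hab.symm (hne b)
    · exact absurd hab (hne a)
    · by_contra hc
      have hab' : a ≠ b := fun e => hc (by rw [e])
      have := h.indep.eq (w := Pi.single a (s a • x)) (w' := Pi.single b (s b • x))
        (fun ω => by
          by_cases hω : ω = a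
          · subst hω; rw [Pi.single_eq_same]; exact hmem _
          · rw [Pi.single_eq_of_ne hω]; exact (W ω).zero_mem)
        (fun ω => by
          by_cases hω : ω = b
          · subst hω; rw [Pi.single_eq_same]; exact hmem _
          · rw [Pi.single_eq_of_ne hω]; exact (W ω).zero_mem)
        (by simpa [f] using hab) a
      rw [Pi.single_eq_same, Pi.single_eq_of_ne hab'] at this
      exact hne a this
  have := Nat.card_le_card_of_injective f hf
  rw [Finite.card_option] at this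
  omega

theorem Imprim.card_block_lt [Finite V] (h : Imprim G W) (ω0 : Ω) (h0 : W ω0 ≠ ⊥)
    [Nontrivial Ω] : Nat.card (W ω0) < Nat.card V := by
  classical
  have hne : W ω0 ≠ ⊤ := by
    intro ht
    obtain ⟨ω1, hω1⟩ := exists_ne ω0
    obtain ⟨x, hx, hx0⟩ := (AddSubgroup.bot_or_exists_ne_zero _).resolve_left h0
    obtain ⟨g, hg⟩ := h.trans ω0 ω1
    have hm : g • x ∈ W ω1 := hg ▸ h.equiv g ω0 x hx
    have := h.indep.eq (w := Pi.single ω1 (g • x)) (w' := Pi.single ω0 (g • x))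
      (fun ω => by
        by_cases hω : ω = ω1
        · subst hω; rw [Pi.single_eq_same]; exact hm
        · rw [Pi.single_eq_of_ne hω]; exact (W ω).zero_mem)
      (fun ω => by
        by_cases hω : ω = ω0
        · subst hω; rw [Pi.single_eq_same, ht]; trivial
        · rw [Pi.single_eq_of_ne hω]; exact (W ω).zero_mem)
      (by simp) ω1
    rw [Pi.single_eq_same, Pi.single_eq_of_ne hω1] at this
    exact hx0 ((smul_eq_zero_iff_eq _).mp this)
  have h1 := AddSubgroup.card_le_card_addGroup (W ω0)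
  refine lt_of_le_of_ne h1 fun e => hne (AddSubgroup.eq_top_of_card_eq _ e)

/-- merging blocks along an equivariant map -/
theorem Imprim.merge (h : Imprim G W) {Ω' : Type*} [Fintype Ω'] [MulAction G Ω'] (π : Ω → Ω')
    (hπ : ∀ (g : G) ω, π (g • ω) = g • π ω) (hs : Function.Surjective π) :
    ∃ W' : Ω' → AddSubgroup V, Imprim G W' ∧ ∀ ω, W ω ≤ W' (π ω) := by
  classical
  let W' : Ω' → AddSubgroup V := fun c =>
    { carrier := {v | ∃ w : Ω → V, (∀ ω, w ω ∈ W ω) ∧ (∀ ω, π ω ≠ c → w ω = 0) ∧ ∑ ω, w ω = v}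
      zero_mem' := ⟨0, fun ω => by simp, by simp, by simp⟩
      add_mem' := by
        rintro _ _ ⟨w, hw, hw0, rfl⟩ ⟨w', hw', hw0', rfl⟩
        exact ⟨w + w', fun ω => (W ω).add_mem (hw ω) (hw' ω),
          fun ω hω => by simp [hw0 ω hω, hw0' ω hω], by simp [Finset.sum_add_distrib]⟩
      neg_mem' := by
        rintro _ ⟨w, hw, hw0, rfl⟩
        exact ⟨-w, fun ω => (W ω).neg_mem (hw ω), fun ω hω => by simp [hw0 ω hω], by simp⟩ }
  refine ⟨W', ⟨?_, ?_, ?_, ?_⟩, ?_⟩
  · rintro g c _ ⟨w, hw, hw0, rfl⟩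
    refine ⟨fun ω => g • w (g⁻¹ • ω), fun ω => ?_, fun ω hω => ?_, ?_⟩
    · have := h.equiv g _ _ (hw (g⁻¹ • ω)); rwa [smul_inv_smul] at this
    · show g • w (g⁻¹ • ω) = 0
      rw [hw0 _ (fun e => hω (by rw [← e, hπ, smul_inv_smul])), smul_zero]
    · rw [Finset.smul_sum]
      exact Fintype.sum_equiv (MulAction.toPerm g⁻¹) _ _ (fun _ => rfl)
  · intro x hx hsum c
    choose w hw hw0 hws using hx
    have h1 : ∀ ω, ∑ c, w c ω = w (π ω) ω := fun ω =>
      Finset.sum_eq_single _ (fun c _ hc => hw0 c ω hc.symm) (by simp)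
    have h2 := h.indep (fun ω => w (π ω) ω) (fun ω => hw _ ω) (by
      rw [← hsum, ← Finset.sum_congr rfl (fun ω _ => h1 ω), Finset.sum_comm]
      exact Finset.sum_congr rfl fun c _ => hws c)
    rw [← hws c]
    refine Finset.sum_eq_zero fun ω _ => ?_
    by_cases hω : π ω = c
    · subst hω; exact h2 ω
    · exact hw0 c ω hω
  · intro v
    obtain ⟨w, hw, rfl⟩ := h.span v
    refine ⟨fun c => ∑ ω, if π ω = c then w ω else 0, fun c => ⟨_, fun ω => ?_, fun ω hω => ?_, rfl⟩, ?_⟩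
    · split_ifs
      · exact hw ω
      · exact (W ω).zero_mem
    · exact if_neg hω
    · rw [Finset.sum_comm]; simp
  · intro c c'
    obtain ⟨ω, rfl⟩ := hs c
    obtain ⟨ω', rfl⟩ := hs c'
    obtain ⟨g, rfl⟩ := h.trans ω ω'
    exact ⟨g, (hπ g ω).symm⟩
  · intro ω x hx
    refine ⟨Pi.single ω x, fun ω' => ?_, fun ω' hω' => ?_, by simp⟩
    · by_cases e : ω' = ω
      · subst e; rw [Pi.single_eq_same]; exact hx
      · rw [Pi.single_eq_of_ne e]; exact (W ω').zero_mem
    · exact Pi.single_eq_of_ne (fun e => hω' (by rw [e])) _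

end imprim

/-- reduction of completely reducible modules to irreducible ones -/
theorem exists_base_of_cr [Finite V] {ι : Type*}
    (hcr : ∀ U : AddSubgroup V, Invt G U → ∃ W : AddSubgroup V, Invt G W ∧ U ⊓ W = ⊥ ∧ U ⊔ W = ⊤)
    (hirr : ∀ (W : AddSubgroup V) (hW : ∀ h ∈ (⊤ : Subgroup G), ∀ v ∈ W, h • v ∈ W),
      @Irr (⊤ : Subgroup G) W _ _ (subAct _ _ hW) →
      ∃ t : ι → W, @IsBase (⊤ : Subgroup G) W _ _ (subAct _ _ hW) ι t) :
    ∃ t : ι → V, IsBase G t := by
  have key : ∀ U : AddSubgroup V, Invt G U → ∃ t : ι → V, (∀ i, t i ∈ U) ∧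
      ∀ g : G, (∀ i, g • t i = t i) → ∀ x ∈ U, g • x = x := by
    intro U
    induction U using WellFoundedLT.induction with
    | _ U ih =>
    intro hU
    by_cases hUb : U = ⊥
    · subst hUb
      exact ⟨0, by simp, fun g _ x hx => by rw [AddSubgroup.mem_bot.mp hx, smul_zero]⟩
    obtain ⟨U', ⟨hU'lt, hU'⟩, hmax⟩ := (Set.toFinite {U' : AddSubgroup V | U' < U ∧ Invt G U'}).exists_maximal
      ⟨⊥, bot_lt_iff_ne_bot.mpr hUb, fun g v hv => by
        rw [AddSubgroup.mem_bot.mp hv, smul_zero]; exact AddSubgroup.zero_mem _⟩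
    obtain ⟨W', hW', hd, hc⟩ := hcr U' hU'
    have hW : ∀ h ∈ (⊤ : Subgroup G), ∀ v ∈ W' ⊓ U, h • v ∈ W' ⊓ U :=
      fun h _ v hv => ⟨hW' h v hv.1, hU h v hv.2⟩
    have hdec : ∀ x ∈ U, ∃ a ∈ U', ∃ b ∈ W' ⊓ U, a + b = x := by
      intro x hx
      obtain ⟨a, ha, b, hb, hab⟩ := AddSubgroup.mem_sup.mp (hc ▸ AddSubgroup.mem_top x : x ∈ U' ⊔ W')
      refine ⟨a, ha, b, ⟨hb, ?_⟩, hab⟩
      rw [show b = x - a by rw [← hab]; abel]
      exact U.sub_mem hx (hU'lt.le ha)
    have hzero : ∀ a ∈ U', ∀ b ∈ W', a + b = 0 → b = 0 := by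
      intro a ha b hb hab
      have : b ∈ U' ⊓ W' := ⟨by rw [eq_neg_of_add_eq_zero_right hab]; exact U'.neg_mem ha, hb⟩
      rwa [hd, AddSubgroup.mem_bot] at this
    obtain ⟨t2, ht2⟩ := hirr (W' ⊓ U) hW (by
      intro Y hY
      by_cases hYb : Y = ⊥
      · exact Or.inl hYb
      right
      let Y' := Y.map (W' ⊓ U).subtype
      have hY'U : Y' ≤ W' ⊓ U := AddSubgroup.map_subtype_le Y
      have hinv : Invt G (U' ⊔ Y') := by
        intro g v hv
        obtain ⟨a, ha, _, ⟨b, hb, rfl⟩, rfl⟩ := AddSubgroup.mem_sup.mp hv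
        rw [smul_add]
        exact AddSubgroup.add_mem_sup (hU' g a ha) ⟨_, hY ⟨g, trivial⟩ b hb, rfl⟩
      have hle : U' ⊔ Y' ≤ U := sup_le hU'lt.le (hY'U.trans inf_le_right)
      have heq : U' ⊔ Y' = U := by
        by_contra hne
        have h1 := hmax ⟨lt_of_le_of_ne hle hne, hinv⟩ le_sup_left
        obtain ⟨y, hy, hy0⟩ := (AddSubgroup.bot_or_exists_ne_zero _).resolve_left hYb
        have : (y : V) ∈ U' ⊓ W' := ⟨h1 (AddSubgroup.mem_sup_right ⟨y, hy, rfl⟩), y.2.1⟩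
        rw [hd, AddSubgroup.mem_bot] at this
        exact hy0 (Subtype.ext this)
      rw [eq_top_iff]
      intro z _
      have hz : (z : V) ∈ U' ⊔ Y' := by rw [heq]; exact z.2.2
      obtain ⟨a, ha, _, ⟨b, hb, rfl⟩, hab⟩ := AddSubgroup.mem_sup.mp hz
      have := hzero a ha (b - z) (W'.sub_mem b.2.1 z.2.1) (by
        rw [← hab]; simp)
      exact (Subtype.ext (sub_eq_zero.mp this) : b = z) ▸ hb)
    obtain ⟨t1, ht1, ht1b⟩ := ih U' hU'lt hU'
    refine ⟨fun i => t1 i + t2 i, fun i => U.add_mem (hU'lt.le (ht1 i)) (t2 i).2.2, fun g hg x hx => ?_⟩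
    have h2 : ∀ i, g • (t2 i : V) = t2 i := fun i => by
      have := hzero (g • t1 i - t1 i) (U'.sub_mem (hU' g _ (ht1 i)) (ht1 i)) (g • t2 i - t2 i)
        (W'.sub_mem (hW' g _ (t2 i).2.1) (t2 i).2.1) (by
          have := hg i
          simp only [smul_add] at this
          rw [sub_add_sub_comm, this, sub_self])
      exact sub_eq_zero.mp this
    have h1 : ∀ i, g • t1 i = t1 i := fun i => by
      have := hg i
      simp only [smul_add, h2] at this
      exact add_right_cancel this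
    obtain ⟨a, ha, b, hb, rfl⟩ := hdec x hx
    rw [smul_add, ht1b g h1 a ha]
    congr 1
    exact congrArg Subtype.val (ht2 ⟨g, trivial⟩ (fun i => Subtype.ext (h2 i)) ⟨b, hb⟩)
  obtain ⟨t, -, ht⟩ := key ⊤ (fun _ _ _ => trivial)
  exact ⟨t, fun g hg x => ht g hg x trivial⟩

end Cfsg.Agent.FG.BS
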