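import Mathlib
import Cfsg.Agent.FG.BaseDefs

/-! Affine structure of primitive solvable groups, the imprimitive/fixed-point-free dichotomy,
many inequivalent bases, distinguishing colourings. -/

set_option autoImplicit false

namespace Cfsg.Agent.FG.BS

universe u

open scoped commutatorElement

/-- a primitive solvable permutation group is affine -/
theorem exists_affine {G : Type u} [Group G] [Finite G] [Group.IsSolvable G] (M : Subgroup G)
    (hM : IsCoatom M) :
    ∃ (A : Type u) (_ : AddCommGroup A) (_ : DistribMulAction M A) (e : A ≃ G ⧸ M),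
      Irr M A ∧ e 0 = ((1 : G) : G ⧸ M) ∧ (∀ (m : M) (a : A), e (m • a) = (m : G) • e a) ∧
      ∀ a, ∃ n : G, ∀ b, e (a + b) = n • e b := by
  classical
  obtain ⟨N, ⟨hNn, hNM⟩, hmin⟩ := (Set.toFinite {N : Subgroup G | N.Normal ∧ ¬ N ≤ M}).exists_minimal
    ⟨⊤, inferInstance, fun h => hM.1 (top_le_iff.mp h)⟩
  let τ := MulAction.toPermHom G (G ⧸ M)
  have hker : ∀ K : Subgroup G, K.Normal → K ≤ M → ∀ k ∈ K, τ k = 1 := by
    intro K hK hKM k hk
    rw [← MonoidHom.mem_ker, ← Subgroup.normalCore_eq_ker]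
    exact Subgroup.normal_le_normalCore.mpr hKM hk
  have hNb : N ≠ ⊥ := fun h => hNM (h ▸ bot_le)
  have hcomm : ⁅N, N⁆ ≤ M := by
    by_contra hc
    have h1 := hmin ⟨inferInstance, hc⟩ (Subgroup.commutator_le_left N N)
    exact (Group.IsSolvable.commutator_lt_of_ne_bot hNb).not_ge h1
  let B : Subgroup (Equiv.Perm (G ⧸ M)) := N.map τ
  have hBc : ∀ x ∈ B, ∀ y ∈ B, x * y = y * x := by
    rintro _ ⟨a, ha, rfl⟩ _ ⟨b, hb, rfl⟩
    have := hker _ inferInstance hcomm _ (Subgroup.commutator_mem_commutator ha hb)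
    rw [map_commutatorElement] at this
    exact commutatorElement_eq_one_iff_mul_comm.mp this
  let _ : CommGroup B := { (inferInstance : Group B) with
    mul_comm := fun x y => Subtype.ext (hBc _ x.2 _ y.2) }
  have hconj : ∀ (g : G), ∀ x ∈ B, τ g * x * (τ g)⁻¹ ∈ B := by
    rintro g _ ⟨a, ha, rfl⟩
    exact ⟨g * a * g⁻¹, hNn.conj_mem a ha g, by simp⟩
  let act : DistribMulAction M (Additive B) :=
    { smul := fun m a => Additive.ofMul ⟨τ m * (a.toMul : B) * (τ m)⁻¹, hconj m _ a.toMul.2⟩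
      one_smul := fun a => by
        apply Additive.toMul.injective; apply Subtype.ext
        show τ ((1 : M) : G) * _ * (τ ((1 : M) : G))⁻¹ = _
        simp
      mul_smul := fun m m' a => by
        apply Additive.toMul.injective; apply Subtype.ext
        show τ ((m * m' : M) : G) * _ * (τ ((m * m' : M) : G))⁻¹ = τ m * (τ m' * _ * (τ m')⁻¹) * (τ m)⁻¹
        simp [mul_assoc]
      smul_zero := fun m => by
        apply Additive.toMul.injective; apply Subtype.ext
        show τ m * 1 * (τ m)⁻¹ = 1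
        simp
      smul_add := fun m a b => by
        apply Additive.toMul.injective; apply Subtype.ext
        show τ m * ((a.toMul : B) * (b.toMul : B)) * (τ m)⁻¹ =
          (τ m * (a.toMul : B) * (τ m)⁻¹) * (τ m * (b.toMul : B) * (τ m)⁻¹)
        group }
  have hsmul : ∀ (m : M) (a : Additive B),
      ((m • a).toMul : Equiv.Perm (G ⧸ M)) = τ m * (a.toMul : B) * (τ m)⁻¹ := fun _ _ => rfl
  have hsup : N ⊔ M = ⊤ := hM.2 _ (lt_of_le_of_ne le_sup_right fun h => hNM (h ▸ le_sup_left))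
  have hdec : ∀ g : G, ∃ n ∈ N, ∃ m ∈ M, g = n * m := by
    intro g
    have : g ∈ ((N ⊔ M : Subgroup G) : Set G) := by rw [hsup]; trivial
    rw [Subgroup.normal_mul] at this
    obtain ⟨n, hn, m, hm, rfl⟩ := this
    exact ⟨n, hn, m, hm, rfl⟩
  have hfix : ∀ m ∈ M, τ m ((1 : G) : G ⧸ M) = ((1 : G) : G ⧸ M) := by
    intro m hm
    show ((m * 1 : G) : G ⧸ M) = _
    rw [QuotientGroup.eq]; simpa using hm
  let f : Additive B → G ⧸ M := fun a => (a.toMul : Equiv.Perm (G ⧸ M)) ((1 : G) : G ⧸ M)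
  have hsurj : Function.Surjective f := by
    intro q
    obtain ⟨g, rfl⟩ := QuotientGroup.mk_surjective q
    obtain ⟨n, hn, m, hm, rfl⟩ := hdec g
    refine ⟨Additive.ofMul ⟨τ n, n, hn, rfl⟩, ?_⟩
    show ((n * 1 : G) : G ⧸ M) = _
    rw [QuotientGroup.eq]; simpa using hm
  have hinj : Function.Injective f := by
    intro a b hab
    apply Additive.toMul.injective; apply Subtype.ext
    ext1 q
    obtain ⟨c, rfl⟩ := hsurj q
    show ((a.toMul : Equiv.Perm (G ⧸ M)) * c.toMul) _ = ((b.toMul : Equiv.Perm (G ⧸ M)) * c.toMul) _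
    rw [hBc _ a.toMul.2 _ c.toMul.2, hBc _ b.toMul.2 _ c.toMul.2]
    exact congrArg (c.toMul : Equiv.Perm (G ⧸ M)) hab
  refine ⟨Additive B, inferInstance, act, Equiv.ofBijective f ⟨hinj, hsurj⟩, ?_, rfl, ?_, ?_⟩
  · intro U hU
    let N' : Subgroup G := N ⊓ ((AddSubgroup.toSubgroup' U).map B.subtype).comap τ
    have hN' : N'.Normal := ⟨by
      rintro x ⟨hx, y, hy, hyx⟩ g
      refine ⟨hNn.conj_mem x hx g, ?_⟩
      obtain ⟨n, hn, m, hm, rfl⟩ := hdec g
      refine ⟨((⟨m, hm⟩ : M) • Additive.ofMul y : Additive B).toMul, hU _ _ hy, ?_⟩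
      show τ m * (y : Equiv.Perm (G ⧸ M)) * (τ m)⁻¹ = _
      have h1 := hBc _ ⟨n, hn, rfl⟩ _ (hconj m _ y.2)
      have h2 : (y : Equiv.Perm (G ⧸ M)) = τ x := hyx
      simp only [map_mul, map_inv, mul_inv_rev]
      rw [← h2]
      calc τ m * (y : Equiv.Perm (G ⧸ M)) * (τ m)⁻¹
          = (τ m * (y : Equiv.Perm (G ⧸ M)) * (τ m)⁻¹ * τ n) * (τ n)⁻¹ := by group
        _ = _ := by rw [← h1]; group⟩
    by_cases hc : N' ≤ M
    · left
      rw [eq_bot_iff]
      intro a ha
      obtain ⟨n, hn, hna⟩ := a.toMul.2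
      have := hker N' hN' hc n ⟨hn, a.toMul, ha, hna.symm⟩
      rw [AddSubgroup.mem_bot]
      apply Additive.toMul.injective; apply Subtype.ext
      rw [← hna, this]; rfl
    · right
      have h1 := hmin ⟨hN', hc⟩ inf_le_left
      rw [eq_top_iff]
      intro a _
      obtain ⟨n, hn, hna⟩ := a.toMul.2
      obtain ⟨-, y, hy, hyn⟩ := h1 hn
      have : y = a.toMul := Subtype.ext (by rw [← hna]; exact hyn)
      subst this
      exact hy
  · intro m a
    show ((m • a).toMul : Equiv.Perm (G ⧸ M)) _ = τ m (f a)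
    rw [hsmul, Equiv.Perm.mul_apply, Equiv.Perm.mul_apply, ← map_inv, hfix _ (M.inv_mem m.2)]
  · intro a
    obtain ⟨n, -, hna⟩ := a.toMul.2
    refine ⟨n, fun b => ?_⟩
    show ((a.toMul : Equiv.Perm (G ⧸ M)) * b.toMul) _ = τ n (f b)
    rw [hna]; rfl

variable {G : Type*} {V : Type*} [Group G] [AddCommGroup V] [DistribMulAction G V]

/-- the fixed points of a subgroup -/
def fixS (V : Type*) [AddCommGroup V] [DistribMulAction G V] (H : Subgroup G) : AddSubgroup V where
  carrier := {v | ∀ h ∈ H, h • v = v}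
  zero_mem' := fun h _ => smul_zero h
  add_mem' := fun ha hb h hh => by rw [smul_add, ha h hh, hb h hh]
  neg_mem' := fun ha h hh => by rw [smul_neg, ha h hh]

theorem mem_fixS {H : Subgroup G} {v : V} : v ∈ fixS V H ↔ ∀ h ∈ H, h • v = v := Iff.rfl

open Pointwise in
/-- a normal abelian subgroup of an irreducible group is fixed-point-free, or the module is
induced from a maximal subgroup -/
theorem fpf_or_imprim [Finite G] [Finite V] [FaithfulSMul G V] (hirr : Irr G V) (U : Subgroup G)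
    [hUn : U.Normal] (hUc : ∀ x ∈ U, ∀ y ∈ U, x * y = y * x) :
    (∀ u ∈ U, u ≠ 1 → ∀ v : V, u • v = v → v = 0) ∨
    ∃ (M : Subgroup G) (_ : Fintype (G ⧸ M)) (W : G ⧸ M → AddSubgroup V), IsCoatom M ∧
      Imprim G W ∧ W ((1 : G) : G ⧸ M) ≠ ⊥ := by
  classical
  by_cases h : ∀ u ∈ U, u ≠ 1 → ∀ v : V, u • v = v → v = 0
  · exact Or.inl h
  right
  push Not at h
  obtain ⟨u, hu, hu1, v, huv, hv⟩ := h
  obtain ⟨U0, ⟨hU0, hW0⟩, hmax'⟩ := Set.exists_max_image
    {U0 : Subgroup G | U0 ≤ U ∧ fixS V U0 ≠ ⊥} (fun U0 => Nat.card U0) (Set.toFinite _)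
    ⟨⊥, bot_le, fun h => hv (by
      rw [← AddSubgroup.mem_bot, ← h]; intro h hh; rw [Subgroup.mem_bot.mp hh, one_smul])⟩
  have hU0b : U0 ≠ ⊥ := by
    intro hb
    have h1 := hmax' (Subgroup.zpowers u) ⟨Subgroup.zpowers_le.mpr hu, fun h => hv (by
      rw [← AddSubgroup.mem_bot, ← h]
      rintro _ ⟨k, rfl⟩
      exact MulAction.mem_stabilizer_iff.mp
        (Subgroup.zpow_mem _ (MulAction.mem_stabilizer_iff.mpr huv) k))⟩
    simp only [hb, Subgroup.card_bot] at h1
    have := Subgroup.card_le_one_iff_eq_bot _ |>.mp h1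
    exact hu1 (Subgroup.zpowers_eq_bot.mp this)
  let W0 := fixS V U0
  let Ω := MulAction.orbit G W0
  have : Finite (AddSubgroup V) := inferInstance
  let _ : Fintype Ω := Fintype.ofFinite _
  have hΩ : ∀ ω : Ω, ∃ X : Subgroup G, X ≤ U ∧ Nat.card X = Nat.card U0 ∧ ω.1 = fixS V X ∧ ω.1 ≠ ⊥ := by
    rintro ⟨_, g, rfl⟩
    refine ⟨U0.map (MulAut.conj g).toMonoidHom, ?_, ?_, ?_, ?_⟩
    · rintro _ ⟨x, hx, rfl⟩; exact hUn.conj_mem x (hU0 hx) g
    · exact Subgroup.card_map_of_injective (MulAut.conj g).injective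
    · ext x
      show x ∈ g • W0 ↔ _
      rw [AddSubgroup.mem_pointwise_smul_iff_inv_smul_mem, mem_fixS, mem_fixS]
      constructor
      · rintro h _ ⟨y, hy, rfl⟩
        show (g * y * g⁻¹) • x = x
        rw [mul_smul, mul_smul, h y hy, smul_inv_smul]
      · intro h y hy
        have : (g * y * g⁻¹) • x = x := h _ ⟨y, hy, rfl⟩
        rw [mul_smul, mul_smul] at this
        exact eq_inv_smul_iff.mpr this
    · intro h
      apply hW0
      have h' : g • W0 = ⊥ := h
      have : W0 = g⁻¹ • (⊥ : AddSubgroup V) := by rw [← h', inv_smul_smul]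
      show W0 = ⊥
      rw [this, eq_bot_iff]
      intro x hx
      rw [AddSubgroup.mem_pointwise_smul_iff_inv_smul_mem, AddSubgroup.mem_bot] at hx
      exact (smul_eq_zero_iff_eq _).mp hx
  have hI : Imprim G (fun ω : Ω => ω.1) := by
    refine ⟨fun g ω x hx => AddSubgroup.smul_mem_pointwise_smul x g _ hx, ?_, ?_, ?_⟩
    · refine indep_of_sep _ fun i j hij => ?_
      obtain ⟨X, hX, hXc, hi, hi0⟩ := hΩ i
      obtain ⟨Y, hY, hYc, hj, -⟩ := hΩ j
      have hYX : ¬ Y ≤ X := fun h => hij (Subtype.ext (by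
        rw [hi, hj, Subgroup.eq_of_le_of_card_ge h (by omega)]))
      obtain ⟨y, hyY, hyX⟩ := SetLike.not_le_iff_exists.mp hYX
      refine ⟨DistribSMul.toAddMonoidHom V y - AddMonoidHom.id V, fun k x hx => ?_, fun x hx => ?_,
        fun x hx h0 => ?_⟩
      · obtain ⟨Z, hZ, -, hk, -⟩ := hΩ k
        refine AddSubgroup.sub_mem _ ?_ hx
        simp only [hk] at hx ⊢
        intro z hz
        show z • y • x = y • x
        rw [← mul_smul, hUc z (hZ hz) y (hY hyY), mul_smul, hx z hz]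
      · simp only [hj] at hx
        exact sub_eq_zero.mpr (hx y hyY)
      · by_contra hx0
        simp only [hi] at hx
        have hle : X ⊔ Subgroup.zpowers y ≤ MulAction.stabilizer G x :=
          sup_le (fun z hz => hx z hz) (Subgroup.zpowers_le.mpr (sub_eq_zero.mp h0))
        have h1 := hmax' (X ⊔ Subgroup.zpowers y) ⟨sup_le hX (Subgroup.zpowers_le.mpr (hY hyY)),
          fun h => hx0 (by rw [← AddSubgroup.mem_bot, ← h]; exact fun z hz => hle hz)⟩
        have h2 := Subgroup.eq_of_le_of_card_ge (le_sup_left : X ≤ X ⊔ Subgroup.zpowers y)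
          (by omega)
        exact hyX (h2 ▸ Subgroup.mem_sup_right (Subgroup.mem_zpowers y))
    · let T : AddSubgroup V :=
        { carrier := {v | ∃ w : Ω → V, (∀ ω, w ω ∈ ω.1) ∧ ∑ ω, w ω = v}
          zero_mem' := ⟨0, fun ω => by simp, by simp⟩
          add_mem' := by
            rintro _ _ ⟨w, hw, rfl⟩ ⟨w', hw', rfl⟩
            exact ⟨w + w', fun ω => ω.1.add_mem (hw ω) (hw' ω), by simp [Finset.sum_add_distrib]⟩
          neg_mem' := by
            rintro _ ⟨w, hw, rfl⟩
            exact ⟨-w, fun ω => ω.1.neg_mem (hw ω), by simp⟩ }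
      have hT : Invt G T := by
        rintro g _ ⟨w, hw, rfl⟩
        refine ⟨fun ω => g • w (g⁻¹ • ω), fun ω => ?_, ?_⟩
        · have := AddSubgroup.smul_mem_pointwise_smul _ g _ (hw (g⁻¹ • ω))
          rwa [← MulAction.orbit.coe_smul, smul_inv_smul] at this
        · rw [Finset.smul_sum]
          exact Fintype.sum_equiv (MulAction.toPerm g⁻¹) _ _ (fun _ => rfl)
      rcases hirr T hT with h0 | h1
      · exfalso
        obtain ⟨x, hx, hx0⟩ := (AddSubgroup.bot_or_exists_ne_zero _).resolve_left hW0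
        let ω0 : Ω := ⟨W0, MulAction.mem_orbit_self _⟩
        have : x ∈ T := ⟨Pi.single ω0 x, fun ω => by
          by_cases e : ω = ω0
          · subst e; rw [Pi.single_eq_same]; exact hx
          · rw [Pi.single_eq_of_ne e]; exact ω.1.zero_mem, by simp⟩
        rw [h0] at this
        exact hx0 this
      · intro v
        exact (h1 ▸ AddSubgroup.mem_top v : v ∈ T)
    · exact fun a b => MulAction.exists_smul_eq G a b
  have hst : MulAction.stabilizer G W0 ≠ ⊤ := by
    intro ht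
    rcases hirr W0 (fun g x hx => by
      have h1 : g • W0 = W0 := MulAction.mem_stabilizer_iff.mp (ht ▸ Subgroup.mem_top g)
      rw [← h1]; exact AddSubgroup.smul_mem_pointwise_smul x g _ hx) with h | h
    · exact hW0 h
    · apply hU0b
      rw [eq_bot_iff]
      intro y hy
      exact eq_of_smul_eq_smul (α := V) fun x => by
        rw [one_smul]; exact (h ▸ AddSubgroup.mem_top x : x ∈ W0) y hy
  obtain ⟨M, hM, hle⟩ := (eq_top_or_exists_le_coatom _).resolve_left hst
  choose s hs using fun ω : Ω => ω.2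
  have hs' : ∀ ω, s ω • W0 = ω.1 := hs
  have hπ : ∀ (g : G) (ω : Ω), g • W0 = ω.1 → ((s ω : G) : G ⧸ M) = g := fun g ω hg => by
    rw [QuotientGroup.eq]
    apply hle
    rw [MulAction.mem_stabilizer_iff, mul_smul, hg, ← hs', inv_smul_smul]
  let _ : Fintype (G ⧸ M) := Fintype.ofFinite _
  obtain ⟨W', hW', hle'⟩ := hI.merge (fun ω => ((s ω : G) : G ⧸ M)) (fun g ω => by
      rw [hπ (g * s ω) _ (by rw [mul_smul, hs']; rfl)]; rfl)
    (fun q => by
      obtain ⟨g, rfl⟩ := QuotientGroup.mk_surjective q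
      exact ⟨⟨g • W0, g, rfl⟩, hπ g _ rfl⟩)
  refine ⟨M, inferInstance, W', hM, hW', fun h => hW0 ?_⟩
  have := hle' ⟨W0, MulAction.mem_orbit_self _⟩
  simp only [hπ 1 ⟨W0, MulAction.mem_orbit_self _⟩ (one_smul _ _), h] at this
  exact le_bot_iff.mp this

theorem smul_eq_of_odd {α : Type*} [MulAction G α] [Finite G] (hodd : Odd (Nat.card G)) {g : G}
    {x : α} (h : g • g • x = x) : g • x = x := by
  obtain ⟨k, hk⟩ := hodd
  have h1 : g * g ∈ MulAction.stabilizer G x := by
    rw [MulAction.mem_stabilizer_iff, mul_smul, h]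
  have h2 : g = (g * g) ^ (k + 1) := by
    rw [← pow_two, ← pow_mul, show 2 * (k + 1) = Nat.card G + 1 by omega, pow_succ,
      pow_card_eq_one', one_mul]
  rw [h2]
  exact Subgroup.pow_mem _ h1 _

/-- two inequivalent bases for a group of odd order -/
theorem many_odd [Finite G] [Nontrivial V] (hodd : Odd (Nat.card G)) {t : Fin 2 → V}
    (ht : IsBase G t) : ∃ T : Bool → Fin 2 → V, (∀ c, IsBase G (T c)) ∧
      ∀ c c' (g : G), (∀ i, g • T c i = T c' i) → c = c' := by
  have key : ∀ a b : V, a ≠ b → IsBase G ![a, b] → ∃ T : Bool → Fin 2 → V, (∀ c, IsBase G (T c)) ∧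
      ∀ c c' (g : G), (∀ i, g • T c i = T c' i) → c = c' := by
    intro a b hab h
    refine ⟨fun c => if c then ![a, b] else ![b, a], ?_, ?_⟩
    · rintro (_ | _)
      · intro g hg
        refine h g fun i => ?_
        fin_cases i
        · exact hg 1
        · exact hg 0
      · exact h
    · rintro (_ | _) (_ | _) g hg
      · rfl
      · have h0 : g • b = a := hg 0
        have h1 : g • a = b := hg 1
        exact absurd (h1.symm.trans (smul_eq_of_odd hodd (by rw [h1, h0]))).symm hab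
      · have h0 : g • a = b := hg 0
        have h1 : g • b = a := hg 1
        exact absurd (h0.symm.trans (smul_eq_of_odd hodd (by rw [h0, h1]))).symm hab
      · rfl
  by_cases h01 : t 0 = t 1
  · by_cases h0 : t 0 = 0
    · obtain ⟨x, hx⟩ := exists_ne (0 : V)
      refine key x 0 hx fun g _ => ht g fun i => ?_
      fin_cases i
      · show g • t 0 = t 0
        rw [h0, smul_zero]
      · show g • t 1 = t 1
        rw [← h01, h0, smul_zero]
    · refine key (t 0) 0 h0 fun g hg => ht g fun i => ?_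
      fin_cases i
      · exact hg 0
      · show g • t 1 = t 1
        rw [← h01]; exact hg 0
  · refine key (t 0) (t 1) h01 fun g hg => ht g fun i => ?_
    fin_cases i
    · exact hg 0
    · exact hg 1

theorem perfect_family {Γ S I : Type*} [Group Γ] [Group S] [Group.IsSolvable S] (E : I → Γ)
    (hE : ∀ a, ∃ b c, E a = ⁅E b, E c⁆) (P : Subgroup (Γ × S)) (h : ∀ a, ∃ s, (E a, s) ∈ P) (a : I) :
    (E a, 1) ∈ P := by
  have key : ∀ n a, ∃ s ∈ derivedSeries S n, (E a, s) ∈ P := by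
    intro n
    induction n with
    | zero => intro a; obtain ⟨s, hs⟩ := h a; exact ⟨s, trivial, hs⟩
    | succ n ih =>
      intro a
      obtain ⟨b, c, hbc⟩ := hE a
      obtain ⟨s, hs, hsP⟩ := ih b
      obtain ⟨s', hs', hsP'⟩ := ih c
      refine ⟨⁅s, s'⁆, Subgroup.commutator_mem_commutator hs hs', ?_⟩
      rw [hbc]
      exact P.mul_mem (P.mul_mem (P.mul_mem hsP hsP') (P.inv_mem hsP)) (P.inv_mem hsP')
  obtain ⟨n, hn⟩ := Group.IsSolvable.solvable (G := S)
  obtain ⟨s, hs, hsP⟩ := key n a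
  rw [hn, Subgroup.mem_bot] at hs
  exact hs ▸ hsP

/-- elementary move on triples -/
def emove (V : Type*) [AddCommGroup V] (p : {p : Fin 3 × Fin 3 // p.1 ≠ p.2}) :
    Equiv.Perm (Fin 3 → V) where
  toFun t := t + Pi.single p.1.1 (t p.1.2)
  invFun t := t - Pi.single p.1.1 (t p.1.2)
  left_inv t := by simp [Pi.single_eq_of_ne p.2.symm]
  right_inv t := by simp [Pi.single_eq_of_ne p.2.symm]

theorem emove_comm (p : {p : Fin 3 × Fin 3 // p.1 ≠ p.2}) :
    ∃ b c, emove V p = ⁅emove V b, emove V c⁆ := by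
  obtain ⟨⟨i, j⟩, hij⟩ := p
  obtain ⟨k, hki, hkj⟩ : ∃ k : Fin 3, k ≠ i ∧ k ≠ j := by revert i j; decide
  refine ⟨⟨(i, k), hki.symm⟩, ⟨(k, j), hkj⟩, ?_⟩
  rw [commutatorElement_def, eq_mul_inv_iff_mul_eq, eq_mul_inv_iff_mul_eq]
  ext1 t
  have hij' : j ≠ i := fun e => hij e.symm
  simp only [emove, Equiv.Perm.mul_apply, Equiv.coe_fn_mk, Pi.add_apply, Pi.single_eq_same,
    Pi.single_eq_of_ne hij', Pi.single_eq_of_ne hkj.symm, add_zero, Pi.single_add]
  abel

/-- five inequivalent bases of size three for a solvable group -/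
theorem many_five [Finite V] [Nontrivial V] [Group.IsSolvable G] {t : Fin 3 → V}
    (ht : IsBase G t) : ∃ T : Option (Fin 4) → Fin 3 → V, (∀ c, IsBase G (T c)) ∧
      ∀ c c' (g : G), (∀ i, g • T c i = T c' i) → c = c' := by
  classical
  wlog h0 : t ≠ 0 generalizing t
  · push Not at h0
    obtain ⟨x, hx⟩ := exists_ne (0 : V)
    refine this (t := fun _ => x) (fun g _ => ht g fun i => by simp [h0]) fun e => hx (congrFun e 0)
  let C : Subgroup (Equiv.Perm (Fin 3 → V)) :=
    { carrier := {γ | ∀ (g : G) s, γ (g • s) = g • γ s}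
      one_mem' := fun _ _ => rfl
      mul_mem' := fun {a b} ha hb g s => by
        rw [Equiv.Perm.mul_apply, hb, ha, Equiv.Perm.mul_apply]
      inv_mem' := fun {a} ha g s => by
        rw [Equiv.Perm.inv_eq_iff_eq, ha]; simp }
  let E : {p : Fin 3 × Fin 3 // p.1 ≠ p.2} → C := fun p => ⟨emove V p, fun g s => by
    simp only [emove, Equiv.coe_fn_mk, smul_add, Pi.smul_apply]
    congr 1
    ext l
    simp only [Pi.single_apply, Pi.smul_apply]
    split_ifs <;> simp⟩
  have hE : ∀ a, ∃ b c, E a = ⁅E b, E c⁆ := fun a => by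
    obtain ⟨b, c, h⟩ := emove_comm (V := V) a
    exact ⟨b, c, Subtype.ext h⟩
  let P : Subgroup (C × G) :=
    { carrier := {x | x.1.1 (x.2 • t) = t}
      one_mem' := by simp
      mul_mem' := fun {a b} ha hb => by
        have ha' : a.1.1 (a.2 • t) = t := ha
        have hb' : b.1.1 (b.2 • t) = t := hb
        show a.1.1 (b.1.1 ((a.2 * b.2) • t)) = t
        rw [mul_smul, b.1.2, hb', ha']
      inv_mem' := fun {a} ha => by
        have ha' : a.1.1 (a.2 • t) = t := ha
        show (a.1.1)⁻¹ (a.2⁻¹ • t) = t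
        rw [Equiv.Perm.inv_eq_iff_eq, inv_smul_eq_iff, ← a.1.2, ha'] }
  let H : Subgroup C := P.map (MonoidHom.fst C G)
  by_cases hc : Nat.card (C ⧸ H) ≤ 4
  · exfalso
    have := Sym.isSolvable_perm_of_card_le_four hc
    have h1 : ∀ a, E a ∈ H := fun a => by
      have h2 := perfect_family E hE (MulAction.toPermHom C (C ⧸ H)).graph
        (fun a => ⟨MulAction.toPermHom C (C ⧸ H) (E a), MonoidHom.mem_graph.mpr rfl⟩) a
      rw [MonoidHom.mem_graph] at h2
      have h3 : E a ∈ H.normalCore := by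
        rw [Subgroup.normalCore_eq_ker]; exact h2
      exact H.normalCore_le h3
    have h2 := perfect_family E hE P (fun a => by
      obtain ⟨x, hx, hxa⟩ := h1 a
      exact ⟨x.2, by rw [← hxa]; exact hx⟩)
    apply h0
    ext j
    obtain ⟨i, hi⟩ := exists_ne j
    have h3 : emove V ⟨(i, j), hi⟩ ((1 : G) • t) = t := h2 ⟨(i, j), hi⟩
    have h4 := congrFun h3 i
    simpa [emove] using h4
  · let _ : Fintype (C ⧸ H) := Fintype.ofFinite _
    obtain ⟨f⟩ : Nonempty (Option (Fin 4) ↪ C ⧸ H) := by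
      apply Function.Embedding.nonempty_of_card_le
      rw [Nat.card_eq_fintype_card] at hc
      simp only [Fintype.card_option, Fintype.card_fin]
      omega
    refine ⟨fun c => (f c).out.1 t, fun c g hg => ht g fun i => ?_, fun c c' g hg => ?_⟩
    · have h1 : (f c).out.1 (g • t) = (f c).out.1 t := by
        rw [(f c).out.2]; ext i; exact hg i
      exact congrFun ((f c).out.1.injective h1) i
    · apply f.injective
      rw [← QuotientGroup.out_eq' (f c), ← QuotientGroup.out_eq' (f c'), eq_comm, QuotientGroup.eq]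
      refine ⟨((f c').out⁻¹ * (f c).out, g), ?_, rfl⟩
      show ((f c').out.1)⁻¹ ((f c).out.1 (g • t)) = t
      rw [Equiv.Perm.inv_eq_iff_eq, (f c).out.2]
      ext i; exact hg i

/-- a base for a permutation action gives a distinguishing colouring -/
theorem colouring_of_points {Ω κ : Type*} [MulAction G Ω] (p : κ → Ω)
    (hp : ∀ g : G, (∀ j, g • p j = p j) → ∀ ω : Ω, g • ω = ω) :
    ∃ χ : Ω → Option κ, ∀ g : G, (∀ ω, χ (g • ω) = χ ω) → ∀ ω : Ω, g • ω = ω := by
  classical
  refine ⟨fun ω => if h : ∃ j, p j = ω then some h.choose else none, fun g hg => hp g fun j => ?_⟩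
  have h1 := hg (p j)
  have h2 : ∃ k, p k = p j := ⟨j, rfl⟩
  simp only [dif_pos h2] at h1
  split_ifs at h1 with h3
  rw [← h3.choose_spec, Option.some.inj h1, h2.choose_spec]

section affine
variable {M : Subgroup G} {A : Type*} [AddCommGroup A] [DistribMulAction M A] {e : A ≃ G ⧸ M}

theorem affine_base (h0 : e 0 = ((1 : G) : G ⧸ M)) (hm : ∀ (m : M) (a : A), e (m • a) = (m : G) • e a)
    {ι : Type*} {t : ι → A} (ht : IsBase M t) (g : G) (hg0 : g • e 0 = e 0)
    (hg : ∀ i, g • e (t i) = e (t i)) (ω : G ⧸ M) : g • ω = ω := by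
  have hgM : g ∈ M := by
    rw [h0] at hg0
    have : ((g * 1 : G) : G ⧸ M) = ((1 : G) : G ⧸ M) := hg0
    rw [QuotientGroup.eq] at this
    simpa using this
  obtain ⟨a, rfl⟩ := e.surjective ω
  have := ht ⟨g, hgM⟩ (fun i => e.injective (by rw [hm]; exact hg i)) a
  exact (hm ⟨g, hgM⟩ a).symm.trans (congrArg e this)

theorem colouring_five (h0 : e 0 = ((1 : G) : G ⧸ M))
    (hm : ∀ (m : M) (a : A), e (m • a) = (m : G) • e a) {t : Fin 3 → A} (ht : IsBase M t) :
    ∃ χ : G ⧸ M → Option (Fin 4), ∀ g : G, (∀ ω, χ (g • ω) = χ ω) → ∀ ω : G ⧸ M, g • ω = ω :=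
  colouring_of_points (Fin.cons (e 0) (fun i => e (t i)) : Fin 4 → G ⧸ M) fun g hg =>
    affine_base h0 hm ht g (hg 0) fun i => hg i.succ

theorem three_cases {α : Type*} [MulAction G α] [Finite G] (hodd : Odd (Nat.card G)) (g : G)
    (p q r : α) (h : ∀ x, (x = p ∨ x = q ∨ x = r) → (g • x = p ∨ g • x = q ∨ g • x = r)) :
    (g • p = p ∧ g • q = q ∧ g • r = r) ∨
      (r ≠ p ∧ ∃ g' : G, g' • p = q ∧ g' • r = p) := by
  have hs : ∀ x y : α, g • x = y → g • y = x → x = y := fun x y h1 h2 =>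
    (smul_eq_of_odd hodd (by rw [h1, h2])).symm.trans h1
  have hi : ∀ x y : α, g • x = g • y → x = y := fun x y h => MulAction.injective g h
  have h1 := h p (by simp)
  have h2 := h q (by simp)
  have h3 := h r (by simp)
  by_cases ha : g • p = q ∧ g • r = p ∧ r ≠ p
  · exact Or.inr ⟨ha.2.2, g, ha.1, ha.2.1⟩
  by_cases hb : g • p = r ∧ g • r = q ∧ g • q = p ∧ r ≠ p
  · exact Or.inr ⟨hb.2.2.2, g * g, by rw [mul_smul, hb.1, hb.2.1], by rw [mul_smul, hb.2.1, hb.2.2.1]⟩
  left
  have := hs p q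
  have := hs p r
  have := hs q r
  have := hi p q
  have := hi p r
  have := hi q r
  grind

theorem colouring_odd [Finite G] (hodd : Odd (Nat.card G)) (h0 : e 0 = ((1 : G) : G ⧸ M))
    (hm : ∀ (m : M) (a : A), e (m • a) = (m : G) • e a)
    (hn : ∀ a, ∃ n : G, ∀ b, e (a + b) = n • e b) {t : Fin 2 → A} (ht : IsBase M t) :
    ∃ χ : G ⧸ M → Bool, ∀ g : G, (∀ ω, χ (g • ω) = χ ω) → ∀ ω : G ⧸ M, g • ω = ω := by
  classical
  have hM : Odd (Nat.card M) := hodd.of_dvd_nat (Subgroup.card_subgroup_dvd_card M)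
  have key : ∀ b : A, IsBase M ![t 0, b] →
      (∃ χ : G ⧸ M → Bool, ∀ g : G, (∀ ω, χ (g • ω) = χ ω) → ∀ ω : G ⧸ M, g • ω = ω) ∨
      (b ≠ 0 ∧ ∃ m : M, m • b = - t 0) := by
    intro b hb
    by_cases hc : ∃ g' : G, e b ≠ e 0 ∧ g' • e 0 = e (t 0) ∧ g' • e b = e 0
    · right
      obtain ⟨g, hb0, hg0, hgb⟩ := hc
      refine ⟨fun h => hb0 (by rw [h]), ?_⟩
      obtain ⟨n, hn⟩ := hn (t 0)
      have h1 : (n⁻¹ * g) • e 0 = e 0 := by
        rw [mul_smul, hg0, inv_smul_eq_iff, ← hn, add_zero]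
      have hgM : n⁻¹ * g ∈ M := by
        rw [h0] at h1
        have : ((n⁻¹ * g * 1 : G) : G ⧸ M) = ((1 : G) : G ⧸ M) := h1
        rw [QuotientGroup.eq] at this
        simpa using M.inv_mem this
      refine ⟨⟨_, hgM⟩, e.injective ?_⟩
      rw [hm, mul_smul, hgb, inv_smul_eq_iff, ← hn, add_neg_cancel]
    · left
      refine ⟨fun ω => decide (ω = e 0 ∨ ω = e (t 0) ∨ ω = e b), fun g hg => ?_⟩
      rcases three_cases hodd g (e 0) (e (t 0)) (e b) (fun x hx => by
        have := hg x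
        simp only [decide_eq_decide] at this
        exact this.mpr hx) with ⟨h1, h2, h3⟩ | ⟨h1, g', h2, h3⟩
      · refine affine_base h0 hm hb g h1 fun i => ?_
        fin_cases i
        · exact h2
        · exact h3
      · exact absurd ⟨g', h1, h2, h3⟩ hc
  rcases key (t 1) (fun g hg => ht g fun i => by
      fin_cases i
      · exact hg 0
      · exact hg 1) with h | ⟨hb, m, hm1⟩
  · exact h
  rcases key (- t 1) (fun g hg => ht g fun i => by
      fin_cases i
      · exact hg 0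
      · have : g • (- t 1) = - t 1 := hg 1
        rwa [smul_neg, neg_inj] at this) with h | ⟨-, m', hm2⟩
  · exact h
  exfalso
  rw [smul_neg, neg_inj] at hm2
  have h1 : (m'⁻¹ * m) • t 1 = - t 1 := by
    rw [mul_smul, hm1, smul_neg, ← hm2, inv_smul_smul]
  have h2 := smul_eq_of_odd hM (g := m'⁻¹ * m) (x := t 1) (by rw [h1, smul_neg, h1, neg_neg])
  rw [h1] at h2
  have hA : Odd (Nat.card A) := by
    rw [Nat.card_congr e]
    exact hodd.of_dvd_nat (Subgroup.card_quotient_dvd_card M)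
  have h3 : 2 • t 1 = 0 := by rw [two_smul]; nth_rewrite 1 [← h2]; exact neg_add_cancel _
  have h4 := addOrderOf_dvd_of_nsmul_eq_zero h3
  have h5 : addOrderOf (t 1) ∣ Nat.card A := addOrderOf_dvd_natCard _
  have h6 : addOrderOf (t 1) = 1 :=
    Nat.eq_one_of_dvd_coprimes (Nat.coprime_two_left.mpr hA) h4 h5
  exact hb (AddMonoid.addOrderOf_eq_one_iff.mp h6)

end affine

end Cfsg.Agent.FG.BS
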