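import Mathlib

/-! Distinguishing subsets for automorphisms of finite abelian groups. -/

set_option autoImplicit false

namespace Cfsg.Agent.FG.BS

variable {A : Type*} [CommGroup A]

/-- irredundant family -/
def Irred {k : ℕ} (a : Fin k → A) : Prop := ∀ i, a i ∉ Subgroup.closure (a '' {j | j ≠ i})

theorem exists_irred [Finite A] : ∃ (k : ℕ) (a : Fin k → A),
    Subgroup.closure (Set.range a) = ⊤ ∧ Irred a := by
  classical
  obtain ⟨S, hS, hmin⟩ := (Set.toFinite {S : Set A | Subgroup.closure S = ⊤}).exists_minimal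
    ⟨Set.univ, Subgroup.closure_univ⟩
  obtain ⟨e⟩ : Nonempty (Fin (Nat.card S) ≃ S) := ⟨(Finite.equivFin S).symm⟩
  have he : ∀ x (hx : x ∈ S), (e (e.symm ⟨x, hx⟩) : A) = x := fun x hx =>
    congrArg Subtype.val (e.apply_symm_apply ⟨x, hx⟩)
  refine ⟨_, fun i => e i, ?_, fun i hi => ?_⟩
  · rw [show Set.range (fun i => (e i : A)) = S by
      ext x; exact ⟨by rintro ⟨i, rfl⟩; exact (e i).2, fun hx => ⟨e.symm ⟨x, hx⟩, he x hx⟩⟩]
    exact hS
  · have hsub : (fun i => (e i : A)) '' {j | j ≠ i} ⊆ S := by rintro _ ⟨j, -, rfl⟩; exact (e j).2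
    have h1 : Subgroup.closure ((fun i => (e i : A)) '' {j | j ≠ i}) = ⊤ := by
      rw [eq_top_iff, ← hS, Subgroup.closure_le]
      intro x hx
      by_cases h : e.symm ⟨x, hx⟩ = i
      · rw [← he x hx, h]; exact hi
      · exact Subgroup.subset_closure ⟨_, h, he x hx⟩
    obtain ⟨j, hj, hji⟩ := hmin h1 hsub (e i).2
    exact hj (e.injective (Subtype.ext hji))

theorem aut_eq_one {k : ℕ} {a : Fin k → A} (ha : Subgroup.closure (Set.range a) = ⊤)
    {α : MulAut A} (h : ∀ i, α (a i) = a i) : α = 1 := by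
  have := MonoidHom.eq_of_eqOn_dense ha (f := α.toMonoidHom) (g := MonoidHom.id A) (by
    rintro _ ⟨i, rfl⟩; exact h i)
  ext x
  exact DFunLike.congr_fun this x

variable {k : ℕ} {a : Fin k → A}

theorem Irred.pow_mem {c : Fin k → ℤ} (h : ∏ j, a j ^ c j = 1) (i : Fin k) :
    a i ^ c i ∈ Subgroup.closure (a '' {j | j ≠ i}) := by
  rw [← Finset.mul_prod_erase _ _ (Finset.mem_univ i), mul_eq_one_iff_eq_inv] at h
  rw [h]
  refine Subgroup.inv_mem _ (Subgroup.prod_mem _ fun j hj => Subgroup.zpow_mem _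
    (Subgroup.subset_closure ?_) _)
  exact ⟨j, (Finset.mem_erase.mp hj).1, rfl⟩

theorem Irred.coef (ha : Irred a) {c c' : Fin k → ℤ} (h : ∏ j, a j ^ c j = ∏ j, a j ^ c' j)
    (i : Fin k) : c i - c' i ≠ 1 ∧ c i - c' i ≠ -1 := by
  have h1 := Irred.pow_mem (a := a) (c := fun j => c j - c' j) (by
    simp only [zpow_sub, Finset.prod_mul_distrib, Finset.prod_inv_distrib, h, mul_inv_cancel]) i
  constructor
  · intro e; simp only [e, zpow_one] at h1; exact ha i h1
  · intro e; simp only [e, zpow_neg_one, inv_mem_iff] at h1; exact ha i h1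

theorem Irred.coef_odd [Finite A] (hA : Odd (Nat.card A)) (ha : Irred a) {c c' : Fin k → ℤ}
    (h : ∏ j, a j ^ c j = ∏ j, a j ^ c' j) (i : Fin k) : c i - c' i ≠ 2 ∧ c i - c' i ≠ -2 := by
  have h1 := Irred.pow_mem (a := a) (c := fun j => c j - c' j) (by
    simp only [zpow_sub, Finset.prod_mul_distrib, Finset.prod_inv_distrib, h, mul_inv_cancel]) i
  have key : a i ^ (2 : ℤ) ∉ Subgroup.closure (a '' {j | j ≠ i}) := fun h2 => by
    obtain ⟨m, hm⟩ := hA
    have := Subgroup.pow_mem _ h2 (m + 1)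
    rw [zpow_ofNat, ← pow_mul, show 2 * (m + 1) = Nat.card A + 1 by omega, pow_succ,
      pow_card_eq_one', one_mul] at this
    exact ha i this
  constructor
  · intro e; simp only [e] at h1; exact key h1
  · intro e; simp only [e, zpow_neg, inv_mem_iff] at h1; exact key h1

theorem prod_eq_ind (a : Fin k → A) (I : Finset (Fin k)) :
    ∏ j ∈ I, a j = ∏ j, a j ^ (if j ∈ I then 1 else 0 : ℤ) := by
  simp [Finset.prod_ite_mem]

theorem Irred.prod_inj (ha : Irred a) {I J : Finset (Fin k)} (h : ∏ j ∈ I, a j = ∏ j ∈ J, a j) :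
    I = J := by
  rw [prod_eq_ind a I, prod_eq_ind a J] at h
  ext i
  have := ha.coef h i
  by_cases h1 : i ∈ I <;> by_cases h2 : i ∈ J <;> simp_all

theorem Irred.prod_inv [Finite A] (hA : Odd (Nat.card A)) (ha : Irred a) {I J : Finset (Fin k)}
    (h : ∏ j ∈ I, a j = (∏ j ∈ J, a j)⁻¹) : I = ∅ := by
  rw [prod_eq_ind a I, prod_eq_ind a J, ← Finset.prod_inv_distrib] at h
  simp only [← zpow_neg] at h
  ext i
  have := ha.coef h i
  have := ha.coef_odd hA h i
  by_cases h1 : i ∈ I <;> by_cases h2 : i ∈ J <;> simp_all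

theorem Irred.inj (ha : Irred a) : Function.Injective a := fun i j h => by
  have := ha.prod_inj (I := {i}) (J := {j}) (by simpa using h)
  simpa using this

theorem Irred.prod_ne_one (ha : Irred a) {I : Finset (Fin k)} (hI : I.Nonempty) :
    ∏ j ∈ I, a j ≠ 1 := fun h => hI.ne_empty (ha.prod_inj (J := ∅) (by simpa using h))

theorem Irred.ne_one (ha : Irred a) (i : Fin k) : a i ≠ 1 := by
  simpa using ha.prod_ne_one (I := {i}) (by simp)

theorem Irred.two_pow_le [Finite A] (ha : Irred a) : 2 ^ k ≤ Nat.card A := by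
  have := Nat.card_le_card_of_injective (fun I : Finset (Fin k) => ∏ j ∈ I, a j)
    fun I J h => ha.prod_inj h
  simpa using this

theorem Irred.three_pow_le [Finite A] (hA : Odd (Nat.card A)) (ha : Irred a) :
    3 ^ k ≤ Nat.card A := by
  have := Nat.card_le_card_of_injective (fun c : Fin k → Fin 3 => ∏ j, a j ^ ((c j : ℕ) : ℤ))
    fun c c' h => by
      ext i
      have h1 := ha.coef h i
      have h2 := ha.coef_odd hA h i
      have := (c i).2
      have := (c' i).2
      omega
  simpa using this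

/-- initial segments -/
def seg (k m : ℕ) : Finset (Fin k) := Finset.univ.filter fun j => j.val ≤ m

theorem mem_seg {m : ℕ} {j : Fin k} : j ∈ seg k m ↔ j.val ≤ m := by simp [seg]

theorem card_seg {m : ℕ} (h : m < k) : (seg k m).card = m + 1 := by
  have : seg k m = Finset.Iic ⟨m, h⟩ := by ext j; simp [mem_seg, Fin.le_def]
  rw [this, Fin.card_Iic]

theorem seg_top {m : ℕ} (h : k ≤ m + 1) : seg k m = Finset.univ := by
  ext j; have := j.2; simp only [mem_seg, Finset.mem_univ, iff_true]; omega

theorem fix_of_seg {σ : Fin k → Fin k} (hσ : Function.Injective σ) (r : ℕ)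
    (h : ∀ m, r ≤ m → m + 1 < k → (seg k m).image σ = seg k m) (j : Fin k) (hj : r < j.val) :
    σ j = j := by
  have h' : ∀ m, r ≤ m → (seg k m).image σ = seg k m := fun m hm => by
    by_cases hk : m + 1 < k
    · exact h m hm hk
    · rw [seg_top (by omega)]
      exact Finset.image_univ_of_surjective (Finite.injective_iff_surjective.mp hσ)
  have h1 : σ j ∈ seg k j := h' j hj.le ▸ Finset.mem_image_of_mem σ (mem_seg.mpr le_rfl)
  have h2 : σ j ∉ seg k (j - 1) := fun hc => by
    rw [← h' (j - 1) (by omega), Finset.mem_image] at hc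
    obtain ⟨i, hi, hij⟩ := hc
    rw [hσ hij, mem_seg] at hi
    omega
  rw [mem_seg] at h1 h2
  exact Fin.ext (by omega)

theorem Irred.exists_perm (ha : Irred a) {α : MulAut A} (h : ∀ i, α (a i) ∈ Set.range a) :
    ∃ σ : Fin k → Fin k, Function.Injective σ ∧ (∀ i, α (a i) = a (σ i)) ∧
      ∀ I : Finset (Fin k), α (∏ j ∈ I, a j) = ∏ j ∈ I.image σ, a j := by
  choose σ hσ using h
  have hi : Function.Injective σ := fun i j e => ha.inj (α.injective (by rw [← hσ, ← hσ, e]))
  refine ⟨σ, hi, fun i => (hσ i).symm, fun I => ?_⟩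
  rw [map_prod, Finset.prod_image hi.injOn]
  exact Finset.prod_congr rfl fun j _ => (hσ j).symm

theorem two_mul_card_le [Finite A] {H : Subgroup A} (hH : H ≠ ⊤) : 2 * Nat.card H ≤ Nat.card A := by
  rw [← H.index_mul_card]
  have h1 : H.index ≠ 1 := fun e => hH (Subgroup.index_eq_one.mp e)
  have h2 : H.index ≠ 0 := Subgroup.index_ne_zero_of_finite
  exact Nat.mul_le_mul_right _ (by omega)

theorem three_mul_card_le [Finite A] (hA : Odd (Nat.card A)) {H : Subgroup A} (hH : H ≠ ⊤) :
    3 * Nat.card H ≤ Nat.card A := by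
  have h3 := hA.of_dvd_nat H.index_dvd_card
  rw [← H.index_mul_card]
  have h1 : H.index ≠ 1 := fun e => hH (Subgroup.index_eq_one.mp e)
  obtain ⟨m, hm⟩ := h3
  exact Nat.mul_le_mul_right _ (by omega)

/-- two subsets, meeting in at most one point, distinguishing the automorphism group -/
theorem exists_two_sets (A : Type*) [CommGroup A] [Finite A] : ∃ X Y : Set A,
    (∀ α : MulAut A, (∀ x, x ≠ 1 → (x ∈ X ↔ α x ∈ X)) → (∀ x, x ≠ 1 → (x ∈ Y ↔ α x ∈ Y)) → α = 1) ∧
    ∀ H : Subgroup A, H ≠ ⊤ → 2 * (X ∩ Y).ncard + Nat.card H < Nat.card A := by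
  obtain ⟨k, a, hgen, ha⟩ := exists_irred (A := A)
  have hlt : ∀ H : Subgroup A, H ≠ ⊤ → Nat.card H < Nat.card A := fun H hH => by
    have := two_mul_card_le hH
    have : 0 < Nat.card H := Nat.card_pos
    omega
  rcases (by omega : k = 0 ∨ k = 1 ∨ k = 2 ∨ k = 3 ∨ 4 ≤ k) with rfl | rfl | rfl | rfl | hk
  · exact ⟨∅, ∅, fun α _ _ => aut_eq_one hgen fun i => i.elim0, by simpa using hlt⟩
  · refine ⟨{a 0}, ∅, fun α h _ => aut_eq_one hgen fun i => ?_, by simpa using hlt⟩
    rw [Subsingleton.elim i 0]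
    exact (h _ (ha.ne_one 0)).mp rfl
  · refine ⟨{a 0}, {a 1}, fun α h h' => aut_eq_one hgen fun i => ?_, ?_⟩
    · fin_cases i
      · exact (h _ (ha.ne_one 0)).mp rfl
      · exact (h' _ (ha.ne_one 1)).mp rfl
    · rw [Set.singleton_inter_eq_empty.mpr (by simp [ha.inj.eq_iff])]
      simpa using hlt
  · refine ⟨{a 0, a 2}, {a 1, a 2}, fun α h h' => aut_eq_one hgen fun i => ?_, fun H hH => ?_⟩
    · have h0 := (h _ (ha.ne_one 0)).mp (Or.inl rfl)
      have h1 := (h' _ (ha.ne_one 1)).mp (Or.inl rfl)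
      have h2 := (h _ (ha.ne_one 2)).mp (Or.inr rfl)
      have h2' := (h' _ (ha.ne_one 2)).mp (Or.inr rfl)
      simp only [Set.mem_insert_iff, Set.mem_singleton_iff] at h0 h1 h2 h2'
      have e1 : a 0 ≠ a 1 := by simp [ha.inj.eq_iff]
      have e2 : α (a 2) = a 2 := by
        rcases h2 with h2 | h2
        · rcases h2' with h2' | h2'
          · exact absurd (h2.symm.trans h2') e1
          · exact h2'
        · exact h2
      have e3 : ∀ i, α (a i) = a 2 → i = 2 := fun i hi => ha.inj (α.injective (hi.trans e2.symm))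
      fin_cases i
      · exact h0.resolve_right fun e => absurd (e3 0 e) (by decide)
      · exact h1.resolve_right fun e => absurd (e3 1 e) (by decide)
      · exact e2
    · have h1 : ({a 0, a 2} ∩ {a 1, a 2} : Set A) ⊆ {a 2} := by
        rintro x ⟨rfl | rfl, h2⟩
        · simp [ha.inj.eq_iff] at h2
        · rfl
      have h2 := Set.ncard_le_ncard h1
      rw [Set.ncard_singleton] at h2
      have := ha.two_pow_le
      have := two_mul_card_le hH
      omega
  · let z : Fin k := ⟨0, by omega⟩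
    let t : Fin k := ⟨3, by omega⟩
    let 𝓕 : Set (Finset (Fin k)) := {I | (∃ m, 1 ≤ m ∧ m < k ∧ I = seg k m) ∨ I = {z, t}}
    have hzt : z ≠ t := by simp [z, t]
    have h𝓕 : ∀ I ∈ 𝓕, 2 ≤ I.card := by
      rintro I (⟨m, h1, h2, rfl⟩ | rfl)
      · rw [card_seg h2]; omega
      · rw [Finset.card_pair hzt]
    refine ⟨Set.range a, (fun I => ∏ j ∈ I, a j) '' 𝓕, fun α h h' => aut_eq_one hgen ?_, ?_⟩
    · obtain ⟨σ, hσ, h1, h2⟩ := ha.exists_perm fun i => (h _ (ha.ne_one i)).mp ⟨i, rfl⟩
      have h3 : ∀ I ∈ 𝓕, I.image σ ∈ 𝓕 := fun I hI => by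
        obtain ⟨J, hJ, e⟩ := (h' _ (ha.prod_ne_one (Finset.card_pos.mp (by
          have := h𝓕 I hI; omega)))).mp ⟨I, hI, rfl⟩
        simp only [h2] at e
        rwa [← ha.prod_inj e]
      have h4 : ∀ m, 2 ≤ m → m < k → (seg k m).image σ = seg k m := fun m hm hk' => by
        have hc := Finset.card_image_of_injective (seg k m) hσ
        rcases h3 _ (Or.inl ⟨m, by omega, hk', rfl⟩) with ⟨m', -, h5, e⟩ | e
        · rw [e, card_seg h5, card_seg hk'] at hc
          rw [e, show m' = m by omega]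
        · rw [e, card_seg hk', Finset.card_pair hzt] at hc
          omega
      have h5 := fix_of_seg hσ 2 fun m hm hk' => h4 m hm (by omega)
      have h6 : ∀ I ∈ 𝓕, I.card = 2 → I = seg k 1 ∨ I = {z, t} := by
        rintro I (⟨m, h1, h2, rfl⟩ | rfl) hc
        · rw [card_seg h2] at hc; left; rw [show m = 1 by omega]
        · exact Or.inr rfl
      have ht : σ t = t := h5 t (by simp [t])
      have hz : σ z = z := by
        have h7 : t ∈ ({z, t} : Finset (Fin k)).image σ := Finset.mem_image.mpr ⟨t, by simp, ht⟩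
        rcases h6 _ (h3 _ (Or.inr rfl)) (by
          rw [Finset.card_image_of_injective _ hσ, Finset.card_pair hzt]) with e | e
        · rw [e, mem_seg] at h7; simp [t] at h7
        · have : σ z ∈ ({z, t} : Finset (Fin k)) := e ▸ Finset.mem_image_of_mem σ (by simp)
          simp only [Finset.mem_insert, Finset.mem_singleton] at this
          exact this.resolve_right fun e => hzt (hσ (e.trans ht.symm))
      let o : Fin k := ⟨1, by omega⟩
      have ho : σ o = o := by
        have h7 : σ o ∈ (seg k 1).image σ := Finset.mem_image_of_mem σ (mem_seg.mpr le_rfl)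
        have h8 : σ o ≠ z := fun e => by simpa [o, z] using hσ (e.trans hz.symm)
        have h9 : σ o ≠ t := fun e => by simpa [o, t] using hσ (e.trans ht.symm)
        rcases h6 _ (h3 _ (Or.inl ⟨1, le_rfl, by omega, rfl⟩)) (by
          rw [Finset.card_image_of_injective _ hσ, card_seg (by omega)]) with e | e
        · rw [e, mem_seg] at h7
          have : (σ o).val ≠ 0 := fun e => h8 (Fin.ext e)
          exact Fin.ext (by simp only [o] at *; omega)
        · rw [e] at h7; simp [h8, h9] at h7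
      intro i
      rw [h1]
      congr 1
      rcases (by omega : i.val = 0 ∨ i.val = 1 ∨ i.val = 2 ∨ 2 < i.val) with e | e | e | e
      · rw [show i = z from Fin.ext e, hz]
      · rw [show i = o from Fin.ext e, ho]
      · have h7 : σ i ∈ seg k 2 := h4 2 le_rfl (by omega) ▸
          Finset.mem_image_of_mem σ (mem_seg.mpr e.le)
        have h8 : (σ i).val ≠ 0 := fun e' => by
          have := congrArg Fin.val (hσ ((Fin.ext e' : σ i = z).trans hz.symm))
          simp only [z] at this; omega
        have h9 : (σ i).val ≠ 1 := fun e' => by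
          have := congrArg Fin.val (hσ ((Fin.ext e' : σ i = o).trans ho.symm))
          simp only [o] at this; omega
        rw [mem_seg] at h7
        exact Fin.ext (by omega)
      · exact h5 i e
    · rw [show Set.range a ∩ (fun I => ∏ j ∈ I, a j) '' 𝓕 = ∅ by
        rw [Set.eq_empty_iff_forall_notMem]
        rintro _ ⟨⟨i, rfl⟩, I, hI, e⟩
        have := h𝓕 I hI
        rw [ha.prod_inj (I := I) (J := {i}) (by simpa using e)] at this
        simp at this]
      simpa using hlt

theorem fix_of_swap {α : MulAut A} {n : ℕ} (hn : Odd n) (h : α ^ n = 1) {x : A}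
    (hx : α (α x) = x) : α x = x := by
  obtain ⟨m, rfl⟩ := hn
  have h1 : ∀ j : ℕ, (α ^ (2 * j)) x = x := by
    intro j
    induction j with
    | zero => rfl
    | succ j ih => rw [mul_add, pow_add, MulAut.mul_apply, mul_one, pow_two, MulAut.mul_apply, hx, ih]
  have := congrArg (fun β : MulAut A => β x) h
  simpa only [pow_succ', MulAut.mul_apply, h1, MulAut.one_apply] using this

/-- a small subset distinguishing the automorphisms of odd order -/
theorem exists_small_set (A : Type*) [CommGroup A] [Finite A] (hA : Odd (Nat.card A)) :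
    ∃ N : Set A, (∀ (α : MulAut A) (n : ℕ), Odd n → α ^ n = 1 →
      (∀ x, x ≠ 1 → (x ∈ N ↔ α x ∈ N)) → α = 1) ∧
    ∀ H : Subgroup A, H ≠ ⊤ → 2 * N.ncard + Nat.card H < Nat.card A := by
  classical
  obtain ⟨k, a, hgen, ha⟩ := exists_irred (A := A)
  by_cases h3 : Nat.card A ≤ 3
  · refine ⟨∅, fun α n hn hα _ => ?_, fun H hH => ?_⟩
    · ext x
      refine fix_of_swap hn hα ?_
      by_contra hc
      by_cases hx : x = 1
      · simp [hx] at hc
      have h1 : α x ≠ x := fun e => hc (by rw [e, e])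
      have h2 : α (α x) ≠ α x := fun e => h1 (α.injective e)
      have h4 : ({1, x, α x, α (α x)} : Finset A).card = 4 := by
        rw [Finset.card_insert_of_notMem, Finset.card_insert_of_notMem, Finset.card_pair h2.symm]
        · simp [h1.symm, Ne.symm hc]
        · simp [hx, Ne.symm hx, eq_comm (a := (1 : A))]
      let _ := Fintype.ofFinite A
      have := Finset.card_le_univ ({1, x, α x, α (α x)} : Finset A)
      rw [← Nat.card_eq_fintype_card] at this
      omega
    · have := three_mul_card_le hA hH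
      have : 0 < Nat.card H := Nat.card_pos
      simp only [Set.ncard_empty]
      omega
  let Y : Finset A := (Finset.Ico 1 (k - 1)).image fun m => ∏ j ∈ seg k m, a j
  let X : Finset A := Finset.univ.image a
  have hY : ∀ y, y ∈ Y ↔ ∃ m, 1 ≤ m ∧ m + 1 < k ∧ y = ∏ j ∈ seg k m, a j := by
    intro y
    simp only [Y, Finset.mem_image, Finset.mem_Ico]
    exact ⟨by rintro ⟨m, h, rfl⟩; exact ⟨m, h.1, by omega, rfl⟩,
      by rintro ⟨m, h1, h2, rfl⟩; exact ⟨m, ⟨h1, by omega⟩, rfl⟩⟩
  have hne : ∀ m, m < k → (seg k m).Nonempty := fun m hm =>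
    Finset.card_pos.mp (by rw [card_seg hm]; omega)
  refine ⟨(X ∪ Y ∪ Y.image (·⁻¹) : Finset A), fun α n hn hα h => aut_eq_one hgen ?_, fun H hH => ?_⟩
  · have hmem : ∀ x, x ∈ ((X ∪ Y ∪ Y.image (·⁻¹) : Finset A) : Set A) ↔
        (∃ i, x = a i) ∨ x ∈ Y ∨ x⁻¹ ∈ Y := by
      intro x
      simp only [Finset.mem_coe, Finset.mem_union, X, Finset.mem_image, Finset.mem_univ, true_and,
        or_assoc]
      refine or_congr (exists_congr fun _ => eq_comm) (or_congr Iff.rfl ?_)
      exact ⟨by rintro ⟨y, hy, rfl⟩; simpa using hy, fun hx => ⟨_, hx, by simp⟩⟩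
    simp only [hmem] at h
    have hinv : ∀ i, ¬ ((∃ j, (a i)⁻¹ = a j) ∨ (a i)⁻¹ ∈ Y ∨ (a i)⁻¹⁻¹ ∈ Y) := by
      rintro i (⟨j, e⟩ | hy | hy)
      · have := ha.prod_inv hA (I := {j}) (J := {i}) (by simpa using e.symm)
        simp at this
      · obtain ⟨m, -, h2, e⟩ := (hY _).mp hy
        exact (hne m (by omega)).ne_empty (ha.prod_inv hA (J := {i}) (by simpa using e.symm))
      · obtain ⟨m, h1, h2, e⟩ := (hY _).mp hy
        have := card_seg (k := k) (m := m) (by omega)
        rw [← ha.prod_inj (I := {i}) (J := seg k m) (by simpa using e)] at this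
        simp at this; omega
    obtain ⟨σ, hσ, h1, h2⟩ := ha.exists_perm (α := α) fun i => by
      rcases (h _ (ha.ne_one i)).mp (Or.inl ⟨i, rfl⟩) with ⟨j, e⟩ | hy | hy
      · exact ⟨j, e.symm⟩
      · exact absurd ((h _ (inv_ne_one.mpr (ha.ne_one i))).mpr (by simp [hy])) (hinv i)
      · exact absurd ((h _ (inv_ne_one.mpr (ha.ne_one i))).mpr (by simp [hy])) (hinv i)
    have h4 : ∀ m, 1 ≤ m → m + 1 < k → (seg k m).image σ = seg k m := fun m hm hk' => by
      have hc := Finset.card_image_of_injective (seg k m) hσ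
      rw [card_seg (by omega)] at hc
      rcases (h _ (ha.prod_ne_one (hne m (by omega)))).mp
        (Or.inr (Or.inl ((hY _).mpr ⟨m, hm, hk', rfl⟩))) with ⟨j, e⟩ | hy | hy
      · rw [h2] at e
        rw [ha.prod_inj (I := (seg k m).image σ) (J := {j}) (by simpa using e)] at hc
        simp at hc; omega
      · obtain ⟨m', -, h5, e⟩ := (hY _).mp hy
        rw [h2] at e
        rw [ha.prod_inj e, card_seg (by omega)] at hc
        rw [ha.prod_inj e, show m' = m by omega]
      · obtain ⟨m', -, h5, e⟩ := (hY _).mp hy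
        rw [h2] at e
        exact absurd (ha.prod_inv hA e.symm) (hne m' (by omega)).ne_empty
    have h5 := fix_of_seg hσ 1 h4
    intro i
    by_cases hi : 1 < i.val
    · rw [h1, h5 i hi]
    · refine fix_of_swap hn hα ?_
      rw [h1, h1]
      congr 1
      have h6 : ∀ j : Fin k, j.val ≤ 1 → (σ j).val ≤ 1 := fun j hj => by
        by_contra hc
        have := congrArg Fin.val (hσ (h5 (σ j) (by omega)))
        omega
      have h7 := h6 i (by omega)
      have h8 := h6 _ h7
      by_cases e : σ i = i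
      · rw [e, e]
      · have e1 : (σ i).val ≠ i.val := fun e' => e (Fin.ext e')
        have e2 : (σ (σ i)).val ≠ (σ i).val := fun e' => e (hσ (Fin.ext e'))
        exact Fin.ext (by omega)
  · rw [Set.ncard_coe_finset]
    have h1 := Finset.card_union_le (X ∪ Y) (Y.image (·⁻¹))
    have h2 := Finset.card_union_le X Y
    have h4 : (Y.image (·⁻¹)).card ≤ Y.card := Finset.card_image_le
    have h5 : X.card ≤ k := Finset.card_image_le.trans (by simp)
    have h6 : Y.card ≤ k - 2 := Finset.card_image_le.trans (by simp; omega)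
    have h7 := three_mul_card_le hA hH
    have h8 := ha.three_pow_le hA
    have h9 : ∀ k, 2 ≤ k → 3 * (k + 2 * (k - 2)) < 3 ^ k := by
      intro k hk
      induction k, hk using Nat.le_induction with
      | base => norm_num
      | succ k hk ih =>
        have : 3 ^ 2 ≤ 3 ^ k := Nat.pow_le_pow_right (by norm_num) hk
        rw [pow_succ]; omega
    by_cases hk : 2 ≤ k
    · have := h9 k hk; omega
    · omega

end Cfsg.Agent.FG.BS
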