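import Mathlib
import Cfsg.Agent.FG.BaseCol

/-! More distinguishing subsets for automorphisms of finite abelian groups. -/

set_option autoImplicit false

namespace Cfsg.Agent.FG.BS

variable {A : Type*} [CommGroup A] {k : ℕ} {a : Fin k → A}

theorem Irred.coef_cop [Finite A] (ha : Irred a) {c c' : Fin k → ℤ}
    (h : ∏ j, a j ^ c j = ∏ j, a j ^ c' j) (i : Fin k) :
    ¬ (c i - c' i).natAbs.Coprime (Nat.card A) := by
  intro hc
  have h1 := Irred.pow_mem (a := a) (c := fun j => c j - c' j) (by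
    simp only [zpow_sub, Finset.prod_mul_distrib, Finset.prod_inv_distrib, h, mul_inv_cancel]) i
  have h2 : a i ^ (c i - c' i).natAbs ∈ Subgroup.closure (a '' {j | j ≠ i}) := by
    rcases Int.natAbs_eq (c i - c' i) with e | e
    · rw [← zpow_natCast, ← e]; exact h1
    · rw [← inv_mem_iff, ← zpow_natCast, ← zpow_neg, ← e]; exact h1
  obtain ⟨m, hm⟩ := exists_pow_eq_self_of_coprime (x := a i)
    (hc.coprime_dvd_right (orderOf_dvd_natCard _))
  exact ha i (hm ▸ Subgroup.pow_mem _ h2 m)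

theorem prod_single (a : Fin k → A) (i : Fin k) (n : ℤ) :
    ∏ j, a j ^ (Pi.single i n : Fin k → ℤ) j = a i ^ n := by
  rw [Finset.prod_eq_single i (fun j _ hj => by simp [Pi.single_eq_of_ne hj]) (by simp)]
  simp

/-- two subsets distinguishing the automorphisms of an abelian group of odd order -/
theorem exists_odd_sets (A : Type*) [CommGroup A] [Finite A] (hA : Odd (Nat.card A)) :
    ∃ Y N : Set A, 1 ∉ N ∧ 4 * N.ncard < Nat.card A ∧
    ∀ α : MulAut A, (∀ x, x ∈ N ↔ α x ∈ N) → (∀ x, x ≠ 1 → x ∉ N → (x ∈ Y ↔ α x ∈ Y)) → α = 1 := by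
  obtain ⟨k, a, hgen, ha⟩ := exists_irred (A := A)
  rcases (by omega : k = 0 ∨ k = 1 ∨ 2 ≤ k) with rfl | rfl | hk
  · exact ⟨∅, ∅, by simp, by simp, fun α _ _ => aut_eq_one hgen fun i => i.elim0⟩
  · refine ⟨{a 0}, ∅, by simp, by simp, fun α _ h => aut_eq_one hgen fun i => ?_⟩
    rw [Subsingleton.elim i 0]
    exact (h _ (ha.ne_one 0) (by simp)).mp rfl
  let z : Fin k := ⟨0, by omega⟩
  have hsq : ∀ (j : Fin k) (I : Finset (Fin k)), a j ^ 2 ≠ ∏ i ∈ I, a i := by
    intro j I e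
    rw [prod_eq_ind a I, ← zpow_ofNat, ← prod_single a j] at e
    have h1 := ha.coef e j
    have h2 := ha.coef_odd hA e j
    by_cases hj : j ∈ I <;> simp [hj] at h1 h2
  refine ⟨{y | y = a z ^ 2 ∨ ∃ m, 1 ≤ m ∧ m < k ∧ y = ∏ j ∈ seg k m, a j}, Set.range a,
    by rintro ⟨i, hi⟩; exact ha.ne_one i hi, ?_, fun α h h' => aut_eq_one hgen ?_⟩
  · have h1 : (Set.range a).ncard = k := by
      rw [Set.ncard_range_of_injective ha.inj]; simp
    have h2 := ha.three_pow_le hA
    have h9 : ∀ k, 2 ≤ k → 4 * k < 3 ^ k := by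
      intro k hk
      induction k, hk using Nat.le_induction with
      | base => norm_num
      | succ k hk ih => rw [pow_succ]; omega
    have := h9 k hk
    omega
  · obtain ⟨σ, hσ, h1, h2⟩ := ha.exists_perm fun i => (h _).mp ⟨i, rfl⟩
    have hz : σ z = z := by
      rcases (h' _ (fun e => hsq z ∅ (by simpa using e))
        (by rintro ⟨i, hi⟩; exact hsq z {i} (by simpa using hi.symm))).mp (Or.inl rfl) with e | ⟨m, -, -, e⟩
      · rw [map_pow, h1, ← zpow_ofNat, ← zpow_ofNat, ← prod_single a (σ z), ← prod_single a z] at e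
        by_contra hc
        have := (ha.coef_odd hA e (σ z)).1
        simp [Pi.single_eq_of_ne hc] at this
      · rw [map_pow, h1] at e
        exact absurd e (hsq _ _)
    have h4 : ∀ m, 0 ≤ m → m + 1 < k → (seg k m).image σ = seg k m := fun m _ hk' => by
      rcases Nat.eq_zero_or_pos m with rfl | hm
      · have : seg k 0 = {z} := by ext j; simp [mem_seg, z, Fin.ext_iff]
        rw [this, Finset.image_singleton, hz]
      have hc := Finset.card_image_of_injective (seg k m) hσ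
      rw [card_seg (by omega)] at hc
      rcases (h' _ (ha.prod_ne_one (Finset.card_pos.mp (by rw [card_seg (by omega)]; omega)))
        (by
          rintro ⟨i, hi⟩
          have := card_seg (k := k) (m := m) (by omega)
          rw [← ha.prod_inj (I := {i}) (J := seg k m) (by simpa using hi)] at this
          simp at this; omega)).mp (Or.inr ⟨m, hm, by omega, rfl⟩) with e | ⟨m', -, h5, e⟩
      · rw [h2] at e; exact absurd e.symm (hsq _ _)
      · rw [h2] at e
        rw [ha.prod_inj e, card_seg h5] at hc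
        rw [ha.prod_inj e, show m' = m by omega]
    intro i
    rw [h1]
    rcases Nat.eq_zero_or_pos i.val with e | e
    · rw [show i = z from Fin.ext e, hz]
    · rw [fix_of_seg hσ 0 h4 i e]

/-- one subset distinguishing the automorphisms of an abelian group of order prime to six -/
theorem exists_six_set (A : Type*) [CommGroup A] [Finite A] (h2 : Odd (Nat.card A))
    (h3 : ¬ 3 ∣ Nat.card A) : ∃ N : Set A, 1 ∉ N ∧
    (∀ α : MulAut A, (∀ x, x ∈ N → α x ∈ N) → α = 1) ∧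
    ∀ H : Subgroup A, H ≠ ⊤ → 2 * N.ncard + Nat.card H < Nat.card A := by
  classical
  obtain ⟨k, a, hgen, ha⟩ := exists_irred (A := A)
  have h5 : ∀ H : Subgroup A, H ≠ ⊤ → 5 * Nat.card H ≤ Nat.card A := fun H hH => by
    have e1 := h2.of_dvd_nat H.index_dvd_card
    have e2 : ¬ 3 ∣ H.index := fun e => h3 (e.trans H.index_dvd_card)
    rw [← H.index_mul_card]
    have h1 : H.index ≠ 1 := fun e => hH (Subgroup.index_eq_one.mp e)
    obtain ⟨m, hm⟩ := e1
    exact Nat.mul_le_mul_right _ (by omega)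
  rcases (by omega : k = 0 ∨ k = 1 ∨ 2 ≤ k) with rfl | rfl | hk
  · refine ⟨∅, by simp, fun α _ => aut_eq_one hgen fun i => i.elim0, fun H hH => ?_⟩
    have := h5 H hH
    have : 0 < Nat.card H := Nat.card_pos
    simp only [Set.ncard_empty]; omega
  · refine ⟨{a 0}, fun h => ha.ne_one 0 h.symm, fun α h => aut_eq_one hgen fun i => ?_, fun H hH => ?_⟩
    · rw [Subsingleton.elim i 0]; exact h _ rfl
    · have := h5 H hH
      have : 0 < Nat.card H := Nat.card_pos
      simp only [Set.ncard_singleton]; omega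
  let z : Fin k := ⟨0, by omega⟩
  let E : (Fin k → ℤ) → A := fun c => ∏ j, a j ^ c j
  have hE : ∀ c c', E (c + c') = E c * E c' := fun c c' => by
    simp [E, zpow_add, Finset.prod_mul_distrib]
  have hE1 : ∀ i, E (Pi.single i 1) = a i := fun i => by simp [E, prod_single]
  have hinj : ∀ c c' : Fin k → ℤ, (∀ i, 0 ≤ c i ∧ c i ≤ 4) → (∀ i, 0 ≤ c' i ∧ c' i ≤ 4) →
      E c = E c' → c = c' := by
    intro c c' hc hc' e
    ext i
    have h1 := ha.coef_cop e i
    have c2 : Nat.Coprime 2 (Nat.card A) := Nat.coprime_two_left.mpr h2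
    have c3 : Nat.Coprime 3 (Nat.card A) := (Nat.Prime.coprime_iff_not_dvd Nat.prime_three).mpr h3
    have c4 : Nat.Coprime 4 (Nat.card A) := Nat.Coprime.mul_left c2 c2
    have := hc i
    have := hc' i
    by_contra hne
    rcases (by omega : (c i - c' i).natAbs = 1 ∨ (c i - c' i).natAbs = 2 ∨ (c i - c' i).natAbs = 3 ∨
      (c i - c' i).natAbs = 4) with e | e | e | e <;> rw [e] at h1
    · simp at h1
    · exact h1 c2
    · exact h1 c3
    · exact h1 c4
  let 𝒞 : Set (Fin k → ℤ) := {c | c = Pi.single z 2 ∨ (∃ i, c = Pi.single i 1) ∨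
    ∃ i j : Fin k, j.val = i.val + 1 ∧ c = Pi.single i 1 + Pi.single j 1}
  have hb : ∀ c ∈ 𝒞, ∀ i, 0 ≤ c i ∧ c i ≤ 2 := by
    rintro c (rfl | ⟨j, rfl⟩ | ⟨j, l, -, rfl⟩) i <;> simp only [Pi.add_apply, Pi.single_apply] <;>
      split_ifs <;> omega
  have hadd : ∀ c ∈ 𝒞, ∀ c' ∈ 𝒞, ∀ c'' ∈ 𝒞, E c * E c' = E c'' → c + c' = c'' := by
    intro c hc c' hc' c'' hc'' e
    refine hinj _ _ (fun i => ?_) (fun i => ?_) ((hE _ _).trans e)
    · have := hb c hc i; have := hb c' hc' i; simp only [Pi.add_apply]; omega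
    · have := hb c'' hc'' i; omega
  have hsum : ∀ c ∈ 𝒞, (∑ i, c i = 1 ∧ ∃ i, c = Pi.single i 1) ∨ ∑ i, c i = 2 := by
    rintro c (rfl | ⟨j, rfl⟩ | ⟨j, l, -, rfl⟩)
    · right; simp
    · left; exact ⟨by simp, j, rfl⟩
    · right; simp [Finset.sum_add_distrib]
  have hone : ∀ c ∈ 𝒞, ∀ c' ∈ 𝒞, c + c' ∈ 𝒞 → ∃ i, c = Pi.single i 1 := by
    intro c hc c' hc' hc''
    have e : ∑ i, (c + c') i = ∑ i, c i + ∑ i, c' i := by simp [Finset.sum_add_distrib]
    rcases hsum c hc with h1 | h1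
    · exact h1.2
    · rcases hsum c' hc' with h2 | h2 <;> rcases hsum _ hc'' with h3 | h3 <;> omega
  refine ⟨E '' 𝒞, ?_, fun α h => aut_eq_one hgen ?_, fun H hH => ?_⟩
  · rintro ⟨c, hc, e⟩
    have := hinj c 0 (fun i => by have := hb c hc i; omega) (by simp) (by simpa [E] using e)
    rcases hsum c hc with h1 | h1 <;> simp [this] at h1
  · have hm : ∀ i, a i ∈ E '' 𝒞 := fun i => ⟨_, Or.inr (Or.inl ⟨i, rfl⟩), hE1 i⟩
    have key : ∀ n, ∀ i : Fin k, i.val = n → α (a i) = a i := by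
      intro n
      induction n using Nat.strong_induction_on with
      | _ n ih =>
      intro i hi
      obtain ⟨c, hc, e⟩ := h _ (hm i)
      rcases Nat.eq_zero_or_pos n with rfl | hn
      · obtain rfl : i = z := Fin.ext hi
        obtain ⟨c', hc', e'⟩ := h (a z * a z) ⟨_, Or.inl rfl, by simp [E, prod_single, pow_two]⟩
        have h1 := hadd c hc c hc c' hc' (by rw [e, e', map_mul])
        obtain ⟨j, rfl⟩ := hone c hc c hc (h1 ▸ hc')
        rw [← e, hE1]
        congr 1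
        have h2 := congrFun h1 j
        rcases hc' with rfl | ⟨l, rfl⟩ | ⟨l, l', hl, rfl⟩
        · by_contra hj; simp [Pi.single_eq_of_ne hj] at h2
        · simp only [Pi.add_apply, Pi.single_apply] at h2; split_ifs at h2 <;> omega
        · simp only [Pi.add_apply, Pi.single_apply] at h2; split_ifs at h2 <;> omega
      · let i' : Fin k := ⟨n - 1, by omega⟩
        have hi' := ih (n - 1) (by omega) i' rfl
        obtain ⟨c', hc', e'⟩ := h (a i' * a i) ⟨_, Or.inr (Or.inr ⟨i', i, by simp only [i']; omega, rfl⟩),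
          by rw [hE, hE1, hE1]⟩
        have hs : Pi.single i' 1 ∈ 𝒞 := Or.inr (Or.inl ⟨i', rfl⟩)
        have h1 := hadd c hc _ hs c' hc' (by rw [e, e', map_mul, hi', hE1, mul_comm])
        obtain ⟨j, rfl⟩ := hone c hc _ hs (h1 ▸ hc')
        rw [hE1] at e
        have hj : ¬ j.val < n := fun hj => by
          have := ha.inj (α.injective ((ih _ hj j rfl).trans e))
          omega
        rw [← e]
        congr 1
        have h2 := congrFun h1 j
        have h3 := congrFun h1 i'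
        have hi'' : i'.val = n - 1 := rfl
        apply Fin.ext
        have hz : z.val = 0 := rfl
        rcases hc' with rfl | ⟨l, rfl⟩ | ⟨l, l', hl, rfl⟩ <;>
          simp only [Pi.add_apply, Pi.single_apply, Fin.ext_iff] at h2 h3 <;>
          split_ifs at h2 h3 <;> omega
    exact fun i => key _ i rfl
  · have h1 : E '' 𝒞 ⊆ (Set.range a) ∪ Set.range fun j : Fin k =>
        a ⟨j.val - 1, by omega⟩ * a j := by
      rintro _ ⟨c, rfl | ⟨j, rfl⟩ | ⟨j, l, hl, rfl⟩, rfl⟩
      · exact Or.inr ⟨z, by simp [E, prod_single, pow_two, z]⟩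
      · exact Or.inl ⟨j, (hE1 j).symm⟩
      · refine Or.inr ⟨l, ?_⟩
        rw [hE, hE1, hE1]
        exact congrArg (fun i => a i * a l) (Fin.ext (by simp only; omega))
    have h6 := (Set.ncard_le_ncard h1).trans (Set.ncard_union_le _ _)
    have h7 : ∀ f : Fin k → A, (Set.range f).ncard ≤ k := fun f => by
      rw [← Set.image_univ]; exact (Set.ncard_image_le (Set.toFinite _)).trans (by simp [Set.ncard_univ])
    have h8 := h7 a
    have h9 := h7 fun j : Fin k => a ⟨j.val - 1, by omega⟩ * a j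
    have h10 := h5 H hH
    have h11 := ha.three_pow_le h2
    have h12 : ∀ k, 3 ≤ k → 5 * k < 3 ^ k := by
      intro k hk
      induction k, hk using Nat.le_induction with
      | base => norm_num
      | succ k hk ih => rw [pow_succ]; omega
    obtain ⟨m, hm⟩ := h2
    rcases (by omega : k = 2 ∨ 3 ≤ k) with rfl | hk3
    · have : 11 ≤ Nat.card A := by omega
      omega
    · have := h12 k hk3; omega

theorem exists_two_sets' (A : Type*) [CommGroup A] [Finite A] (h2 : ∀ x : A, x ^ 2 = 1) :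
    ∃ X Y : Set A, 1 ∉ X ∩ Y ∧ 4 * (X ∩ Y).ncard < Nat.card A ∧
    ∀ α : MulAut A, (∀ x, x ≠ 1 → (x ∈ X ↔ α x ∈ X)) → (∀ x, x ≠ 1 → (x ∈ Y ↔ α x ∈ Y)) → α = 1 := by
  obtain ⟨X, Y, h1, h3⟩ := exists_two_sets A
  refine ⟨X \ {1}, Y, by simp, ?_, fun α h h' => h1 α (fun x hx => by simpa [hx] using h x hx) h'⟩
  have hp : IsPGroup 2 A := fun x => ⟨1, by simpa using h2 x⟩
  obtain ⟨n, hn⟩ := IsPGroup.iff_card.mp hp
  rcases n with _ | n
  · have : Subsingleton A := (Nat.card_eq_one_iff_unique.mp (by simpa using hn)).1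
    rw [show X \ {1} = ∅ by ext x; simp [Subsingleton.elim x 1]]
    simp
  · obtain ⟨H, hH⟩ := Sylow.exists_subgroup_card_pow_prime (G := A) 2 (n := n) (by
      rw [hn]; exact pow_dvd_pow 2 (by omega))
    have h4 := h3 H (by
      rintro rfl
      rw [Subgroup.card_top, hn] at hH
      have := Nat.pow_right_injective le_rfl hH; omega)
    have h5 : ((X \ {1}) ∩ Y).ncard ≤ (X ∩ Y).ncard :=
      Set.ncard_le_ncard fun x hx => ⟨hx.1.1, hx.2⟩
    rw [pow_succ] at hn
    omega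

theorem three_dvd_of_cycle {Γ α : Type*} [Group Γ] [MulAction Γ α] {g : Γ} {n : ℕ} (hg : g ^ n = 1)
    {x : α} (h1 : g • x ≠ x) (h3 : g • g • g • x = x) : 3 ∣ n := by
  by_contra hc
  have h4 : g ^ 3 ∈ MulAction.stabilizer Γ x := by
    rw [MulAction.mem_stabilizer_iff, pow_three, mul_smul, mul_smul, h3]
  obtain ⟨m, hm⟩ := exists_pow_eq_self_of_coprime (x := g) (n := 3)
    (((Nat.Prime.coprime_iff_not_dvd Nat.prime_three).mpr hc).coprime_dvd_right
      (orderOf_dvd_of_pow_eq_one hg))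
  exact h1 (hm ▸ Subgroup.pow_mem _ h4 m)

theorem exists_prod_of_sq (h2 : ∀ x : A, x ^ 2 = 1) (ha : Subgroup.closure (Set.range a) = ⊤)
    (x : A) : ∃ c : Fin k → Fin 2, x = ∏ j, a j ^ (c j).val := by
  have hx : x ∈ Subgroup.closure (Set.range a) := ha ▸ Subgroup.mem_top x
  have hadd : ∀ (y : A) (s t : Fin 2), y ^ (s + t).val = y ^ s.val * y ^ t.val := by
    intro y s t
    have := h2 y
    fin_cases s <;> fin_cases t <;> simp [← pow_two, this]
  induction hx using Subgroup.closure_induction with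
  | mem x hx =>
    obtain ⟨i, rfl⟩ := hx
    refine ⟨Pi.single i 1, ?_⟩
    rw [Finset.prod_eq_single i (fun j _ hj => by simp [Pi.single_eq_of_ne hj]) (by simp)]
    simp
  | one => exact ⟨0, by simp⟩
  | mul x y _ _ hx hy =>
    obtain ⟨c, rfl⟩ := hx
    obtain ⟨c', rfl⟩ := hy
    exact ⟨c + c', by simp [hadd, Finset.prod_mul_distrib]⟩
  | inv x _ hx =>
    obtain ⟨c, hc⟩ := hx
    exact ⟨c, by rw [← hc, inv_eq_iff_mul_eq_one, ← pow_two, h2]⟩

/-- two transvections in general position generate an element of order three -/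
theorem transv {Φ : Subgroup (MulAut A)} {n : ℕ} (hn : ¬ 3 ∣ n) (hΦ : ∀ α ∈ Φ, α ^ n = 1)
    (h2 : ∀ x : A, x ^ 2 = 1) {s t : MulAut A} (hs : s ∈ Φ) (ht : t ∈ Φ) {c c' : A} (hc : c ≠ c')
    (h3 : s c = c) (h4 : t c' = c') (h5 : s c' = c' * c) (h6 : t c = c * c') : False := by
  have e : ∀ x : A, x * x = 1 := fun x => by rw [← pow_two, h2]
  have e1 : (s * t) c = c' := by
    rw [MulAut.mul_apply, h6, map_mul, h3, h5, mul_comm c', ← mul_assoc, e, one_mul]
  have e2 : (s * t) c' = c' * c := by rw [MulAut.mul_apply, h4, h5]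
  refine hn (three_dvd_of_cycle (hΦ _ (Φ.mul_mem hs ht)) (x := c) ?_ ?_)
  · show (s * t) c ≠ c
    rw [e1]; exact hc.symm
  · show (s * t) ((s * t) ((s * t) c)) = c
    rw [e1, e2, map_mul, e1, e2, mul_comm c', mul_assoc, e, mul_one]

theorem col_rank_two {Φ : Subgroup (MulAut A)} {n : ℕ} (hn : ¬ 3 ∣ n) (hΦ : ∀ α ∈ Φ, α ^ n = 1)
    (h2 : ∀ x : A, x ^ 2 = 1) {a : Fin 2 → A} (hgen : Subgroup.closure (Set.range a) = ⊤)
    (ha : Irred a) : ∃ x : A, x ≠ 1 ∧ ∀ α ∈ Φ, α x = x → α = 1 := by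
  by_contra hc
  push Not at hc
  obtain ⟨s, hs, hs0, hs1⟩ := hc _ (ha.ne_one 0)
  obtain ⟨t, ht, ht0, ht1⟩ := hc _ (ha.ne_one 1)
  have hall : ∀ x : A, x = 1 ∨ x = a 0 ∨ x = a 1 ∨ x = a 0 * a 1 := fun x => by
    obtain ⟨c, rfl⟩ := exists_prod_of_sq h2 hgen x
    rw [Fin.prod_univ_two]
    generalize c 0 = i; generalize c 1 = j
    fin_cases i <;> fin_cases j <;> simp
  have h01 : a 0 ≠ a 1 := by simp [ha.inj.eq_iff]
  refine transv hn hΦ h2 hs ht h01 hs0 ht0 ?_ ?_
  · rcases hall (s (a 1)) with e | e | e | e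
    · exact absurd (by simpa using e) (ha.ne_one 1)
    · exact absurd (s.injective (e.trans hs0.symm)).symm h01
    · exact absurd (aut_eq_one hgen fun i => by fin_cases i; exacts [hs0, e]) hs1
    · rw [e, mul_comm]
  · rcases hall (t (a 0)) with e | e | e | e
    · exact absurd (by simpa using e) (ha.ne_one 0)
    · exact absurd (aut_eq_one hgen fun i => by fin_cases i; exacts [e, ht0]) ht1
    · exact absurd (t.injective (e.trans ht0.symm)) h01
    · exact e

/-- in rank three: an automorphism fixing `x, y` and moving `z` multiplies `z` by `x`, `y` or `xy` -/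
theorem transv_cases (h2 : ∀ x : A, x ^ 2 = 1) {x y z : A}
    (hgen : Subgroup.closure (Set.range ![x, y, z]) = ⊤) (hz : z ∉ Subgroup.closure {x, y})
    {s : MulAut A} (hx : s x = x) (hy : s y = y) (hs : s ≠ 1) :
    s z = z * x ∨ s z = z * y ∨ s z = z * (x * y) := by
  obtain ⟨c, hc⟩ := exists_prod_of_sq h2 hgen (s z)
  rw [Fin.prod_univ_three] at hc
  have hfix : ∀ w ∈ Subgroup.closure ({x, y} : Set A), s w = w := fun w hw =>
    (Subgroup.closure_le (MonoidHom.eqLocus s.toMonoidHom (MonoidHom.id A))).mpr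
      (by rintro _ (rfl | rfl); exacts [hx, hy]) hw
  have hx' : x ∈ Subgroup.closure ({x, y} : Set A) := Subgroup.subset_closure (by simp)
  have hy' : y ∈ Subgroup.closure ({x, y} : Set A) := Subgroup.subset_closure (by simp)
  have hn : s z ∉ Subgroup.closure ({x, y} : Set A) := fun h =>
    hz (s.injective (hfix _ h) ▸ h)
  have hz' : s z ≠ z := fun e => hs (aut_eq_one hgen fun i => by fin_cases i; exacts [hx, hy, e])
  generalize c 0 = i at hc; generalize c 1 = j at hc; generalize c 2 = l at hc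
  fin_cases l
  · exact absurd (by
      rw [hc]; exact Subgroup.mul_mem _ (Subgroup.mul_mem _ (Subgroup.pow_mem _ hx' _)
        (Subgroup.pow_mem _ hy' _)) (by simp)) hn
  · fin_cases i <;> fin_cases j <;> simp_all [mul_comm]

theorem col_rank_three {Φ : Subgroup (MulAut A)} {n : ℕ} (hn : ¬ 3 ∣ n) (hΦ : ∀ α ∈ Φ, α ^ n = 1)
    (h2 : ∀ x : A, x ^ 2 = 1) {a : Fin 3 → A} (hgen : Subgroup.closure (Set.range a) = ⊤)
    (ha : Irred a) : ∃ x y : A, x ≠ 1 ∧ y ≠ 1 ∧ x ≠ y ∧ ∀ α ∈ Φ, α x = x → α y = y → α = 1 := by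
  by_contra hc
  push Not at hc
  have e2 : ∀ x : A, x * x = 1 := fun x => by rw [← pow_two, h2]
  have hinv : ∀ x : A, x⁻¹ = x := fun x => inv_eq_of_mul_eq_one_right (e2 x)
  -- the situation for a basis `c, x, z` and a transvection with axis `c, x` and centre `c`
  have key : ∀ c x z : A, Subgroup.closure (Set.range ![c, x, z]) = ⊤ →
      c ∉ Subgroup.closure {x, z} → x ≠ 1 → z ≠ 1 → x ≠ z → ∀ s ∈ Φ, s c = c → s x = x →
      s z = z * c → ∃ t ∈ Φ, t x = x ∧ t z = z ∧ t c = c * x := by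
    intro c x z hg hc' hx hz hxz s hs h3 h4 h5
    obtain ⟨t, ht, h6, h7, h8⟩ := hc x z hx hz hxz
    have hx' : x ∈ Subgroup.closure ({x, z} : Set A) := Subgroup.subset_closure (by simp)
    have hz' : z ∈ Subgroup.closure ({x, z} : Set A) := Subgroup.subset_closure (by simp)
    rcases transv_cases h2 (x := x) (y := z) (z := c) (by
      rw [← hg]; congr 1; ext w; simp; tauto) hc' h6 h7 h8 with e | e | e
    · exact ⟨t, ht, h6, h7, e⟩
    · exact (transv hn hΦ h2 hs ht (fun e : c = z => hc' (e ▸ hz')) h3 h7 h5 e).elim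
    · exact (transv hn hΦ h2 hs ht (fun e : c = x * z => hc' (e ▸ Subgroup.mul_mem _ hx' hz')) h3
        (by rw [map_mul, h6, h7]) (by rw [map_mul, h4, h5, mul_assoc]) e).elim
  have key2 : ∀ c x z : A, Subgroup.closure (Set.range ![c, x, z]) = ⊤ →
      c ∉ Subgroup.closure {x, z} → x ∉ Subgroup.closure {c, z} → x ≠ z → z ≠ 1 →
      ∀ s ∈ Φ, s c = c → s x = x → s z = z * c → False := by
    intro c x z hg hc' hx' hxz hz s hs h3 h4 h5
    have m1 : ∀ p q : A, p ∈ Subgroup.closure ({p, q} : Set A) := fun p q =>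
      Subgroup.subset_closure (by simp)
    have m2 : ∀ p q : A, q ∈ Subgroup.closure ({p, q} : Set A) := fun p q =>
      Subgroup.subset_closure (by simp)
    have hx1 : x ≠ 1 := fun e => hx' (e ▸ Subgroup.one_mem _)
    have hc1 : c ≠ 1 := fun e => hc' (e ▸ Subgroup.one_mem _)
    obtain ⟨t, ht, h6, -, h8⟩ := key c x z hg hc' hx1 hz hxz s hs h3 h4 h5
    obtain ⟨t', ht', h6', -, h8'⟩ := key c (x * c) z (by
        rw [eq_top_iff, ← hg, Subgroup.closure_le]
        have g1 : c ∈ Subgroup.closure (Set.range ![c, x * c, z]) := Subgroup.subset_closure ⟨0, rfl⟩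
        have g2 : x * c ∈ Subgroup.closure (Set.range ![c, x * c, z]) := Subgroup.subset_closure ⟨1, rfl⟩
        have g3 : z ∈ Subgroup.closure (Set.range ![c, x * c, z]) := Subgroup.subset_closure ⟨2, rfl⟩
        rintro _ ⟨i, rfl⟩
        fin_cases i
        · exact g1
        · simpa [mul_assoc, e2] using Subgroup.mul_mem _ g2 g1
        · exact g3)
      (fun h => by
        obtain ⟨i, j, hij⟩ := Subgroup.mem_closure_pair.mp h
        rcases Int.even_or_odd' i with ⟨i, rfl | rfl⟩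
        · rw [zpow_mul, zpow_ofNat, h2, one_zpow, one_mul] at hij
          exact hc' (hij ▸ Subgroup.zpow_mem _ (m2 _ _) _)
        · rw [zpow_add, zpow_mul, zpow_ofNat, h2, one_zpow, one_mul, zpow_one, mul_comm x c,
            mul_assoc, mul_eq_left, mul_eq_one_iff_eq_inv] at hij
          exact hx' (hij ▸ Subgroup.inv_mem _ (Subgroup.zpow_mem _ (m2 _ _) _)))
      (fun e => hx' (by rw [mul_eq_one_iff_eq_inv, hinv] at e; exact e ▸ m1 _ _)) hz
      (fun e => hx' (by
        rw [← eq_mul_inv_iff_mul_eq] at e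
        exact e ▸ Subgroup.mul_mem _ (m2 _ _) (Subgroup.inv_mem _ (m1 _ _))))
      s hs h3 (by rw [map_mul, h3, h4]) h5
    have h9 : t' x = x * (x * c) := by
      have : t' x * (c * (x * c)) = x * c := by rw [← h8', ← map_mul, h6']
      rw [mul_comm x c, ← mul_assoc c c, e2, one_mul, ← eq_mul_inv_iff_mul_eq, hinv] at this
      rw [this]; ac_rfl
    exact transv hn hΦ h2 ht ht' (by simpa using hc1) h6 h6'
      (by rw [map_mul, h6, h8, mul_assoc]) h9
  have i01 : a 0 ≠ a 1 := by simp [ha.inj.eq_iff]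
  obtain ⟨s, hs, h3, h4, h5⟩ := hc _ _ (ha.ne_one 0) (ha.ne_one 1) i01
  have hg : Subgroup.closure (Set.range ![a 0, a 1, a 2]) = ⊤ := by
    rw [← hgen]; congr 2; ext i; fin_cases i <;> rfl
  have n0 : a 0 ∉ Subgroup.closure {a 1, a 2} := fun h => ha 0 (Subgroup.closure_mono (by
    rintro _ (rfl | rfl); exacts [⟨1, by simp, rfl⟩, ⟨2, by simp, rfl⟩]) h)
  have n1 : a 1 ∉ Subgroup.closure {a 0, a 2} := fun h => ha 1 (Subgroup.closure_mono (by
    rintro _ (rfl | rfl); exacts [⟨0, by simp, rfl⟩, ⟨2, by simp, rfl⟩]) h)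
  have n2 : a 2 ∉ Subgroup.closure {a 0, a 1} := fun h => ha 2 (Subgroup.closure_mono (by
    rintro _ (rfl | rfl); exacts [⟨0, by simp, rfl⟩, ⟨1, by simp, rfl⟩]) h)
  rcases transv_cases h2 hg n2 h3 h4 h5 with e | e | e
  · exact key2 _ _ _ hg n0 n1 (by simp [ha.inj.eq_iff]) (ha.ne_one 2) s hs h3 h4 e
  · exact key2 _ _ _ (by rw [← hg]; congr 1; ext w; simp; tauto) n1 n0 (by simp [ha.inj.eq_iff])
      (ha.ne_one 2) s hs h4 h3 e
  · have m1 : ∀ p q : A, p ∈ Subgroup.closure ({p, q} : Set A) := fun p q =>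
      Subgroup.subset_closure (by simp)
    have m2 : ∀ p q : A, q ∈ Subgroup.closure ({p, q} : Set A) := fun p q =>
      Subgroup.subset_closure (by simp)
    refine key2 (a 0 * a 1) (a 1) (a 2) ?_ (fun h => n0 ?_) (fun h => ?_) (by simp [ha.inj.eq_iff])
      (ha.ne_one 2) s hs (by rw [map_mul, h3, h4]) h4 e
    · rw [eq_top_iff, ← hg, Subgroup.closure_le]
      have g1 : a 0 * a 1 ∈ Subgroup.closure (Set.range ![a 0 * a 1, a 1, a 2]) :=
        Subgroup.subset_closure ⟨0, rfl⟩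
      have g2 : a 1 ∈ Subgroup.closure (Set.range ![a 0 * a 1, a 1, a 2]) :=
        Subgroup.subset_closure ⟨1, rfl⟩
      have g3 : a 2 ∈ Subgroup.closure (Set.range ![a 0 * a 1, a 1, a 2]) :=
        Subgroup.subset_closure ⟨2, rfl⟩
      rintro _ ⟨i, rfl⟩
      fin_cases i
      · simpa [mul_assoc, e2] using Subgroup.mul_mem _ g1 g2
      · exact g2
      · exact g3
    · simpa [mul_assoc, e2] using Subgroup.mul_mem _ h (m1 _ _)
    · obtain ⟨i, j, hij⟩ := Subgroup.mem_closure_pair.mp h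
      rcases Int.even_or_odd' i with ⟨i, rfl | rfl⟩
      · rw [zpow_mul, zpow_ofNat, h2, one_zpow, one_mul] at hij
        exact n1 (hij ▸ Subgroup.zpow_mem _ (m2 _ _) _)
      · rw [zpow_add, zpow_mul, zpow_ofNat, h2, one_zpow, one_mul, zpow_one, mul_comm (a 0),
          mul_assoc, mul_eq_left, mul_eq_one_iff_eq_inv] at hij
        exact n0 (hij ▸ Subgroup.inv_mem _ (Subgroup.zpow_mem _ (m2 _ _) _))

/-- two small subsets distinguishing a `3'`-group of automorphisms of an elementary `2`-group -/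
theorem exists_three_sets (A : Type*) [CommGroup A] [Finite A] (h2 : ∀ x : A, x ^ 2 = 1)
    (Φ : Subgroup (MulAut A)) {n : ℕ} (hn : ¬ 3 ∣ n) (hΦ : ∀ α ∈ Φ, α ^ n = 1) :
    ∃ Y N : Set A, 1 ∉ N ∧ 4 * N.ncard < Nat.card A ∧
    (∀ H : Subgroup A, H ≠ ⊤ → Y.ncard + N.ncard + Nat.card H < Nat.card A) ∧
    ∀ α ∈ Φ, (∀ x, x ∈ N ↔ α x ∈ N) → (∀ x, x ≠ 1 → x ∉ N → (x ∈ Y ↔ α x ∈ Y)) → α = 1 := by
  classical
  obtain ⟨k, a, hgen, ha⟩ := exists_irred (A := A)
  have hk := ha.two_pow_le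
  have hlt : ∀ H : Subgroup A, H ≠ ⊤ → Nat.card H < Nat.card A := fun H hH => by
    have := two_mul_card_le hH
    have : 0 < Nat.card H := Nat.card_pos
    omega
  rcases (by omega : k = 0 ∨ k = 1 ∨ k = 2 ∨ k = 3 ∨ 4 ≤ k) with rfl | rfl | rfl | rfl | hk4
  · exact ⟨∅, ∅, by simp, by simp, by simpa using hlt, fun α _ _ _ => aut_eq_one hgen fun i => i.elim0⟩
  · refine ⟨∅, ∅, by simp, by simp, by simpa using hlt, fun α _ _ _ => aut_eq_one hgen fun i => ?_⟩
    obtain ⟨c, hc⟩ := exists_prod_of_sq h2 hgen (α (a i))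
    rw [Fin.prod_univ_one, Subsingleton.elim 0 i] at hc
    generalize c i = j at hc
    fin_cases j
    · exact absurd (by simpa using hc) (ha.ne_one i)
    · simpa using hc
  · obtain ⟨x, hx, h⟩ := col_rank_two hn hΦ h2 hgen ha
    refine ⟨{x}, ∅, by simp, by simp, fun H hH => ?_, fun α hα _ h' => h α hα ((h' x hx (by simp)).mp rfl)⟩
    have := two_mul_card_le hH
    simp only [Set.ncard_singleton, Set.ncard_empty]; omega
  · obtain ⟨x, y, hx, hy, hxy, h⟩ := col_rank_three hn hΦ h2 hgen ha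
    refine ⟨{x}, {y}, fun e => hy e.symm, by simp only [Set.ncard_singleton]; omega, fun H hH => ?_,
      fun α hα h1 h' => h α hα ((h' x hx hxy).mp rfl) ((h1 y).mp rfl)⟩
    have := two_mul_card_le hH
    simp only [Set.ncard_singleton]; omega
  let z : Fin k := ⟨0, by omega⟩
  let t : Fin k := ⟨3, by omega⟩
  have hzt : z ≠ t := by simp [z, t]
  let 𝓕 : Finset (Finset (Fin k)) := insert {z, t} ((Finset.Ico 1 (k - 1)).image (seg k))
  have h𝓕 : ∀ I, I ∈ 𝓕 ↔ (∃ m, 1 ≤ m ∧ m + 1 < k ∧ I = seg k m) ∨ I = {z, t} := fun I => by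
    simp only [𝓕, Finset.mem_insert, Finset.mem_image, Finset.mem_Ico]
    rw [or_comm]
    exact or_congr ⟨by rintro ⟨m, h, rfl⟩; exact ⟨m, h.1, by omega, rfl⟩,
      by rintro ⟨m, h1, h2, rfl⟩; exact ⟨m, ⟨h1, by omega⟩, rfl⟩⟩ Iff.rfl
  have h𝓕2 : ∀ I ∈ 𝓕, 2 ≤ I.card := fun I hI => by
    rcases (h𝓕 I).mp hI with ⟨m, h1, h2, rfl⟩ | rfl
    · rw [card_seg (by omega)]; omega
    · rw [Finset.card_pair hzt]
  have hc𝓕 : 𝓕.card ≤ k - 1 :=
    (Finset.card_insert_le _ _).trans (by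
      have : ((Finset.Ico 1 (k - 1)).image (seg k)).card ≤ k - 2 :=
        Finset.card_image_le.trans (by simp; omega)
      omega)
  have hN : ((fun I => ∏ j ∈ I, a j) '' (𝓕 : Set (Finset (Fin k)))).ncard ≤ k - 1 :=
    (Set.ncard_image_le (Set.toFinite _)).trans (by simpa using hc𝓕)
  have hY : (Set.range a).ncard = k := by rw [Set.ncard_range_of_injective ha.inj]; simp
  have h9 : ∀ k, 4 ≤ k → 4 * k ≤ 2 ^ k := by
    intro k hk
    induction k, hk using Nat.le_induction with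
    | base => norm_num
    | succ k hk ih => rw [pow_succ]; omega
  have h10 := h9 k hk4
  refine ⟨Set.range a, (fun I => ∏ j ∈ I, a j) '' (𝓕 : Set (Finset (Fin k))), ?_, by omega,
    fun H hH => ?_, fun α _ h' h => aut_eq_one hgen ?_⟩
  · rintro ⟨I, hI, e⟩
    exact ha.prod_ne_one (Finset.card_pos.mp (by have := h𝓕2 I hI; omega)) e
  · have := two_mul_card_le hH
    omega
  obtain ⟨σ, hσ, h1, h2⟩ := ha.exists_perm (α := α) fun i => (h _ (ha.ne_one i) (by
    rintro ⟨I, hI, e⟩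
    have := h𝓕2 I hI
    rw [ha.prod_inj (I := I) (J := {i}) (by simpa using e)] at this
    simp at this)).mp ⟨i, rfl⟩
  have h3 : ∀ I ∈ 𝓕, I.image σ ∈ 𝓕 := fun I hI => by
    obtain ⟨J, hJ, e⟩ := (h' _).mp ⟨I, hI, rfl⟩
    simp only [h2] at e
    rwa [← ha.prod_inj e]
  have h4 : ∀ m, 2 ≤ m → m + 1 < k → (seg k m).image σ = seg k m := fun m hm hk' => by
    have hc := Finset.card_image_of_injective (seg k m) hσ
    rcases (h𝓕 _).mp (h3 _ ((h𝓕 _).mpr (Or.inl ⟨m, by omega, hk', rfl⟩))) with ⟨m', -, h5, e⟩ | e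
    · rw [e, card_seg (by omega), card_seg (by omega)] at hc
      rw [e, show m' = m by omega]
    · rw [e, card_seg (by omega), Finset.card_pair hzt] at hc
      omega
  have h5 := fix_of_seg hσ 2 h4
  have h6 : ∀ I ∈ 𝓕, I.card = 2 → I = seg k 1 ∨ I = {z, t} := fun I hI hc => by
    rcases (h𝓕 I).mp hI with ⟨m, h1, h2, rfl⟩ | rfl
    · rw [card_seg (by omega)] at hc; left; rw [show m = 1 by omega]
    · exact Or.inr rfl
  have ht : σ t = t := h5 t (by simp [t])
  have hz : σ z = z := by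
    have h7 : t ∈ ({z, t} : Finset (Fin k)).image σ := Finset.mem_image.mpr ⟨t, by simp, ht⟩
    rcases h6 _ (h3 _ ((h𝓕 _).mpr (Or.inr rfl))) (by
      rw [Finset.card_image_of_injective _ hσ, Finset.card_pair hzt]) with e | e
    · rw [e, mem_seg] at h7; simp [t] at h7
    · have : σ z ∈ ({z, t} : Finset (Fin k)) := e ▸ Finset.mem_image_of_mem σ (by simp)
      simp only [Finset.mem_insert, Finset.mem_singleton] at this
      exact this.resolve_right fun e => hzt (hσ (e.trans ht.symm))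
  let o : Fin k := ⟨1, by omega⟩
  have ho : σ o = o := by
    have h7 : σ o ∈ (seg k 1).image σ := Finset.mem_image_of_mem σ (mem_seg.mpr le_rfl)
    have h8 : σ o ≠ z := fun e => by simpa [o, z] using hσ (e.trans hz.symm)
    have h9 : σ o ≠ t := fun e => by simpa [o, t] using hσ (e.trans ht.symm)
    rcases h6 _ (h3 _ ((h𝓕 _).mpr (Or.inl ⟨1, le_rfl, by omega, rfl⟩))) (by
      rw [Finset.card_image_of_injective _ hσ, card_seg (by omega)]) with e | e
    · rw [e, mem_seg] at h7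
      have : (σ o).val ≠ 0 := fun e => h8 (Fin.ext e)
      exact Fin.ext (by simp only [o] at *; omega)
    · rw [e] at h7; simp [h8, h9] at h7
  intro i
  rw [h1]
  congr 1
  rcases (by omega : i.val = 0 ∨ i.val = 1 ∨ i.val = 2 ∨ 2 < i.val) with e | e | e | e
  · rw [show i = z from Fin.ext e, hz]
  · rw [show i = o from Fin.ext e, ho]
  · have h7 : σ i ∈ seg k 2 := h4 2 le_rfl (by omega) ▸
      Finset.mem_image_of_mem σ (mem_seg.mpr e.le)
    have h8 : (σ i).val ≠ 0 := fun e' => by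
      have := congrArg Fin.val (hσ ((Fin.ext e' : σ i = z).trans hz.symm))
      simp only [z] at this; omega
    have h9 : (σ i).val ≠ 1 := fun e' => by
      have := congrArg Fin.val (hσ ((Fin.ext e' : σ i = o).trans ho.symm))
      simp only [o] at this; omega
    rw [mem_seg] at h7
    exact Fin.ext (by omega)
  · exact h5 i e

/-- a colouring of the complement of a small set `N` distinguishing the automorphisms in `Φ` -/
def Col (A : Type*) [CommGroup A] (Φ : Subgroup (MulAut A)) (γ : Type) (R : Set γ) : Prop :=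
  ∃ (χ : A → γ) (N : Set A), 1 ∉ N ∧ 4 * N.ncard < Nat.card A ∧
    (∀ H : Subgroup A, {a | a ≠ 1 ∧ a ∉ N ∧ χ a ∈ R} ⊆ H → H = ⊤) ∧
    ∀ α ∈ Φ, (∀ a, a ∈ N ↔ α a ∈ N) → (∀ a, a ≠ 1 → a ∉ N → χ (α a) = χ a) → α = 1

theorem small_of_four [Finite A] {N : Set A} (h : 4 * N.ncard < Nat.card A) (H : Subgroup A)
    (hH : H ≠ ⊤) : 2 * N.ncard + Nat.card H < Nat.card A := by
  have := two_mul_card_le hH
  omega

theorem eq_top_of_cover [Finite A] {Y N : Set A} {H : Subgroup A}
    (h : H ≠ ⊤ → Y.ncard + N.ncard + Nat.card H < Nat.card A)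
    (hc : ∀ a, a ≠ 1 → a ∉ N → a ∉ Y → a ∈ H) : H = ⊤ := by
  by_contra hH
  have h1 : (Set.univ : Set A) ⊆ (Y ∪ N) ∪ H := fun x _ => by
    by_cases h1 : x = 1
    · exact Or.inr (h1 ▸ H.one_mem)
    by_cases h2 : x ∈ N
    · exact Or.inl (Or.inr h2)
    by_cases h3 : x ∈ Y
    · exact Or.inl (Or.inl h3)
    · exact Or.inr (hc x h1 h2 h3)
  have h2 := Set.ncard_le_ncard h1
  have h3 := Set.ncard_union_le (Y ∪ N) (H : Set A)
  have h4 := Set.ncard_union_le Y N
  have h5 : (H : Set A).ncard = Nat.card H := rfl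
  have := h hH
  rw [Set.ncard_univ] at h2
  omega

theorem gen_of_four [Finite A] {N : Set A} (h : 4 * N.ncard < Nat.card A) {γ : Type} (χ : A → γ)
    (H : Subgroup A) (hH : {a | a ≠ 1 ∧ a ∉ N ∧ χ a ∈ Set.univ} ⊆ H) : H = ⊤ :=
  eq_top_of_cover (Y := ∅) (N := N) (fun h' => by
    have := small_of_four h H h'; simp only [Set.ncard_empty]; omega)
    fun a h1 h2 _ => hH ⟨h1, h2, trivial⟩

theorem col_three [Finite A] (h2 : ∀ x : A, x ^ 2 = 1) (Φ : Subgroup (MulAut A)) :
    Col A Φ (Fin 3) Set.univ := by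
  classical
  obtain ⟨X, Y, h1, h3, h4⟩ := exists_two_sets' A h2
  refine ⟨fun a => if a ∈ X then 0 else if a ∈ Y then 1 else 2, X ∩ Y, h1, h3, gen_of_four h3 _,
    fun α _ hN hχ => h4 α (fun x hx => ?_) fun x hx => ?_⟩ <;>
  · have e1 := hN x
    have e2 := hχ x hx
    simp only [Set.mem_inter_iff] at e1 e2
    by_cases a1 : x ∈ X <;> by_cases a2 : x ∈ Y <;> by_cases a3 : α x ∈ X <;>
      by_cases a4 : α x ∈ Y <;> simp [a1, a2, a3, a4] at e1 e2 ⊢

theorem col_of_sets [Finite A] {Φ : Subgroup (MulAut A)} {Y N : Set A} (h1 : 1 ∉ N)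
    (h3 : 4 * N.ncard < Nat.card A) (R : Set Bool)
    (hR : ∀ χ : A → Bool, (∀ a, χ a = true ↔ a ∈ Y) →
      ∀ H : Subgroup A, {a | a ≠ 1 ∧ a ∉ N ∧ χ a ∈ R} ⊆ H → H = ⊤)
    (h4 : ∀ α ∈ Φ, (∀ x, x ∈ N ↔ α x ∈ N) → (∀ x, x ≠ 1 → x ∉ N → (x ∈ Y ↔ α x ∈ Y)) → α = 1) :
    Col A Φ Bool R := by
  classical
  refine ⟨fun a => decide (a ∈ Y), N, h1, h3, hR _ (by simp), fun α hα hN hχ =>
    h4 α hα hN fun x hx hx' => ?_⟩
  simpa [eq_comm] using hχ x hx hx'

theorem col_two [Finite A] (h2 : ∀ x : A, x ^ 2 = 1) (Φ : Subgroup (MulAut A)) {n : ℕ}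
    (hn : ¬ 3 ∣ n) (hΦ : ∀ α ∈ Φ, α ^ n = 1) : Col A Φ Bool {false} := by
  obtain ⟨Y, N, h1, h3, h4, h5⟩ := exists_three_sets A h2 Φ hn hΦ
  exact col_of_sets h1 h3 _ (fun χ hχ H hH => eq_top_of_cover (h4 H) fun a a1 a2 a3 =>
    hH ⟨a1, a2, by simpa [← hχ] using a3⟩) h5

theorem col_odd [Finite A] (hA : Odd (Nat.card A)) (Φ : Subgroup (MulAut A)) :
    Col A Φ Bool Set.univ := by
  obtain ⟨Y, N, h1, h3, h4⟩ := exists_odd_sets A hA
  exact col_of_sets h1 h3 _ (fun χ _ => gen_of_four h3 χ) fun α _ => h4 α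

theorem col_small [Finite A] (hA : ∀ a b : A, a ≠ 1 → b ≠ 1 → a = b) (Φ : Subgroup (MulAut A)) :
    Col A Φ Unit Set.univ := by
  have h : 4 * (∅ : Set A).ncard < Nat.card A := by simp
  refine ⟨fun _ => (), ∅, by simp, h, gen_of_four h _, fun α _ _ _ => ?_⟩
  ext a
  by_cases ha : a = 1
  · simp [ha]
  · exact hA _ _ (by simpa using ha) ha

/-- the `n`-torsion subgroup -/
def tors (A : Type*) [CommGroup A] (n : ℕ) : Subgroup A := (powMonoidHom n : A →* A).ker

theorem mem_tors {n : ℕ} {x : A} : x ∈ tors A n ↔ x ^ n = 1 := Iff.rfl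

theorem map_mem_tors {n : ℕ} (α : MulAut A) {x : A} (hx : x ∈ tors A n) : α x ∈ tors A n := by
  rw [mem_tors] at hx ⊢
  rw [← map_pow, hx, map_one]

/-- restriction of automorphisms to the `n`-torsion subgroup -/
def resTors (A : Type*) [CommGroup A] (n : ℕ) : MulAut A →* MulAut (tors A n) where
  toFun α :=
    { toFun := fun x => ⟨α x, map_mem_tors α x.2⟩
      invFun := fun x => ⟨α.symm x, map_mem_tors α.symm x.2⟩
      left_inv := fun _ => Subtype.ext (α.symm_apply_apply _)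
      right_inv := fun _ => Subtype.ext (α.apply_symm_apply _)
      map_mul' := fun _ _ => Subtype.ext (map_mul α _ _) }
  map_one' := rfl
  map_mul' _ _ := rfl

end Cfsg.Agent.FG.BS
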