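import Mathlib
import Cfsg.Agent.FG.BaseAff
import Cfsg.Agent.GT.FrobeniusComplement

/-! The quasi-primitive case: a class two normal subgroup `F` with fixed-point-free centre `U`
and `C_G(F) = U`; eigenspace decomposition with respect to a maximal vector stabiliser in `F`. -/

set_option autoImplicit false

namespace Cfsg.Agent.FG.BS

universe u

open scoped commutatorElement

/-- data of the quasi-primitive case -/
structure Prim (G V : Type*) [Group G] [AddCommGroup V] [DistribMulAction G V] where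
  U : Subgroup G
  F : Subgroup G
  v : V
  Un : U.Normal
  Fn : F.Normal
  UF : U ≤ F
  fpf : ∀ u ∈ U, u ≠ 1 → ∀ x : V, u • x = x → x = 0
  cen : ∀ u ∈ U, ∀ f ∈ F, u * f = f * u
  comm : ∀ f ∈ F, ∀ f' ∈ F, ⁅f, f'⁆ ∈ U
  cF : ∀ g : G, (∀ f ∈ F, g * f = f * g) → g ∈ U
  umax : ∀ X : Subgroup G, X.Normal → (∀ x ∈ X, ∀ y ∈ X, x * y = y * x) → U ≤ X → X ≤ U
  v0 : v ≠ 0
  vmax : ∀ x : V, x ≠ 0 →
    Nat.card (F ⊓ MulAction.stabilizer G x : Subgroup G) ≤
      Nat.card (F ⊓ MulAction.stabilizer G v : Subgroup G)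

variable {G : Type*} {V : Type*} [Group G] [AddCommGroup V] [DistribMulAction G V]

theorem exists_max_abelian [Finite G] : ∃ U : Subgroup G, U.Normal ∧
    (∀ x ∈ U, ∀ y ∈ U, x * y = y * x) ∧
    ∀ X : Subgroup G, X.Normal → (∀ x ∈ X, ∀ y ∈ X, x * y = y * x) → U ≤ X → X ≤ U := by
  obtain ⟨U, ⟨h1, h2⟩, hmax⟩ := (Set.toFinite
    {U : Subgroup G | U.Normal ∧ ∀ x ∈ U, ∀ y ∈ U, x * y = y * x}).exists_maximal
    ⟨⊥, inferInstance, fun x hx y hy => by rw [Subgroup.mem_bot.mp hx, Subgroup.mem_bot.mp hy]⟩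
  exact ⟨U, h1, h2, fun X a b c => hmax ⟨a, b⟩ c⟩

theorem exists_prim [Finite G] [Finite V] [Nontrivial V] [Group.IsSolvable G] (U : Subgroup G)
    (hUn : U.Normal) (hUc : ∀ x ∈ U, ∀ y ∈ U, x * y = y * x)
    (hmax : ∀ X : Subgroup G, X.Normal → (∀ x ∈ X, ∀ y ∈ X, x * y = y * x) → U ≤ X → X ≤ U)
    (hfpf : ∀ u ∈ U, u ≠ 1 → ∀ x : V, u • x = x → x = 0) : Nonempty (Prim G V) := by
  obtain ⟨F, ⟨hFn, hUF, hFC, hFF⟩, hFmax⟩ := (Set.toFinite
    {F : Subgroup G | F.Normal ∧ U ≤ F ∧ F ≤ Subgroup.centralizer (U : Set G) ∧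
      ⁅F, F⁆ ≤ U}).exists_maximal
    ⟨U, hUn, le_rfl, fun x hx y hy => hUc y hy x hx, Subgroup.commutator_le_left U U⟩
  obtain ⟨v, hv, hvmax⟩ := Set.exists_max_image {x : V | x ≠ 0}
    (fun x => Nat.card (F ⊓ MulAction.stabilizer G x : Subgroup G)) (Set.toFinite _) (exists_ne 0)
  refine ⟨⟨U, F, v, hUn, hFn, hUF, hfpf, fun u hu f hf => hFC hf u hu,
    fun f hf f' hf' => hFF (Subgroup.commutator_mem_commutator hf hf'), ?_, hmax, hv, hvmax⟩⟩
  intro g hg
  let E : Subgroup G := Subgroup.centralizer (F : Set G)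
  have hEF : E ⊓ F ≤ U := hmax _ inferInstance (fun x hx y hy => (hx.1 y hy.2).symm)
    (le_inf (fun u hu f hf => (hFC hf u hu).symm) hUF)
  by_contra hgU
  obtain ⟨X, ⟨hXn, hXE, hXU⟩, hXmin⟩ := (Set.toFinite
    {X : Subgroup G | X.Normal ∧ X ≤ E ∧ ¬ X ≤ U}).exists_minimal
    ⟨E, inferInstance, le_rfl, fun h => hgU (h fun f hf => (hg f hf).symm)⟩
  have hXb : X ≠ ⊥ := fun h => hXU (h ▸ bot_le)
  have hXX : ⁅X, X⁆ ≤ U := by
    by_contra hc
    exact (Group.IsSolvable.commutator_lt_of_ne_bot hXb).not_ge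
      (hXmin ⟨inferInstance, (Subgroup.commutator_le_left X X).trans hXE, hc⟩
        (Subgroup.commutator_le_left X X))
  have h1 : X ⊔ F ≤ F := by
    refine hFmax ⟨inferInstance, le_sup_of_le_right hUF, sup_le (fun x hx u hu => hXE hx u (hUF hu)) hFC,
      ?_⟩ le_sup_right
    rw [Subgroup.commutator_le]
    intro a ha b hb
    have ha' : a ∈ ((X ⊔ F : Subgroup G) : Set G) := ha
    have hb' : b ∈ ((X ⊔ F : Subgroup G) : Set G) := hb
    rw [Subgroup.normal_mul] at ha' hb'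
    obtain ⟨x, hx, f, hf, rfl⟩ := ha'
    obtain ⟨x', hx', f', hf', rfl⟩ := hb'
    have e1 : Commute f x' := hXE hx' f hf
    have e2 : Commute f' x := hXE hx f' hf'
    have e3 : Commute f x := hXE hx f hf
    have e4 : Commute f' x' := hXE hx' f' hf'
    have : ⁅x * f, x' * f'⁆ = ⁅x, x'⁆ * ⁅f, f'⁆ := by
      have c1 : Commute (f * f' * f⁻¹ * f'⁻¹) (x⁻¹ * x'⁻¹) :=
        ((((e3.inv_right.mul_right e1.inv_right).mul_left
          (e2.inv_right.mul_right e4.inv_right)).mul_left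
          (e3.inv_right.mul_right e1.inv_right).inv_left).mul_left
          (e2.inv_right.mul_right e4.inv_right).inv_left)
      calc ⁅x * f, x' * f'⁆ = x * (f * x') * f' * f⁻¹ * (x⁻¹ * f'⁻¹) * x'⁻¹ := by
            rw [commutatorElement_def]; group
        _ = x * x' * ((f * f' * f⁻¹ * f'⁻¹) * (x⁻¹ * x'⁻¹)) := by
            rw [e1.eq, ← e2.inv_inv.eq]; group
        _ = _ := by rw [c1.eq, commutatorElement_def, commutatorElement_def]; group
    show ⁅x * f, x' * f'⁆ ∈ U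
    rw [this]
    exact U.mul_mem (hXX (Subgroup.commutator_mem_commutator hx hx'))
      (hFF (Subgroup.commutator_mem_commutator hf hf'))
  exact hXU ((le_inf hXE (le_sup_left.trans h1)).trans hEF)

theorem card_le_of_compl {A : Type*} [Group A] [Finite A] (H : Subgroup A) (N : Set A) (a : A)
    (h : ∀ x, x ∉ N → a * x ∉ N → x ∈ H) : Nat.card A ≤ 2 * N.ncard + Nat.card H := by
  have h1 : (Set.univ : Set A) ⊆ (N ∪ (fun x => a⁻¹ * x) '' N) ∪ H := by
    intro x _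
    by_cases h1 : x ∈ N
    · exact Or.inl (Or.inl h1)
    by_cases h2 : a * x ∈ N
    · exact Or.inl (Or.inr ⟨_, h2, by simp⟩)
    · exact Or.inr (h x h1 h2)
  have h2 := Set.ncard_le_ncard h1
  have h3 := Set.ncard_union_le (N ∪ (fun x => a⁻¹ * x) '' N) (H : Set A)
  have h4 := Set.ncard_union_le N ((fun x => a⁻¹ * x) '' N)
  have h5 : ((fun x => a⁻¹ * x) '' N).ncard ≤ N.ncard := Set.ncard_image_le
  rw [Set.ncard_univ] at h2
  have h6 : (H : Set A).ncard = Nat.card H := rfl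
  omega

namespace Prim

variable (P : Prim G V)

/-- the stabiliser of `v` in `F` -/
def B : Subgroup G := P.F ⊓ MulAction.stabilizer G P.v

/-- the centraliser of `B` in `F` -/
def D : Subgroup G := P.F ⊓ Subgroup.centralizer (P.B : Set G)

variable {P}

theorem mem_B {b : G} : b ∈ P.B ↔ b ∈ P.F ∧ b • P.v = P.v := Iff.rfl

theorem mem_D {d : G} : d ∈ P.D ↔ d ∈ P.F ∧ ∀ b ∈ P.B, b * d = d * b := Iff.rfl

theorem eq_one_of_U {u : G} (hu : u ∈ P.U) (h : u • P.v = P.v) : u = 1 := by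
  by_contra h1
  exact P.v0 (P.fpf u hu h1 _ h)

theorem comm_of_conj_mem {b f : G} (hb : b ∈ P.B) (hf : f ∈ P.F) (h : f⁻¹ * b * f ∈ P.B) :
    b * f = f * b := by
  have h1 : ⁅b⁻¹, f⁻¹⁆ ∈ P.B := by
    have := P.B.mul_mem (P.B.inv_mem hb) h
    rwa [commutatorElement_def, inv_inv, inv_inv, mul_assoc, mul_assoc, ← mul_assoc f⁻¹]
  have h2 := eq_one_of_U (P.comm _ (P.F.inv_mem hb.1) _ (P.F.inv_mem hf)) h1.2
  have h3 : Commute b⁻¹ f⁻¹ := commutatorElement_eq_one_iff_mul_comm.mp h2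
  exact (Commute.inv_inv_iff.mp h3).eq

theorem B_le_D : P.B ≤ P.D := fun _ hb => ⟨hb.1, fun _ hc =>
  comm_of_conj_mem hc hb.1 (P.B.mul_mem (P.B.mul_mem (P.B.inv_mem hb) hc) hb)⟩

theorem U_le_D : P.U ≤ P.D := fun u hu => ⟨P.UF hu, fun b hb => (P.cen u hu b hb.1).symm⟩

theorem conj_mem_B {g : G} (hg : g • P.v = P.v) {b : G} (hb : b ∈ P.B) : g * b * g⁻¹ ∈ P.B :=
  ⟨P.Fn.conj_mem b hb.1 g, (MulAction.stabilizer G P.v).mul_mem
    ((MulAction.stabilizer G P.v).mul_mem hg hb.2) ((MulAction.stabilizer G P.v).inv_mem hg)⟩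

theorem conj_mem_D {g : G} (hg : g • P.v = P.v) {d : G} (hd : d ∈ P.D) : g * d * g⁻¹ ∈ P.D := by
  refine ⟨P.Fn.conj_mem d hd.1 g, fun b hb => ?_⟩
  have := hd.2 _ (conj_mem_B (inv_smul_eq_iff.mpr hg.symm) hb)
  calc b * (g * d * g⁻¹) = g * ((g⁻¹ * b * g⁻¹⁻¹) * d) * g⁻¹ := by group
    _ = _ := by rw [this]; group

theorem D_smul {d : G} (hd : d ∈ P.D) {x : V} (hx : x ∈ fixS V P.B) : d • x ∈ fixS V P.B :=
  fun b hb => by rw [← mul_smul, hd.2 b hb, mul_smul, hx b hb]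

theorem stab_smul {g : G} (hg : g • P.v = P.v) {x : V} (hx : x ∈ fixS V P.B) :
    g • x ∈ fixS V P.B := fun b hb => by
  have := hx _ (conj_mem_B (inv_smul_eq_iff.mpr hg.symm) hb)
  rw [inv_inv, mul_smul, mul_smul] at this
  exact inv_smul_eq_iff.mp this

theorem v_mem : P.v ∈ fixS V P.B := fun _ hb => hb.2

theorem mem_B_of_fix [Finite G] {f : G} (hf : f ∈ P.F) {x : V} (hx : x ∈ fixS V P.B) (hx0 : x ≠ 0)
    (h : f • x = x) : f ∈ P.B := by
  have h1 : P.B ≤ P.F ⊓ MulAction.stabilizer G x := fun b hb => ⟨hb.1, hx b hb⟩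
  rw [Subgroup.eq_of_le_of_card_ge h1 (P.vmax x hx0)]
  exact ⟨hf, h⟩

instance D_normal : (P.D.subgroupOf P.F).Normal := ⟨fun d hd f => by
  have h1 : ⁅(f : G), (d : G)⁆ * d ∈ P.D := P.D.mul_mem (U_le_D (P.comm _ f.2 _ d.2)) hd
  rw [commutatorElement_def, inv_mul_cancel_right] at h1
  exact h1⟩

variable (P)

/-- the abelian group indexing the eigenspaces of `B` -/
def A : Type _ := P.F ⧸ P.D.subgroupOf P.F

instance : CommGroup P.A :=
  { (inferInstance : Group (P.F ⧸ P.D.subgroupOf P.F)) with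
    mul_comm := by
      intro a b
      obtain ⟨f, rfl⟩ := QuotientGroup.mk_surjective a
      obtain ⟨f', rfl⟩ := QuotientGroup.mk_surjective b
      apply QuotientGroup.eq.mpr
      have : ⁅(f' : G)⁻¹, (f : G)⁻¹⁆ ∈ P.D := U_le_D (P.comm _ (P.F.inv_mem f'.2) _ (P.F.inv_mem f.2))
      rw [Subgroup.mem_subgroupOf]
      convert this using 1
      simp [commutatorElement_def, mul_assoc] }

instance [Finite G] : Finite P.A := inferInstanceAs (Finite (P.F ⧸ P.D.subgroupOf P.F))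

noncomputable instance [Finite G] : Fintype P.A := Fintype.ofFinite _

/-- the projection `F → A` -/
def π : P.F →* P.A := QuotientGroup.mk' (P.D.subgroupOf P.F)

/-- a chosen representative -/
noncomputable def rep (a : P.A) : P.F := Quotient.out a

variable {P}

theorem π_rep (a : P.A) : P.π (P.rep a) = a := QuotientGroup.out_eq' a

theorem π_surj : Function.Surjective P.π := fun a => ⟨_, π_rep a⟩

theorem π_eq_iff {f f' : P.F} : P.π f = P.π f' ↔ (f : G)⁻¹ * f' ∈ P.D := QuotientGroup.eq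

theorem π_eq_one_iff {f : P.F} : P.π f = 1 ↔ (f : G) ∈ P.D := QuotientGroup.eq_one_iff f

theorem card_A_dvd : Nat.card P.A ∣ Nat.card G :=
  (Subgroup.card_quotient_dvd_card _).trans (Subgroup.card_subgroup_dvd_card P.F)

variable (P)

/-- the eigenspaces of `B` -/
noncomputable def W (a : P.A) : AddSubgroup V :=
  (fixS V P.B).comap (DistribSMul.toAddMonoidHom V ((P.rep a : G)⁻¹))

variable {P}

theorem mem_W {f : P.F} {x : V} : x ∈ P.W (P.π f) ↔ (f : G)⁻¹ • x ∈ fixS V P.B := by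
  have h1 : (f : G)⁻¹ * P.rep (P.π f) ∈ P.D := π_eq_iff.mp (π_rep _).symm
  show ((P.rep (P.π f) : G))⁻¹ • x ∈ fixS V P.B ↔ _
  constructor
  · intro h
    have := D_smul h1 h
    rwa [mul_smul, smul_inv_smul] at this
  · intro h
    have := D_smul (P.D.inv_mem h1) h
    rwa [mul_inv_rev, inv_inv, mul_smul, smul_inv_smul] at this

theorem smul_mem_W (f : P.F) {x : V} (hx : x ∈ fixS V P.B) : (f : G) • x ∈ P.W (P.π f) := by
  rw [mem_W, inv_smul_smul]; exact hx

theorem smul_of_mem_W {f : P.F} {x : V} (hx : x ∈ P.W (P.π f)) {b : G} (hb : b ∈ P.B) :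
    b • x = ⁅b, (f : G)⁆ • x := by
  have := mem_W.mp hx _ (P.B.inv_mem hb)
  rw [commutatorElement_def, mul_smul, mul_smul, mul_smul, this, smul_inv_smul]

theorem U_smul_W {u : G} (hu : u ∈ P.U) {a : P.A} {x : V} (hx : x ∈ P.W a) : u • x ∈ P.W a := by
  obtain ⟨f, rfl⟩ := π_surj a
  rw [mem_W] at hx ⊢
  rw [← mul_smul, ← P.cen u hu _ (P.F.inv_mem f.2), mul_smul]
  exact D_smul (U_le_D hu) hx

theorem indep_W [Finite G] : Indep P.W := by
  refine indep_of_sep _ fun i j hij => ?_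
  obtain ⟨f, rfl⟩ := π_surj i
  obtain ⟨f', rfl⟩ := π_surj j
  obtain ⟨b, hb, hne⟩ : ∃ b ∈ P.B, ⁅b, (f : G)⁆ ≠ ⁅b, (f' : G)⁆ := by
    by_contra hc
    push Not at hc
    refine hij (π_eq_iff.mpr ⟨P.F.mul_mem (P.F.inv_mem f.2) f'.2, fun b hb => ?_⟩)
    have h1 := hc _ (P.B.inv_mem hb)
    simp only [commutatorElement_def, inv_inv, mul_assoc, mul_right_inj] at h1
    calc b * ((f : G)⁻¹ * f') = (f : G)⁻¹ * (f * (b * (f : G)⁻¹)) * f' := by group
      _ = _ := by rw [h1]; group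
  have hu := P.comm _ hb.1 _ f.2
  have hu' := P.comm _ hb.1 _ f'.2
  refine ⟨DistribSMul.toAddMonoidHom V b - DistribSMul.toAddMonoidHom V ⁅b, (f' : G)⁆,
    fun k x hx => ?_, fun x hx => ?_, fun x hx h0 => ?_⟩
  · refine AddSubgroup.sub_mem _ ?_ (U_smul_W hu' hx)
    obtain ⟨f'', rfl⟩ := π_surj k
    show b • x ∈ _
    rw [smul_of_mem_W hx hb]
    exact U_smul_W (P.comm _ hb.1 _ f''.2) hx
  · exact sub_eq_zero.mpr (smul_of_mem_W hx hb)
  · have h1 : b • x = ⁅b, (f' : G)⁆ • x := sub_eq_zero.mp h0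
    rw [smul_of_mem_W hx hb] at h1
    refine P.fpf _ (P.U.mul_mem (P.U.inv_mem hu') hu) (fun e => hne ?_) x ?_
    · exact (inv_mul_eq_one.mp e).symm
    · rw [mul_smul, h1, inv_smul_smul]

/-- the automorphism of `A` induced by an element of the stabiliser of `v` -/
def φ {g : G} (hg : g • P.v = P.v) : MulAut P.A :=
  haveI := P.Fn
  QuotientGroup.congr (P.D.subgroupOf P.F) (P.D.subgroupOf P.F) (MulAut.conjNormal g) (by
    ext f
    constructor
    · rintro ⟨d, hd, rfl⟩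
      exact conj_mem_D hg hd
    · intro hf
      refine ⟨MulAut.conjNormal g⁻¹ f, conj_mem_D (inv_smul_eq_iff.mpr hg.symm) hf, ?_⟩
      apply Subtype.ext
      simp)

theorem φ_π {g : G} (hg : g • P.v = P.v) (f : P.F) :
    φ hg (P.π f) = P.π ⟨g * f * g⁻¹, P.Fn.conj_mem _ f.2 g⟩ := rfl

theorem φ_pow {g : G} (hg : g • P.v = P.v) (n : ℕ) (f : P.F) :
    (φ hg ^ n) (P.π f) = P.π ⟨g ^ n * f * (g ^ n)⁻¹, P.Fn.conj_mem _ f.2 _⟩ := by
  induction n with
  | zero => simp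
  | succ n ih =>
    rw [pow_succ', MulAut.mul_apply, ih, φ_π]
    congr 2
    simp [pow_succ', mul_assoc]

theorem φ_pow_card {g : G} (hg : g • P.v = P.v) : φ hg ^ Nat.card G = 1 := by
  ext a
  obtain ⟨f, rfl⟩ := π_surj a
  rw [φ_pow]
  simp

theorem smul_W {g : G} (hg : g • P.v = P.v) {a : P.A} {x : V} (hx : x ∈ P.W a) :
    g • x ∈ P.W (φ hg a) := by
  obtain ⟨f, rfl⟩ := π_surj a
  rw [φ_π, mem_W]
  have := stab_smul hg (mem_W.mp hx)
  simpa [mul_smul] using this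

theorem comp [Finite G] {g : G} (hg : g • P.v = P.v) {c : P.A → V} (hc : ∀ a, c a ∈ P.W a)
    (h : g • ∑ a, c a = ∑ a, c a) (a : P.A) : g • c a = c (φ hg a) := by
  have h1 : ∑ a, g • c ((φ hg).symm a) = ∑ a, c a := by
    rw [← h, Finset.smul_sum]
    exact Fintype.sum_equiv (φ hg).symm.toEquiv _ _ (fun _ => rfl)
  have h2 := indep_W.eq (w := fun a => g • c ((φ hg).symm a)) (fun a => by
    have := smul_W hg (hc ((φ hg).symm a)); rwa [MulEquiv.apply_symm_apply] at this) hc h1 (φ hg a)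
  simpa using h2

theorem β_mem {g : G} (hg : g • P.v = P.v) {f : G} (hf : f ∈ P.F) (h : g • f • P.v = f • P.v) :
    f⁻¹ * (g * f * g⁻¹) ∈ P.B := by
  refine ⟨P.F.mul_mem (P.F.inv_mem hf) (P.Fn.conj_mem _ hf g), ?_⟩
  show (f⁻¹ * (g * f * g⁻¹)) • P.v = P.v
  rw [mul_smul, mul_smul, mul_smul, inv_smul_eq_iff.mpr hg.symm, h, inv_smul_smul]

theorem fix_mul {g : G} (hg : g • P.v = P.v) {f d : G} (hf : f ∈ P.F) (hd : d ∈ P.D)
    (h : g • f • P.v = f • P.v) (h' : g • d • P.v = d • P.v) :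
    g • (f * d) • P.v = (f * d) • P.v := by
  have h1 := β_mem hg hf h
  calc g • (f * d) • P.v = f • (f⁻¹ * (g * f * g⁻¹)) • g • d • P.v := by
        simp only [← mul_smul]; congr 1; group
    _ = _ := by rw [h', D_smul hd v_mem _ h1, mul_smul]

/-- the final step: an element fixing `f • v` for almost all `f ∈ F` is trivial -/
theorem eq_one [Finite G] {g : G} (hg : g • P.v = P.v) (N : Set P.A) (h1 : 1 ∉ N)
    (hN : ∀ H : Subgroup P.A, H ≠ ⊤ → 2 * N.ncard + Nat.card H < Nat.card P.A)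
    (h : ∀ f : P.F, P.π f ∉ N → g • (f : G) • P.v = (f : G) • P.v) : g = 1 := by
  have key : ∀ (b : G) (a : P.A), (∀ d ∈ P.D, b * d = d * b) →
      (∀ f : P.F, P.π f ∉ N → a * P.π f ∉ N → b * f = f * b) → ∀ f ∈ P.F, b * f = f * b := by
    intro b a hD hb f hf
    let H : Subgroup P.A := ((Subgroup.centralizer {b}).subgroupOf P.F).map P.π
    have hH : H = ⊤ := by
      by_contra hc
      have := card_le_of_compl H N a fun x hx hax => by
        obtain ⟨f, rfl⟩ := π_surj x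
        exact ⟨f, Subgroup.mem_centralizer_singleton_iff.mpr (hb f hx hax).symm, rfl⟩
      have := hN H hc
      omega
    obtain ⟨c, hc, hcf⟩ : P.π ⟨f, hf⟩ ∈ H := hH ▸ Subgroup.mem_top _
    have h2 := hD _ (π_eq_iff.mp hcf)
    have h3 : (c : G) * b = b * c := Subgroup.mem_centralizer_singleton_iff.mp hc
    calc b * f = b * c * ((c : G)⁻¹ * f) := by group
      _ = c * (b * ((c : G)⁻¹ * f)) := by rw [← h3, mul_assoc]
      _ = f * b := by rw [h2]; group
  have step : ∀ f : P.F, P.π f ∉ N → g * f = f * g := by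
    intro f hf
    have hb := β_mem hg f.2 (h f hf)
    have h2 := key _ (P.π f) (fun d hd => hd.2 _ hb) (fun f' hf' hff' => by
      have hb' := β_mem hg f'.2 (h f' hf')
      have hb'' := β_mem hg (f * f').2 (h (f * f') (by rwa [map_mul]))
      refine comm_of_conj_mem hb f'.2 ?_
      have := P.B.mul_mem hb'' (P.B.inv_mem hb')
      convert this using 1
      simp only [Subgroup.coe_mul]
      group)
    have h3 := eq_one_of_U (P.cF _ h2) hb.2
    rw [inv_mul_eq_one, eq_mul_inv_iff_mul_eq] at h3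
    exact h3.symm
  exact eq_one_of_U (P.cF g (key g 1 (fun d hd => step ⟨d, hd.1⟩ (by rwa [π_eq_one_iff.mpr hd]))
    fun f hf _ => step f hf)) hg

/-- the action of `D` on the fixed points of `B` -/
def ψ : P.D →* MulAut (Multiplicative (fixS V P.B)) where
  toFun d :=
    { toFun := fun x => Multiplicative.ofAdd ⟨(d : G) • (x.toAdd : V), D_smul d.2 x.toAdd.2⟩
      invFun := fun x => Multiplicative.ofAdd
        ⟨(d : G)⁻¹ • (x.toAdd : V), D_smul (P.D.inv_mem d.2) x.toAdd.2⟩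
      left_inv := fun x => Subtype.ext (inv_smul_smul _ _)
      right_inv := fun x => Subtype.ext (smul_inv_smul _ _)
      map_mul' := fun x y => Subtype.ext (smul_add (d : G) (x.toAdd : V) (y.toAdd : V)) }
  map_one' := by ext1 x; exact Subtype.ext (one_smul G _)
  map_mul' d d' := by ext1 x; exact Subtype.ext (mul_smul (d : G) (d' : G) _)

theorem ψ_congr {d d' : P.D} (h : ψ d = ψ d') : (d : G) • P.v = (d' : G) • P.v :=
  congrArg (fun e : MulAut (Multiplicative (fixS V P.B)) =>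
    ((e (Multiplicative.ofAdd ⟨P.v, v_mem⟩)).toAdd.1 : V)) h

theorem ψ_eq_one_iff {d : P.D} : ψ d = 1 ↔ (d : G) ∈ P.B := by
  constructor
  · intro h
    exact ⟨d.2.1, (ψ_congr (h.trans (map_one ψ).symm)).trans (one_smul G _)⟩
  · intro h
    ext1 x
    exact Subtype.ext (x.toAdd.2 _ h)

theorem hasFpf [Finite G] [Finite V] : GT.Frob.HasFpfAction (ψ (P := P)).range := by
  have : Nontrivial (Multiplicative (fixS V P.B)) :=
    ⟨⟨Multiplicative.ofAdd ⟨P.v, v_mem⟩, 1, fun h => P.v0 (congrArg (fun x => (x.toAdd : V)) h)⟩⟩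
  refine GT.Frob.hasFpfAction_of_finite (ψ (P := P)).range.subtype ?_
  rintro ⟨_, d, rfl⟩ hd x hx
  by_contra hx1
  refine hd (Subtype.ext (ψ_eq_one_iff.mpr (mem_B_of_fix d.2.1 x.toAdd.2
    (fun e => hx1 (Subtype.ext e)) (congrArg (fun y => (y.toAdd : V)) hx))))

theorem range_class_two : commutator (ψ (P := P)).range ≤ Subgroup.center _ := by
  rw [commutator_def, Subgroup.commutator_le]
  rintro ⟨_, d, rfl⟩ - ⟨_, d', rfl⟩ -
  rw [Subgroup.mem_center_iff]
  rintro ⟨_, e, rfl⟩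
  apply Subtype.ext
  show ψ e * ⁅ψ d, ψ d'⁆ = ⁅ψ d, ψ d'⁆ * ψ e
  rw [← map_commutatorElement, ← map_mul, ← map_mul]
  congr 1
  exact Subtype.ext (P.cen _ (P.comm _ d.2.1 _ d'.2.1) _ e.2.1).symm

theorem card_range_dvd : Nat.card (ψ (P := P)).range ∣ Nat.card G :=
  (Subgroup.card_range_dvd _).trans (Subgroup.card_subgroup_dvd_card P.D)

theorem exists_gen {ι : Type*} (s : ι → (ψ (P := P)).range)
    (hs : Subgroup.closure (Set.range s) = ⊤) :
    ∃ t : ι → G, (∀ i, t i ∈ P.D) ∧ ∀ g : G, g • P.v = P.v → (∀ i, g • t i • P.v = t i • P.v) →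
      ∀ d ∈ P.D, g • d • P.v = d • P.v := by
  choose t ht using fun i => (s i).2
  refine ⟨fun i => t i, fun i => (t i).2, fun g hg h d hd => ?_⟩
  have key : ∀ x ∈ Subgroup.closure (Set.range s), ∃ d : P.D, ψ d = x.1 ∧
      g • (d : G) • P.v = (d : G) • P.v := by
    intro x hx
    induction hx using Subgroup.closure_induction_left with
    | one => exact ⟨1, map_one _, by simp [hg]⟩
    | mul_left x hx y _ ih =>
      obtain ⟨i, rfl⟩ := hx
      obtain ⟨d, hd, hd'⟩ := ih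
      exact ⟨t i * d, by rw [map_mul, ht, hd]; rfl, fix_mul hg (t i).2.1 d.2 (h i) hd'⟩
    | inv_mul_cancel x hx y _ ih =>
      obtain ⟨i, rfl⟩ := hx
      obtain ⟨d, hd, hd'⟩ := ih
      refine ⟨(t i)⁻¹ * d, by rw [map_mul, map_inv, ht, hd]; rfl,
        fix_mul hg (P.F.inv_mem (t i).2.1) d.2 ?_ hd'⟩
      have h1 := β_mem hg (t i).2.1 (h i)
      have h2 := D_smul (P.D.inv_mem (t i).2) v_mem _ (P.B.inv_mem h1)
      calc g • ((t i : G))⁻¹ • P.v = g • ((t i : G))⁻¹ • g⁻¹ • P.v := by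
            rw [inv_smul_eq_iff.mpr hg.symm]
        _ = (((t i : G))⁻¹ * (g * t i * g⁻¹))⁻¹ • ((t i : G))⁻¹ • P.v := by
            simp only [← mul_smul]; congr 1; group
        _ = _ := h2
  obtain ⟨d', hd1, hd2⟩ := key ⟨ψ ⟨d, hd⟩, ⟨d, hd⟩, rfl⟩ (hs ▸ Subgroup.mem_top _)
  rwa [ψ_congr hd1] at hd2

/-- a base from generators of `D/B` and a distinguishing family of subsets of `A` -/
theorem exists_base [Finite G] {ι : Type*} (s : ι → (ψ (P := P)).range)
    (hs : Subgroup.closure (Set.range s) = ⊤) (S : ι → Set P.A)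
    (hS : ∀ α : MulAut P.A, α ^ Nat.card G = 1 → (∀ i a, a ≠ 1 → (a ∈ S i ↔ α a ∈ S i)) → α = 1)
    (hN : ∀ H : Subgroup P.A, H ≠ ⊤ →
      2 * {a | a ≠ 1 ∧ ∀ i, a ∉ S i}.ncard + Nat.card H < Nat.card P.A) :
    ∃ w : ι → V, ∀ g : G, g • P.v = P.v → (∀ i, g • w i = w i) → g = 1 := by
  classical
  obtain ⟨t, htD, ht⟩ := exists_gen s hs
  let c : ι → P.A → V := fun i a =>
    if a = 1 then t i • P.v else if a ∈ S i then (P.rep a : G) • P.v else 0
  have hc : ∀ i a, c i a ∈ P.W a := by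
    intro i a
    simp only [c]
    split_ifs with h1 h2
    · rw [h1, ← π_eq_one_iff (f := ⟨t i, (htD i).1⟩).mpr (htD i)]
      exact smul_mem_W ⟨t i, (htD i).1⟩ v_mem
    · have := smul_mem_W (P.rep a) (v_mem (P := P))
      rwa [π_rep] at this
    · exact AddSubgroup.zero_mem _
  have hc0 : ∀ i a, a ≠ 1 → (a ∈ S i ↔ c i a ≠ 0) := by
    intro i a ha
    simp only [c, if_neg ha]
    split_ifs with h
    · simp [h, smul_eq_zero_iff_eq, P.v0]
    · simp [h]
  refine ⟨fun i => ∑ a, c i a, fun g hg hw => ?_⟩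
  have h1 := fun i => comp hg (hc i) (hw i)
  have hD := ht g hg fun i => by simpa [c] using h1 i 1
  have hφ : φ hg = 1 := hS _ (φ_pow_card hg) fun i a ha => by
    rw [hc0 i a ha, hc0 i _ (by simpa using ha), ← h1, Ne, Ne, smul_eq_zero_iff_eq]
  refine eq_one hg _ (fun h => h.1 rfl) hN fun f hf => ?_
  by_cases hf1 : P.π f = 1
  · exact hD _ (π_eq_one_iff.mp hf1)
  · simp only [Set.mem_ofPred_eq, not_and, not_forall, not_not] at hf
    obtain ⟨i, hi⟩ := hf hf1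
    have h2 := h1 i (P.π f)
    simp only [hφ, MulAut.one_apply, c, if_neg hf1, if_pos hi] at h2
    have h3 := π_eq_iff.mp (π_rep (P.π f))
    have := fix_mul hg (P.rep (P.π f)).2 h3 h2 (hD _ h3)
    rwa [mul_inv_cancel_left] at this

end Prim

end Cfsg.Agent.FG.BS
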