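import Mathlib
import Cfsg.Agent.FG.BasePrim
import Cfsg.Agent.FG.BaseCol
import Cfsg.Agent.S0205

/-! Base size three for solvable groups and base size two for groups of odd order acting
completely reducibly. -/

set_option autoImplicit false

namespace Cfsg.Agent.FG.BS

universe u

open scoped commutatorElement

theorem two_gen {X : Type*} [Group X] [Finite X] (h : GT.Frob.HasFpfAction X)
    (hc : commutator X ≤ Subgroup.center X) :
    ∃ s : Fin 2 → X, Subgroup.closure (Set.range s) = ⊤ := by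
  obtain ⟨Y, hY, hmax⟩ := (Set.toFinite
    {Y : Subgroup X | ∀ x ∈ Y, ∀ y ∈ Y, x * y = y * x}).exists_maximal
    ⟨⊥, fun x hx y hy => by rw [Subgroup.mem_bot.mp hx, Subgroup.mem_bot.mp hy]⟩
  have : IsMulCommutative Y := ⟨⟨fun a b => Subtype.ext (hY _ a.2 _ b.2)⟩⟩
  obtain ⟨y, hy⟩ := (Subgroup.isCyclic_iff_exists_zpowers_eq_top Y).mp (h.isCyclic_subgroup_of_comm Y)
  have hcm : ∀ a b : X, ⁅a, b⁆ ∈ Subgroup.center X := fun a b =>
    hc (Subgroup.commutator_mem_commutator trivial trivial)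
  let θ : X →* Subgroup.center X :=
    { toFun := fun d => ⟨⁅d, y⁆, hcm d y⟩
      map_one' := Subtype.ext (by simp)
      map_mul' := fun a b => Subtype.ext (by
        have := Subgroup.mem_center_iff.mp (hcm b y) a
        show ⁅a * b, y⁆ = ⁅a, y⁆ * ⁅b, y⁆
        calc ⁅a * b, y⁆ = (a * ⁅b, y⁆) * (y * a⁻¹ * y⁻¹) := by
              simp only [commutatorElement_def]; group
          _ = ⁅b, y⁆ * ⁅a, y⁆ := by rw [this]; simp only [commutatorElement_def]; group
          _ = _ := (Subgroup.mem_center_iff.mp (hcm a y) _)) }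
  have hker : ∀ d, θ d = 1 → d ∈ Subgroup.zpowers y := by
    intro d hd
    have h1 : Commute d y := commutatorElement_eq_one_iff_mul_comm.mp (congrArg Subtype.val hd)
    have h2 : Y ≤ Subgroup.closure {y, d} := by
      rw [← hy, Subgroup.zpowers_le]; exact Subgroup.subset_closure (by simp)
    have h3 : IsMulCommutative (Subgroup.closure ({y, d} : Set X)) :=
      Subgroup.isMulCommutative_closure (by
        rintro a (rfl | rfl) b (rfl | rfl)
        · rfl
        · exact h1.eq.symm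
        · exact h1.eq
        · rfl)
    have h4 := hmax (y := Subgroup.closure {y, d}) (fun a ha b hb =>
      congrArg Subtype.val (h3.is_comm.comm (⟨a, ha⟩ : Subgroup.closure ({y, d} : Set X)) ⟨b, hb⟩)) h2
    rw [hy]
    exact h4 (Subgroup.subset_closure (by simp))
  have := h.isCyclic_subgroup_of_comm (Subgroup.center X)
  obtain ⟨⟨_, t, rfl⟩, ht⟩ := IsCyclic.exists_generator (α := θ.range)
  refine ⟨![y, t], eq_top_iff.mpr fun d _ => ?_⟩
  obtain ⟨n, hn⟩ := ht ⟨θ d, d, rfl⟩
  have h1 : θ t ^ n = θ d := congrArg Subtype.val hn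
  have h2 := hker ((t ^ n)⁻¹ * d) (by rw [map_mul, map_inv, map_zpow, h1, inv_mul_cancel])
  have h3 : Subgroup.zpowers y ≤ Subgroup.closure (Set.range ![y, t]) :=
    Subgroup.zpowers_le.mpr (Subgroup.subset_closure ⟨0, rfl⟩)
  have h5 : t ∈ Subgroup.closure (Set.range ![y, t]) := Subgroup.subset_closure ⟨1, rfl⟩
  have h4 := Subgroup.mul_mem _ (Subgroup.zpow_mem _ h5 n) (h3 h2)
  rwa [mul_inv_cancel_left] at h4

theorem one_gen {X : Type*} [Group X] [Finite X] (h : GT.Frob.HasFpfAction X)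
    (hc : commutator X ≤ Subgroup.center X) (hodd : Odd (Nat.card X)) :
    ∃ s : Fin 1 → X, Subgroup.closure (Set.range s) = ⊤ := by
  have := h.isZGroup_of_odd hodd
  have : Group.IsNilpotent X := ⟨2, by
    rw [eq_top_iff]
    intro x _
    rw [Subgroup.mem_upperCentralSeries_succ_iff]
    intro y
    rw [Subgroup.upperCentralSeries_one]
    exact hc (Subgroup.commutator_mem_commutator trivial trivial)⟩
  obtain ⟨y, hy⟩ := IsCyclic.exists_generator (α := X)
  refine ⟨fun _ => y, eq_top_iff.mpr fun d _ => ?_⟩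
  have h5 : y ∈ Subgroup.closure (Set.range fun _ : Fin 1 => y) := Subgroup.subset_closure ⟨0, rfl⟩
  exact Subgroup.zpowers_le.mpr h5 (hy d)

/-- the image of `G` in the permutations of `V` -/
def Im (G V : Type*) [Group G] [MulAction G V] : Type _ := (MulAction.toPermHom G V).range

section im
variable {G V : Type*} [Group G] [AddCommGroup V] [DistribMulAction G V]

instance : Group (Im G V) := inferInstanceAs (Group (MulAction.toPermHom G V).range)

instance [Finite V] : Finite (Im G V) := inferInstanceAs (Finite (MulAction.toPermHom G V).range)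

instance : DistribMulAction (Im G V) V where
  smul x v := x.1 v
  one_smul _ := rfl
  mul_smul _ _ _ := rfl
  smul_zero x := by obtain ⟨_, g, rfl⟩ := x; exact smul_zero g
  smul_add x a b := by obtain ⟨_, g, rfl⟩ := x; exact smul_add g a b

instance : FaithfulSMul (Im G V) V := ⟨fun h => Subtype.ext (Equiv.ext h)⟩

/-- the projection onto the image -/
def toIm (G V : Type*) [Group G] [AddCommGroup V] [DistribMulAction G V] : G →* Im G V :=
  (MulAction.toPermHom G V).rangeRestrict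

theorem toIm_surj : Function.Surjective (toIm G V) := MonoidHom.rangeRestrict_surjective _

theorem toIm_smul (g : G) (v : V) : toIm G V g • v = g • v := rfl

theorem Irr.im (h : Irr G V) : Irr (Im G V) V := fun U hU => h U fun g => hU (toIm G V g)

theorem IsBase.of_im {ι : Type*} {t : ι → V} (h : IsBase (Im G V) t) : IsBase G t :=
  fun g => h (toIm G V g)

theorem card_im_dvd : Nat.card (Im G V) ∣ Nat.card G := Subgroup.card_range_dvd _

theorem solvable_im [Group.IsSolvable G] : Group.IsSolvable (Im G V) :=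
  Group.isSolvable_of_surjective (toIm_surj (G := G) (V := V))

theorem prim_three [Finite G] [Finite V] (P : Prim G V) : ∃ t : Fin 3 → V, IsBase G t := by
  obtain ⟨s, hs⟩ := two_gen (Prim.hasFpf (P := P)) Prim.range_class_two
  obtain ⟨X, Y, h1, h2⟩ := exists_two_sets P.A
  obtain ⟨w, hw⟩ := Prim.exists_base s hs ![Xᶜ, Yᶜ]
    (fun α _ h => h1 α (fun x hx => not_iff_not.mp (h 0 x hx)) fun x hx => not_iff_not.mp (h 1 x hx))
    fun H hH => lt_of_le_of_lt (Nat.add_le_add_right (Nat.mul_le_mul_left 2 (Set.ncard_le_ncard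
      fun a ha => Set.mem_inter (not_not.mp (ha.2 0)) (not_not.mp (ha.2 1)))) _) (h2 H hH)
  refine ⟨Fin.cons P.v w, fun g hg x => ?_⟩
  rw [hw g (hg 0) fun i => hg i.succ, one_smul]

theorem prim_odd [Finite G] [Finite V] (hodd : Odd (Nat.card G)) (P : Prim G V) :
    ∃ t : Fin 2 → V, IsBase G t := by
  obtain ⟨s, hs⟩ := one_gen (Prim.hasFpf (P := P)) Prim.range_class_two
    (hodd.of_dvd_nat Prim.card_range_dvd)
  obtain ⟨N, h1, h2⟩ := exists_small_set P.A (hodd.of_dvd_nat Prim.card_A_dvd)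
  obtain ⟨w, hw⟩ := Prim.exists_base s hs (fun _ => Nᶜ)
    (fun α hα h => h1 α _ hodd hα fun x hx => not_iff_not.mp (h 0 x hx))
    fun H hH => lt_of_le_of_lt (Nat.add_le_add_right (Nat.mul_le_mul_left 2 (Set.ncard_le_ncard
      fun a ha => not_not.mp (ha.2 0))) _) (h2 H hH)
  refine ⟨Fin.cons P.v w, fun g hg x => ?_⟩
  rw [hw g (hg 0) fun i => hg i.succ, one_smul]

/-- the imprimitive step, in terms of the block stabiliser -/
theorem Imprim.wreath' {Ω : Type*} [Fintype Ω] [MulAction G Ω] {W : Ω → AddSubgroup V}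
    (h : Imprim G W) (ω0 : Ω) {ι γ : Type*} (T : γ → ι → W ω0)
    (hb : ∀ c, @IsBase (MulAction.stabilizer G ω0) (W ω0) _ _ (subAct _ _ (h.stab_inv ω0)) ι (T c))
    (hne : ∀ c c', ∀ g : MulAction.stabilizer G ω0, (∀ i, (g : G) • (T c i : V) = T c' i) → c = c')
    (χ : Ω → γ) (hχ : ∀ g : G, (∀ ω, χ (g • ω) = χ ω) → ∀ ω : Ω, g • ω = ω) :
    ∃ v : ι → V, IsBase G v :=
  h.wreath ω0 (fun c i => T c i) (fun c i => (T c i).2)
    (fun c g hg hi x hx => congrArg Subtype.val (hb c ⟨g, hg⟩ (fun i => Subtype.ext (hi i)) ⟨x, hx⟩))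
    (fun c c' g hg hi => hne c c' ⟨g, hg⟩ hi) χ hχ

end im

theorem irr_three (n : ℕ) : ∀ (G V : Type u) [Group G] [AddCommGroup V] [DistribMulAction G V]
    [Finite V] [Group.IsSolvable G], Nat.card V = n → Irr G V → ∃ t : Fin 3 → V, IsBase G t := by
  induction n using Nat.strong_induction_on with
  | _ n ih =>
  intro G0 V _ _ _ _ _ hn hirr0
  rcases subsingleton_or_nontrivial V with hV | hV
  · exact ⟨0, fun _ _ _ => Subsingleton.elim _ _⟩
  have hirr := hirr0.im
  have := solvable_im (G := G0) (V := V)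
  suffices h : ∃ t : Fin 3 → V, IsBase (Im G0 V) t from h.imp fun _ => IsBase.of_im
  obtain ⟨U, hUn, hUc, hmax⟩ := exists_max_abelian (G := Im G0 V)
  rcases fpf_or_imprim hirr U hUc with hf | ⟨M, _, W, hM, hW, hW0⟩
  · exact prim_three (exists_prim U hUn hUc hmax hf).some
  · have : Nontrivial (Im G0 V ⧸ M) := QuotientGroup.nontrivial_iff.mpr hM.1
    obtain ⟨A, _, _, e, hA, h0, hm, -⟩ := exists_affine M hM
    have : Finite A := Finite.of_equiv _ e.symm
    obtain ⟨t, ht⟩ := ih _ (hn ▸ (Nat.card_congr e).trans_lt (hW.card_index_lt _ hW0)) M A rfl hA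
    obtain ⟨χ, hχ⟩ := colouring_five h0 hm ht
    let _ := subAct _ _ (hW.stab_inv ((1 : Im G0 V) : Im G0 V ⧸ M))
    obtain ⟨t', ht'⟩ := ih _ (hn ▸ hW.card_block_lt _ hW0) _ _ rfl (hW.irr_block hirr _)
    have := (AddSubgroup.nontrivial_iff_ne_bot _).mpr hW0
    obtain ⟨T, hT, hT'⟩ := many_five ht'
    exact hW.wreath' _ T hT (fun c c' g hg => hT' c c' g fun i => Subtype.ext (hg i)) χ hχ

theorem irr_odd (n : ℕ) : ∀ (G V : Type u) [Group G] [AddCommGroup V] [DistribMulAction G V]
    [Finite V] [Finite G], Odd (Nat.card G) → Nat.card V = n → Irr G V →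
    ∃ t : Fin 2 → V, IsBase G t := by
  induction n using Nat.strong_induction_on with
  | _ n ih =>
  intro G0 V _ _ _ _ _ hodd0 hn hirr0
  rcases subsingleton_or_nontrivial V with hV | hV
  · exact ⟨0, fun _ _ _ => Subsingleton.elim _ _⟩
  have hirr := hirr0.im
  have hodd : Odd (Nat.card (Im G0 V)) := hodd0.of_dvd_nat card_im_dvd
  have := S0205.result hodd
  suffices h : ∃ t : Fin 2 → V, IsBase (Im G0 V) t from h.imp fun _ => IsBase.of_im
  obtain ⟨U, hUn, hUc, hmax⟩ := exists_max_abelian (G := Im G0 V)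
  rcases fpf_or_imprim hirr U hUc with hf | ⟨M, _, W, hM, hW, hW0⟩
  · exact prim_odd hodd (exists_prim U hUn hUc hmax hf).some
  · have : Nontrivial (Im G0 V ⧸ M) := QuotientGroup.nontrivial_iff.mpr hM.1
    obtain ⟨A, _, _, e, hA, h0, hm, hn'⟩ := exists_affine M hM
    have : Finite A := Finite.of_equiv _ e.symm
    obtain ⟨t, ht⟩ := ih _ (hn ▸ (Nat.card_congr e).trans_lt (hW.card_index_lt _ hW0)) M A
      (hodd.of_dvd_nat (Subgroup.card_subgroup_dvd_card M)) rfl hA
    obtain ⟨χ, hχ⟩ := colouring_odd hodd h0 hm hn' ht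
    let _ := subAct _ _ (hW.stab_inv ((1 : Im G0 V) : Im G0 V ⧸ M))
    have hS := hodd.of_dvd_nat (Subgroup.card_subgroup_dvd_card
      (MulAction.stabilizer (Im G0 V) ((1 : Im G0 V) : Im G0 V ⧸ M)))
    obtain ⟨t', ht'⟩ := ih _ (hn ▸ hW.card_block_lt _ hW0) _ _ hS rfl (hW.irr_block hirr _)
    have := (AddSubgroup.nontrivial_iff_ne_bot _).mpr hW0
    obtain ⟨T, hT, hT'⟩ := many_odd hS ht'
    exact hW.wreath' _ T hT (fun c c' g hg => hT' c c' g fun i => Subtype.ext (hg i)) χ hχ

variable {G V : Type*} [Group G] [AddCommGroup V] [DistribMulAction G V] [Finite V]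

theorem base_three_of_irr [Group.IsSolvable G] (h : Irr G V) : ∃ t : Fin 3 → V, IsBase G t :=
  have := solvable_im (G := G) (V := V)
  (irr_three _ (Im G V) V rfl h.im).imp fun _ => IsBase.of_im

theorem base_two_of_irr_odd (hodd : Odd (Nat.card G)) (h : Irr G V) :
    ∃ t : Fin 2 → V, IsBase G t :=
  (irr_odd _ (Im G V) V (hodd.of_dvd_nat card_im_dvd) rfl h.im).imp fun _ => IsBase.of_im

theorem base_three_of_cr [Group.IsSolvable G]
    (hcr : ∀ U : AddSubgroup V, Invt G U → ∃ W : AddSubgroup V, Invt G W ∧ U ⊓ W = ⊥ ∧ U ⊔ W = ⊤) :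
    ∃ t : Fin 3 → V, IsBase G t :=
  exists_base_of_cr hcr fun W hW h => @base_three_of_irr _ _ _ _ (subAct _ W hW) _ _ h

theorem base_two_of_cr_odd (hodd : Odd (Nat.card G))
    (hcr : ∀ U : AddSubgroup V, Invt G U → ∃ W : AddSubgroup V, Invt G W ∧ U ⊓ W = ⊥ ∧ U ⊔ W = ⊤) :
    ∃ t : Fin 2 → V, IsBase G t :=
  exists_base_of_cr hcr fun W hW h => @base_two_of_irr_odd _ _ _ _ (subAct _ W hW) _
    (by rwa [Subgroup.card_top]) h

end Cfsg.Agent.FG.BS
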