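import Mathlib
import Cfsg.Agent.FG.BaseMain
import Cfsg.Agent.GT.CoprimeNilp
import Cfsg.Agent.GT.FrobeniusComplement

/-! The quasi-primitive case again, for an arbitrary base vector `v`. -/

set_option autoImplicit false

namespace Cfsg.Agent.FG.BS

universe u

open scoped commutatorElement

/-- data of the quasi-primitive case -/
structure Pre (G V : Type*) [Group G] [AddCommGroup V] [DistribMulAction G V] where
  U : Subgroup G
  F : Subgroup G
  v : V
  Un : U.Normal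
  Fn : F.Normal
  UF : U ≤ F
  fpf : ∀ u ∈ U, u ≠ 1 → ∀ x : V, u • x = x → x = 0
  cen : ∀ u ∈ U, ∀ f ∈ F, u * f = f * u
  comm : ∀ f ∈ F, ∀ f' ∈ F, ⁅f, f'⁆ ∈ U
  cF : ∀ g : G, (∀ f ∈ F, g * f = f * g) → g ∈ U
  umax : ∀ X : Subgroup G, X.Normal → (∀ x ∈ X, ∀ y ∈ X, x * y = y * x) → U ≤ X → X ≤ U
  v0 : v ≠ 0

variable {G : Type*} {V : Type*} [Group G] [AddCommGroup V] [DistribMulAction G V]

theorem card_hom_le (Z : Type*) [Group Z] [Finite Z] : Nat.card (Z →* ℂˣ) ≤ Nat.card Z := by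
  have : NeZero (Monoid.exponent (Abelianization Z)) := ⟨Monoid.exponent_ne_zero_of_finite⟩
  rw [Nat.card_congr (Abelianization.lift (G := Z) (A := ℂˣ)),
    CommGroup.card_monoidHom_of_hasEnoughRootsOfUnity (Abelianization Z) ℂ]
  exact Nat.card_le_card_of_surjective _ (QuotientGroup.mk'_surjective (commutator Z))

theorem finite_hom (Z : Type*) [Group Z] [Finite Z] : Finite (Z →* ℂˣ) := by
  have : NeZero (Monoid.exponent (Abelianization Z)) := ⟨Monoid.exponent_ne_zero_of_finite⟩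
  apply Nat.finite_of_card_ne_zero
  rw [Nat.card_congr (Abelianization.lift (G := Z) (A := ℂˣ)),
    CommGroup.card_monoidHom_of_hasEnoughRootsOfUnity (Abelianization Z) ℂ]
  exact Nat.card_pos.ne'

/-- a character trivial on the common kernel of a group of characters belongs to it -/
theorem mem_of_ker {F : Type*} [Group F] [Finite F] (X : Subgroup (F →* ℂˣ)) (χ : F →* ℂˣ)
    (h : ∀ f, (∀ x ∈ X, x f = 1) → χ f = 1) : χ ∈ X := by
  have := finite_hom F
  let ev : F →* (X →* ℂˣ) :=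
    { toFun := fun f => ⟨⟨fun x => x.1 f, rfl⟩, fun _ _ => rfl⟩
      map_one' := by ext x; simp
      map_mul' := fun a b => by ext x; simp }
  have hk : ∀ f, f ∈ ev.ker ↔ ∀ x ∈ X, x f = 1 := fun f =>
    ⟨fun hf x hx => DFunLike.congr_fun (MonoidHom.mem_ker.mp hf) ⟨x, hx⟩,
      fun hf => MonoidHom.ext fun x => hf x.1 x.2⟩
  let Y : Subgroup (F →* ℂˣ) :=
    { carrier := {x | ∀ f ∈ ev.ker, x f = 1}
      one_mem' := fun _ _ => rfl
      mul_mem' := fun {a b} ha hb f hf => by simp [ha f hf, hb f hf]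
      inv_mem' := fun {a} ha f hf => by simp [ha f hf] }
  have hXY : X ≤ Y := fun x hx f hf => (hk f).mp hf x hx
  have := finite_hom X
  have := finite_hom (F ⧸ ev.ker)
  have h1 : Nat.card Y ≤ Nat.card (F ⧸ ev.ker →* ℂˣ) :=
    Nat.card_le_card_of_injective (fun y : Y => QuotientGroup.lift ev.ker y.1 y.2) fun a b hab =>
      Subtype.ext (MonoidHom.ext fun f => DFunLike.congr_fun hab (f : F ⧸ ev.ker))
  have h2 := card_hom_le (F ⧸ ev.ker)
  have h3 : Nat.card (F ⧸ ev.ker) ≤ Nat.card (X →* ℂˣ) :=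
    Nat.card_le_card_of_injective _ (QuotientGroup.kerLift_injective ev)
  have h4 := card_hom_le X
  rw [Subgroup.eq_of_le_of_card_ge hXY (by omega)]
  exact fun f hf => h f ((hk f).mp hf)

theorem exists_inj_units (Z : Type*) [Group Z] [Finite Z] [IsCyclic Z] :
    ∃ j : Z →* ℂˣ, Function.Injective j := by
  have : NeZero (Nat.card Z) := ⟨Nat.card_pos.ne'⟩
  have h : Nat.card Z = Nat.card (rootsOfUnity (Nat.card Z) ℂ) :=
    (HasEnoughRootsOfUnity.natCard_rootsOfUnity ℂ _).symm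
  exact ⟨(rootsOfUnity (Nat.card Z) ℂ).subtype.comp (mulEquivOfCyclicCardEq h).toMonoidHom,
    Subtype.val_injective.comp (mulEquivOfCyclicCardEq h).injective⟩

/-- forget the maximality of the vector stabiliser -/
def Prim.toPre (P : Prim G V) : Pre G V :=
  ⟨P.U, P.F, P.v, P.Un, P.Fn, P.UF, P.fpf, P.cen, P.comm, P.cF, P.umax, P.v0⟩

namespace Pre

variable (P : Pre G V)

/-- the stabiliser of `v` in `F` has maximal order -/
def IsMax : Prop := ∀ x : V, x ≠ 0 → Nat.card (P.F ⊓ MulAction.stabilizer G x : Subgroup G) ≤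
  Nat.card (P.F ⊓ MulAction.stabilizer G P.v : Subgroup G)

/-- change of the base vector -/
def change (x : V) (hx : x ≠ 0) : Pre G V := { P with v := x, v0 := hx }

/-- the stabiliser of `v` in `F` -/
def B : Subgroup G := P.F ⊓ MulAction.stabilizer G P.v

/-- the centraliser of `B` in `F` -/
def D : Subgroup G := P.F ⊓ Subgroup.centralizer (P.B : Set G)

variable {P}

theorem mem_B {b : G} : b ∈ P.B ↔ b ∈ P.F ∧ b • P.v = P.v := Iff.rfl

theorem mem_D {d : G} : d ∈ P.D ↔ d ∈ P.F ∧ ∀ b ∈ P.B, b * d = d * b := Iff.rfl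

theorem eq_one_of_U {u : G} (hu : u ∈ P.U) (h : u • P.v = P.v) : u = 1 := by
  by_contra h1
  exact P.v0 (P.fpf u hu h1 _ h)

theorem comm_of_conj_mem {b f : G} (hb : b ∈ P.B) (hf : f ∈ P.F) (h : f⁻¹ * b * f ∈ P.B) :
    b * f = f * b := by
  have h1 : ⁅b⁻¹, f⁻¹⁆ ∈ P.B := by
    have := P.B.mul_mem (P.B.inv_mem hb) h
    rwa [commutatorElement_def, inv_inv, inv_inv, mul_assoc, mul_assoc, ← mul_assoc f⁻¹]
  have h2 := eq_one_of_U (P.comm _ (P.F.inv_mem hb.1) _ (P.F.inv_mem hf)) h1.2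
  have h3 : Commute b⁻¹ f⁻¹ := commutatorElement_eq_one_iff_mul_comm.mp h2
  exact (Commute.inv_inv_iff.mp h3).eq

theorem B_le_D : P.B ≤ P.D := fun _ hb => ⟨hb.1, fun _ hc =>
  comm_of_conj_mem hc hb.1 (P.B.mul_mem (P.B.mul_mem (P.B.inv_mem hb) hc) hb)⟩

theorem U_le_D : P.U ≤ P.D := fun u hu => ⟨P.UF hu, fun b hb => (P.cen u hu b hb.1).symm⟩

theorem conj_mem_B {g : G} (hg : g • P.v = P.v) {b : G} (hb : b ∈ P.B) : g * b * g⁻¹ ∈ P.B :=
  ⟨P.Fn.conj_mem b hb.1 g, (MulAction.stabilizer G P.v).mul_mem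
    ((MulAction.stabilizer G P.v).mul_mem hg hb.2) ((MulAction.stabilizer G P.v).inv_mem hg)⟩

theorem conj_mem_D {g : G} (hg : g • P.v = P.v) {d : G} (hd : d ∈ P.D) : g * d * g⁻¹ ∈ P.D := by
  refine ⟨P.Fn.conj_mem d hd.1 g, fun b hb => ?_⟩
  have := hd.2 _ (conj_mem_B (inv_smul_eq_iff.mpr hg.symm) hb)
  calc b * (g * d * g⁻¹) = g * ((g⁻¹ * b * g⁻¹⁻¹) * d) * g⁻¹ := by group
    _ = _ := by rw [this]; group

theorem D_smul {d : G} (hd : d ∈ P.D) {x : V} (hx : x ∈ fixS V P.B) : d • x ∈ fixS V P.B :=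
  fun b hb => by rw [← mul_smul, hd.2 b hb, mul_smul, hx b hb]

theorem stab_smul {g : G} (hg : g • P.v = P.v) {x : V} (hx : x ∈ fixS V P.B) :
    g • x ∈ fixS V P.B := fun b hb => by
  have := hx _ (conj_mem_B (inv_smul_eq_iff.mpr hg.symm) hb)
  rw [inv_inv, mul_smul, mul_smul] at this
  exact inv_smul_eq_iff.mp this

theorem v_mem : P.v ∈ fixS V P.B := fun _ hb => hb.2

theorem mem_B_of_fix [Finite G] (hP : P.IsMax) {f : G} (hf : f ∈ P.F) {x : V} (hx : x ∈ fixS V P.B) (hx0 : x ≠ 0)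
    (h : f • x = x) : f ∈ P.B := by
  have h1 : P.B ≤ P.F ⊓ MulAction.stabilizer G x := fun b hb => ⟨hb.1, hx b hb⟩
  rw [Subgroup.eq_of_le_of_card_ge h1 (hP x hx0)]
  exact ⟨hf, h⟩

instance D_normal : (P.D.subgroupOf P.F).Normal := ⟨fun d hd f => by
  have h1 : ⁅(f : G), (d : G)⁆ * d ∈ P.D := P.D.mul_mem (U_le_D (P.comm _ f.2 _ d.2)) hd
  rw [commutatorElement_def, inv_mul_cancel_right] at h1
  exact h1⟩

variable (P)

/-- the abelian group indexing the eigenspaces of `B` -/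
def A : Type _ := P.F ⧸ P.D.subgroupOf P.F

instance : CommGroup P.A :=
  { (inferInstance : Group (P.F ⧸ P.D.subgroupOf P.F)) with
    mul_comm := by
      intro a b
      obtain ⟨f, rfl⟩ := QuotientGroup.mk_surjective a
      obtain ⟨f', rfl⟩ := QuotientGroup.mk_surjective b
      apply QuotientGroup.eq.mpr
      have : ⁅(f' : G)⁻¹, (f : G)⁻¹⁆ ∈ P.D := U_le_D (P.comm _ (P.F.inv_mem f'.2) _ (P.F.inv_mem f.2))
      rw [Subgroup.mem_subgroupOf]
      convert this using 1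
      simp [commutatorElement_def, mul_assoc] }

instance [Finite G] : Finite P.A := inferInstanceAs (Finite (P.F ⧸ P.D.subgroupOf P.F))

noncomputable instance [Finite G] : Fintype P.A := Fintype.ofFinite _

/-- the projection `F → A` -/
def π : P.F →* P.A := QuotientGroup.mk' (P.D.subgroupOf P.F)

/-- a chosen representative -/
noncomputable def rep (a : P.A) : P.F := Quotient.out a

variable {P}

theorem π_rep (a : P.A) : P.π (P.rep a) = a := QuotientGroup.out_eq' a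

theorem π_surj : Function.Surjective P.π := fun a => ⟨_, π_rep a⟩

theorem π_eq_iff {f f' : P.F} : P.π f = P.π f' ↔ (f : G)⁻¹ * f' ∈ P.D := QuotientGroup.eq

theorem π_eq_one_iff {f : P.F} : P.π f = 1 ↔ (f : G) ∈ P.D := QuotientGroup.eq_one_iff f

theorem card_A_dvd : Nat.card P.A ∣ Nat.card G :=
  (Subgroup.card_quotient_dvd_card _).trans (Subgroup.card_subgroup_dvd_card P.F)

variable (P)

/-- the eigenspaces of `B` -/
noncomputable def W (a : P.A) : AddSubgroup V :=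
  (fixS V P.B).comap (DistribSMul.toAddMonoidHom V ((P.rep a : G)⁻¹))

variable {P}

theorem mem_W {f : P.F} {x : V} : x ∈ P.W (P.π f) ↔ (f : G)⁻¹ • x ∈ fixS V P.B := by
  have h1 : (f : G)⁻¹ * P.rep (P.π f) ∈ P.D := π_eq_iff.mp (π_rep _).symm
  show ((P.rep (P.π f) : G))⁻¹ • x ∈ fixS V P.B ↔ _
  constructor
  · intro h
    have := D_smul h1 h
    rwa [mul_smul, smul_inv_smul] at this
  · intro h
    have := D_smul (P.D.inv_mem h1) h
    rwa [mul_inv_rev, inv_inv, mul_smul, smul_inv_smul] at this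

theorem smul_mem_W (f : P.F) {x : V} (hx : x ∈ fixS V P.B) : (f : G) • x ∈ P.W (P.π f) := by
  rw [mem_W, inv_smul_smul]; exact hx

theorem smul_of_mem_W {f : P.F} {x : V} (hx : x ∈ P.W (P.π f)) {b : G} (hb : b ∈ P.B) :
    b • x = ⁅b, (f : G)⁆ • x := by
  have := mem_W.mp hx _ (P.B.inv_mem hb)
  rw [commutatorElement_def, mul_smul, mul_smul, mul_smul, this, smul_inv_smul]

theorem U_smul_W {u : G} (hu : u ∈ P.U) {a : P.A} {x : V} (hx : x ∈ P.W a) : u • x ∈ P.W a := by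
  obtain ⟨f, rfl⟩ := π_surj a
  rw [mem_W] at hx ⊢
  rw [← mul_smul, ← P.cen u hu _ (P.F.inv_mem f.2), mul_smul]
  exact D_smul (U_le_D hu) hx

theorem indep_W [Finite G] : Indep P.W := by
  refine indep_of_sep _ fun i j hij => ?_
  obtain ⟨f, rfl⟩ := π_surj i
  obtain ⟨f', rfl⟩ := π_surj j
  obtain ⟨b, hb, hne⟩ : ∃ b ∈ P.B, ⁅b, (f : G)⁆ ≠ ⁅b, (f' : G)⁆ := by
    by_contra hc
    push Not at hc
    refine hij (π_eq_iff.mpr ⟨P.F.mul_mem (P.F.inv_mem f.2) f'.2, fun b hb => ?_⟩)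
    have h1 := hc _ (P.B.inv_mem hb)
    simp only [commutatorElement_def, inv_inv, mul_assoc, mul_right_inj] at h1
    calc b * ((f : G)⁻¹ * f') = (f : G)⁻¹ * (f * (b * (f : G)⁻¹)) * f' := by group
      _ = _ := by rw [h1]; group
  have hu := P.comm _ hb.1 _ f.2
  have hu' := P.comm _ hb.1 _ f'.2
  refine ⟨DistribSMul.toAddMonoidHom V b - DistribSMul.toAddMonoidHom V ⁅b, (f' : G)⁆,
    fun k x hx => ?_, fun x hx => ?_, fun x hx h0 => ?_⟩
  · refine AddSubgroup.sub_mem _ ?_ (U_smul_W hu' hx)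
    obtain ⟨f'', rfl⟩ := π_surj k
    show b • x ∈ _
    rw [smul_of_mem_W hx hb]
    exact U_smul_W (P.comm _ hb.1 _ f''.2) hx
  · exact sub_eq_zero.mpr (smul_of_mem_W hx hb)
  · have h1 : b • x = ⁅b, (f' : G)⁆ • x := sub_eq_zero.mp h0
    rw [smul_of_mem_W hx hb] at h1
    refine P.fpf _ (P.U.mul_mem (P.U.inv_mem hu') hu) (fun e => hne ?_) x ?_
    · exact (inv_mul_eq_one.mp e).symm
    · rw [mul_smul, h1, inv_smul_smul]

/-- the automorphism of `A` induced by an element of the stabiliser of `v` -/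
def φ {g : G} (hg : g • P.v = P.v) : MulAut P.A :=
  haveI := P.Fn
  QuotientGroup.congr (P.D.subgroupOf P.F) (P.D.subgroupOf P.F) (MulAut.conjNormal g) (by
    ext f
    constructor
    · rintro ⟨d, hd, rfl⟩
      exact conj_mem_D hg hd
    · intro hf
      refine ⟨MulAut.conjNormal g⁻¹ f, conj_mem_D (inv_smul_eq_iff.mpr hg.symm) hf, ?_⟩
      apply Subtype.ext
      simp)

theorem φ_π {g : G} (hg : g • P.v = P.v) (f : P.F) :
    φ hg (P.π f) = P.π ⟨g * f * g⁻¹, P.Fn.conj_mem _ f.2 g⟩ := rfl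

theorem φ_pow {g : G} (hg : g • P.v = P.v) (n : ℕ) (f : P.F) :
    (φ hg ^ n) (P.π f) = P.π ⟨g ^ n * f * (g ^ n)⁻¹, P.Fn.conj_mem _ f.2 _⟩ := by
  induction n with
  | zero => simp
  | succ n ih =>
    rw [pow_succ', MulAut.mul_apply, ih, φ_π]
    congr 2
    simp [pow_succ', mul_assoc]

theorem φ_pow_card {g : G} (hg : g • P.v = P.v) : φ hg ^ Nat.card G = 1 := by
  ext a
  obtain ⟨f, rfl⟩ := π_surj a
  rw [φ_pow]
  simp

theorem smul_W {g : G} (hg : g • P.v = P.v) {a : P.A} {x : V} (hx : x ∈ P.W a) :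
    g • x ∈ P.W (φ hg a) := by
  obtain ⟨f, rfl⟩ := π_surj a
  rw [φ_π, mem_W]
  have := stab_smul hg (mem_W.mp hx)
  simpa [mul_smul] using this

theorem comp [Finite G] {g : G} (hg : g • P.v = P.v) {c : P.A → V} (hc : ∀ a, c a ∈ P.W a)
    (h : g • ∑ a, c a = ∑ a, c a) (a : P.A) : g • c a = c (φ hg a) := by
  have h1 : ∑ a, g • c ((φ hg).symm a) = ∑ a, c a := by
    rw [← h, Finset.smul_sum]
    exact Fintype.sum_equiv (φ hg).symm.toEquiv _ _ (fun _ => rfl)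
  have h2 := indep_W.eq (w := fun a => g • c ((φ hg).symm a)) (fun a => by
    have := smul_W hg (hc ((φ hg).symm a)); rwa [MulEquiv.apply_symm_apply] at this) hc h1 (φ hg a)
  simpa using h2

theorem β_mem {g : G} (hg : g • P.v = P.v) {f : G} (hf : f ∈ P.F) (h : g • f • P.v = f • P.v) :
    f⁻¹ * (g * f * g⁻¹) ∈ P.B := by
  refine ⟨P.F.mul_mem (P.F.inv_mem hf) (P.Fn.conj_mem _ hf g), ?_⟩
  show (f⁻¹ * (g * f * g⁻¹)) • P.v = P.v
  rw [mul_smul, mul_smul, mul_smul, inv_smul_eq_iff.mpr hg.symm, h, inv_smul_smul]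

theorem fix_mul {g : G} (hg : g • P.v = P.v) {f d : G} (hf : f ∈ P.F) (hd : d ∈ P.D)
    (h : g • f • P.v = f • P.v) (h' : g • d • P.v = d • P.v) :
    g • (f * d) • P.v = (f * d) • P.v := by
  have h1 := β_mem hg hf h
  calc g • (f * d) • P.v = f • (f⁻¹ * (g * f * g⁻¹)) • g • d • P.v := by
        simp only [← mul_smul]; congr 1; group
    _ = _ := by rw [h', D_smul hd v_mem _ h1, mul_smul]

/-- the final step: an element fixing `f • v` for almost all `f ∈ F` is trivial -/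
theorem eq_one [Finite G] {g : G} (hg : g • P.v = P.v) (N : Set P.A) (h1 : 1 ∉ N)
    (hN : ∀ H : Subgroup P.A, H ≠ ⊤ → 2 * N.ncard + Nat.card H < Nat.card P.A)
    (h : ∀ f : P.F, P.π f ∉ N → g • (f : G) • P.v = (f : G) • P.v) : g = 1 := by
  have key : ∀ (b : G) (a : P.A), (∀ d ∈ P.D, b * d = d * b) →
      (∀ f : P.F, P.π f ∉ N → a * P.π f ∉ N → b * f = f * b) → ∀ f ∈ P.F, b * f = f * b := by
    intro b a hD hb f hf
    let H : Subgroup P.A := ((Subgroup.centralizer {b}).subgroupOf P.F).map P.π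
    have hH : H = ⊤ := by
      by_contra hc
      have := card_le_of_compl H N a fun x hx hax => by
        obtain ⟨f, rfl⟩ := π_surj x
        exact ⟨f, Subgroup.mem_centralizer_singleton_iff.mpr (hb f hx hax).symm, rfl⟩
      have := hN H hc
      omega
    obtain ⟨c, hc, hcf⟩ : P.π ⟨f, hf⟩ ∈ H := hH ▸ Subgroup.mem_top _
    have h2 := hD _ (π_eq_iff.mp hcf)
    have h3 : (c : G) * b = b * c := Subgroup.mem_centralizer_singleton_iff.mp hc
    calc b * f = b * c * ((c : G)⁻¹ * f) := by group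
      _ = c * (b * ((c : G)⁻¹ * f)) := by rw [← h3, mul_assoc]
      _ = f * b := by rw [h2]; group
  have step : ∀ f : P.F, P.π f ∉ N → g * f = f * g := by
    intro f hf
    have hb := β_mem hg f.2 (h f hf)
    have h2 := key _ (P.π f) (fun d hd => hd.2 _ hb) (fun f' hf' hff' => by
      have hb' := β_mem hg f'.2 (h f' hf')
      have hb'' := β_mem hg (f * f').2 (h (f * f') (by rwa [map_mul]))
      refine comm_of_conj_mem hb f'.2 ?_
      have := P.B.mul_mem hb'' (P.B.inv_mem hb')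
      convert this using 1
      simp only [Subgroup.coe_mul]
      group)
    have h3 := eq_one_of_U (P.cF _ h2) hb.2
    rw [inv_mul_eq_one, eq_mul_inv_iff_mul_eq] at h3
    exact h3.symm
  exact eq_one_of_U (P.cF g (key g 1 (fun d hd => step ⟨d, hd.1⟩ (by rwa [π_eq_one_iff.mpr hd]))
    fun f hf _ => step f hf)) hg

/-- the action of `D` on the fixed points of `B` -/
def ψ : P.D →* MulAut (Multiplicative (fixS V P.B)) where
  toFun d :=
    { toFun := fun x => Multiplicative.ofAdd ⟨(d : G) • (x.toAdd : V), D_smul d.2 x.toAdd.2⟩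
      invFun := fun x => Multiplicative.ofAdd
        ⟨(d : G)⁻¹ • (x.toAdd : V), D_smul (P.D.inv_mem d.2) x.toAdd.2⟩
      left_inv := fun x => Subtype.ext (inv_smul_smul _ _)
      right_inv := fun x => Subtype.ext (smul_inv_smul _ _)
      map_mul' := fun x y => Subtype.ext (smul_add (d : G) (x.toAdd : V) (y.toAdd : V)) }
  map_one' := by ext1 x; exact Subtype.ext (one_smul G _)
  map_mul' d d' := by ext1 x; exact Subtype.ext (mul_smul (d : G) (d' : G) _)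

theorem ψ_congr {d d' : P.D} (h : ψ d = ψ d') : (d : G) • P.v = (d' : G) • P.v :=
  congrArg (fun e : MulAut (Multiplicative (fixS V P.B)) =>
    ((e (Multiplicative.ofAdd ⟨P.v, v_mem⟩)).toAdd.1 : V)) h

theorem ψ_eq_one_iff {d : P.D} : ψ d = 1 ↔ (d : G) ∈ P.B := by
  constructor
  · intro h
    exact ⟨d.2.1, (ψ_congr (h.trans (map_one ψ).symm)).trans (one_smul G _)⟩
  · intro h
    ext1 x
    exact Subtype.ext (x.toAdd.2 _ h)

theorem hasFpf [Finite G] [Finite V] (hP : P.IsMax) : GT.Frob.HasFpfAction (ψ (P := P)).range := by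
  have : Nontrivial (Multiplicative (fixS V P.B)) :=
    ⟨⟨Multiplicative.ofAdd ⟨P.v, v_mem⟩, 1, fun h => P.v0 (congrArg (fun x => (x.toAdd : V)) h)⟩⟩
  refine GT.Frob.hasFpfAction_of_finite (ψ (P := P)).range.subtype ?_
  rintro ⟨_, d, rfl⟩ hd x hx
  by_contra hx1
  refine hd (Subtype.ext (ψ_eq_one_iff.mpr (mem_B_of_fix hP d.2.1 x.toAdd.2
    (fun e => hx1 (Subtype.ext e)) (congrArg (fun y => (y.toAdd : V)) hx))))

theorem range_class_two : commutator (ψ (P := P)).range ≤ Subgroup.center _ := by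
  rw [commutator_def, Subgroup.commutator_le]
  rintro ⟨_, d, rfl⟩ - ⟨_, d', rfl⟩ -
  rw [Subgroup.mem_center_iff]
  rintro ⟨_, e, rfl⟩
  apply Subtype.ext
  show ψ e * ⁅ψ d, ψ d'⁆ = ⁅ψ d, ψ d'⁆ * ψ e
  rw [← map_commutatorElement, ← map_mul, ← map_mul]
  congr 1
  exact Subtype.ext (P.cen _ (P.comm _ d.2.1 _ d'.2.1) _ e.2.1).symm

theorem card_range_dvd : Nat.card (ψ (P := P)).range ∣ Nat.card G :=
  (Subgroup.card_range_dvd _).trans (Subgroup.card_subgroup_dvd_card P.D)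

theorem exists_gen {ι : Type*} (s : ι → (ψ (P := P)).range)
    (hs : Subgroup.closure (Set.range s) = ⊤) :
    ∃ t : ι → G, (∀ i, t i ∈ P.D) ∧ ∀ g : G, g • P.v = P.v → (∀ i, g • t i • P.v = t i • P.v) →
      ∀ d ∈ P.D, g • d • P.v = d • P.v := by
  choose t ht using fun i => (s i).2
  refine ⟨fun i => t i, fun i => (t i).2, fun g hg h d hd => ?_⟩
  have key : ∀ x ∈ Subgroup.closure (Set.range s), ∃ d : P.D, ψ d = x.1 ∧
      g • (d : G) • P.v = (d : G) • P.v := by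
    intro x hx
    induction hx using Subgroup.closure_induction_left with
    | one => exact ⟨1, map_one _, by simp [hg]⟩
    | mul_left x hx y _ ih =>
      obtain ⟨i, rfl⟩ := hx
      obtain ⟨d, hd, hd'⟩ := ih
      exact ⟨t i * d, by rw [map_mul, ht, hd]; rfl, fix_mul hg (t i).2.1 d.2 (h i) hd'⟩
    | inv_mul_cancel x hx y _ ih =>
      obtain ⟨i, rfl⟩ := hx
      obtain ⟨d, hd, hd'⟩ := ih
      refine ⟨(t i)⁻¹ * d, by rw [map_mul, map_inv, ht, hd]; rfl,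
        fix_mul hg (P.F.inv_mem (t i).2.1) d.2 ?_ hd'⟩
      have h1 := β_mem hg (t i).2.1 (h i)
      have h2 := D_smul (P.D.inv_mem (t i).2) v_mem _ (P.B.inv_mem h1)
      calc g • ((t i : G))⁻¹ • P.v = g • ((t i : G))⁻¹ • g⁻¹ • P.v := by
            rw [inv_smul_eq_iff.mpr hg.symm]
        _ = (((t i : G))⁻¹ * (g * t i * g⁻¹))⁻¹ • ((t i : G))⁻¹ • P.v := by
            simp only [← mul_smul]; congr 1; group
        _ = _ := h2
  obtain ⟨d', hd1, hd2⟩ := key ⟨ψ ⟨d, hd⟩, ⟨d, hd⟩, rfl⟩ (hs ▸ Subgroup.mem_top _)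
  rwa [ψ_congr hd1] at hd2

theorem U_comm {x y : G} (hx : x ∈ P.U) (hy : y ∈ P.U) : x * y = y * x := P.cen x hx y (P.UF hy)

theorem isCyclic_U [Finite V] : IsCyclic P.U := by
  have : Nontrivial (Multiplicative V) := ⟨⟨Multiplicative.ofAdd P.v, 1, P.v0⟩⟩
  let θ : P.U →* MulAut (Multiplicative V) :=
    { toFun := fun u => AddEquiv.toMultiplicative (DistribMulAction.toAddEquiv V (u : G))
      map_one' := by ext x; exact one_smul G _
      map_mul' := fun a b => by ext x; exact mul_smul (a : G) (b : G) _ }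
  have : IsMulCommutative P.U := ⟨⟨fun a b => Subtype.ext (U_comm a.2 b.2)⟩⟩
  exact (GT.Frob.hasFpfAction_of_finite θ fun a ha x hx =>
    P.fpf a a.2 (fun e => ha (Subtype.ext e)) _ hx).isCyclic_of_comm

theorem comm_mul_left {x y z : G} (hx : x ∈ P.F) (hy : y ∈ P.F) (hz : z ∈ P.F) :
    ⁅x * y, z⁆ = ⁅x, z⁆ * ⁅y, z⁆ := by
  have := P.cen _ (P.comm _ hy _ hz) _ hx
  calc ⁅x * y, z⁆ = (x * ⁅y, z⁆) * (z * x⁻¹ * z⁻¹) := by simp only [commutatorElement_def]; group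
    _ = ⁅y, z⁆ * ⁅x, z⁆ := by rw [← this]; simp only [commutatorElement_def]; group
    _ = _ := U_comm (P.comm _ hy _ hz) (P.comm _ hx _ hz)

theorem comm_mul_right {x y z : G} (hx : x ∈ P.F) (hy : y ∈ P.F) (hz : z ∈ P.F) :
    ⁅x, y * z⁆ = ⁅x, y⁆ * ⁅x, z⁆ := by
  rw [← commutatorElement_inv, comm_mul_left hy hz hx, mul_inv_rev, commutatorElement_inv,
    commutatorElement_inv]
  exact U_comm (P.comm _ hx _ hz) (P.comm _ hx _ hy)

theorem comm_pow_left {x z : G} (hx : x ∈ P.F) (hz : z ∈ P.F) (n : ℕ) :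
    ⁅x ^ n, z⁆ = ⁅x, z⁆ ^ n := by
  induction n with
  | zero => simp
  | succ n ih => rw [pow_succ, comm_mul_left (P.F.pow_mem hx n) hx hz, ih, pow_succ]

theorem comm_pow_right {x z : G} (hx : x ∈ P.F) (hz : z ∈ P.F) (n : ℕ) :
    ⁅x, z ^ n⁆ = ⁅x, z⁆ ^ n := by
  induction n with
  | zero => simp
  | succ n ih => rw [pow_succ, comm_mul_right hx (P.F.pow_mem hz n) hz, ih, pow_succ]

theorem comm_U_left {u z : G} (hu : u ∈ P.U) (hz : z ∈ P.F) : ⁅u, z⁆ = 1 :=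
  commutatorElement_eq_one_iff_mul_comm.mpr (P.cen u hu z hz)

theorem comm_U_right {u z : G} (hu : u ∈ P.U) (hz : z ∈ P.F) : ⁅z, u⁆ = 1 :=
  commutatorElement_eq_one_iff_mul_comm.mpr (P.cen u hu z hz).symm

theorem mul_pow' {x y : G} (hx : x ∈ P.F) (hy : y ∈ P.F) (n : ℕ) :
    (x * y) ^ n = x ^ n * y ^ n * ⁅y, x⁆ ^ n.choose 2 :=
  GT.CopAct.mul_pow_of_commute_commutatorElement (P.cen _ (P.comm _ hy _ hx) _ hx).symm
    (P.cen _ (P.comm _ hy _ hx) _ hy).symm n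

/-- every homomorphism `F → U` trivial on `C_F(S)` is a commutator with an element of `S` -/
theorem exists_comm [Finite G] [Finite V] (S : Subgroup G) (hS : S ≤ P.F) (χ : P.F →* P.U)
    (h : ∀ f : P.F, (∀ s ∈ S, s * f = f * s) → χ f = 1) :
    ∃ s ∈ S, ∀ f : P.F, (χ f : G) = ⁅(f : G), s⁆ := by
  have := isCyclic_U (P := P)
  obtain ⟨j, hj⟩ := exists_inj_units P.U
  let κ : S →* (P.F →* ℂˣ) :=
    { toFun := fun s =>
        { toFun := fun f => j ⟨⁅(f : G), (s : G)⁆, P.comm _ f.2 _ (hS s.2)⟩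
          map_one' := by rw [← map_one j]; congr 1; exact Subtype.ext (by simp)
          map_mul' := fun a b => by
            rw [← map_mul]; congr 1; exact Subtype.ext (comm_mul_left a.2 b.2 (hS s.2)) }
      map_one' := by
        ext1 f
        show j _ = 1
        rw [← map_one j]; congr 1; exact Subtype.ext (by simp)
      map_mul' := fun a b => by
        ext1 f
        show j _ = j _ * j _
        rw [← map_mul]; congr 1; exact Subtype.ext (comm_mul_right f.2 (hS a.2) (hS b.2)) }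
  obtain ⟨s, hs⟩ := mem_of_ker κ.range (j.comp χ) fun f hf => by
    rw [MonoidHom.comp_apply, h f fun s hs => ?_, map_one]
    have h1 : j ⟨⁅(f : G), s⁆, P.comm _ f.2 _ (hS hs)⟩ = 1 := hf _ ⟨⟨s, hs⟩, rfl⟩
    have h2 := congrArg Subtype.val (hj (h1.trans (map_one j).symm))
    exact (commutatorElement_eq_one_iff_mul_comm.mp h2).symm
  exact ⟨s, s.2, fun f => congrArg Subtype.val (hj (DFunLike.congr_fun hs f)).symm⟩

theorem comm_of_comm_eq {f z b : G} (h : ⁅f, z⁆ = ⁅f, b⁆) : b⁻¹ * z * f = f * (b⁻¹ * z) := by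
  simp only [commutatorElement_def, mul_assoc, mul_right_inj] at h
  calc b⁻¹ * z * f = b⁻¹ * z * (z⁻¹ * (z * (f⁻¹ * z⁻¹))⁻¹ * z) := by group
    _ = _ := by rw [h]; group

/-- double centraliser -/
theorem dc [Finite G] [Finite V] {z : G} (hz : z ∈ P.F) (h : ∀ d ∈ P.D, z * d = d * z) :
    ∃ b ∈ P.B, ∃ u ∈ P.U, z = b * u := by
  obtain ⟨b, hb, hbz⟩ := exists_comm P.B inf_le_left
    { toFun := fun f => ⟨⁅(f : G), z⁆, P.comm _ f.2 _ hz⟩
      map_one' := by simp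
      map_mul' := fun a b => Subtype.ext (comm_mul_left a.2 b.2 hz) }
    fun f hf => Subtype.ext (commutatorElement_eq_one_iff_mul_comm.mpr (h f ⟨f.2, hf⟩).symm)
  refine ⟨b, hb, b⁻¹ * z, P.cF _ fun f hf => ?_, by simp⟩
  exact comm_of_comm_eq (hbz ⟨f, hf⟩)

/-- an element of `F` invariant modulo `U` lies in `U` -/
theorem mem_U_of_inv {z : G} (hz : z ∈ P.F) (h : ∀ g : G, z⁻¹ * (g * z * g⁻¹) ∈ P.U) : z ∈ P.U := by
  have := P.Un
  have hle : Subgroup.zpowers z ⊔ P.U ≤ P.F := sup_le (Subgroup.zpowers_le.mpr hz) P.UF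
  have hdec : ∀ x ∈ Subgroup.zpowers z ⊔ P.U, ∃ n : ℤ, ∃ u ∈ P.U, x = z ^ n * u := by
    intro x hx
    have hx' : x ∈ ((Subgroup.zpowers z ⊔ P.U : Subgroup G) : Set G) := hx
    rw [Subgroup.mul_normal] at hx'
    obtain ⟨_, ⟨n, rfl⟩, u, hu, rfl⟩ := hx'
    exact ⟨n, u, hu, rfl⟩
  refine P.umax (Subgroup.zpowers z ⊔ P.U) ⟨fun x hx g => ?_⟩ (fun x hx y hy => ?_) le_sup_right
    (Subgroup.mem_sup_left (Subgroup.mem_zpowers z))
  · obtain ⟨n, u, hu, rfl⟩ := hdec x hx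
    have h1 : g * z * g⁻¹ ∈ Subgroup.zpowers z ⊔ P.U := by
      have := Subgroup.mul_mem_sup (Subgroup.mem_zpowers z) (h g)
      rwa [mul_inv_cancel_left] at this
    rw [show g * (z ^ n * u) * g⁻¹ = (g * z * g⁻¹) ^ n * (g * u * g⁻¹) by rw [conj_zpow]; group]
    exact Subgroup.mul_mem _ (Subgroup.zpow_mem _ h1 n) (Subgroup.mem_sup_right (P.Un.conj_mem u hu g))
  · obtain ⟨n, u, hu, rfl⟩ := hdec x hx
    obtain ⟨m, u', hu', rfl⟩ := hdec y hy
    have c1 : Commute u z := P.cen u hu z hz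
    have c2 : Commute u' z := P.cen u' hu' z hz
    have c3 : Commute u u' := U_comm hu hu'
    exact ((((Commute.refl z).zpow_zpow n m).mul_right (c2.symm.zpow_left n)).mul_left
      ((c1.zpow_right m).mul_right c3)).eq

/-- an equivariant homomorphism `F → U` trivial on `U` is trivial -/
theorem hom_trivial [Finite G] [Finite V] (χ : P.F →* P.U) (h1 : ∀ f : P.F, (f : G) ∈ P.U → χ f = 1)
    (h2 : ∀ (g : G) (f : P.F), (χ ⟨g * f * g⁻¹, P.Fn.conj_mem _ f.2 g⟩ : G) = g * χ f * g⁻¹)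
    (f : P.F) : χ f = 1 := by
  obtain ⟨z, hz, hχ⟩ := exists_comm P.F le_rfl χ fun f hf => h1 f (P.cF _ fun s hs => (hf s hs).symm)
  have hzU := mem_U_of_inv hz fun g => P.cF _ fun f hf => by
    have e1 := h2 g ⟨g⁻¹ * f * g⁻¹⁻¹, P.Fn.conj_mem _ hf g⁻¹⟩
    rw [hχ, hχ] at e1
    have e2 : ⁅f, z⁆ = ⁅f, g * z * g⁻¹⁆ := by
      simp only [commutatorElement_def] at e1 ⊢
      calc f * z * f⁻¹ * z⁻¹ = g * (g⁻¹ * f * g⁻¹⁻¹) * g⁻¹ * z * (g * (g⁻¹ * f * g⁻¹⁻¹) * g⁻¹)⁻¹ * z⁻¹ := by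
            group
        _ = _ := by rw [e1]; group
    exact comm_of_comm_eq e2.symm
  exact Subtype.ext ((hχ f).trans (comm_U_right hzU f.2))

theorem mul_pow_mem {x y : G} (hx : x ∈ P.F) (hy : y ∈ P.F) (n : ℕ) :
    ∃ u ∈ P.U, (x * y) ^ n = x ^ n * y ^ n * u :=
  ⟨_, P.U.pow_mem (P.comm _ hy _ hx) _, mul_pow' hx hy n⟩

/-- `F/U` has squarefree exponent -/
theorem pow_mem_of_sq {f : G} (hf : f ∈ P.F) (r : ℕ) (h : f ^ (r * r) ∈ P.U) : f ^ r ∈ P.U := by
  let S : Subgroup G :=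
    { carrier := {y | ∃ x ∈ P.F, x ^ (r * r) ∈ P.U ∧ ∃ u ∈ P.U, y = x ^ r * u}
      one_mem' := ⟨1, P.F.one_mem, by simp, 1, P.U.one_mem, by simp⟩
      mul_mem' := by
        rintro _ _ ⟨x, hx, hx2, u, hu, rfl⟩ ⟨x', hx', hx2', u', hu', rfl⟩
        obtain ⟨c, hc, e⟩ := mul_pow_mem hx hx' (r * r)
        obtain ⟨c', hc', e'⟩ := mul_pow_mem hx hx' r
        refine ⟨x * x', P.F.mul_mem hx hx', e ▸ P.U.mul_mem (P.U.mul_mem hx2 hx2') hc,
          c'⁻¹ * u * u', P.U.mul_mem (P.U.mul_mem (P.U.inv_mem hc') hu) hu', ?_⟩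
        rw [e', mul_assoc (x ^ r) u, ← mul_assoc u, P.cen u hu _ (P.F.pow_mem hx' r)]
        group
      inv_mem' := by
        rintro _ ⟨x, hx, hx2, u, hu, rfl⟩
        refine ⟨x⁻¹, P.F.inv_mem hx, by rw [inv_pow]; exact P.U.inv_mem hx2, u⁻¹, P.U.inv_mem hu, ?_⟩
        rw [mul_inv_rev, inv_pow, P.cen _ (P.U.inv_mem hu) _ (P.F.inv_mem (P.F.pow_mem hx r))] }
  refine P.umax S ⟨?_⟩ ?_ (fun u hu => ⟨1, P.F.one_mem, by simp, u, hu, by simp⟩)
    ⟨f, hf, h, 1, P.U.one_mem, by simp⟩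
  · rintro _ ⟨x, hx, hx2, u, hu, rfl⟩ g
    refine ⟨g * x * g⁻¹, P.Fn.conj_mem x hx g, by rw [conj_pow]; exact P.Un.conj_mem _ hx2 g,
      g * u * g⁻¹, P.Un.conj_mem u hu g, by rw [conj_pow]; group⟩
  · rintro _ ⟨x, hx, hx2, u, hu, rfl⟩ _ ⟨x', hx', -, u', hu', rfl⟩
    have c1 : Commute (x ^ r) (x' ^ r) := by
      rw [← commutatorElement_eq_one_iff_commute, comm_pow_right (P.F.pow_mem hx r) hx',
        ← comm_pow_left (P.F.pow_mem hx r) hx', ← pow_mul, comm_U_left hx2 hx']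
    have c2 : Commute u (x' ^ r) := P.cen u hu _ (P.F.pow_mem hx' r)
    have c3 : Commute u' (x ^ r) := P.cen u' hu' _ (P.F.pow_mem hx r)
    have c4 : Commute u u' := U_comm hu hu'
    exact ((c1.mul_right c3.symm).mul_left (c2.mul_right c4)).eq

theorem pow_mem_of_pow_pow {f : G} (hf : f ∈ P.F) (r k : ℕ) (h : f ^ r ^ k ∈ P.U) : f ^ r ∈ P.U := by
  induction k with
  | zero => exact P.U.pow_mem (by simpa using h) r
  | succ k ih =>
    rcases k with _ | k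
    · simpa using h
    · refine ih ?_
      have := pow_mem_of_sq (P.F.pow_mem hf (r ^ k)) r (by
        rwa [← pow_mul, ← mul_assoc, ← pow_succ, ← pow_succ])
      rwa [← pow_mul, ← pow_succ] at this

theorem conj_U {g : G} (hg : g • P.v = P.v) (hD : ∀ d ∈ P.D, g • d • P.v = d • P.v) {u : G}
    (hu : u ∈ P.U) : g * u * g⁻¹ = u := by
  have h1 := β_mem hg (P.UF hu) (hD u (U_le_D hu))
  have := eq_one_of_U (P.U.mul_mem (P.U.inv_mem hu) (P.Un.conj_mem u hu g)) h1.2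
  exact (inv_mul_eq_one.mp this).symm

/-- invariance of the colours `f ^ m` -/
theorem kappa {g : G} (hg : g • P.v = P.v) (hD : ∀ d ∈ P.D, g • d • P.v = d • P.v) {f f' : G}
    (hf : f ∈ P.F) (hf' : f' ∈ P.F) (h : g • f • P.v = f' • P.v) {n m : ℕ} (hn : f' ^ n ∈ P.U)
    (hm : n ∣ m.choose 2) (h1 : f ^ m ∈ P.U) (h2 : f' ^ m ∈ P.U) : f ^ m = f' ^ m := by
  have hb : f'⁻¹ * (g * f * g⁻¹) ∈ P.B := by
    refine ⟨P.F.mul_mem (P.F.inv_mem hf') (P.Fn.conj_mem _ hf g), ?_⟩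
    show (f'⁻¹ * (g * f * g⁻¹)) • P.v = P.v
    rw [mul_smul, mul_smul, mul_smul, inv_smul_eq_iff.mpr hg.symm, h, inv_smul_smul]
  have h3 := mul_pow' hf' hb.1 m
  obtain ⟨c, hc⟩ := hm
  rw [hc, pow_mul, ← comm_pow_right hb.1 hf', comm_U_right hn hb.1, one_pow, mul_one,
    mul_inv_cancel_left, conj_pow, conj_U hg hD h1] at h3
  have h4 : (f'⁻¹ * (g * f * g⁻¹)) ^ m ∈ P.U := by
    rw [eq_inv_mul_iff_mul_eq.mpr h3.symm]
    exact P.U.mul_mem (P.U.inv_mem h2) h1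
  rw [h3, eq_one_of_U h4 (P.B.pow_mem hb m).2, mul_one]

/-- vectors that are not regular may be used as colours -/
theorem fix_of_fix [Finite G] [Finite V] {g : G} (hg : g • P.v = P.v)
    (hD : ∀ d ∈ P.D, g • d • P.v = d • P.v) (R : Set P.A)
    (hR : ∀ H : Subgroup P.A, R ⊆ H → H = ⊤)
    (hR' : ∀ f : P.F, P.π f ∈ R → g • (f : G) • P.v = (f : G) • P.v)
    {f : G} (hf : f ∈ P.F) {y : V} (hy : y ∈ fixS V P.B) (hy0 : y ≠ 0) (hgy : g • y = y)
    (h : g • f • y = f • y) : g • f • P.v = f • P.v := by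
  have hc : ∀ x ∈ P.F, ∀ z ∈ P.F, ⁅g * x * g⁻¹, g * z * g⁻¹⁆ = ⁅x, z⁆ := fun x hx z hz => by
    rw [← conjugate_commutatorElement, conj_U hg hD (P.comm _ hx _ hz)]
  have h1 : ∀ d ∈ P.D, g * d * g⁻¹ = d := by
    intro d hd
    have hb := β_mem hg hd.1 (hD d hd)
    let H : Subgroup P.A :=
      ((Subgroup.centralizer {d⁻¹ * (g * d * g⁻¹)}).subgroupOf P.F).map P.π
    have hH : H = ⊤ := hR H fun a ha => by
      obtain ⟨f, rfl⟩ := π_surj a
      refine ⟨f, Subgroup.mem_centralizer_singleton_iff.mpr ?_, rfl⟩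
      have hb' := β_mem hg f.2 (hR' f ha)
      have e := hc f f.2 d hd.1
      rw [← mul_inv_cancel_left (f : G) (g * f * g⁻¹), comm_mul_left f.2 hb'.1 (conj_mem_D hg hd).1,
        commutatorElement_eq_one_iff_mul_comm.mpr ((conj_mem_D hg hd).2 _ hb'), mul_one] at e
      exact (comm_of_comm_eq e).symm
    have h2 := eq_one_of_U (P.cF _ fun f hf => by
      obtain ⟨c, hc, hcf⟩ : P.π ⟨f, hf⟩ ∈ H := hH ▸ Subgroup.mem_top _
      have h2 := (π_eq_iff.mp hcf).2 _ hb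
      have h3 := Subgroup.mem_centralizer_singleton_iff.mp hc
      generalize d⁻¹ * (g * d * g⁻¹) = b at h2 h3 ⊢
      have h3' : (c : G) * b = b * c := h3
      calc b * f = b * c * ((c : G)⁻¹ * f) := by group
        _ = c * (b * ((c : G)⁻¹ * f)) := by rw [← h3', mul_assoc]
        _ = f * b := by rw [h2]; group) hb.2
    exact (inv_mul_eq_one.mp h2).symm
  have hβ : f⁻¹ * (g * f * g⁻¹) ∈ P.F := P.F.mul_mem (P.F.inv_mem hf) (P.Fn.conj_mem _ hf g)
  obtain ⟨b, hb, u, hu, e⟩ := dc hβ fun d hd => by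
    have e := hc f hf d hd.1
    rw [h1 d hd, ← mul_inv_cancel_left f (g * f * g⁻¹), comm_mul_left hf hβ hd.1, mul_eq_left] at e
    exact commutatorElement_eq_one_iff_mul_comm.mp e
  have h2 : (f⁻¹ * (g * f * g⁻¹)) • y = y := by
    rw [mul_smul, mul_smul, mul_smul, inv_smul_eq_iff.mpr hgy.symm, h, inv_smul_smul]
  rw [e, ← P.cen u hu b hb.1, mul_smul, hy b hb] at h2
  have hu1 : u = 1 := by
    by_contra hc
    exact hy0 (P.fpf u hu hc y h2)
  rw [hu1, mul_one] at e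
  calc g • f • P.v = f • (f⁻¹ * (g * f * g⁻¹)) • g • P.v := by
        simp only [← mul_smul]; congr 1; group
    _ = _ := by rw [e, hg, hb.2]

variable (P) in
/-- `w` together with `v` determines the action on `D/B` -/
def Zero (w : V) : Prop :=
  w ∈ fixS V P.B ∧ ∀ g : G, g • P.v = P.v → g • w = w → ∀ d ∈ P.D, g • d • P.v = d • P.v

theorem one_mem_W {w : V} (hw : w ∈ fixS V P.B) : w ∈ P.W 1 := by
  have := smul_mem_W 1 hw
  rwa [map_one, OneMemClass.coe_one, one_smul] at this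

theorem rep_mem_W (a : P.A) {w : V} (hw : w ∈ fixS V P.B) : (P.rep a : G) • w ∈ P.W a := by
  have := smul_mem_W (P.rep a) hw
  rwa [π_rep] at this

/-- colours given by the choice of representatives -/
theorem base_of_reps [Finite G] {w0 : V} (h0 : P.Zero w0) (ρ : P.A → P.F) (hρ : ∀ a, P.π (ρ a) = a)
    (N : Set P.A) (h1 : 1 ∉ N)
    (hN : ∀ H : Subgroup P.A, H ≠ ⊤ → 2 * N.ncard + Nat.card H < Nat.card P.A)
    (hcol : ∀ (g : G) (hg : g • P.v = P.v), (∀ d ∈ P.D, g • d • P.v = d • P.v) →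
      (∀ a, a ∈ N ↔ φ hg a ∈ N) →
      (∀ a, a ≠ 1 → a ∉ N → g • (ρ a : G) • P.v = (ρ (φ hg a) : G) • P.v) → φ hg = 1) :
    ∃ w : V, ∀ g : G, g • P.v = P.v → g • w = w → g = 1 := by
  classical
  let c : P.A → V := fun a => if a = 1 then w0 else if a ∈ N then 0 else (ρ a : G) • P.v
  have hc : ∀ a, c a ∈ P.W a := by
    intro a
    simp only [c]
    split_ifs with h1 h2
    · rw [h1]; exact one_mem_W h0.1
    · exact AddSubgroup.zero_mem _
    · have := smul_mem_W (ρ a) (v_mem (P := P))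
      rwa [hρ] at this
  have hc0 : ∀ a, a ≠ 1 → (a ∈ N ↔ c a = 0) := by
    intro a ha
    simp only [c, if_neg ha]
    split_ifs with h
    · simp [h]
    · simp [h, smul_eq_zero_iff_eq, P.v0]
  refine ⟨∑ a, c a, fun g hg hw => ?_⟩
  have h2 := comp hg hc hw
  have hD := h0.2 g hg (by simpa [c] using h2 1)
  have hNφ : ∀ a, a ∈ N ↔ φ hg a ∈ N := fun a => by
    by_cases ha : a = 1
    · simp [ha]
    · rw [hc0 a ha, hc0 _ (by simpa using ha), ← h2, smul_eq_zero_iff_eq]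
  have h3 : ∀ a, a ≠ 1 → a ∉ N → g • (ρ a : G) • P.v = (ρ (φ hg a) : G) • P.v := fun a ha haN => by
    have := h2 a
    simpa [c, ha, haN, (hNφ a).not.mp haN] using this
  have hφ := hcol g hg hD hNφ h3
  refine eq_one hg N h1 hN fun f hf => ?_
  by_cases hf1 : P.π f = 1
  · exact hD _ (π_eq_one_iff.mp hf1)
  · have h4 := h3 _ hf1 hf
    rw [hφ, MulAut.one_apply] at h4
    have h5 := π_eq_iff.mp (hρ (P.π f))
    have := fix_mul hg (ρ (P.π f)).2 h5 h4 (hD _ h5)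
    rwa [mul_inv_cancel_left] at this

/-- colours given by `D`-orbits on the fixed points of `B` -/
theorem base_of_colours [Finite G] [Finite V] {w0 : V} (h0 : P.Zero w0) {γ : Type*} (y : γ → V)
    (hy : ∀ c, y c ∈ AddSubgroup.closure {x | ∃ d ∈ P.D, x = d • P.v}) (hy0 : ∀ c, y c ≠ 0)
    (hsep : ∀ d ∈ P.D, ∀ c c', d • y c = y c' → c = c') (Rg : Set γ)
    (hreg : ∀ c ∈ Rg, ∀ d ∈ P.D, d • y c = y c → d ∈ P.B) (χ : P.A → γ) (N : Set P.A) (h1 : 1 ∉ N)
    (hN : ∀ H : Subgroup P.A, H ≠ ⊤ → 2 * N.ncard + Nat.card H < Nat.card P.A)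
    (hgen : ∀ H : Subgroup P.A, {a | a ≠ 1 ∧ a ∉ N ∧ χ a ∈ Rg} ⊆ H → H = ⊤)
    (hcol : ∀ (g : G) (hg : g • P.v = P.v), (∀ a, a ∈ N ↔ φ hg a ∈ N) →
      (∀ a, a ≠ 1 → a ∉ N → χ (φ hg a) = χ a) → φ hg = 1) :
    ∃ w : V, ∀ g : G, g • P.v = P.v → g • w = w → g = 1 := by
  classical
  have hyB : ∀ c, y c ∈ fixS V P.B := fun c =>
    (AddSubgroup.closure_le _).mpr (by rintro _ ⟨d, hd, rfl⟩; exact D_smul hd v_mem) (hy c)
  let c : P.A → V := fun a => if a = 1 then w0 else if a ∈ N then 0 else (P.rep a : G) • y (χ a)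
  have hc : ∀ a, c a ∈ P.W a := by
    intro a
    simp only [c]
    split_ifs with h1 h2
    · rw [h1]; exact one_mem_W h0.1
    · exact AddSubgroup.zero_mem _
    · exact rep_mem_W a (hyB _)
  have hc0 : ∀ a, a ≠ 1 → (a ∈ N ↔ c a = 0) := by
    intro a ha
    simp only [c, if_neg ha]
    split_ifs with h
    · simp [h]
    · simp [h, smul_eq_zero_iff_eq, hy0]
  refine ⟨∑ a, c a, fun g hg hw => ?_⟩
  have h2 := comp hg hc hw
  have hD := h0.2 g hg (by simpa [c] using h2 1)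
  have hgy : ∀ c, g • y c = y c := fun c =>
    (AddSubgroup.closure_le (fixS V (Subgroup.zpowers g))).mpr (by
      rintro _ ⟨d, hd, rfl⟩ x hx
      exact Subgroup.zpowers_le (H := MulAction.stabilizer G (d • P.v)).mpr (hD d hd) hx) (hy c) g
      (Subgroup.mem_zpowers g)
  have hNφ : ∀ a, a ∈ N ↔ φ hg a ∈ N := fun a => by
    by_cases ha : a = 1
    · simp [ha]
    · rw [hc0 a ha, hc0 _ (by simpa using ha), ← h2, smul_eq_zero_iff_eq]
  have h3 : ∀ a, a ≠ 1 → a ∉ N →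
      ((P.rep (φ hg a) : G)⁻¹ * (g * P.rep a * g⁻¹)) • y (χ a) = y (χ (φ hg a)) := fun a ha haN => by
    have := h2 a
    simp only [c, if_neg ha, if_neg haN, if_neg ((hNφ a).not.mp haN),
      if_neg (show φ hg a ≠ 1 by simpa using ha)] at this
    rw [mul_smul, mul_smul, mul_smul, inv_smul_eq_iff.mpr (hgy _).symm, this, inv_smul_smul]
  have h4 : ∀ a, (P.rep (φ hg a) : G)⁻¹ * (g * P.rep a * g⁻¹) ∈ P.D := fun a => by
    have := φ_π hg (P.rep a)
    rw [π_rep] at this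
    exact π_eq_iff.mp ((π_rep _).trans this)
  have hφ := hcol g hg hNφ fun a ha haN => (hsep _ (h4 a) _ _ (h3 a ha haN)).symm
  simp only [hφ, MulAut.one_apply] at h3 h4
  have h5 : ∀ f : P.F, g • (P.rep (P.π f) : G) • P.v = (P.rep (P.π f) : G) • P.v →
      g • (f : G) • P.v = (f : G) • P.v := fun f h => by
    have h5 := π_eq_iff.mp (π_rep (P.π f))
    have := fix_mul hg (P.rep (P.π f)).2 h5 h (hD _ h5)
    rwa [mul_inv_cancel_left] at this
  refine eq_one hg N h1 hN fun f hf => ?_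
  by_cases hf1 : P.π f = 1
  · exact hD _ (π_eq_one_iff.mp hf1)
  · refine h5 f (fix_of_fix hg hD _ hgen (fun f' hf' => h5 f' ?_) (P.rep _).2 (hyB _) (hy0 (χ (P.π f)))
      (hgy _) ?_)
    · have hb := (hreg _ hf'.2.2 _ (h4 _) (h3 _ hf'.1 hf'.2.1)).2
      have hb' : ((P.rep (P.π f') : G)⁻¹ * (g * P.rep (P.π f') * g⁻¹)) • P.v = P.v := hb
      rwa [mul_smul, mul_smul, mul_smul, inv_smul_eq_iff.mpr hg.symm, inv_smul_eq_iff] at hb'
    · have := h3 _ hf1 hf
      rwa [mul_smul, mul_smul, mul_smul, inv_smul_eq_iff.mpr (hgy _).symm, inv_smul_eq_iff] at this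

variable (P) in
/-- the automorphisms of `A` induced by the stabiliser of `v` -/
def Φ : Subgroup (MulAut P.A) where
  carrier := {α | ∃ (g : G) (hg : g • P.v = P.v), α = φ hg}
  one_mem' := ⟨1, one_smul _ _, by
    ext a; obtain ⟨f, rfl⟩ := π_surj a; rw [φ_π]; simp⟩
  mul_mem' := by
    rintro _ _ ⟨g, hg, rfl⟩ ⟨g', hg', rfl⟩
    refine ⟨g * g', by rw [mul_smul, hg', hg], ?_⟩
    ext a; obtain ⟨f, rfl⟩ := π_surj a
    rw [MulAut.mul_apply, φ_π, φ_π, φ_π]
    congr 2; simp [mul_assoc]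
  inv_mem' := by
    rintro _ ⟨g, hg, rfl⟩
    refine ⟨g⁻¹, inv_smul_eq_iff.mpr hg.symm, ?_⟩
    rw [inv_eq_iff_mul_eq_one]
    ext a; obtain ⟨f, rfl⟩ := π_surj a
    rw [MulAut.mul_apply, φ_π, φ_π, MulAut.one_apply]
    congr 1; exact Subtype.ext (by simp [mul_assoc])

theorem pow_card_of_mem_Φ {α : MulAut P.A} (h : α ∈ P.Φ) : α ^ Nat.card G = 1 := by
  obtain ⟨g, hg, rfl⟩ := h
  exact φ_pow_card hg

end Pre

end Cfsg.Agent.FG.BS
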