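import Mathlib
import Cfsg.Agent.FG.BasePre
import Cfsg.Agent.FG.BaseCol2

/-! The component of the second base vector in the fixed points of `B`, and colourings by
representatives. -/

set_option autoImplicit false

namespace Cfsg.Agent.FG.BS

open scoped commutatorElement

variable {G : Type*} {V : Type*} [Group G] [AddCommGroup V] [DistribMulAction G V]

theorem nsmul_cancel [Finite V] {n : ℕ} (hn : n.Coprime (Nat.card V)) {x y : V}
    (h : n • x = n • y) : x = y := by
  have h1 : addOrderOf (x - y) ∣ n := addOrderOf_dvd_of_nsmul_eq_zero (by rw [nsmul_sub, h, sub_self])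
  have h2 := Nat.eq_one_of_dvd_coprimes hn h1 (addOrderOf_dvd_natCard _)
  exact sub_eq_zero.mp (AddMonoid.addOrderOf_eq_one_iff.mp h2)

theorem cyclic_or {X : Type*} [Group X] [Finite X] (hf : GT.Frob.HasFpfAction X)
    (hc : commutator X ≤ Subgroup.center X) : IsCyclic X ∨
    ∃ m : ℕ, Nonempty (X ≃* Multiplicative (ZMod m) × QuaternionGroup 2) := by
  have hcm : ∀ a b : X, ⁅a, b⁆ ∈ Subgroup.center X := fun a b =>
    hc (Subgroup.commutator_mem_commutator trivial trivial)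
  have : Group.IsNilpotent X := ⟨2, by
    rw [eq_top_iff]
    intro x _
    rw [Subgroup.mem_upperCentralSeries_succ_iff]
    intro y
    rw [Subgroup.upperCentralSeries_one]
    exact hcm _ _⟩
  have h : ∀ x g : X, Commute (g * x * g⁻¹) x := fun x g => by
    have h1 := Subgroup.mem_center_iff.mp (hcm g x) x
    calc g * x * g⁻¹ * x = ⁅g, x⁆ * x * x := by rw [commutatorElement_def]; group
      _ = x * (⁅g, x⁆ * x) := by rw [← mul_assoc, h1]
      _ = _ := by rw [commutatorElement_def]; group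
  have hpow : ∀ x g : X, ⁅g, x⁆ ^ orderOf x = 1 := fun x g => by
    rw [commutatorElement_def, (h x g).inv_right.mul_pow, conj_pow, inv_pow, pow_orderOf_eq_one]
    simp
  by_cases h2 : ∀ P : Sylow 2 X, IsCyclic P
  · have := hf.isZGroup_of_two h2
    exact Or.inl inferInstance
  push Not at h2
  obtain ⟨P, hP⟩ := h2
  obtain ⟨-, n, ⟨e⟩⟩ := ((hf.subgroup P).isCyclic_or_quaternion P.isPGroup').resolve_left hP
  have hn : n = 1 := by
    rcases n with _ | _ | n
    · exact absurd (e.isCyclic.2 QuaternionGroup.quaternionGroup_one_isCyclic) hP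
    · rfl
    · exfalso
      have h0 : Commute (e.symm (QuaternionGroup.a 1) * e.symm (QuaternionGroup.xa 0) *
          (e.symm (QuaternionGroup.a 1))⁻¹) (e.symm (QuaternionGroup.xa 0)) := Subtype.ext (h _ _)
      have h1 := (h0.map e).eq
      simp only [map_mul, map_inv, MulEquiv.apply_symm_apply] at h1
      have h2 : (QuaternionGroup.a 1 : QuaternionGroup (2 ^ (n + 1 + 1)))⁻¹ =
        QuaternionGroup.a (-1) := rfl
      simp only [h2, QuaternionGroup.a_mul_xa, QuaternionGroup.xa_mul_a, QuaternionGroup.xa_mul_xa,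
        QuaternionGroup.a.injEq] at h1
      have h3 : ((4 : ℕ) : ZMod (2 * 2 ^ (n + 1 + 1))) = 0 := by
        push_cast
        linear_combination h1
      rw [ZMod.natCast_eq_zero_iff] at h3
      have h4 := Nat.le_of_dvd (by norm_num) h3
      have h5 : 2 ^ 2 ≤ 2 ^ (n + 1 + 1) := Nat.pow_le_pow_right two_pos (by omega)
      omega
  subst hn
  have : (P : Subgroup X).Normal := inferInstance
  obtain ⟨D, hD⟩ := Subgroup.exists_right_complement'_of_coprime (N := (P : Subgroup X))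
    P.card_coprime_index
  have hodd : Odd (Nat.card D) := by
    rw [← hD.symm.index_eq_card]
    exact Nat.not_even_iff_odd.1 fun he => P.not_dvd_index he.two_dvd
  have := (hf.subgroup D).isZGroup_of_odd hodd
  have hc : IsCyclic D := inferInstance
  have hcm : ∀ (d : D) (p : (P : Subgroup X)), Commute (D.subtype d) ((P : Subgroup X).subtype p) :=
    fun d p => by
      have hc : (orderOf (p : X)).Coprime (orderOf (d : X)) := by
        obtain ⟨k, hk⟩ := P.isPGroup' p
        refine Nat.Coprime.coprime_dvd_left (orderOf_dvd_of_pow_eq_one (congrArg Subtype.val hk))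
          (Nat.Coprime.pow_left _ (Nat.coprime_two_left.2 (hodd.of_dvd_nat ?_)))
        exact Subgroup.orderOf_dvd_natCard D d.2
      have h1 := orderOf_dvd_of_pow_eq_one (hpow p d)
      have h2 := orderOf_dvd_of_pow_eq_one (hpow d p)
      rw [← commutatorElement_inv, orderOf_inv] at h2
      exact commutatorElement_eq_one_iff_commute.1
        (orderOf_eq_one_iff.1 (Nat.eq_one_of_dvd_coprimes hc h1 h2))
  let f := MonoidHom.noncommCoprod D.subtype (P : Subgroup X).subtype hcm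
  have hb : Function.Bijective f := hD.symm
  exact Or.inr ⟨Nat.card D, ⟨(MulEquiv.ofBijective f hb).symm.trans
    ((zmodCyclicMulEquiv hc).symm.prodCongr e)⟩⟩

namespace Pre

variable {P : Pre G V}

variable (P) in
/-- `D` acts on the fixed points of `B` like `U` -/
def Cyc : Prop := ∀ d ∈ P.D, ∃ u ∈ P.U, ∀ x ∈ fixS V P.B, d • x = u • x

variable (P) in
/-- `D` acts on the fixed points of `B` like `U Q₈` -/
structure Quat (i j : G) : Prop where
  hi : i ∈ P.D
  hj : j ∈ P.D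
  ii : ∀ x ∈ fixS V P.B, i • i • x = -x
  jj : ∀ x ∈ fixS V P.B, j • j • x = -x
  ji : ∀ x ∈ fixS V P.B, j • i • x = -(i • j • x)
  gen : ∀ d ∈ P.D, ∃ u ∈ P.U, ∃ s t : ℕ, ∀ x ∈ fixS V P.B, d • x = u • i ^ s • j ^ t • x

theorem ψ_apply {d d' : P.D} (h : ψ d = ψ d') {x : V} (hx : x ∈ fixS V P.B) :
    (d : G) • x = (d' : G) • x :=
  congrArg (fun e : MulAut (Multiplicative (fixS V P.B)) =>
    ((e (Multiplicative.ofAdd ⟨x, hx⟩)).toAdd.1 : V)) h

theorem central [Finite G] [Finite V] {d : P.D} (h : ∀ d', ψ d * ψ d' = ψ d' * ψ d) :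
    ∃ u ∈ P.U, ∀ x ∈ fixS V P.B, (d : G) • x = u • x := by
  obtain ⟨b, hb, u, hu, e⟩ := dc d.2.1 fun d' hd' => by
    have h1 : ψ ⁅d, (⟨d', hd'⟩ : P.D)⁆ = 1 := by
      rw [map_commutatorElement]; exact commutatorElement_eq_one_iff_mul_comm.mpr (h _)
    exact commutatorElement_eq_one_iff_mul_comm.mp
      (eq_one_of_U (P.comm _ d.2.1 _ hd'.1) (ψ_eq_one_iff.mp h1).2)
  exact ⟨u, hu, fun x hx => by rw [e, ← P.cen u hu b hb.1, mul_smul, hx b hb]⟩

theorem smul_eq_neg [Finite G] (hP : P.IsMax) {d : G} (hd : d ∈ P.D) (h1 : d ∉ P.B)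
    (h2 : d * d ∈ P.B) {x : V} (hx : x ∈ fixS V P.B) : d • x = -x := by
  by_contra hc
  refine h1 (mem_B_of_fix hP hd.1 (AddSubgroup.add_mem _ (D_smul hd hx) hx)
    (fun e => hc (eq_neg_of_add_eq_zero_left e)) ?_)
  rw [smul_add, ← mul_smul, hx _ h2, add_comm]

theorem quat_or [Finite G] [Finite V] (hP : P.IsMax) : P.Cyc ∨ ∃ i j, P.Quat i j := by
  rcases cyclic_or (hasFpf hP) range_class_two with h | ⟨m, ⟨e⟩⟩
  · refine Or.inl fun d hd => central (d := ⟨d, hd⟩) fun d' => ?_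
    let _ := IsCyclic.commGroup (α := (ψ (P := P)).range)
    exact congrArg Subtype.val (mul_comm (⟨_, ⟨d, hd⟩, rfl⟩ : (ψ (P := P)).range) ⟨_, d', rfl⟩)
  right
  let E : P.D →* Multiplicative (ZMod m) × QuaternionGroup 2 :=
    e.toMonoidHom.comp (ψ (P := P)).rangeRestrict
  have hE : Function.Surjective E := e.surjective.comp (MonoidHom.rangeRestrict_surjective _)
  have hEψ : ∀ a b, E a = E b → ψ a = ψ b := fun a b h => congrArg Subtype.val (e.injective h)
  have hB : ∀ a, E a = 1 ↔ (a : G) ∈ P.B := fun a => by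
    rw [← ψ_eq_one_iff]
    exact ⟨fun h => (hEψ a 1 (by rw [h, map_one])).trans (map_one _),
      fun h => (congrArg e (Subtype.ext h)).trans (map_one e)⟩
  obtain ⟨i, hi⟩ := hE (1, QuaternionGroup.a 1)
  obtain ⟨j, hj⟩ := hE (1, QuaternionGroup.xa 0)
  have q0 : (QuaternionGroup.a 2 : QuaternionGroup 2) ≠ 1 := by decide
  have q1 : (QuaternionGroup.a 2 * QuaternionGroup.a 2 : QuaternionGroup 2) = 1 := by decide
  have q2 : (QuaternionGroup.a 1 * QuaternionGroup.a 1 : QuaternionGroup 2) = QuaternionGroup.a 2 := by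
    decide
  have q3 : (QuaternionGroup.xa 0 * QuaternionGroup.xa 0 : QuaternionGroup 2) =
    QuaternionGroup.a 2 := by decide
  have q4 : (QuaternionGroup.xa 0 * QuaternionGroup.a 1 : QuaternionGroup 2) = QuaternionGroup.a 1 *
    QuaternionGroup.a 1 * (QuaternionGroup.a 1 * QuaternionGroup.xa 0) := by decide
  have hneg : ∀ d : P.D, E d = (1, QuaternionGroup.a 2) → ∀ x ∈ fixS V P.B, (d : G) • x = -x :=
    fun d hd x hx => smul_eq_neg hP d.2 (fun h => by
      exact q0 (congrArg Prod.snd (hd.symm.trans ((hB d).mpr h))))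
      ((hB (d * d)).mp (by rw [map_mul, hd]; exact Prod.ext (one_mul _) q1)) hx
  have hii := hneg (i * i) (by rw [map_mul, hi]; exact Prod.ext (one_mul _) q2)
  refine ⟨i, j, i.2, j.2, fun x hx => ?_, fun x hx => ?_, fun x hx => ?_, fun d hd => ?_⟩
  · rw [← mul_smul]; exact hii x hx
  · rw [← mul_smul]
    exact hneg (j * j) (by rw [map_mul, hj]; exact Prod.ext (one_mul _) q3) x hx
  · have := ψ_apply (hEψ (j * i) (i * i * (i * j)) (by
      simp only [map_mul, hi, hj]; exact Prod.ext (by simp) q4)) hx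
    rw [← hii _ (D_smul i.2 (D_smul j.2 hx))]
    simpa only [Subgroup.coe_mul, mul_smul] using this
  · obtain ⟨s, t, hst⟩ : ∃ s t : Fin 4, (E ⟨d, hd⟩).2 =
        QuaternionGroup.a 1 ^ s.val * QuaternionGroup.xa 0 ^ t.val := by
      generalize (E ⟨d, hd⟩).2 = q; revert q; decide
    obtain ⟨c, hc⟩ := hE ((E ⟨d, hd⟩).1, 1)
    obtain ⟨u, hu, h⟩ := central (d := c) fun d' => by
      rw [← map_mul, ← map_mul]
      exact hEψ _ _ (by rw [map_mul, map_mul, hc]; exact Prod.ext (mul_comm _ _) (by simp))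
    refine ⟨u, hu, s, t, fun x hx => ?_⟩
    have := ψ_apply (hEψ ⟨d, hd⟩ (c * (i ^ s.val * j ^ t.val)) (by
      simp only [map_mul, map_pow, hi, hj, hc]; exact Prod.ext (by simp) (by simpa using hst))) hx
    rw [← h _ (D_smul (P.D.pow_mem i.2 _) (D_smul (P.D.pow_mem j.2 _) hx))]
    simpa only [Subgroup.coe_mul, Subgroup.coe_pow, mul_smul] using this

theorem Quat.symm {i j : G} (h : P.Quat i j) (hneg : ∃ z ∈ P.U, ∀ x : V, z • x = -x) :
    P.Quat j i := by
  obtain ⟨z, hz, hz'⟩ := hneg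
  refine ⟨h.hj, h.hi, h.jj, h.ii, fun x hx => by rw [h.ji x hx, neg_neg], fun d hd => ?_⟩
  obtain ⟨u, hu, s, t, e⟩ := h.gen d hd
  have h1 : ∀ t : ℕ, ∀ x ∈ fixS V P.B, i • j ^ t • x = z ^ t • j ^ t • i • x := by
    intro t
    induction t with
    | zero => simp
    | succ t ih =>
      intro x hx
      rw [pow_succ, mul_smul, ih _ (D_smul h.hj hx), pow_succ z, mul_smul, hz', mul_smul,
        h.ji x hx, smul_neg, smul_neg, smul_neg, neg_neg]
  have h2 : ∀ s : ℕ, ∀ x ∈ fixS V P.B, i ^ s • j ^ t • x = z ^ (t * s) • j ^ t • i ^ s • x := by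
    intro s
    induction s with
    | zero => simp
    | succ s ih =>
      intro x hx
      rw [pow_succ, mul_smul, h1 t x hx, ← mul_smul (i ^ s),
        ← P.cen _ (P.U.pow_mem hz t) _ (P.F.pow_mem h.hi.1 s), mul_smul, ih _ (D_smul h.hi hx),
        mul_smul, mul_add, mul_one, add_comm, pow_add, mul_smul]
  exact ⟨u * z ^ (t * s), P.U.mul_mem hu (P.U.pow_mem hz _), t, s, fun x hx => by
    rw [e x hx, h2 s x hx, mul_smul]⟩

theorem change_B [Finite G] (hP : P.IsMax) {x : V} (hx : x ∈ fixS V P.B) (hx0 : x ≠ 0) :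
    (P.change x hx0).B = P.B :=
  le_antisymm (fun _ hf => mem_B_of_fix hP hf.1 hx hx0 hf.2) fun b hb => ⟨hb.1, hx b hb⟩

theorem change_D [Finite G] (hP : P.IsMax) {x : V} (hx : x ∈ fixS V P.B) (hx0 : x ≠ 0) :
    (P.change x hx0).D = P.D := by
  show P.F ⊓ Subgroup.centralizer ((P.change x hx0).B : Set G) = _
  rw [change_B hP hx hx0]; rfl

theorem change_isMax [Finite G] (hP : P.IsMax) {x : V} (hx : x ∈ fixS V P.B) (hx0 : x ≠ 0) :
    (P.change x hx0).IsMax := fun y hy => by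
  show _ ≤ Nat.card (P.change x hx0).B
  rw [change_B hP hx hx0]
  exact hP y hy

theorem Quat.change [Finite G] {i j : G} (h : P.Quat i j) (hP : P.IsMax) {x : V}
    (hx : x ∈ fixS V P.B) (hx0 : x ≠ 0) : (P.change x hx0).Quat i j := by
  obtain ⟨h1, h2, h3, h4, h5, h6⟩ := h
  rw [← change_D hP hx hx0] at h1 h2 h6
  rw [← change_B hP hx hx0] at h3 h4 h5 h6
  exact ⟨h1, h2, h3, h4, h5, h6⟩

/-- a base vector spanning a two-dimensional module for the quaternion group -/
theorem Quat.exists_span [Finite G] {i j : G} (h : P.Quat i j) (hP : P.IsMax)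
    (hneg : ∃ z ∈ P.U, ∀ x : V, z • x = -x) {p : ℕ} (hp : p.Prime) (hV : ∀ x : V, p • x = 0) :
    ∃ (x : V) (hx : x ≠ 0) (i j : G), (P.change x hx).IsMax ∧ (P.change x hx).Quat i j ∧
      ∃ a b : ℤ, j • x = a • x + b • i • x := by
  have := Fact.mk hp
  obtain ⟨a, b, hab⟩ := ZMod.sq_add_sq p (-1)
  have hz : ∀ (c : ℤ) (x : V), (c : ZMod p) = 0 → c • x = 0 := fun c x hc => by
    obtain ⟨k, rfl⟩ := (ZMod.intCast_zmod_eq_zero_iff_dvd c p).mp hc
    rw [mul_comm, mul_smul, natCast_zsmul, hV, smul_zero]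
  have key : ∀ (i j : G), P.Quat i j → ∀ a b : ZMod p, a ^ 2 + b ^ 2 = -1 → b ≠ 0 →
      ∃ (x : V) (hx : x ≠ 0) (i j : G), (P.change x hx).IsMax ∧ (P.change x hx).Quat i j ∧
      ∃ a b : ℤ, j • x = a • x + b • i • x := by
    intro i j h a b hab hb
    obtain ⟨a, rfl⟩ := ZMod.intCast_surjective a
    obtain ⟨b, rfl⟩ := ZMod.intCast_surjective b
    obtain ⟨x, hx, hx0, a, b, hb, e⟩ : ∃ x ∈ fixS V P.B, x ≠ 0 ∧ ∃ a b : ℤ, (b : ZMod p) ≠ 0 ∧
        x + a • i • x + b • j • x = 0 := by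
      by_cases h0 : P.v + (-a) • i • P.v + (-b) • j • P.v = 0
      · exact ⟨P.v, v_mem, P.v0, -a, -b, by simpa using hb, h0⟩
      refine ⟨_, AddSubgroup.add_mem _ (AddSubgroup.add_mem _ v_mem
        (AddSubgroup.zsmul_mem _ (D_smul h.hi v_mem) _))
        (AddSubgroup.zsmul_mem _ (D_smul h.hj v_mem) _), h0, a, b, hb, ?_⟩
      simp only [smul_add, smul_comm i (-a), smul_comm i (-b), smul_comm j (-a), smul_comm j (-b),
        h.ii _ v_mem, h.jj _ v_mem, h.ji _ v_mem]
      rw [← hz (1 + (a ^ 2 + b ^ 2)) P.v (by push_cast; rw [hab]; ring)]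
      generalize i • j • P.v = x1; generalize i • P.v = x2; generalize j • P.v = x3
      module
    obtain ⟨c, hc⟩ := ZMod.intCast_surjective (b : ZMod p)⁻¹
    refine ⟨x, hx0, i, j, change_isMax hP hx hx0, h.change hP hx hx0, -c, -(c * a), ?_⟩
    have h1 := hz (c * b - 1) (j • x) (by push_cast; rw [hc, inv_mul_cancel₀ hb, sub_self])
    have h2 := congrArg (c • ·) e
    simp only [smul_zero] at h2
    rw [← sub_eq_zero, ← sub_eq_zero.mpr (h2.trans h1.symm)]
    generalize i • x = x2; generalize j • x = x3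
    module
  by_cases hb : b = 0
  · exact key j i (h.symm hneg) b a (by rw [add_comm, hab]) (by
      rintro rfl; rw [hb] at hab; simp at hab)
  · exact key i j h a b hab hb

theorem conj_U_of_gen {θ : G} (hθ : θ ∈ P.U) (hgen : ∀ u ∈ P.U, ∃ n : ℤ, θ ^ n = u) {g : G}
    (hg : g • P.v = P.v) (h : g • θ • P.v = θ • P.v) {u : G} (hu : u ∈ P.U) : g * u = u * g := by
  obtain ⟨n, rfl⟩ := hgen u hu
  have h1 := β_mem hg (P.UF hθ) h
  have h2 := eq_one_of_U (P.U.mul_mem (P.U.inv_mem hθ) (P.Un.conj_mem θ hθ g)) h1.2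
  have h3 : Commute g θ := by
    rw [inv_mul_eq_one, eq_mul_inv_iff_mul_eq] at h2; exact h2.symm
  exact (h3.zpow_right n).eq

variable (P) in
theorem exists_θ [Finite V] : ∃ θ ∈ P.U, ∀ u ∈ P.U, ∃ n : ℤ, θ ^ n = u := by
  have := isCyclic_U (P := P)
  obtain ⟨θ, hθ⟩ := IsCyclic.exists_generator (α := P.U)
  refine ⟨θ, θ.2, fun u hu => ?_⟩
  obtain ⟨n, hn⟩ := hθ ⟨u, hu⟩
  exact ⟨n, congrArg Subtype.val hn⟩

theorem Cyc.zero [Finite V] (h : P.Cyc) : ∃ w, P.Zero w := by
  obtain ⟨θ, hθ, hgen⟩ := P.exists_θ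
  refine ⟨θ • P.v, D_smul (U_le_D hθ) v_mem, fun g hg hw d hd => ?_⟩
  obtain ⟨u, hu, e⟩ := h d hd
  rw [e _ v_mem, ← mul_smul, conj_U_of_gen hθ hgen hg hw hu, mul_smul, hg]

theorem fix_pow {g : G} (hg : g • P.v = P.v) {f d : G} (hf : f ∈ P.D) (hd : d ∈ P.D)
    (h : g • f • P.v = f • P.v) (h' : g • d • P.v = d • P.v) (n : ℕ) :
    g • (f ^ n * d) • P.v = (f ^ n * d) • P.v := by
  induction n with
  | zero => simpa using h'
  | succ n ih =>
    rw [pow_succ', mul_assoc]
    exact fix_mul hg hf.1 (P.D.mul_mem (P.D.pow_mem hf n) hd) h ih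

theorem Quat.zero [Finite G] [Finite V] {i j : G} (h : P.Quat i j)
    (hcop : (Nat.card G).Coprime (Nat.card V)) {a b : ℤ} (hab : j • P.v = a • P.v + b • i • P.v) :
    ∃ w, P.Zero w := by
  classical
  obtain ⟨θ, hθ, hgen⟩ := P.exists_θ
  let N : Subgroup G := MulAction.stabilizer G P.v ⊓ Subgroup.centralizer (P.U : Set G)
  have := Fintype.ofFinite N
  have hN : (Fintype.card N).Coprime (Nat.card V) := by
    rw [← Nat.card_eq_fintype_card]
    exact hcop.coprime_dvd_left (Subgroup.card_subgroup_dvd_card N)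
  let e : V →+ V := ∑ n : N, DistribSMul.toAddMonoidHom V (n : G)
  have he : ∀ x, e x = ∑ n : N, (n : G) • x := fun x => by simp [e, AddMonoidHom.finsetSum_apply]
  have h1 : ∀ g ∈ N, ∀ x, g • e x = e x := fun g hg x => by
    rw [he, Finset.smul_sum]
    exact Fintype.sum_equiv (Equiv.mulLeft (⟨g, hg⟩ : N)) _ _ fun n => (mul_smul _ _ _).symm
  have h2 : ∀ x, (∀ g ∈ N, g • x = x) → e x = Fintype.card N • x := fun x hx => by
    rw [he, Finset.sum_congr rfl fun (n : N) _ => hx n n.2]; simp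
  have hconj : ∀ g : G, g • P.v = P.v → ∀ n ∈ N, g * n * g⁻¹ ∈ N := fun g hg n hn =>
    ⟨(MulAction.stabilizer G P.v).mul_mem ((MulAction.stabilizer G P.v).mul_mem hg hn.1)
      ((MulAction.stabilizer G P.v).inv_mem hg), fun u hu => by
        have := hn.2 _ (P.Un.conj_mem u hu g⁻¹)
        calc u * (g * n * g⁻¹) = g * ((g⁻¹ * u * g⁻¹⁻¹) * n) * g⁻¹ := by group
          _ = _ := by rw [this]; group⟩
  have h3 : ∀ g : G, g • P.v = P.v → ∀ x, g • e x = e (g • x) := fun g hg x => by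
    rw [he, he, Finset.smul_sum]
    refine Fintype.sum_equiv
      ⟨fun n => ⟨_, hconj g hg n n.2⟩, fun n => ⟨_, hconj g⁻¹ (inv_smul_eq_iff.mpr hg.symm) n n.2⟩,
        fun n => Subtype.ext (by simp [mul_assoc]), fun n => Subtype.ext (by simp [mul_assoc])⟩
      _ _ fun n => ?_
    simp [mul_smul]
  have hi := D_smul h.hi (v_mem (P := P))
  refine ⟨θ • P.v + (Fintype.card N • i • P.v - e (i • P.v)), AddSubgroup.add_mem _
    (D_smul (U_le_D hθ) v_mem) (AddSubgroup.sub_mem _ (AddSubgroup.nsmul_mem _ hi _) ?_),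
    fun g hg hw d hd => ?_⟩
  · rw [he]; exact AddSubgroup.sum_mem _ fun n _ => stab_smul n.2.1 hi
  have h4 := h3 g hg (θ • P.v + (Fintype.card N • i • P.v - e (i • P.v)))
  rw [hw, map_add, map_sub, map_nsmul, h2 (e _) fun g hg => h1 g hg _, sub_self, add_zero,
    h2 _ fun n hn => by rw [← mul_smul, ← hn.2 θ hθ, mul_smul, hn.1], smul_comm] at h4
  have h5 := nsmul_cancel hN h4
  have h6 : g ∈ N := ⟨hg, fun u hu => (conj_U_of_gen hθ hgen hg h5 hu).symm⟩
  rw [smul_add, smul_sub, h5, h1 g h6, add_right_inj, sub_left_inj, smul_comm] at hw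
  have h7 := nsmul_cancel hN hw
  have h8 : g • j • P.v = j • P.v := by
    rw [hab, smul_add, smul_comm g a, smul_comm g b, hg, h7]
  obtain ⟨u, hu, s, t, e⟩ := h.gen d hd
  have h9 := fix_pow hg h.hi (P.D.mul_mem (P.D.pow_mem h.hj t) P.D.one_mem) h7
    (fix_pow hg h.hj P.D.one_mem h8 (by simpa using hg) t) s
  rw [mul_one, mul_smul] at h9
  rw [e _ v_mem, ← mul_smul, ← h6.2 u hu, mul_smul, h9]

end Pre

end Cfsg.Agent.FG.BS
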