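import Mathlib
import Cfsg.Agent.FG.BaseZero

/-! Base size two when the powers of representatives give enough colours. -/

set_option autoImplicit false

namespace Cfsg.Agent.FG.BS

open scoped commutatorElement

variable {G : Type*} {V : Type*} [Group G] [AddCommGroup V] [DistribMulAction G V]

namespace Pre

variable {P : Pre G V}

theorem mul_U_pow {f u : G} (hf : f ∈ P.F) (hu : u ∈ P.U) (m : ℕ) : (f * u) ^ m = f ^ m * u ^ m :=
  Commute.mul_pow (P.cen u hu f hf).symm m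

theorem exists_palette {ι γ : Type*} (m : ℕ) (pal : γ → G) (hpal : ∀ c, pal c ∈ P.U)
    (hinj : ∀ c c', pal c ^ m = pal c' ^ m → c = c') (f : ι → G) (hf : ∀ a, f a ∈ P.F) (χ : ι → γ) :
    ∃ u : ι → G, (∀ a, u a ∈ P.U) ∧ ∀ a a', (f a * u a) ^ m = (f a' * u a') ^ m → χ a = χ a' := by
  let S : Subgroup G :=
    { carrier := {x | ∃ u ∈ P.U, u ^ m = x}
      one_mem' := ⟨1, P.U.one_mem, one_pow m⟩
      mul_mem' := by
        rintro _ _ ⟨u, hu, rfl⟩ ⟨u', hu', rfl⟩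
        exact ⟨u * u', P.U.mul_mem hu hu', mul_U_pow (P.UF hu) hu' m⟩
      inv_mem' := by
        rintro _ ⟨u, hu, rfl⟩
        exact ⟨u⁻¹, P.U.inv_mem hu, inv_pow u m⟩ }
  have h1 : ∀ a, ∃ u ∈ P.U, ((f a ^ m : G) : G ⧸ S).out = f a ^ m * u ^ m := fun a => by
    obtain ⟨⟨_, u, hu, rfl⟩, h⟩ := QuotientGroup.mk_out_eq_mul S (f a ^ m)
    exact ⟨u, hu, h⟩
  choose u hu h1 using h1
  have h2 : ∀ a, (f a * (u a * pal (χ a))) ^ m = ((f a ^ m : G) : G ⧸ S).out * pal (χ a) ^ m :=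
    fun a => by
      rw [h1, mul_U_pow (hf a) (P.U.mul_mem (hu a) (hpal _)), mul_U_pow (P.UF (hu a)) (hpal _),
        mul_assoc]
  refine ⟨fun a => u a * pal (χ a), fun a => P.U.mul_mem (hu a) (hpal _), fun a a' h => ?_⟩
  simp only [h2] at h
  have h3 := congrArg (QuotientGroup.mk (s := S)) h
  rw [QuotientGroup.mk_mul_of_mem _ (show pal (χ a) ^ m ∈ S from ⟨_, hpal _, rfl⟩),
    QuotientGroup.mk_mul_of_mem _ (show pal (χ a') ^ m ∈ S from ⟨_, hpal _, rfl⟩),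
    QuotientGroup.out_eq', QuotientGroup.out_eq'] at h3
  rw [h3] at h
  exact hinj _ _ (mul_left_cancel h)

theorem π_mul_U {f : P.F} {u : G} (hu : u ∈ P.U) (h : (f : G) * u ∈ P.F) :
    P.π ⟨f * u, h⟩ = P.π f :=
  (π_eq_iff.mpr (by simpa using U_le_D hu)).symm

theorem base_L1 [Finite G] [Finite V] {w0 : V} (h0 : P.Zero w0) {z : G} (hz : z ∈ P.U)
    (hz1 : z ≠ 1) (hz2 : z ^ 2 = 1) {γ : Type} (pal : γ → G) (hpal : ∀ c, pal c ∈ P.U)
    (hinj : ∀ c c', pal c ^ 4 = pal c' ^ 4 → c = c') {R : Set γ}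
    (hcol : Col (tors P.A 2) (P.Φ.map (resTors P.A 2)) γ R) :
    ∃ w : V, ∀ g : G, g • P.v = P.v → g • w = w → g = 1 := by
  classical
  obtain ⟨k, m, hm, hkm⟩ := Nat.exists_eq_two_pow_mul_odd (Nat.card_pos (α := G)).ne'
  obtain ⟨l, hl⟩ := id hm
  have hU : ∀ f ∈ P.F, (f ^ m) ^ 2 ∈ P.U := fun f hf =>
    pow_mem_of_pow_pow (P.F.pow_mem hf m) 2 k (by
      rw [← pow_mul, mul_comm, ← hkm, pow_card_eq_one']; exact P.U.one_mem)
  have hA : ∀ a : P.A, (a ^ m) ^ 2 = 1 := fun a => by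
    obtain ⟨f, rfl⟩ := π_surj a
    rw [← map_pow, ← map_pow]
    exact π_eq_one_iff.mpr (U_le_D (hU f f.2))
  have hpow : ∀ {M : Type _} [Monoid M] (a : M), a ^ 2 = 1 → a ^ m = a := fun a ha => by
    rw [hl, pow_succ, pow_mul, ha, one_pow, one_mul]
  have hint : ∀ a : P.A, a ∈ tors P.A 2 → a ∈ tors P.A m → a = 1 := fun a h1 h2 =>
    (hpow a h1).symm.trans h2
  have hodd : Odd (Nat.card (tors P.A m)) := Nat.not_even_iff_odd.mp fun he => by
    obtain ⟨x, hx⟩ := exists_prime_orderOf_dvd_card' (G := tors P.A m) 2 he.two_dvd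
    have h1 : x ^ 2 = 1 := hx ▸ pow_orderOf_eq_one x
    have h2 : x = 1 := Subtype.ext (hint _ (congrArg Subtype.val h1) x.2)
    simp [h2] at hx
  obtain ⟨χ, N, hN1, hN2, -, hN3⟩ := hcol
  obtain ⟨χ', N', hN1', hN2', -, hN3'⟩ := col_odd hodd ⊤
  obtain ⟨u, hu, hu'⟩ := exists_palette 4 pal hpal hinj
    (fun a : tors P.A 2 => ((P.rep a ^ m : P.F) : G)) (fun a => (P.rep a ^ m).2) χ
  obtain ⟨t, ht, ht'⟩ := exists_palette m (fun b : Bool => if b then z else 1)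
    (fun b => by cases b <;> simp [hz, P.U.one_mem])
    (fun b b' => by cases b <;> cases b' <;> simp [hpow z hz2, hz1, hz1.symm])
    (fun a : tors P.A m => ((P.rep a ^ (m + 1) : P.F) : G)) (fun a => (P.rep a ^ (m + 1)).2) χ'
  let ρ : P.A → P.F := fun a =>
    if h : a ∈ tors P.A 2 then ⟨(P.rep a ^ m : P.F) * u ⟨a, h⟩,
      P.F.mul_mem (P.rep a ^ m).2 (P.UF (hu _))⟩
    else if h : a ∈ tors P.A m then ⟨(P.rep a ^ (m + 1) : P.F) * t ⟨a, h⟩,
      P.F.mul_mem (P.rep a ^ (m + 1)).2 (P.UF (ht _))⟩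
    else P.rep a
  have hρ2 : ∀ a : tors P.A 2, (ρ a : G) = (P.rep a ^ m : P.F) * u a := fun a => by
    simp only [ρ, dif_pos a.2]
  have hρm : ∀ a : tors P.A m, a ≠ 1 → (ρ a : G) = (P.rep a ^ (m + 1) : P.F) * t a := fun a ha => by
    simp only [ρ, dif_pos a.2, dif_neg fun h => ha (Subtype.ext (hint _ h a.2))]
  have hm2 : ∀ a : tors P.A 2, (a : P.A) ∈ Subtype.val '' N ∪ Subtype.val '' N' ↔ a ∈ N := fun a =>
    ⟨fun h => h.elim (fun ⟨b, hb, e⟩ => Subtype.ext e ▸ hb) fun ⟨b, hb, e⟩ =>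
      (hN1' ((Subtype.ext (hint _ (e ▸ a.2) b.2) : b = 1) ▸ hb)).elim, fun h => Or.inl ⟨a, h, rfl⟩⟩
  have hmm : ∀ a : tors P.A m, (a : P.A) ∈ Subtype.val '' N ∪ Subtype.val '' N' ↔ a ∈ N' := fun a =>
    ⟨fun h => h.elim (fun ⟨b, hb, e⟩ =>
      (hN1 ((Subtype.ext (hint _ b.2 (e ▸ a.2)) : b = 1) ▸ hb)).elim)
      fun ⟨b, hb, e⟩ => Subtype.ext e ▸ hb, fun h => Or.inr ⟨a, h, rfl⟩⟩
  refine base_of_reps h0 ρ (fun a => ?_) (Subtype.val '' N ∪ Subtype.val '' N')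
    (fun h => hN1 ((hm2 1).mp h)) (small_of_four ?_) fun g hg hD hN hρ => ?_
  · simp only [ρ]
    split_ifs with h1 h2
    · rw [π_mul_U (hu _), map_pow, π_rep, hpow a h1]
    · rw [π_mul_U (ht _), map_pow, π_rep, pow_succ, mem_tors.mp h2, one_mul]
    · exact π_rep a
  · have h1 := Set.ncard_union_le (Subtype.val '' N) (Subtype.val '' N')
    rw [Set.ncard_image_of_injective _ Subtype.val_injective,
      Set.ncard_image_of_injective _ Subtype.val_injective] at h1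
    have h2 := Set.ncard_union_add_ncard_inter (tors P.A 2 : Set P.A) (tors P.A m)
    have h3 : (tors P.A 2 : Set P.A) ∩ (tors P.A m) = {1} :=
      Set.eq_singleton_iff_unique_mem.mpr ⟨⟨Subgroup.one_mem _, Subgroup.one_mem _⟩,
        fun a ha => hint a ha.1 ha.2⟩
    have h4 := Set.ncard_le_ncard (Set.subset_univ ((tors P.A 2 : Set P.A) ∪ (tors P.A m)))
    have h5 : (tors P.A 2 : Set P.A).ncard = Nat.card (tors P.A 2) := rfl
    have h6 : (tors P.A m : Set P.A).ncard = Nat.card (tors P.A m) := rfl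
    rw [h3, Set.ncard_singleton] at h2
    rw [Set.ncard_univ] at h4
    omega
  have e2 := hN3 (resTors P.A 2 (φ hg)) ⟨_, ⟨g, hg, rfl⟩, rfl⟩
    (fun a => by rw [← hm2, ← hm2]; exact hN a) fun a ha haN => by
      have hsq : ∀ b : tors P.A 2, (ρ b : G) ^ 2 ∈ P.U := fun b => by
        rw [hρ2, mul_U_pow (P.rep b ^ m).2 (hu b)]
        exact P.U.mul_mem (hU _ (P.rep b).2) (P.U.pow_mem (hu b) 2)
      have h4 : ∀ b : tors P.A 2, (ρ b : G) ^ 4 ∈ P.U := fun b => by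
        rw [show 4 = 2 * 2 from rfl, pow_mul]; exact P.U.pow_mem (hsq b) 2
      have := kappa hg hD (ρ a).2 (ρ (resTors P.A 2 (φ hg) a)).2
        (hρ a (fun e => ha (Subtype.ext e)) (by rwa [hm2])) (hsq _) (m := 4) (by decide) (h4 _) (h4 _)
      rw [hρ2, hρ2] at this
      exact (hu' _ _ this).symm
  have em := hN3' (resTors P.A m (φ hg)) trivial
    (fun a => by rw [← hmm, ← hmm]; exact hN a) fun a ha haN => by
      have hsq : ∀ b : tors P.A m, b ≠ 1 → (ρ b : G) ^ m ∈ P.U := fun b hb => by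
        rw [hρm b hb, mul_U_pow (P.rep b ^ (m + 1)).2 (ht b)]
        refine P.U.mul_mem ?_ (P.U.pow_mem (ht b) m)
        have := P.U.pow_mem (hU _ (P.rep b).2) (l + 1)
        rw [← pow_mul, ← pow_mul] at this
        rw [Subgroup.coe_pow, ← pow_mul, show (m + 1) * m = m * (2 * (l + 1)) by rw [hl]; ring]
        exact this
      have ha' : resTors P.A m (φ hg) a ≠ 1 := by simpa using ha
      have := kappa hg hD (ρ a).2 (ρ (resTors P.A m (φ hg) a)).2
        (hρ a (fun e => ha (Subtype.ext e)) (by rwa [hmm])) (hsq _ ha') (m := m)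
        ⟨l, by rw [Nat.choose_two_right, show m * (m - 1) = 2 * (m * l) by
          rw [show m - 1 = 2 * l by omega]; ring]; simp⟩ (hsq _ ha) (hsq _ ha')
      rw [hρm _ ha, hρm _ ha'] at this
      exact (ht' _ _ this).symm
  ext a
  have k1 : ∀ x : tors P.A 2, φ hg x = x := fun x => congrArg Subtype.val (DFunLike.congr_fun e2 x)
  have k2 : ∀ x : tors P.A m, φ hg x = x := fun x => congrArg Subtype.val (DFunLike.congr_fun em x)
  have h1 : φ hg (a ^ m) = a ^ m := k1 ⟨a ^ m, hA a⟩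
  have h2 : φ hg (a ^ (m + 1)) = a ^ (m + 1) := k2 ⟨a ^ (m + 1), by
    rw [mem_tors, ← pow_mul, show (m + 1) * m = m * 2 * (l + 1) by rw [hl]; ring, pow_mul,
      pow_mul, hA, one_pow]⟩
  have h3 : a = a ^ m * a ^ (m + 1) := by rw [pow_succ, ← mul_assoc, ← pow_two, hA, one_mul]
  rw [MulAut.one_apply, h3, map_mul, h1, h2]

end Pre

end Cfsg.Agent.FG.BS
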