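import Mathlib
import Cfsg.Agent.FG.BaseReps

/-! Explicit models of the action of `D`, and the passage to a block of two dual pairs. -/

set_option autoImplicit false

namespace Cfsg.Agent.FG.BS

open scoped commutatorElement

variable {G : Type*} {V : Type*} [Group G] [AddCommGroup V] [DistribMulAction G V]

/-- `y` or `1` -/
def pw (y : G) (a : Bool) : G := if a then y else 1

/-- `-x` or `x` -/
def sg {M : Type*} [Neg M] (a : Bool) (x : M) : M := if a then -x else x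

theorem pw_mem {H : Subgroup G} {y : G} (hy : y ∈ H) (a : Bool) : pw y a ∈ H := by
  cases a
  · exact H.one_mem
  · exact hy

theorem smul_smul_comm (f f' : G) (x : V) : f • f' • x = ⁅f, f'⁆ • f' • f • x := by
  simp only [← mul_smul]; congr 1; rw [commutatorElement_def]; group

/-- the action on a block of two dual pairs -/
def dbl {K M : Type} [Neg M] (act : K → M → M) (k : K × Bool × Bool × Bool × Bool)
    (c : M × M × M × M) : M × M × M × M :=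
  let c1 := if k.2.2.2.2 then (c.2.2.1, c.2.2.2, c.1, c.2.1) else c
  let c2 := if k.2.2.2.1 then (c1.2.1, c1.1, c1.2.2.2, c1.2.2.1) else c1
  (act k.1 c2.1, sg k.2.1 (act k.1 c2.2.1), sg k.2.2.1 (act k.1 c2.2.2.1),
    sg k.2.1 (sg k.2.2.1 (act k.1 c2.2.2.2)))

namespace Pre

variable {P : Pre G V}

variable (P) in
/-- an explicit model of the action of `D` on a subgroup containing `v` -/
structure Model {K M : Type} [AddCommGroup M] (act : K → M → M) (e : M) (ι : M →+ V) : Prop where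
  inj : Function.Injective ι
  fix : ∀ c, ι c ∈ fixS V P.B
  v : ι e = P.v
  ex : ∀ d ∈ P.D, ∃ k, ∀ c, d • ι c = ι (act k c)
  ex' : ∀ k, ∃ d ∈ P.D, ∀ c, d • ι c = ι (act k c)

variable (P) in
/-- `F` is a group of exponent four with elementary quotient `F / U` -/
structure Two (z : G) : Prop where
  hz : z ∈ P.U
  neg : ∀ x : V, z • x = -x
  sq : ∀ f ∈ P.F, f ^ 2 ∈ P.U
  four : ∀ f ∈ P.F, f ^ 4 = 1
  odd : ∀ x : V, 2 • x = 0 → x = 0

variable (P) in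
/-- two dual pairs -/
structure Pair (z x1 x2 y1 y2 : G) : Prop where
  hx1 : x1 ∈ P.B
  hx2 : x2 ∈ P.B
  hy1 : y1 ∈ P.F
  hy2 : y2 ∈ P.F
  c11 : ⁅x1, y1⁆ = z
  c12 : ⁅x1, y2⁆ = 1
  c21 : ⁅x2, y1⁆ = 1
  c22 : ⁅x2, y2⁆ = z
  cy : ⁅y1, y2⁆ = 1
  s1 : y1 * y1 = 1
  s2 : y2 * y2 = 1

theorem eq_of_smul_v {u u' : G} (hu : u ∈ P.U) (hu' : u' ∈ P.U) (h : u • P.v = u' • P.v) : u = u' :=
  (inv_mul_eq_one.mp (eq_one_of_U (P.U.mul_mem (P.U.inv_mem hu') hu)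
    (by rw [mul_smul, h, inv_smul_smul]))).symm

theorem sign {z u : G} (hz : z ∈ P.U) (neg : ∀ x : V, z • x = -x) (hu : u ∈ P.U) (h : u ^ 2 = 1) :
    u = 1 ∨ u = z := by
  refine or_iff_not_imp_left.mpr fun h1 => eq_of_smul_v hu hz ?_
  rw [neg]
  refine eq_neg_of_add_eq_zero_left (P.fpf u hu h1 _ ?_)
  rw [smul_add, ← mul_smul, ← pow_two, h, one_smul, add_comm]

variable {z : G}

theorem Two.zz (h : P.Two z) : z * z = 1 :=
  eq_one_of_U (P.U.mul_mem h.hz h.hz) (by rw [mul_smul, h.neg, h.neg, neg_neg])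

theorem Two.ne (h : P.Two z) : z ≠ 1 := fun e => P.v0 (h.odd _ (by
  have := h.neg P.v
  rw [e, one_smul] at this
  rw [two_nsmul]; exact add_eq_zero_iff_eq_neg.mpr this))

theorem Two.comm (h : P.Two z) {f f' : G} (hf : f ∈ P.F) (hf' : f' ∈ P.F) :
    ⁅f, f'⁆ = 1 ∨ ⁅f, f'⁆ = z :=
  sign h.hz h.neg (P.comm _ hf _ hf') (by rw [← comm_pow_right hf hf', comm_U_right (h.sq _ hf') hf])

theorem Two.comm' (h : P.Two z) {f f' : G} (hf : f ∈ P.F) (hf' : f' ∈ P.F) :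
    ∃ a, ⁅f, f'⁆ = pw z a :=
  (h.comm hf hf').elim (fun e => ⟨false, e⟩) fun e => ⟨true, e⟩

theorem Two.symm (h : P.Two z) {f f' : G} (hf : f ∈ P.F) (hf' : f' ∈ P.F) : ⁅f', f⁆ = ⁅f, f'⁆ := by
  rw [← commutatorElement_inv]
  rcases h.comm hf hf' with e | e <;> rw [e]
  · exact inv_one
  · exact inv_eq_of_mul_eq_one_left h.zz

theorem Two.pw_smul (h : P.Two z) (a : Bool) (x : V) : pw z a • x = sg a x := by
  cases a
  · exact one_smul G x
  · exact h.neg x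

theorem Two.pw_mul (h : P.Two z) (a b : Bool) : pw z a * pw z (xor a b) = pw z b := by
  cases a <;> cases b <;> simp [pw, h.zz]

theorem B_sq (h : P.Two z) {b : G} (hb : b ∈ P.B) : b * b = 1 := by
  rw [← pow_two]; exact eq_one_of_U (h.sq b hb.1) (P.B.pow_mem hb 2).2

theorem B_comm {b b' : G} (hb : b ∈ P.B) (hb' : b' ∈ P.B) : ⁅b, b'⁆ = 1 :=
  commutatorElement_eq_one_iff_mul_comm.mpr ((B_le_D hb').2 b hb)

theorem Two.exists_pair (h : P.Two z) {a b : P.A} (ha : a ≠ 1) (hb : b ≠ 1) (hab : a ≠ b) :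
    ∃ x1 x2 y1 y2, P.Pair z x1 x2 y1 y2 := by
  have hD : ∀ f : P.F, P.π f ≠ 1 → ∃ x ∈ P.B, ⁅x, (f : G)⁆ = z := fun f hf => by
    by_contra hc
    push Not at hc
    exact hf (π_eq_one_iff.mpr ⟨f.2, fun x hx => commutatorElement_eq_one_iff_mul_comm.mp
      ((h.comm hx.1 f.2).resolve_right (hc x hx))⟩)
  -- dual elements of `B`
  have step1 : ∀ y1 y2 : P.F, P.π y2 ≠ 1 → ∀ x ∈ P.B, ⁅x, (y1 : G)⁆ = z → ⁅x, (y2 : G)⁆ = 1 →
      ∃ x' ∈ P.B, ⁅x', (y1 : G)⁆ = 1 ∧ ⁅x', (y2 : G)⁆ = z := by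
    intro y1 y2 h2 x hx e1 e2
    obtain ⟨x', hx', e⟩ := hD y2 h2
    rcases h.comm hx'.1 y1.2 with e' | e'
    · exact ⟨x', hx', e', e⟩
    · exact ⟨x * x', P.B.mul_mem hx hx', by rw [comm_mul_left hx.1 hx'.1 y1.2, e1, e', h.zz],
        by rw [comm_mul_left hx.1 hx'.1 y2.2, e2, e, one_mul]⟩
  obtain ⟨y1, rfl⟩ := π_surj a
  obtain ⟨y2, rfl⟩ := π_surj b
  obtain ⟨x1, hx1, x2, hx2, c11, c12, c21, c22⟩ : ∃ x1 ∈ P.B, ∃ x2 ∈ P.B, ⁅x1, (y1 : G)⁆ = z ∧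
      ⁅x1, (y2 : G)⁆ = 1 ∧ ⁅x2, (y1 : G)⁆ = 1 ∧ ⁅x2, (y2 : G)⁆ = z := by
    obtain ⟨x, hx, e⟩ := hD (y1 * y2) fun e => hab (by
      have h1 : P.π (y2 * y2) = 1 := π_eq_one_iff.mpr (U_le_D (by simpa [pow_two] using h.sq _ y2.2))
      rw [map_mul] at e h1
      exact mul_right_cancel (e.trans h1.symm))
    rw [Subgroup.coe_mul, comm_mul_right hx.1 y1.2 y2.2] at e
    rcases h.comm hx.1 y1.2 with e1 | e1
    · rw [e1, one_mul] at e
      obtain ⟨x', hx', e3, e4⟩ := step1 y2 y1 ha x hx e e1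
      exact ⟨x', hx', x, hx, e4, e3, e1, e⟩
    · rw [e1, mul_eq_left] at e
      obtain ⟨x', hx', e3, e4⟩ := step1 y1 y2 hb x hx e1 e
      exact ⟨x, hx, x', hx', e1, e, e3, e4⟩
  -- make `y1, y2` commute
  obtain ⟨y2, hy2, c12, c22, cy⟩ : ∃ y ∈ P.F, ⁅x1, y⁆ = 1 ∧ ⁅x2, y⁆ = z ∧ ⁅(y1 : G), y⁆ = 1 := by
    rcases h.comm y1.2 y2.2 with e | e
    · exact ⟨y2, y2.2, c12, c22, e⟩
    · refine ⟨x1 * y2, P.F.mul_mem hx1.1 y2.2, ?_, ?_, ?_⟩
      · rw [comm_mul_right hx1.1 hx1.1 y2.2, c12, B_comm hx1 hx1, one_mul]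
      · rw [comm_mul_right hx2.1 hx1.1 y2.2, c22, B_comm hx2 hx1, one_mul]
      · rw [comm_mul_right y1.2 hx1.1 y2.2, e, h.symm hx1.1 y1.2, c11, h.zz]
  -- make them involutions
  have step2 : ∀ x1 ∈ P.B, ∀ x2 ∈ P.B, ∀ y1 ∈ P.F, ∀ y2 ∈ P.F, ⁅x1, y1⁆ = z → ⁅x2, y1⁆ = 1 →
      ⁅x1, y2⁆ = 1 → ⁅y1, y2⁆ = 1 →
      ∃ y ∈ P.F, ⁅x1, y⁆ = z ∧ ⁅x2, y⁆ = 1 ∧ ⁅y, y2⁆ = 1 ∧ y * y = 1 := by
    intro x1 hx1 x2 hx2 y1 hy1 y2 hy2 c11 c21 c12 cy
    rcases sign h.hz h.neg (h.sq _ hy1) (by rw [← pow_mul]; exact h.four _ hy1) with e | e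
    · exact ⟨y1, hy1, c11, c21, cy, by rw [← pow_two, e]⟩
    · refine ⟨x1 * y1, P.F.mul_mem hx1.1 hy1, ?_, ?_, ?_, ?_⟩
      · rw [comm_mul_right hx1.1 hx1.1 hy1, c11, B_comm hx1 hx1, one_mul]
      · rw [comm_mul_right hx2.1 hx1.1 hy1, c21, B_comm hx2 hx1, one_mul]
      · rw [comm_mul_left hx1.1 hy1 hy2, c12, cy, one_mul]
      · rw [← pow_two, mul_pow' hx1.1 hy1, e, h.symm hx1.1 hy1, c11, pow_two, B_sq h hx1]
        simpa using h.zz
  obtain ⟨y1', hy1', c11', c21', cy', s1⟩ := step2 x1 hx1 x2 hx2 y1 y1.2 y2 hy2 c11 c21 c12 cy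
  obtain ⟨y2', hy2', c22', c12', cy'', s2⟩ := step2 x2 hx2 x1 hx1 y2 hy2 y1' hy1' c22 c12 c21'
    ((h.symm hy1' hy2).trans cy')
  exact ⟨x1, x2, y1', y2', hx1, hx2, hy1', hy2', c11', c12', c21', c22',
    (h.symm hy2' hy1').trans cy'', s1, s2⟩

variable {x1 x2 y1 y2 : G}

/-- the vector with given components in the four eigenspaces -/
def J (y1 y2 : G) : V × V × V × V →+ V where
  toFun w := w.1 + y1 • w.2.1 + y2 • w.2.2.1 + y1 • y2 • w.2.2.2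
  map_zero' := by simp
  map_add' a b := by simp only [Prod.fst_add, Prod.snd_add, smul_add]; abel

theorem J_apply (y1 y2 : G) (a b c d : V) :
    J y1 y2 (a, b, c, d) = a + y1 • b + y2 • c + y1 • y2 • d := rfl

theorem Two.smul_J (h : P.Two z) {d : G} {s t : Bool} (hs : ⁅d, y1⁆ = pw z s)
    (ht : ⁅d, y2⁆ = pw z t) (a b c e : V) :
    d • J y1 y2 (a, b, c, e) = J y1 y2 (d • a, sg s (d • b), sg t (d • c), sg s (sg t (d • e))) := by
  simp only [J_apply, smul_add, smul_smul_comm d y1, smul_smul_comm d y2, hs, ht, h.pw_smul]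
  cases s <;> cases t <;> simp [sg]

theorem Pair.y1_J (q : P.Pair z x1 x2 y1 y2) (a b c e : V) :
    y1 • J y1 y2 (a, b, c, e) = J y1 y2 (b, a, e, c) := by
  simp only [J_apply, smul_add, ← mul_smul y1 y1, q.s1, one_smul]; abel

theorem Pair.y2_J (q : P.Pair z x1 x2 y1 y2) (a b c e : V) :
    y2 • J y1 y2 (a, b, c, e) = J y1 y2 (c, e, a, b) := by
  have : ∀ x : V, y2 • y1 • x = y1 • y2 • x := fun x => by
    rw [smul_smul_comm y1, q.cy, one_smul]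
  simp only [J_apply, smul_add, this, ← mul_smul y2 y2, q.s2, one_smul]; abel

theorem Pair.J_inj (q : P.Pair z x1 x2 y1 y2) (h : P.Two z) {a b c e : V} (ha : a ∈ fixS V P.B)
    (hb : b ∈ fixS V P.B) (hc : c ∈ fixS V P.B) (he : e ∈ fixS V P.B)
    (h0 : J y1 y2 (a, b, c, e) = 0) : a = 0 ∧ b = 0 ∧ c = 0 ∧ e = 0 := by
  have h1 := h.smul_J (s := true) (t := false) q.c11 q.c12 a b c e
  have h2 := h.smul_J (s := false) (t := true) q.c21 q.c22 a b c e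
  have h3 := h.smul_J (s := true) (t := true) (d := x1 * x2)
    (by rw [comm_mul_left q.hx1.1 q.hx2.1 q.hy1, q.c11, q.c21, mul_one]; rfl)
    (by rw [comm_mul_left q.hx1.1 q.hx2.1 q.hy2, q.c12, q.c22, one_mul]; rfl) a b c e
  have hx := P.B.mul_mem q.hx1 q.hx2
  rw [h0, smul_zero] at h1 h2 h3
  simp only [ha _ q.hx1, hb _ q.hx1, hc _ q.hx1, he _ q.hx1, ha _ q.hx2, hb _ q.hx2, hc _ q.hx2,
    he _ q.hx2, ha _ hx, hb _ hx, hc _ hx, he _ hx, J_apply, sg, if_true, Bool.false_eq_true,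
    if_false, smul_neg, neg_neg] at h0 h1 h2 h3
  have h4 : ∀ x : V, 2 • 2 • x = 0 → x = 0 := fun x hx => h.odd _ (h.odd _ hx)
  rw [← smul_eq_zero_iff_eq y1 (x := b), ← smul_eq_zero_iff_eq y2 (x := c),
    ← smul_eq_zero_iff_eq y2 (x := e), ← smul_eq_zero_iff_eq y1 (x := y2 • e)]
  generalize y1 • b = b at *; generalize y2 • c = c at *; generalize y1 • y2 • e = e at *
  refine ⟨h4 _ ?_, h4 _ ?_, h4 _ ?_, h4 _ ?_⟩
  · linear_combination (norm := abel) h0 - h1 - h2 - h3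
  · linear_combination (norm := abel) h0 + h1 - h2 + h3
  · linear_combination (norm := abel) h0 - h1 + h2 + h3
  · linear_combination (norm := abel) h0 + h1 + h2 - h3

theorem Pair.comm_x (q : P.Pair z x1 x2 y1 y2) (s t : Bool) :
    ⁅pw x1 s * pw x2 t, y1⁆ = pw z s ∧ ⁅pw x1 s * pw x2 t, y2⁆ = pw z t := by
  cases s <;> cases t <;>
    simp [pw, q.c11, q.c12, q.c21, q.c22, comm_mul_left q.hx1.1 q.hx2.1 q.hy1,
      comm_mul_left q.hx1.1 q.hx2.1 q.hy2]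

theorem Pair.comm_y (q : P.Pair z x1 x2 y1 y2) (s t : Bool) :
    ⁅x1, pw y2 t * pw y1 s⁆ = pw z s ∧ ⁅x2, pw y2 t * pw y1 s⁆ = pw z t := by
  cases s <;> cases t <;>
    simp [pw, q.c11, q.c12, q.c21, q.c22, comm_mul_right q.hx1.1 q.hy2 q.hy1,
      comm_mul_right q.hx2.1 q.hy2 q.hy1]

/-- adjusting the commutators with `y1, y2` -/
theorem Pair.adj (q : P.Pair z x1 x2 y1 y2) (h : P.Two z) {f : G} (hf : f ∈ P.F) (s t : Bool) :
    ∃ a b, ⁅f * (pw x1 a * pw x2 b), y1⁆ = pw z s ∧ ⁅f * (pw x1 a * pw x2 b), y2⁆ = pw z t := by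
  obtain ⟨s', hs⟩ := h.comm' hf q.hy1
  obtain ⟨t', ht⟩ := h.comm' hf q.hy2
  have hx := P.F.mul_mem (pw_mem q.hx1.1 (xor s' s)) (pw_mem q.hx2.1 (xor t' t))
  exact ⟨xor s' s, xor t' t, by rw [comm_mul_left hf hx q.hy1, hs, (q.comm_x _ _).1, h.pw_mul],
    by rw [comm_mul_left hf hx q.hy2, ht, (q.comm_x _ _).2, h.pw_mul]⟩

theorem Pair.pw_J (q : P.Pair z x1 x2 y1 y2) {K M : Type} [AddCommGroup M] {act : K → M → M}
    {ι : M →+ V} (h : P.Two z) {d : G} {k : K} (hk : ∀ c, d • ι c = ι (act k c)) {s t : Bool}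
    (hs : ⁅d, y1⁆ = pw z s) (ht : ⁅d, y2⁆ = pw z t) (a b : Bool) (c : M × M × M × M) :
    (d * pw y1 a * pw y2 b) • J y1 y2 (ι.prodMap (ι.prodMap (ι.prodMap ι)) c) =
      J y1 y2 (ι.prodMap (ι.prodMap (ι.prodMap ι)) (dbl act (k, s, t, a, b) c)) := by
  have hsg : ∀ (a : Bool) (x : M), ι (sg a x) = sg a (ι x) := fun a x => by cases a <;> simp [sg]
  obtain ⟨c0, c1, c2, c3⟩ := c
  cases a <;> cases b <;>
    simp [pw, dbl, mul_smul, q.y1_J, q.y2_J, h.smul_J hs ht, hk, hsg]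

theorem Model.dbl [Finite G] {K M : Type} [AddCommGroup M] {act : K → M → M} {e : M} {ι : M →+ V}
    (m : P.Model act e ι) (h : P.Two z) {a b : P.A} (ha : a ≠ 1) (hb : b ≠ 1) (hab : a ≠ b) :
    ∃ (x : V) (hx : x ≠ 0) (ι' : M × M × M × M →+ V),
      (P.change x hx).Model (dbl act) (e, e, e, 0) ι' := by
  obtain ⟨x1, x2, y1, y2, q⟩ := h.exists_pair ha hb hab
  let ι' : M × M × M × M →+ V := (J y1 y2).comp (ι.prodMap (ι.prodMap (ι.prodMap ι)))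
  have hι : ∀ c0 c1 c2 c3, ι' (c0, c1, c2, c3) = J y1 y2 (ι c0, ι c1, ι c2, ι c3) := fun _ _ _ _ => rfl
  have hinj : Function.Injective ι' := (injective_iff_map_eq_zero _).mpr fun ⟨c0, c1, c2, c3⟩ hc => by
    obtain ⟨h0, h1, h2, h3⟩ := q.J_inj h (m.fix c0) (m.fix c1) (m.fix c2) (m.fix c3) hc
    rw [map_eq_zero_iff ι m.inj] at h0 h1 h2 h3
    rw [h0, h1, h2, h3]; rfl
  have he : e ≠ 0 := fun h0 => P.v0 (by rw [← m.v, h0, map_zero])
  have hx : ι' (e, e, e, 0) ≠ 0 := fun h0 => he (congrArg Prod.fst ((map_eq_zero_iff ι' hinj).mp h0))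
  let B0 : Subgroup G := P.B ⊓ Subgroup.centralizer {y1, y2}
  have hB0 : ∀ b, b ∈ B0 ↔ b ∈ P.B ∧ ⁅b, y1⁆ = 1 ∧ ⁅b, y2⁆ = 1 := fun b => by
    simp only [B0, Subgroup.mem_inf, Subgroup.mem_centralizer_iff, Set.mem_insert_iff,
      Set.mem_singleton_iff, forall_eq_or_imp, forall_eq, commutatorElement_eq_one_iff_mul_comm]
    exact and_congr Iff.rfl (and_congr eq_comm eq_comm)
  have hfix : ∀ b ∈ B0, ∀ c, b • ι' c = ι' c := fun b hb ⟨c0, c1, c2, c3⟩ => by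
    obtain ⟨h1, h2, h3⟩ := (hB0 b).mp hb
    rw [hι, h.smul_J (s := false) (t := false) h2 h3, m.fix _ b h1, m.fix _ b h1, m.fix _ b h1,
      m.fix _ b h1]
    rfl
  have hdec : ∀ f ∈ P.F, (∀ b ∈ B0, b * f = f * b) →
      ∃ d ∈ P.D, ∃ a b, f = d * pw y1 a * pw y2 b := by
    intro f hf hc
    obtain ⟨s, hs⟩ := h.comm' q.hx1.1 hf
    obtain ⟨t, ht⟩ := h.comm' q.hx2.1 hf
    have hy := P.F.mul_mem (pw_mem q.hy2 t) (pw_mem q.hy1 s)
    have hzz : ∀ s, pw z s * pw z s = 1 := fun s => by cases s <;> simp [pw, h.zz]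
    refine ⟨f * (pw y2 t * pw y1 s), ⟨P.F.mul_mem hf hy, fun b hb => ?_⟩, s, t, ?_⟩
    · obtain ⟨a1, a2, e1, e2⟩ := q.adj h hb.1 false false
      have hxB := P.B.mul_mem (pw_mem q.hx1 a1) (pw_mem q.hx2 a2)
      have hb0 := (hB0 _).mpr ⟨P.B.mul_mem hb hxB, e1, e2⟩
      have c1 : Commute (b * (pw x1 a1 * pw x2 a2)) (f * (pw y2 t * pw y1 s)) :=
        Commute.mul_right (hc _ hb0) ((Subgroup.centralizer {b * (pw x1 a1 * pw x2 a2)}).mul_mem
          (pw_mem (Subgroup.mem_centralizer_singleton_iff.mpr (hb0.2 y2 (by simp))) t)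
          (pw_mem (Subgroup.mem_centralizer_singleton_iff.mpr (hb0.2 y1 (by simp))) s) _ rfl)
      have c2 : Commute x1 (f * (pw y2 t * pw y1 s)) := commutatorElement_eq_one_iff_mul_comm.mp
        (by rw [comm_mul_right q.hx1.1 hf hy, hs, (q.comm_y s t).1, hzz])
      have c3 : Commute x2 (f * (pw y2 t * pw y1 s)) := commutatorElement_eq_one_iff_mul_comm.mp
        (by rw [comm_mul_right q.hx2.1 hf hy, ht, (q.comm_y s t).2, hzz])
      have c4 : Commute (pw x1 a1 * pw x2 a2) (f * (pw y2 t * pw y1 s)) := by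
        refine Commute.mul_left ?_ ?_
        · cases a1; exacts [Commute.one_left _, c2]
        · cases a2; exacts [Commute.one_left _, c3]
      simpa only [mul_inv_cancel_right] using (c1.mul_left c4.inv_left).eq
    · cases s <;> cases t <;> simp [pw, mul_assoc, q.s1, q.s2]
  have hact : ∀ f ∈ P.F, (∀ b ∈ B0, b * f = f * b) → ∃ d ∈ P.D, ∃ k s t a b,
      f = d * pw y1 a * pw y2 b ∧ (∀ c, d • ι c = ι (act k c)) ∧ ⁅d, y1⁆ = pw z s ∧
      ⁅d, y2⁆ = pw z t ∧ ∀ c, f • ι' c = ι' (BS.dbl act (k, s, t, a, b) c) := by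
    intro f hf hc
    obtain ⟨d, hd, a, b, rfl⟩ := hdec f hf hc
    obtain ⟨k, hk⟩ := m.ex d hd
    obtain ⟨s, hs⟩ := h.comm' hd.1 q.hy1
    obtain ⟨t, ht⟩ := h.comm' hd.1 q.hy2
    exact ⟨d, hd, k, s, t, a, b, rfl, hk, hs, ht, q.pw_J h hk hs ht a b⟩
  have hB : (P.change _ hx).B = B0 := by
    refine le_antisymm (fun f hf => ?_) fun b hb => ⟨hb.1.1, hfix b hb _⟩
    obtain ⟨d, hd, k, s, t, a, b, rfl, hk, hs, ht, h1⟩ := hact f hf.1 fun b hb =>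
      commutatorElement_eq_one_iff_mul_comm.mp ((h.comm hb.1.1 hf.1).resolve_right fun e0 => by
        have h1 := smul_smul_comm b f (ι' (e, e, e, 0))
        have h2 : f • ι' (e, e, e, 0) = ι' (e, e, e, 0) := hf.2
        rw [h2, hfix b hb, h2, e0, h.neg] at h1
        exact hx (h.odd _ (by rw [two_nsmul]; exact add_eq_zero_iff_eq_neg.mpr h1)))
    have h2 := hinj ((h1 _).symm.trans hf.2)
    have h3 : act k 0 = 0 := m.inj (by rw [← hk, map_zero, smul_zero])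
    have h4 : ∀ s, sg s (0 : M) = 0 := fun s => by cases s <;> simp [sg]
    have h5 : ∀ s, sg s e = e → s = false := fun s hs => by
      cases s
      · rfl
      · refine absurd (h.odd _ ?_) P.v0
        rw [← m.v, two_nsmul, ← map_add, add_eq_zero_iff_eq_neg.mpr hs.symm, map_zero]
    cases a <;> cases b <;>
      simp only [BS.dbl, h3, h4, Prod.mk.injEq, Bool.false_eq_true, if_false, if_true] at h2
    · obtain ⟨e1, e2, e3, -⟩ := h2
      rw [e1] at e2 e3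
      rw [h5 s e2] at hs
      rw [h5 t e3] at ht
      refine (hB0 _).mpr (by
        simp only [pw, Bool.false_eq_true, if_false, mul_one]
        exact ⟨⟨hd.1, by show d • P.v = P.v; rw [← m.v, hk, e1]⟩, hs, ht⟩)
    · exact absurd h2.2.1.symm he
    · exact absurd h2.2.2.1.symm he
    · exact absurd h2.1.symm he
  have hD : ∀ f, f ∈ (P.change _ hx).D ↔ f ∈ P.F ∧ ∀ b ∈ B0, b * f = f * b := fun f => by
    rw [mem_D, hB]; rfl
  refine ⟨_, hx, ι', hinj, fun c => hB ▸ fun b hb => hfix b hb c, rfl, fun f hf => ?_,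
    fun ⟨k, s, t, a, b⟩ => ?_⟩
  · obtain ⟨d, hd, k, s, t, a, b, -, -, -, -, h1⟩ := hact f hf.1 ((hD f).mp hf).2
    exact ⟨_, h1⟩
  · obtain ⟨d, hd, hk⟩ := m.ex' k
    obtain ⟨a1, a2, e1, e2⟩ := q.adj h hd.1 s t
    have hxB := P.B.mul_mem (pw_mem q.hx1 a1) (pw_mem q.hx2 a2)
    have hd' := P.D.mul_mem hd (B_le_D hxB)
    refine ⟨_, ?_, q.pw_J h (fun c => by rw [mul_smul, m.fix c _ hxB, hk]) e1 e2 a b⟩
    refine Subgroup.mul_mem _ (Subgroup.mul_mem _ ((hD _).mpr ⟨hd'.1, fun b hb => hd'.2 b hb.1⟩)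
      (pw_mem ((hD _).mpr ⟨q.hy1, fun b hb => (hb.2 y1 (by simp)).symm⟩) a))
      (pw_mem ((hD _).mpr ⟨q.hy2, fun b hb => (hb.2 y2 (by simp)).symm⟩) b)

end Pre

end Cfsg.Agent.FG.BS
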