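import Mathlib
import Cfsg.Agent.FG.BaseModel

/-! The finite computations in the blocks over the fields of order three and five. -/

set_option autoImplicit false

namespace Cfsg.Agent.FG.BS

variable {G : Type*} {V : Type*} [Group G] [AddCommGroup V] [DistribMulAction G V]

set_option synthInstance.maxSize 1000 in
theorem three_key : ∀ a : Fin 3 → Fin 3, (∀ i j, a i = a j → i = j) → a 0 ≠ 0 →
    (a 0 ≠ 0 → a (a (a 0)) ≠ 0) → ∀ b : Fin 3 → Fin 3, (∀ i j, b i = b j → i = j) → b 1 ≠ 1 →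
    (b 0 ≠ 0 → b (b (b 0)) ≠ 0) → (a (b 0) ≠ 0 → a (b (a (b (a (b 0))))) ≠ 0) →
    ∀ c : Fin 3 → Fin 3, (∀ i j, c i = c j → i = j) → c 2 ≠ 2 → (c 0 ≠ 0 → c (c (c 0)) ≠ 0) →
    (a (c 0) ≠ 0 → a (c (a (c (a (c 0))))) ≠ 0) → False := by decide +kernel

/-- a `3'`-group permuting blocks of size three has an invariant transversal -/
theorem exists_transversal {Γ Y I : Type*} [Group Γ] [MulAction Γ Y] {n : ℕ} (hn : ¬ 3 ∣ n)
    (hΓ : ∀ g : Γ, g ^ n = 1) (ax : I → Fin 3 → Y)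
    (hinj : ∀ s i s' i', ax s i = ax s' i' → s = s' ∧ i = i')
    (h : ∀ (g : Γ) s, ∃ s', ∀ i, ∃ i', g • ax s i = ax s' i') :
    ∃ c : I → Fin 3, ∀ (g : Γ) s, ∃ s', g • ax s (c s) = ax s' (c s') := by
  classical
  choose b f hf using h
  have hb : ∀ (g : Γ) s i s' i', g • ax s i = ax s' i' → b g s = s' := fun g s i s' i' e =>
    (hinj _ _ _ _ ((hf g s i).symm.trans e)).1
  have hfix : ∀ s, ∃ i, ∀ (g : Γ) i', g • ax s i = ax s i' → i' = i := fun s => by
    by_contra hc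
    push Not at hc
    choose g j hg hj using hc
    have h1 : ∀ i i', g i • ax s i' = ax s (f (g i) s i') := fun i i' => by
      rw [hf, hb _ _ _ _ _ (hg i)]
    have h2 : ∀ i, f (g i) s i ≠ i := fun i e =>
      hj i ((hinj _ _ _ _ ((hg i).symm.trans (h1 i i))).2.trans e)
    have h3 : ∀ i, Function.Injective (f (g i) s) := fun i a a' e =>
      (hinj s a s a' (MulAction.injective (g i) (show g i • _ = g i • _ by rw [h1, h1, e]))).2
    have h4 : ∀ (x : Γ) (φ : Fin 3 → Fin 3), (∀ i, x • ax s i = ax s (φ i)) →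
        φ 0 ≠ 0 → φ (φ (φ 0)) ≠ 0 := fun x φ hφ e1 e2 =>
      hn (three_dvd_of_cycle (hΓ x) (x := ax s 0) (fun e => e1 (hinj _ _ _ _ ((hφ 0).symm.trans e)).2)
        (by rw [hφ, hφ, hφ, e2]))
    exact three_key _ (h3 0) (h2 0) (h4 _ _ (h1 0)) _ (h3 1) (h2 1) (h4 _ _ (h1 1))
      (h4 (g 0 * g 1) (fun i => f (g 0) s (f (g 1) s i)) fun i => by rw [mul_smul, h1, h1])
      _ (h3 2) (h2 2) (h4 _ _ (h1 2))
      (h4 (g 0 * g 2) (fun i => f (g 0) s (f (g 2) s i)) fun i => by rw [mul_smul, h1, h1])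
  choose c hc using hfix
  let R : I → I → Prop := fun s s' => ∃ g : Γ, b g s = s'
  have hR : ∀ s, ∃ r, R r s := fun s => ⟨s, 1, hb 1 s 0 s 0 (one_smul _ _)⟩
  have hR' : ∀ (g : Γ) s, (fun r => R r (b g s)) = fun r => R r s := fun g s => by
    ext r
    constructor
    · rintro ⟨x, hx⟩
      obtain ⟨i, hi⟩ : ∃ i, g • ax s i = ax (b g s) (f x r 0) := by
        have e := hf g⁻¹ (b g s) (f x r 0)
        rw [hb g⁻¹ (b g s) (f g s 0) s 0 (by rw [← hf, inv_smul_smul])] at e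
        exact ⟨_, by rw [← e, smul_inv_smul]⟩
      exact ⟨g⁻¹ * x, hb _ _ 0 _ i (by rw [mul_smul, hf, hx, ← hi, inv_smul_smul])⟩
    · rintro ⟨x, rfl⟩
      exact ⟨g * x, hb _ _ 0 _ _ (by rw [mul_smul, hf, hf])⟩
  let r : I → I := fun s => (hR s).choose
  have hr : ∀ (g : Γ) s, r (b g s) = r s := fun g s => by simp only [r, hR']
  choose γ hγ using fun s => (hR s).choose_spec
  have hγ' : ∀ s i, γ s • ax (r s) i = ax s (f (γ s) (r s) i) := fun s i => by rw [hf, hγ]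
  refine ⟨fun s => f (γ s) (r s) (c (r s)), fun g s => ⟨b g s, ?_⟩⟩
  have h1 := hf ((γ (b g s))⁻¹ * g * γ s) (r s) (c (r s))
  have h2 : b ((γ (b g s))⁻¹ * g * γ s) (r s) = r s := by
    have e := hf (γ (b g s))⁻¹ (b g s) (f g s (f (γ s) (r s) 0))
    rw [hb (γ (b g s))⁻¹ (b g s) _ (r (b g s)) 0 (by rw [← hγ', inv_smul_smul]), hr] at e
    exact hb _ _ 0 _ _ (by rw [mul_smul, mul_smul, hγ', hf, e])
  rw [h2] at h1
  rw [hc _ _ _ h1, mul_smul, mul_smul, inv_smul_eq_iff] at h1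
  rw [← hγ', ← hγ', h1, hr]

/-- equality up to sign -/
def PM {M : Type} [Neg M] (a b : M) : Prop := a = b ∨ a = -b

instance {M : Type} [Neg M] [DecidableEq M] (a b : M) : Decidable (PM a b) :=
  inferInstanceAs (Decidable (a = b ∨ a = -b))

/-- the three axes in the plane spanned by `e` and `x` -/
def axis {M : Type} [Add M] [Neg M] (e x : M) (i : Fin 3) : M :=
  if i = 0 then x else if i = 1 then e + x else e + -x

namespace Pre

variable {P : Pre G V} {K M : Type} [AddCommGroup M] {act : K → M → M} {e : M} {ι : M →+ V}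

theorem Model.conj (m : P.Model act e ι) {g : G} (hg : g • P.v = P.v) (k : K) :
    ∃ k', ∀ c c', g • ι c = ι c' → g • ι (act k c) = ι (act k' c') := by
  obtain ⟨d, hd, hk⟩ := m.ex' k
  obtain ⟨k', hk'⟩ := m.ex _ (conj_mem_D hg hd)
  exact ⟨k', fun c c' h => by rw [← hk, ← hk', ← h, ← mul_smul, ← mul_smul, inv_mul_cancel_right]⟩

theorem Model.fix_e (m : P.Model act e ι) {g : G} (hg : g • P.v = P.v) : g • ι e = ι e := by
  rw [m.v, hg]

theorem Model.pin (m : P.Model act e ι) {g : G} (hg : g • P.v = P.v) {t t' x z : M}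
    (ht : g • ι t = ι t') (hx : g • ι x = ι x) (hz : g • ι z = ι z) (h : ∃ l, z = t + act l x) :
    ∃ l, z = t' + act l x := by
  obtain ⟨l, h⟩ := h
  obtain ⟨l', hl⟩ := m.conj hg l
  refine ⟨l', m.inj ?_⟩
  rw [← hz, map_add, ← ht, ← hl x x hx, ← smul_add, ← map_add, ← h]

theorem Model.base [Finite G] [Finite V] (m : P.Model act e ι) {w0 : V} (h0 : P.Zero w0) {γ : Type}
    (y : γ → M) (hy : ∀ c, ∃ k k', y c = act k e + act k' e) (hy0 : ∀ c, y c ≠ 0)
    (hsep : ∀ k c c', act k (y c) = y c' → c = c') {R : Set γ}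
    (hreg : ∀ c ∈ R, ∀ k, act k (y c) = y c → act k e = e) (hcol : Col P.A P.Φ γ R) :
    ∃ w : V, ∀ g : G, g • P.v = P.v → g • w = w → g = 1 := by
  obtain ⟨χ, N, h1, h2, h3, h4⟩ := hcol
  have h5 : ∀ k, ι (act k e) ∈ AddSubgroup.closure {x | ∃ d ∈ P.D, x = d • P.v} := fun k => by
    obtain ⟨d, hd, hk⟩ := m.ex' k
    exact AddSubgroup.subset_closure ⟨d, hd, by rw [← hk, m.v]⟩
  refine base_of_colours h0 (fun c => ι (y c)) (fun c => ?_)
    (fun c h => hy0 c ((map_eq_zero_iff ι m.inj).mp h)) (fun d hd c c' h => ?_) R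
    (fun c hc d hd h => ?_) χ N h1 (small_of_four h2) h3 fun g hg => h4 _ ⟨g, hg, rfl⟩
  · obtain ⟨k, k', h⟩ := hy c
    rw [h, map_add]
    exact AddSubgroup.add_mem _ (h5 k) (h5 k')
  · obtain ⟨k, hk⟩ := m.ex d hd
    exact hsep k c c' (m.inj ((hk _).symm.trans h))
  · obtain ⟨k, hk⟩ := m.ex d hd
    exact ⟨hd.1, by
      show d • P.v = P.v
      rw [← m.v, hk, hreg c hc k (m.inj ((hk _).symm.trans h))]⟩

theorem Model.zero_three [Finite G] (m : P.Model act e ι) (h3 : ¬ 3 ∣ Nat.card G) {I : Type}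
    (kk : I → Fin 3 → K) (ng : K → K) (W : (I → K) → M)
    (hW : ∀ (g : G) (k k' : I → K), g • ι e = ι e →
      (∀ s c c', g • ι c = ι c' → g • ι (act (k s) c) = ι (act (k' s) c')) → g • ι (W k) = ι (W k'))
    (F1 : ∀ k k', act k e = act k' e → k = k') (F1' : ∀ k, act (ng k) e = -act k e)
    (F2 : ∀ k, (∃ l, e + act k e = act l e) → act k e ≠ e →
      ∃ s, ∀ i, ∃ i', PM (axis e (act k e) i) (act (kk s i') e))
    (F3 : ∀ s, (∃ l, e + act (kk s 0) e = act l e) ∧ act (kk s 0) e ≠ e ∧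
      ∀ i, act (kk s i) e = axis e (act (kk s 0) e) i)
    (F4 : ∀ s i s' i', PM (act (kk s i) e) (act (kk s' i') e) → s = s' ∧ i = i')
    (F5 : ∀ (c : I → Fin 3) (σ : I → I) (ε : I → Bool),
      W (fun s => if ε s then ng (kk (σ s) (c (σ s))) else kk (σ s) (c (σ s))) =
        W (fun s => kk s (c s)) → ∀ s, ε s = false ∧ σ s = s)
    (F6 : ∀ s i i', ∃ j, PM (act (kk s i') e) (axis e (act (kk s i) e) j))
    (F7 : ∀ Q : M → Prop, Q e → (∀ c, Q c → Q (-c)) → (∀ s i c, Q c → Q (act (kk s i) c)) →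
      ∀ k, Q (act k e)) : ∃ w, P.Zero w := by
  classical
  have hax : ∀ (g : G) (x x' : M), g • P.v = P.v → g • ι x = ι x' → ∀ i,
      g • ι (axis e x i) = ι (axis e x' i) := fun g x x' hg h i => by
    fin_cases i <;> simp [axis, h, m.fix_e hg]
  open Pointwise in
  obtain ⟨c, hc⟩ := exists_transversal (Γ := MulAction.stabilizer G P.v) (Y := Set V) h3
    (fun g => Subtype.ext pow_card_eq_one') (fun s i => {ι (act (kk s i) e), -ι (act (kk s i) e)})
    (fun s i s' i' h => F4 s i s' i' (by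
      have : ι (act (kk s i) e) ∈ ({ι (act (kk s' i') e), -ι (act (kk s' i') e)} : Set V) :=
        h ▸ Set.mem_insert _ _
      rw [← map_neg] at this
      exact this.imp (fun h => m.inj h) fun h => m.inj h))
    fun g s => by
      obtain ⟨k, hk⟩ := m.conj g.2 (kk s 0)
      have h1 := hk e e (m.fix_e g.2)
      obtain ⟨⟨l, hl⟩, h2, h4⟩ := F3 s
      obtain ⟨l', hl'⟩ := m.conj g.2 l
      obtain ⟨s', hs⟩ := F2 k ⟨l', m.inj (by
        rw [← hl' e e (m.fix_e g.2), ← hl, map_add, map_add, smul_add, h1, m.fix_e g.2])⟩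
        fun h => h2 (m.inj (MulAction.injective (g : G) (by
          show (g : G) • _ = (g : G) • _
          rw [h1, h, m.fix_e g.2])))
      refine ⟨s', fun i => ?_⟩
      obtain ⟨i', hi⟩ := hs i
      refine ⟨i', ?_⟩
      have h5 := hax g _ _ g.2 h1 i
      rw [← h4] at h5
      rw [Set.smul_set_insert, Set.smul_set_singleton, smul_neg, Subgroup.smul_def, h5]
      rcases hi with h | h <;> rw [h]
      rw [map_neg, neg_neg, Set.pair_comm]
  refine ⟨ι (W fun s => kk s (c s)), m.fix _, fun g hg hw d hd => ?_⟩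
  choose k' hk' using fun s => m.conj hg (kk s (c s))
  choose σ hσ using hc ⟨g, hg⟩
  have h1 : ∀ s, ∃ ε : Bool, k' s = if ε then ng (kk (σ s) (c (σ s))) else kk (σ s) (c (σ s)) :=
    fun s => by
      have h2 : g • ι (act (kk s (c s)) e) ∈ ({ι (act (kk (σ s) (c (σ s))) e),
          -ι (act (kk (σ s) (c (σ s))) e)} : Set V) := by
        rw [← hσ s]; exact Set.smul_mem_smul_set (Set.mem_insert _ _)
      rw [hk' s e e (m.fix_e hg), ← map_neg, ← F1'] at h2
      exact h2.elim (fun h => ⟨false, F1 _ _ (m.inj h)⟩) fun h => ⟨true, F1 _ _ (m.inj h)⟩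
  choose ε hε using h1
  have h2 := F5 c σ ε (by
    rw [← funext hε]
    exact m.inj ((hW g _ _ (m.fix_e hg) hk').symm.trans hw))
  have h4 : ∀ s i, g • ι (act (kk s i) e) = ι (act (kk s i) e) := fun s i => by
    have h5 := hk' s e e (m.fix_e hg)
    rw [hε, (h2 s).1, (h2 s).2] at h5
    obtain ⟨j, hj⟩ := F6 s (c s) i
    have h6 := hax g _ _ hg h5 j
    rcases hj with h | h <;> rw [h]
    · exact h6
    · rw [map_neg, smul_neg]; exact congrArg _ h6
  obtain ⟨k, hk⟩ := m.ex d hd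
  rw [← m.v, hk]
  refine F7 (fun c => g • ι c = ι c) (m.fix_e hg) (fun c h => by rw [map_neg, smul_neg, h])
    (fun s i c h => ?_) k
  obtain ⟨l, hl⟩ := m.conj hg (kk s i)
  rw [hl c c h, F1 _ _ (m.inj ((hl e e (m.fix_e hg)).symm.trans (h4 s i)))]

end Pre

end Cfsg.Agent.FG.BS
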