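import Mathlib
import Cfsg.Agent.FG.BaseFin

/-! The three explicit blocks. -/

set_option autoImplicit false
set_option synthInstance.maxSize 2000

namespace Cfsg.Agent.FG.BS

variable {G : Type*} {V : Type*} [Group G] [AddCommGroup V] [DistribMulAction G V]

/-- the scalars of the field of order three -/
def act3 (k : Bool) (c : ZMod 3) : ZMod 3 := sg k c

/-- the scalars of the field of order five -/
def act5 (k : Fin 4) (c : ZMod 5) : ZMod 5 := ((k.val + 1 : ℕ) : ZMod 5) * c

/-- the quaternion group acting on the plane over the field of order three -/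
def actq (k : Bool × Fin 4) (c : ZMod 3 × ZMod 3) : ZMod 3 × ZMod 3 :=
  sg k.1 (if k.2 = 0 then c else if k.2 = 1 then (-c.2, c.1) else
    if k.2 = 2 then (c.1 + c.2, c.1 - c.2) else (c.2 - c.1, c.1 + c.2))

/-- elements of order four in the quaternion factors, plus type -/
def kk3 : Fin 2 → Fin 3 → Bool × Bool × Bool × Bool × Bool :=
  ![![(false, false, true, false, true), (true, true, true, true, false),
      (true, true, false, true, true)],
    ![(false, false, true, true, true), (false, true, false, true, false),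
      (false, true, true, false, true)]]

/-- elements of order four in the quaternion factors, minus type -/
def kkq : Fin 3 → Fin 3 → (Bool × Fin 4) × Bool × Bool × Bool × Bool :=
  ![![((false, 0), false, true, false, true), ((true, 0), true, true, true, false),
      ((true, 0), true, false, true, true)],
    ![((false, 0), false, true, true, true), ((false, 0), true, false, true, false),
      ((false, 0), true, true, false, true)],
    ![((false, 1), false, false, false, false), ((false, 2), false, false, false, false),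
      ((true, 3), false, false, false, false)]]

/-- an optional application -/
def oapp {K M : Type} (act : K → M → M) (k : Fin 3 → K) (o : Option (Fin 3)) (c : M) : M :=
  o.elim c fun i => act (k i) c

theorem oapp_ind {K M : Type} {act : K → M → M} {k : Fin 3 → K} {Q : M → Prop}
    (h : ∀ i c, Q c → Q (act (k i) c)) (o : Option (Fin 3)) {c : M} (hc : Q c) :
    Q (oapp act k o c) := by
  cases o
  · exact hc
  · exact h _ _ hc

theorem sg_ind {M : Type} [Neg M] {Q : M → Prop} (h : ∀ c, Q c → Q (-c)) (a : Bool) {c : M}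
    (hc : Q c) : Q (sg a c) := by
  cases a
  · exact hc
  · exact h _ hc

namespace Pre

variable {P : Pre G V}

theorem block_plus [Finite G] [Finite V] {ι : ZMod 3 × ZMod 3 × ZMod 3 × ZMod 3 →+ V}
    (m : P.Model (dbl act3) (1, 1, 1, 0) ι) (h3 : ¬ 3 ∣ Nat.card G)
    (hcol : Col P.A P.Φ Bool {false}) : ∃ w : V, ∀ g : G, g • P.v = P.v → g • w = w → g = 1 := by
  obtain ⟨w, hw⟩ := m.zero_three h3 kk3 (fun k => (!k.1, k.2))
    (fun k => dbl act3 (k 0) (1, 1, 1, 0) + dbl act3 (k 0) (dbl act3 (k 1) (1, 1, 1, 0)))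
    (fun g k k' he h => by
      rw [map_add, map_add, smul_add, h 0 _ _ he, h 0 _ _ (h 1 _ _ he)])
    (by decide +kernel) (by decide +kernel) (by decide +kernel) (by decide +kernel)
    (by decide +kernel) (by decide +kernel) (by decide +kernel) fun Q h1 h2 h3 k => by
      obtain ⟨a, o, o', h⟩ : ∃ a o o', dbl act3 k (1, 1, 1, 0) = sg a (oapp (dbl act3) (kk3 0) o
          (oapp (dbl act3) (kk3 1) o' (1, 1, 1, 0))) := by revert k; decide +kernel
      rw [h]
      exact sg_ind h2 a (oapp_ind (h3 0) o (oapp_ind (h3 1) o' h1))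
  exact m.base hw (fun c => if c then (2, 1, 2, 1) else (1, 1, 1, 0)) (by decide +kernel)
    (by decide +kernel) (by decide +kernel) (fun c hc k h => by rw [hc] at h; exact h) hcol

theorem block_minus [Finite G] [Finite V]
    {ι : (ZMod 3 × ZMod 3) × (ZMod 3 × ZMod 3) × (ZMod 3 × ZMod 3) × (ZMod 3 × ZMod 3) →+ V}
    (m : P.Model (dbl actq) ((1, 0), (1, 0), (1, 0), 0) ι) (h3 : ¬ 3 ∣ Nat.card G)
    (hcol : Col P.A P.Φ Bool {false}) : ∃ w : V, ∀ g : G, g • P.v = P.v → g • w = w → g = 1 := by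
  obtain ⟨w, hw⟩ := m.zero_three h3 kkq (fun k => ((!k.1.1, k.1.2), k.2))
    (fun k => dbl actq (k 0) ((1, 0), (1, 0), (1, 0), 0) + dbl actq (k 2) ((1, 0), (1, 0), (1, 0), 0)
      + dbl actq (k 0) (dbl actq (k 1) ((1, 0), (1, 0), (1, 0), 0)))
    (fun g k k' he h => by
      rw [map_add, map_add, map_add, map_add, smul_add, smul_add, h 0 _ _ he, h 2 _ _ he,
        h 0 _ _ (h 1 _ _ he)])
    (by decide +kernel) (by decide +kernel) (by decide +kernel) (by decide +kernel)
    (by decide +kernel) (by decide +kernel) (by decide +kernel) fun Q h1 h2 h3 k => by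
      obtain ⟨a, o, o', o'', h⟩ : ∃ a o o' o'', dbl actq k ((1, 0), (1, 0), (1, 0), 0) =
          sg a (oapp (dbl actq) (kkq 0) o (oapp (dbl actq) (kkq 1) o'
            (oapp (dbl actq) (kkq 2) o'' ((1, 0), (1, 0), (1, 0), 0)))) := by
        revert k; decide +kernel
      rw [h]
      exact sg_ind h2 a (oapp_ind (h3 0) o (oapp_ind (h3 1) o' (oapp_ind (h3 2) o'' h1)))
  exact m.base hw (fun c => if c then ((2, 0), (1, 0), (2, 0), (1, 0)) else ((1, 0), (1, 0), (1, 0), 0))
    (by decide +kernel) (by decide +kernel) (by decide +kernel)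
    (fun c hc k h => by rw [hc] at h; exact h) hcol

theorem block_five [Finite G] [Finite V] {ι : ZMod 5 × ZMod 5 × ZMod 5 × ZMod 5 →+ V}
    (m : P.Model (dbl act5) (1, 1, 1, 0) ι) (hcol : Col P.A P.Φ (Fin 3) Set.univ) :
    ∃ w : V, ∀ g : G, g • P.v = P.v → g • w = w → g = 1 := by
  refine m.base (w0 := ι (0, 1, 2, 2)) ⟨m.fix _, fun g hg hw d hd => ?_⟩
    ![(1, 1, 1, 0), (0, 1, 2, 2), (1, 1, 1, 2)] (by decide +kernel) (by decide +kernel)
    (by decide +kernel) (fun c _ => by revert c; decide +kernel) hcol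
  let Q : AddSubgroup (ZMod 5 × ZMod 5 × ZMod 5 × ZMod 5) :=
    (fixS V (Subgroup.zpowers g)).comap ι
  have hQ : ∀ c, c ∈ Q ↔ g • ι c = ι c := fun c => ⟨fun h => h g (Subgroup.mem_zpowers g),
    fun h x hx => Subgroup.zpowers_le (H := MulAction.stabilizer G (ι c)).mpr h hx⟩
  have hv : (1, 1, 1, 0) ∈ Q := (hQ _).mpr (m.fix_e hg)
  have hw' : (0, 1, 2, 2) ∈ Q := (hQ _).mpr hw
  have hs : ∀ a b : ℕ, g • ι (a • (1, 1, 1, 0) + b • (0, 1, 2, 2)) =
      ι (a • (1, 1, 1, 0) + b • (0, 1, 2, 2)) := fun a b =>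
    (hQ _).mp (Q.add_mem (Q.nsmul_mem hv a) (Q.nsmul_mem hw' b))
  have h1 : (1, 1, 0, 1) ∈ Q := by
    obtain ⟨k, hk⟩ := m.conj hg (0, false, false, true, false)
    have h1 := hk _ _ (m.fix_e hg)
    have h2 := m.pin hg h1 hw (hs 2 3) (by decide +kernel)
    have h3 := m.pin hg h1 hw (hs 3 1) (by decide +kernel)
    have h4 : dbl act5 k (1, 1, 1, 0) = (1, 1, 0, 1) := by
      clear hk h1; revert k; decide +kernel
    rw [h4] at h1
    exact (hQ _).mpr h1
  have h2 : (1, 1, 4, 0) ∈ Q := by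
    obtain ⟨k, hk⟩ := m.conj hg (0, false, true, false, false)
    have h1 := hk _ _ (m.fix_e hg)
    have h2 := m.pin hg h1 hw (hs 0 1) (by decide +kernel)
    have h3 := m.pin hg h1 hw (hs 1 2) (by decide +kernel)
    have h4 : dbl act5 k (1, 1, 1, 0) = (1, 1, 4, 0) := by
      clear hk h1; revert k; decide +kernel
    rw [h4] at h1
    exact (hQ _).mpr h1
  have h3 : ∀ a b c d : ℕ, a • (1, 1, 1, 0) + b • (0, 1, 2, 2) + c • (1, 1, 0, 1) + d • (1, 1, 4, 0) ∈ Q :=
    fun a b c d => Q.add_mem (Q.add_mem (Q.add_mem (Q.nsmul_mem hv a) (Q.nsmul_mem hw' b))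
      (Q.nsmul_mem h1 c)) (Q.nsmul_mem h2 d)
  obtain ⟨k, hk⟩ := m.ex d hd
  rw [← m.v, hk, ← hQ]
  generalize dbl act5 k (1, 1, 1, 0) = x
  obtain ⟨a, b, c, d⟩ := x
  have e : (a, b, c, d) = a.val • ((1, 0, 0, 0) : ZMod 5 × ZMod 5 × ZMod 5 × ZMod 5) +
      b.val • (0, 1, 0, 0) + c.val • (0, 0, 1, 0) + d.val • (0, 0, 0, 1) := by simp
  rw [e]
  exact Q.add_mem (Q.add_mem (Q.add_mem (Q.nsmul_mem (h3 3 4 2 1) _) (Q.nsmul_mem (h3 0 1 3 2) _))
    (Q.nsmul_mem (h3 3 0 0 2) _)) (Q.nsmul_mem (h3 2 0 1 2) _)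

end Pre

end Cfsg.Agent.FG.BS
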