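import Mathlib
import Cfsg.Agent.FG.BaseSmall

/-! Base size two for coprime quasi-primitive solvable groups in odd characteristic. -/

set_option autoImplicit false

namespace Cfsg.Agent.FG.BS

open scoped commutatorElement

variable {G : Type*} {V : Type*} [Group G] [AddCommGroup V] [DistribMulAction G V]

theorem exists_zmod {p : ℕ} (hp : p.Prime) {v : V} (hv : v ≠ 0) (h : p • v = 0) :
    ∃ ι : ZMod p →+ V, Function.Injective ι ∧ ∀ n : ℤ, ι n = n • v := by
  have := Fact.mk hp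
  refine ⟨ZMod.lift p ⟨zmultiplesHom V v, by simpa using h⟩, (ZMod.lift_injective p).mpr fun n hn => ?_,
    fun n => ZMod.lift_coe _ _ n⟩
  rw [ZMod.intCast_zmod_eq_zero_iff_dvd, ← addOrderOf_eq_prime h hv]
  exact addOrderOf_dvd_iff_zsmul_eq_zero.mpr hn

theorem map_sg {M : Type} [AddCommGroup M] (ι : M →+ V) (a : Bool) (x : M) :
    ι (sg a x) = sg a (ι x) := by cases a <;> simp [sg]

namespace Pre

variable {P : Pre G V}

variable (P) in
/-- `U` together with zero is closed under addition -/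
structure Fld : Prop where
  neg : ∃ z ∈ P.U, ∀ x : V, z • x = -x
  add : ∀ u ∈ P.U, ∀ u' ∈ P.U,
    (∀ x : V, u • x + u' • x = 0) ∨ ∃ t ∈ P.U, ∀ x : V, t • x = u • x + u' • x

theorem Fld.scal (h : P.Fld) (n : ℕ) : (∀ x : V, n • x = 0) ∨ ∃ u ∈ P.U, ∀ x : V, u • x = n • x := by
  induction n with
  | zero => exact Or.inl fun x => zero_nsmul x
  | succ n ih =>
    rcases ih with ih | ⟨u, hu, ih⟩
    · exact Or.inr ⟨1, P.U.one_mem, fun x => by rw [succ_nsmul, ih, zero_add, one_smul]⟩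
    · simpa only [ih, one_smul, succ_nsmul] using h.add u hu 1 P.U.one_mem

theorem Fld.dvd [Finite G] (h : P.Fld) {p : ℕ} (hp : p.Prime) (hV : ∀ x : V, p • x = 0) :
    p ∣ Nat.card P.U + 1 := by
  have := Fact.mk hp
  obtain ⟨z, hz, hz'⟩ := h.neg
  let S : AddSubgroup V :=
    { carrier := Set.range fun o : Option P.U => o.elim 0 fun u => (u : G) • P.v
      zero_mem' := ⟨none, rfl⟩
      add_mem' := by
        rintro _ _ ⟨_ | u, rfl⟩ ⟨_ | u', rfl⟩
        · exact ⟨none, by simp⟩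
        · exact ⟨some u', by simp⟩
        · exact ⟨some u, by simp⟩
        · rcases h.add u u.2 u' u'.2 with e | ⟨t, ht, e⟩
          · exact ⟨none, (e _).symm⟩
          · exact ⟨some ⟨t, ht⟩, e _⟩
      neg_mem' := by
        rintro _ ⟨_ | u, rfl⟩
        · exact ⟨none, by simp⟩
        · exact ⟨some ⟨z * u, P.U.mul_mem hz u.2⟩, by simp [mul_smul, hz']⟩ }
  have h1 : Nat.card S = Nat.card (Option P.U) := Nat.card_range_of_injective (by
    rintro (_ | u) (_ | u') e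
    · rfl
    · exact absurd ((smul_eq_zero_iff_eq _).mp e.symm) P.v0
    · exact absurd ((smul_eq_zero_iff_eq _).mp e) P.v0
    · exact congrArg some (Subtype.ext (eq_of_smul_v u.2 u'.2 e)))
  rw [← Finite.card_option, ← h1, ← addOrderOf_eq_prime (hV P.v) P.v0]
  exact AddSubgroup.addOrderOf_dvd_natCard S ⟨some 1, one_smul G _⟩

variable {z : G}

theorem Cyc.model3 (hc : P.Cyc) (h : P.Two z) (hU : ∀ u ∈ P.U, u ^ 2 = 1) (hV : ∀ x : V, 3 • x = 0) :
    ∃ ι, P.Model act3 1 ι := by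
  obtain ⟨ι, h1, h2⟩ := exists_zmod Nat.prime_three P.v0 (hV _)
  have h3 : ∀ c, ι c ∈ fixS V P.B := fun c => by
    obtain ⟨n, rfl⟩ := ZMod.intCast_surjective c
    rw [h2]; exact AddSubgroup.zsmul_mem _ v_mem n
  have h4 : ∀ k c, pw z k • ι c = ι (act3 k c) := fun k c => by rw [h.pw_smul, act3, map_sg]
  refine ⟨ι, h1, h3, by simpa using h2 1, fun d hd => ?_,
    fun k => ⟨_, U_le_D (pw_mem h.hz k), h4 k⟩⟩
  obtain ⟨u, hu, e⟩ := hc d hd
  rcases sign h.hz h.neg hu (hU u hu) with rfl | rfl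
  · exact ⟨false, fun c => (e _ (h3 c)).trans (h4 false c)⟩
  · exact ⟨true, fun c => (e _ (h3 c)).trans (h4 true c)⟩

theorem Cyc.model5 [Finite G] (hc : P.Cyc) (hf : P.Fld) (hU : Nat.card P.U = 4)
    (hV : ∀ x : V, 5 • x = 0) : ∃ ι, P.Model act5 1 ι := by
  obtain ⟨ι, h1, h2⟩ := exists_zmod Nat.prime_five P.v0 (hV _)
  have h3 : ∀ c, ι c ∈ fixS V P.B := fun c => by
    obtain ⟨n, rfl⟩ := ZMod.intCast_surjective c
    rw [h2]; exact AddSubgroup.zsmul_mem _ v_mem n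
  have hv : ι 1 = P.v := by simpa using h2 1
  have h4 : ∀ k c, ι (act5 k c) = (k.val + 1) • ι c := fun k c => by
    rw [act5, ← nsmul_eq_mul, map_nsmul]
  have h5 : ∀ k : Fin 4, ∃ u : P.U, ∀ c, (u : G) • ι c = ι (act5 k c) := fun k => by
    rcases hf.scal (k.val + 1) with e | ⟨u, hu, e⟩
    · exact absurd ((map_eq_zero_iff ι h1).mp ((h4 k 1).trans (e _))) (by
        clear e; revert k; decide)
    · exact ⟨⟨u, hu⟩, fun c => by rw [h4, e]⟩
  choose u hu using h5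
  have h6 : Function.Injective u := fun k k' e => by
    have := h1 ((hu k 1).symm.trans (e ▸ hu k' 1))
    clear e; revert k k'; decide
  refine ⟨ι, h1, h3, hv, fun d hd => ?_, fun k => ⟨_, U_le_D (u k).2, hu k⟩⟩
  obtain ⟨t, ht, e⟩ := hc d hd
  obtain ⟨k, hk⟩ := (h6.bijective_of_nat_card_le (by simp [hU])).2 ⟨t, ht⟩
  exact ⟨k, fun c => by rw [e _ (h3 c), ← hu, hk]⟩

theorem Quat.modelq {i j : G} (q : P.Quat i j) (h : P.Two z) (hU : ∀ u ∈ P.U, u ^ 2 = 1)
    (hV : ∀ x : V, 3 • x = 0) {a b : ℤ} (hab : j • P.v = a • P.v + b • i • P.v) :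
    ∃ ι, P.Model actq (1, 0) ι := by
  obtain ⟨ι1, h1, h2⟩ := exists_zmod Nat.prime_three P.v0 (hV _)
  obtain ⟨ι2, -, h2'⟩ := exists_zmod (v := i • P.v) Nat.prime_three
    (fun e => P.v0 ((smul_eq_zero_iff_eq _).mp e)) (hV _)
  let ι := ι1.coprod ι2
  have hι : ∀ n m : ℤ, ι (n, m) = n • P.v + m • i • P.v := fun n m => by simp [ι, h2, h2']
  have h3 : ∀ c, ι c ∈ fixS V P.B := fun ⟨c, c'⟩ => by
    obtain ⟨n, rfl⟩ := ZMod.intCast_surjective c
    obtain ⟨m, rfl⟩ := ZMod.intCast_surjective c'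
    rw [hι]
    exact AddSubgroup.add_mem _ (AddSubgroup.zsmul_mem _ v_mem n)
      (AddSubgroup.zsmul_mem _ (D_smul q.hi v_mem) m)
  have hi : ∀ c, i • ι c = ι (-c.2, c.1) := fun ⟨c, c'⟩ => by
    obtain ⟨n, rfl⟩ := ZMod.intCast_surjective c
    obtain ⟨m, rfl⟩ := ZMod.intCast_surjective c'
    rw [← Int.cast_neg, hι, hι, smul_add, smul_comm i n, smul_comm i m, q.ii _ v_mem]
    generalize i • P.v = x
    module
  have hj : ∀ c, j • ι c = ι (c.1 * a + c.2 * b, c.1 * b - c.2 * a) := fun ⟨c, c'⟩ => by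
    obtain ⟨n, rfl⟩ := ZMod.intCast_surjective c
    obtain ⟨m, rfl⟩ := ZMod.intCast_surjective c'
    have := hι (n * a + m * b) (n * b - m * a)
    push_cast at this
    rw [this, hι, smul_add, smul_comm j n, smul_comm j m, q.ji _ v_mem, hab, smul_add i,
      smul_comm i a, smul_comm i b, q.ii _ v_mem]
    generalize i • P.v = x
    module
  have hinj : Function.Injective ι := (injective_iff_map_eq_zero _).mpr fun ⟨c, c'⟩ e => by
    obtain ⟨n, rfl⟩ := ZMod.intCast_surjective c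
    obtain ⟨m, rfl⟩ := ZMod.intCast_surjective c'
    have e' := hi (n, m)
    rw [e, smul_zero, ← Int.cast_neg, hι] at e'
    rw [hι] at e
    have e2 : ι1 ((n * n + m * m : ℤ) : ZMod 3) = 0 := by
      rw [h2]
      generalize i • P.v = x at e e'
      linear_combination (norm := module) n • e + m • e'
    rw [map_eq_zero_iff ι1 h1] at e2
    push_cast at e2
    generalize (n : ZMod 3) = c at e2; generalize (m : ZMod 3) = c' at e2
    revert c c'; decide
  have hv : ι (1, 0) = P.v := by simpa using hι 1 0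
  have hab' : (a : ZMod 3) * a + b * b = -1 := by
    have := q.jj _ v_mem
    rw [← hv, hj, hj, ← map_neg] at this
    simpa using congrArg Prod.fst (hinj this)
  generalize (a : ZMod 3) = α at hj hab'
  generalize (b : ZMod 3) = β at hj hab'
  have hz : ∀ k c, pw z k • ι c = ι (sg k c) := fun k c => by rw [h.pw_smul, map_sg]
  let S : Submonoid G :=
    { carrier := {g | ∃ k, ∀ c, g • ι c = ι (actq k c)}
      one_mem' := ⟨(false, 0), fun c => one_smul G _⟩
      mul_mem' := by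
        rintro g g' ⟨k, hk⟩ ⟨k', hk'⟩
        obtain ⟨l, hl⟩ : ∃ l, ∀ c, actq k (actq k' c) = actq l c := by
          clear hk hk'; revert k k'; decide +kernel
        exact ⟨l, fun c => by rw [mul_smul, hk', hk, hl]⟩ }
  have hiS : i ∈ S := ⟨(false, 1), hi⟩
  have hjS : j ∈ S := by
    obtain ⟨l, hl⟩ : ∃ l, ∀ c, (c.1 * α + c.2 * β, c.1 * β - c.2 * α) = actq l c := by
      clear hj; revert α β; decide +kernel
    exact ⟨l, fun c => by rw [hj, hl]⟩
  refine ⟨ι, hinj, h3, hv, fun d hd => ?_, fun k => ?_⟩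
  · obtain ⟨u, hu, s, t, e⟩ := q.gen d hd
    have huS : u ∈ S := by
      rcases sign h.hz h.neg hu (hU u hu) with rfl | rfl
      · exact S.one_mem
      · exact ⟨(true, 0), hz true⟩
    obtain ⟨k, hk⟩ := S.mul_mem huS (S.mul_mem (S.pow_mem hiS s) (S.pow_mem hjS t))
    exact ⟨k, fun c => by rw [e _ (h3 c), ← hk, mul_smul, mul_smul]⟩
  · obtain ⟨ε, s, t, e⟩ : ∃ ε s t : Bool, ∀ c, actq k c = sg ε
        ((fun c => if s then (-c.2, c.1) else c)
          (if t then (c.1 * α + c.2 * β, c.1 * β - c.2 * α) else c)) := by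
      clear hj hjS; revert k α β; decide +kernel
    refine ⟨pw z ε * pw i s * pw j t, P.D.mul_mem (P.D.mul_mem (U_le_D (pw_mem h.hz ε))
      (pw_mem q.hi s)) (pw_mem q.hj t), fun c => ?_⟩
    rw [e, ← hz, mul_smul, mul_smul]
    cases s <;> cases t <;> simp [pw, hi, hj]

theorem Quat.pow_two [Finite G] {i j : G} (q : P.Quat i j) (hP : P.IsMax) (h : P.Two z) {u : G}
    (hu : u ∈ P.U) (h4 : u ^ 4 = 1) : u ^ 2 = 1 := by
  refine (sign h.hz h.neg (P.U.pow_mem hu 2) (by rw [← pow_mul, h4])).resolve_right fun e => ?_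
  have key : ∀ t ∈ P.U, t * i ∉ P.B := fun t ht hb => by
    have h1 : ∀ x ∈ fixS V P.B, i • x = t⁻¹ • x := fun x hx => by
      rw [eq_inv_smul_iff, ← mul_smul, hx _ hb]
    have h2 := q.ji _ v_mem
    rw [h1 _ v_mem, h1 _ (D_smul q.hj v_mem), ← mul_smul, ← P.cen _ (P.U.inv_mem ht) _ q.hj.1,
      ← mul_smul] at h2
    exact P.v0 ((smul_eq_zero_iff_eq _).mp (h.odd _ (by
      rw [two_nsmul]; exact add_eq_zero_iff_eq_neg.mpr h2)))
  have h1 := smul_eq_neg hP (P.D.mul_mem (U_le_D hu) q.hi) (key u hu) (x := P.v)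
    ⟨P.F.mul_mem (P.F.mul_mem (P.UF hu) q.hi.1) (P.F.mul_mem (P.UF hu) q.hi.1), by
      show (u * i * (u * i)) • P.v = P.v
      rw [mul_assoc, ← mul_assoc i, ← P.cen u hu i q.hi.1, mul_assoc, ← mul_assoc, ← _root_.pow_two, e,
        mul_smul, mul_smul, q.ii _ v_mem, h.neg, neg_neg]⟩ v_mem
  exact key (z * u) (P.U.mul_mem h.hz hu) ⟨P.F.mul_mem (P.UF (P.U.mul_mem h.hz hu)) q.hi.1, by
    show (z * u * i) • P.v = P.v
    rw [mul_assoc, mul_smul, h1, h.neg, neg_neg]⟩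

theorem A_sq (h : ∀ f ∈ P.F, f ^ 2 ∈ P.U) (a : P.A) : a ^ 2 = 1 := by
  obtain ⟨f, rfl⟩ := π_surj a
  rw [← map_pow]
  exact π_eq_one_iff.mpr (U_le_D (h f f.2))

theorem base_cop [Finite G] [Finite V] (hP : P.IsMax) (hf : P.Fld) {p : ℕ} (hp : p.Prime)
    (hp2 : p ≠ 2) (hV : ∀ x : V, p • x = 0) (hcop : (Nat.card G).Coprime (Nat.card V))
    (hc : P.Cyc ∨ ∃ i j, P.Quat i j ∧ ∃ a b : ℤ, j • P.v = a • P.v + b • i • P.v) :
    ∃ v w : V, ∀ g : G, g • v = v → g • w = w → g = 1 := by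
  have := Fact.mk hp
  obtain ⟨w0, h0⟩ : ∃ w, P.Zero w := hc.elim Cyc.zero fun ⟨_, _, q, _, _, h⟩ => q.zero hcop h
  obtain ⟨z, hz, hz'⟩ := hf.neg
  have hodd : ∀ x : V, 2 • x = 0 → x = 0 := fun x hx => by
    by_contra h0
    have : Fact (Nat.Prime 2) := ⟨Nat.prime_two⟩
    exact hp2 ((addOrderOf_eq_prime (hV x) h0).symm.trans (addOrderOf_eq_prime hx h0))
  have hz1 : z ≠ 1 := fun e => P.v0 (hodd _ (by
    have := hz' P.v
    rw [e, one_smul] at this
    rw [two_nsmul]; exact add_eq_zero_iff_eq_neg.mpr this))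
  have hz2 : z ^ 2 = 1 :=
    eq_one_of_U (P.U.pow_mem hz 2) (by rw [_root_.pow_two, mul_smul, hz', hz', neg_neg])
  have hpG : ¬ p ∣ Nat.card G := fun h => hp.one_lt.ne' (Nat.eq_one_of_dvd_coprimes hcop h
    (addOrderOf_eq_prime (hV P.v) P.v0 ▸ addOrderOf_dvd_natCard _))
  have ht : ∀ x : tors P.A 2, x ^ 2 = 1 := fun x => Subtype.ext x.2
  obtain ⟨θ, hθ, hgen⟩ := P.exists_θ
  have hpow : ∀ n, θ ^ n = 1 → ∀ u ∈ P.U, u ^ n = 1 := fun n hn u hu => by
    obtain ⟨k, rfl⟩ := hgen u hu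
    rw [← zpow_natCast, ← zpow_mul, mul_comm, zpow_mul, zpow_natCast, hn, one_zpow]
  have hcard : p ∣ orderOf θ + 1 ∧ Nat.card P.U = orderOf θ := by
    have : Subgroup.zpowers θ = P.U := le_antisymm (Subgroup.zpowers_le.mpr hθ) hgen
    rw [← Nat.card_zpowers, this]
    exact ⟨hf.dvd hp hV, rfl⟩
  by_cases h8 : θ ^ 8 = 1
  swap
  · have h4 : θ ^ 4 ≠ 1 := fun e => h8 (by rw [show 8 = 4 * 2 from rfl, pow_mul, e, one_pow])
    have h48 : θ ^ 4 ≠ θ ^ 8 := fun e => h4 (by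
      rw [show 8 = 4 + 4 from rfl, pow_add] at e; exact left_eq_mul.mp e)
    exact ⟨_, base_L1 h0 hz hz1 hz2 (fun c : Fin 3 => θ ^ c.val) (fun c => P.U.pow_mem hθ _)
      (fun c c' => by
        fin_cases c <;> fin_cases c' <;> simp [← pow_mul, h4, h8, h48, h4.symm, Ne.symm h8, h48.symm])
      (col_three ht _)⟩
  have hsq : ∀ f ∈ P.F, f ^ 2 ∈ P.U := fun f hf' => pow_mem_of_pow_pow hf' 2 3
    (P.cF _ fun y hy => commutatorElement_eq_one_iff_mul_comm.mp (by
      rw [comm_pow_left hf' hy]; exact hpow 8 h8 _ (P.comm _ hf' _ hy)))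
  by_cases h4 : θ ^ 4 = 1
  swap
  · have h3 : p = 3 := by
      have := hcard.1
      rw [orderOf_eq_prime_pow (p := 2) (n := 2) h4 h8] at this
      exact (Nat.prime_dvd_prime_iff_eq hp Nat.prime_three).mp
        (hp.dvd_of_dvd_pow (n := 2) this)
    subst h3
    exact ⟨_, base_L1 h0 hz hz1 hz2 (fun c : Bool => pw θ c) (fun c => pw_mem hθ c)
      (fun c c' => by cases c <;> cases c' <;> simp [pw, h4, Ne.symm h4])
      (col_two ht _ hpG (by rintro _ ⟨α, hα, rfl⟩; rw [← map_pow, pow_card_of_mem_Φ hα, map_one]))⟩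
  by_cases hA : ∀ a b : P.A, a ≠ 1 → b ≠ 1 → a = b
  · exact ⟨_, base_L1 h0 hz hz1 hz2 (fun _ : Unit => 1) (fun _ => P.U.one_mem) (fun _ _ _ => rfl)
      (col_small (fun a b ha hb => Subtype.ext (hA a b (fun e => ha (Subtype.ext e))
        fun e => hb (Subtype.ext e))) _)⟩
  push Not at hA
  obtain ⟨a, b, ha, hb, hab⟩ := hA
  have h44 : ∀ f ∈ P.F, f ^ 4 ∈ P.U := fun f hf => by
    rw [show 4 = 2 * 2 from rfl, pow_mul]; exact P.U.pow_mem (hsq f hf) 2
  have h2 : P.Two z := ⟨hz, hz', hsq, fun f hf' => congrArg Subtype.val (hom_trivial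
    { toFun := fun f => ⟨f ^ 4, h44 f f.2⟩
      map_one' := Subtype.ext (by simp)
      map_mul' := fun x y => Subtype.ext (by
        show ((x : G) * y) ^ 4 = (x : G) ^ 4 * (y : G) ^ 4
        rw [mul_pow' x.2 y.2, show Nat.choose 4 2 = 2 * 3 from rfl, pow_mul, ← comm_pow_left y.2 x.2,
          comm_U_left (hsq _ y.2) x.2, one_pow, mul_one]) }
    (fun f hf => Subtype.ext (hpow 4 h4 _ hf)) (fun g f => conj_pow) ⟨f, hf'⟩), hodd⟩
  by_cases h22 : θ ^ 2 = 1
  · have h3 : p = 3 := by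
      have := hcard.1
      rw [orderOf_eq_prime h22 fun e => hz1 (by simpa using hpow 1 (by simpa using e) z hz)] at this
      exact (Nat.prime_dvd_prime_iff_eq hp Nat.prime_three).mp this
    subst h3
    rcases hc with hc | ⟨i, j, q, _, _, h⟩
    · obtain ⟨ι, m⟩ := hc.model3 h2 (hpow 2 h22) hV
      obtain ⟨x, hx, ι', m'⟩ := m.dbl h2 ha hb hab
      exact ⟨x, block_plus m' hpG (col_two (A_sq (P := P.change x hx) hsq) _ hpG fun α => pow_card_of_mem_Φ)⟩
    · obtain ⟨ι, m⟩ := q.modelq h2 (hpow 2 h22) hV h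
      obtain ⟨x, hx, ι', m'⟩ := m.dbl h2 ha hb hab
      exact ⟨x, block_minus m' hpG (col_two (A_sq (P := P.change x hx) hsq) _ hpG fun α => pow_card_of_mem_Φ)⟩
  · have ho := orderOf_eq_prime_pow (p := 2) (n := 1) h22 h4
    have h5 : p = 5 := by
      have := hcard.1
      rw [ho] at this
      exact (Nat.prime_dvd_prime_iff_eq hp Nat.prime_five).mp this
    subst h5
    obtain ⟨ι, m⟩ := (hc.resolve_right fun ⟨i, j, q, _⟩ => h22 (q.pow_two hP h2 hθ h4)).model5 hf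
      (hcard.2.trans ho) hV
    obtain ⟨x, hx, ι', m'⟩ := m.dbl h2 ha hb hab
    exact ⟨x, block_five m' (col_three (A_sq (P := P.change x hx) hsq) _)⟩

end Pre

theorem prim_cop [Finite G] [Finite V] (P : Prim G V) (hf : P.toPre.Fld) {p : ℕ} (hp : p.Prime)
    (hp2 : p ≠ 2) (hV : ∀ x : V, p • x = 0) (hcop : (Nat.card G).Coprime (Nat.card V)) :
    ∃ t : Fin 2 → V, IsBase G t := by
  have hP : P.toPre.IsMax := P.vmax
  obtain ⟨v, w, h⟩ : ∃ v w : V, ∀ g : G, g • v = v → g • w = w → g = 1 := by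
    rcases Pre.quat_or hP with h | ⟨i, j, q⟩
    · exact Pre.base_cop hP hf hp hp2 hV hcop (Or.inl h)
    · obtain ⟨x, hx, i, j, h1, h2, h3⟩ := q.exists_span hP hf.neg hp hV
      exact Pre.base_cop h1 ⟨hf.1, hf.2⟩ hp hp2 hV hcop (Or.inr ⟨i, j, h2, h3⟩)
  exact ⟨![v, w], fun g hg x => by rw [h g (hg 0) (hg 1), one_smul]⟩

end Cfsg.Agent.FG.BS
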