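import Mathlib
import Cfsg.Agent.FG.BaseCopPrim
import Cfsg.Agent.GT.PiGroups
import Cfsg.Agent.GT.MinNormal

/-! Base size two for solvable groups acting coprimely and irreducibly. -/

set_option autoImplicit false

namespace Cfsg.Agent.FG.BS

universe u

open scoped commutatorElement

section many
variable {G V : Type*} [Group G] [AddCommGroup V] [DistribMulAction G V]

theorem IsBase.pair {a b : V} (h : ∀ g : G, g • a = a → g • b = b → ∀ x : V, g • x = x) :
    IsBase G ![a, b] := fun g hg => h g (hg 0) (hg 1)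

theorem exists_pair_ne [Nontrivial V] {t : Fin 2 → V} (ht : IsBase G t) :
    ∃ a b : V, a ≠ 0 ∧ ∀ g : G, g • a = a → g • b = b → ∀ x : V, g • x = x := by
  by_cases h0 : t 0 = 0
  · by_cases h1 : t 1 = 0
    · obtain ⟨x, hx⟩ := exists_ne (0 : V)
      exact ⟨x, 0, hx, fun g _ _ => ht g fun i => by fin_cases i <;> simp [h0, h1]⟩
    · exact ⟨t 1, t 0, h1, fun g e1 e0 => ht g fun i => by fin_cases i; exacts [e0, e1]⟩
  · exact ⟨t 0, t 1, h0, fun g e0 e1 => ht g fun i => by fin_cases i; exacts [e0, e1]⟩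

theorem many_shear [Finite G] [Nontrivial V] {p : ℕ} (hp : p.Prime) (hV : ∀ x : V, p • x = 0)
    (hG : ¬ p ∣ Nat.card G) {t : Fin 2 → V} (ht : IsBase G t) {γ : Type*} (n : γ → ℕ)
    (hn : Function.Injective n) (hnp : ∀ c, n c < p) : ∃ T : γ → Fin 2 → V, (∀ c, IsBase G (T c)) ∧
      ∀ c c' (g : G), (∀ i, g • T c i = T c' i) → c = c' := by
  have := Fact.mk hp
  obtain ⟨a, b, ha, h⟩ := exists_pair_ne ht
  refine ⟨fun c => ![a, b + n c • a], fun c => IsBase.pair fun g h1 h2 => h g h1 ?_,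
    fun c c' g hg => ?_⟩
  · rwa [smul_add, smul_comm, h1, add_left_inj] at h2
  · have h1 : g • a = a := hg 0
    have h2 : g • (b + n c • a) = b + n c' • a := hg 1
    rw [smul_add, smul_comm, h1] at h2
    have h3 : ∀ k : ℕ, g ^ k • b + (k * n c) • a = b + (k * n c') • a := fun k => by
      induction k with
      | zero => simp
      | succ k ih =>
        have := congrArg (g • ·) ih
        simp only [smul_add, smul_comm g, h1, ← mul_smul g, ← pow_succ'] at this
        rw [add_mul, add_mul, one_mul, one_mul, add_nsmul, add_nsmul, ← add_assoc, this,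
          add_right_comm, h2, add_right_comm, add_assoc]
    have h4 := h3 (Nat.card G)
    rw [pow_card_eq_one', one_smul, add_right_inj, nsmul_eq_nsmul_iff_modEq,
      addOrderOf_eq_prime (hV a) ha] at h4
    exact hn (Nat.ModEq.eq_of_lt_of_lt (Nat.ModEq.cancel_left_of_coprime
      ((Nat.Prime.coprime_iff_not_dvd hp).mpr hG) h4) (hnp c) (hnp c'))

theorem many_three [Finite G] [Nontrivial V] (hV : ∀ x : V, 2 • x = 0) (hG : ¬ 3 ∣ Nat.card G)
    {t : Fin 2 → V} (ht : IsBase G t) : ∃ T : Fin 3 → Fin 2 → V, (∀ c, IsBase G (T c)) ∧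
      ∀ c c' (g : G), (∀ i, g • T c i = T c' i) → c = c' := by
  obtain ⟨a, b, ha, h⟩ := exists_pair_ne ht
  have h2 : ∀ x : V, x + x = 0 := fun x => by rw [← two_nsmul, hV]
  have key : ∀ (g : G) (x y : V), g • x = y → g • y = x + y → x = 0 ∧ y = 0 := fun g x y e1 e2 => by
    have e3 : g • x = x := by
      by_contra hc
      exact hG (three_dvd_of_cycle pow_card_eq_one' hc (by
        rw [e1, e2, smul_add, e1, e2, add_comm x, ← add_assoc, h2, zero_add]))
    have e4 : y = x := e1.symm.trans e3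
    rw [e4, e3, h2] at e2
    exact ⟨e2, e4.trans e2⟩
  have e1 : b + (a + b) = a := by rw [add_comm a, ← add_assoc, h2, zero_add]
  have e2 : a + b + a = b := by rw [add_right_comm, h2, zero_add]
  have k1 : ∀ g : G, g • a = b → g • b = a + b → False := fun g x y => ha (key g _ _ x y).1
  have k2 : ∀ g : G, g • b = a + b → g • (a + b) = a → False := fun g x y => by
    have := key g _ _ x (y.trans e1.symm)
    exact ha (by simpa [this.1] using this.2)
  have k3 : ∀ g : G, g • (a + b) = a → g • a = b → False := fun g x y =>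
    ha (key g _ _ x (y.trans e2.symm)).2
  refine ⟨![![a, b], ![b, a + b], ![a + b, a]], fun c => ?_, fun c c' g hg => ?_⟩
  · fin_cases c
    · exact IsBase.pair h
    · exact IsBase.pair fun g x y => h g (by rwa [smul_add, x, add_left_inj] at y) x
    · exact IsBase.pair fun g x y => h g y (by rwa [smul_add, y, add_right_inj] at x)
  · have h0 := hg 0
    have h1 := hg 1
    have i0 := inv_smul_eq_iff.mpr h0.symm
    have i1 := inv_smul_eq_iff.mpr h1.symm
    fin_cases c <;> fin_cases c'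
    · rfl
    · exact (k1 g h0 h1).elim
    · exact (k3 _ i0 i1).elim
    · exact (k1 _ i0 i1).elim
    · rfl
    · exact (k2 g h0 h1).elim
    · exact (k3 g h0 h1).elim
    · exact (k2 _ i0 i1).elim
    · rfl

theorem Irr.nsmul_eq_zero [Finite V] (h : Irr G V) {p : ℕ} (hp : p.Prime) (hd : p ∣ Nat.card V)
    (x : V) : p • x = 0 := by
  have := Fact.mk hp
  obtain ⟨y, hy⟩ := exists_prime_addOrderOf_dvd_card' (G := V) p hd
  rcases h (nsmulAddMonoidHom p : V →+ V).ker (fun g v hv => by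
    have hv' : p • v = 0 := hv
    show p • g • v = 0
    rw [smul_comm, hv', smul_zero]) with e | e
  · have : y ∈ (nsmulAddMonoidHom p : V →+ V).ker := hy ▸ addOrderOf_nsmul_eq_zero y
    rw [e, AddSubgroup.mem_bot] at this
    rw [this, addOrderOf_zero] at hy
    exact absurd hy hp.one_lt.ne
  · exact (e ▸ AddSubgroup.mem_top x : x ∈ (nsmulAddMonoidHom p : V →+ V).ker)

theorem prim_six [Finite G] [Finite V] (hV : ∀ x : V, 2 • x = 0) (hG : ¬ 3 ∣ Nat.card G)
    (P : Prim G V) : ∃ t : Fin 2 → V, IsBase G t := by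
  have hU : Odd (Nat.card P.U) := Nat.not_even_iff_odd.mp fun he => by
    obtain ⟨u, hu⟩ := exists_prime_orderOf_dvd_card' (G := P.U) 2 he.two_dvd
    have h1 : (u : G) ≠ 1 := fun e => by simp [show u = 1 from Subtype.ext e] at hu
    have h2 : (u : G) * u = 1 := by
      rw [← pow_two, ← hu]; exact congrArg Subtype.val (pow_orderOf_eq_one u)
    have h3 := P.fpf u u.2 h1 ((u : G) • P.v + P.v) (by
      rw [smul_add, ← mul_smul, h2, one_smul, add_comm])
    refine P.v0 (P.fpf u u.2 h1 _ ?_)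
    rw [eq_neg_of_add_eq_zero_left h3, neg_eq_iff_add_eq_zero, ← two_nsmul, hV]
  have hF : Odd (Nat.card P.F) := Nat.not_even_iff_odd.mp fun he => by
    obtain ⟨f, hf⟩ := exists_prime_orderOf_dvd_card' (G := P.F) 2 he.two_dvd
    have h1 : ∀ u ∈ P.U, u ^ Nat.card P.U = 1 := fun u hu =>
      congrArg Subtype.val (pow_card_eq_one' (x := (⟨u, hu⟩ : P.U)))
    have h2 := h1 _ (P.cF ((f : G) ^ Nat.card P.U) fun y hy =>
      commutatorElement_eq_one_iff_mul_comm.mp (by
        rw [Pre.comm_pow_left (P := P.toPre) f.2 hy]; exact h1 _ (P.comm _ f.2 _ hy)))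
    have h3 : orderOf f ∣ Nat.card P.U * Nat.card P.U :=
      orderOf_dvd_of_pow_eq_one (Subtype.ext (by rw [pow_mul]; exact h2))
    exact Nat.not_even_iff_odd.mpr (hU.mul hU) (even_iff_two_dvd.mpr (hf ▸ h3))
  obtain ⟨s, hs⟩ := one_gen (Prim.hasFpf (P := P)) Prim.range_class_two
    (hF.of_dvd_nat ((Subgroup.card_range_dvd _).trans (Subgroup.card_dvd_of_le inf_le_left)))
  obtain ⟨N, h0, h1, h2⟩ := exists_six_set P.A (hF.of_dvd_nat (Subgroup.card_quotient_dvd_card _))
    fun h => hG (h.trans Prim.card_A_dvd)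
  obtain ⟨w, hw⟩ := Prim.exists_base s hs (fun _ => Nᶜ)
    (fun α _ h => h1 α fun x hx => (not_iff_not.mp (h 0 x fun e => h0 (e ▸ hx))).mp hx)
    fun H hH => lt_of_le_of_lt (Nat.add_le_add_right (Nat.mul_le_mul_left 2 (Set.ncard_le_ncard
      fun a ha => not_not.mp (ha.2 0))) _) (h2 H hH)
  refine ⟨Fin.cons P.v w, fun g hg x => ?_⟩
  rw [hw g (hg 0) fun i => hg i.succ, one_smul]

end many

theorem colouring_three {G : Type*} [Group G] [Finite G] {M : Subgroup G} {A : Type*}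
    [AddCommGroup A] [DistribMulAction M A] {e : A ≃ G ⧸ M} (hG : ¬ 3 ∣ Nat.card G)
    (h0 : e 0 = ((1 : G) : G ⧸ M)) (hm : ∀ (m : M) (a : A), e (m • a) = (m : G) • e a)
    (hA : Irr M A) (hb : (∀ x : A, 2 • x = 0) → ∃ t : Fin 2 → A, IsBase M t) :
    ∃ χ : G ⧸ M → Fin 3, ∀ g : G, (∀ ω, χ (g • ω) = χ ω) → ∀ ω : G ⧸ M, g • ω = ω := by
  classical
  have : Finite A := Finite.of_equiv _ e.symm
  have hM : ¬ 3 ∣ Nat.card M := fun h => hG (h.trans (Subgroup.card_subgroup_dvd_card M))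
  have key : ∀ N : Set A, 0 ∉ N → (∀ m : M, (∀ x ∈ N, m • x ∈ N) → ∀ x : A, m • x = x) →
      ∃ χ : G ⧸ M → Fin 3, ∀ g : G, (∀ ω, χ (g • ω) = χ ω) → ∀ ω : G ⧸ M, g • ω = ω := by
    intro N hN h
    refine ⟨fun ω => if ω = e 0 then 0 else if e.symm ω ∈ N then 1 else 2, fun g hg ω => ?_⟩
    have h1 : g • e 0 = e 0 := by
      have := hg (e 0)
      simp only [if_true] at this
      by_contra hc
      rw [if_neg hc] at this
      split_ifs at this <;> exact absurd this (by decide)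
    have hgM : g ∈ M := by
      rw [h0] at h1
      have : ((g * 1 : G) : G ⧸ M) = ((1 : G) : G ⧸ M) := h1
      rw [QuotientGroup.eq] at this
      simpa using this
    obtain ⟨a, rfl⟩ := e.surjective ω
    refine (hm ⟨g, hgM⟩ a).symm.trans (congrArg e (h ⟨g, hgM⟩ (fun x hx => ?_) a))
    have := hg (e x)
    have h2 : x ≠ 0 := fun e => hN (e ▸ hx)
    simp only [← hm ⟨g, hgM⟩ x, e.apply_eq_iff_eq, e.symm_apply_apply, if_neg h2, if_pos hx] at this
    split_ifs at this with h3 h4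
    · exact absurd this (by decide)
    · exact h4
    · exact absurd this (by decide)
  rcases Nat.even_or_odd (Nat.card A) with he | ho
  · have h2 := hA.nsmul_eq_zero Nat.prime_two he.two_dvd
    have h2' : ∀ x : A, x + x = 0 := fun x => by rw [← two_nsmul, h2]
    obtain ⟨t, ht⟩ := hb h2
    have : Nontrivial A := Finite.one_lt_card_iff_nontrivial.mp (by
      have : 0 < Nat.card A := Nat.card_pos
      obtain ⟨k, hk⟩ := he; omega)
    obtain ⟨a, b, ha, h⟩ := exists_pair_ne ht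
    by_cases hb0 : b = 0 ∨ b = a
    · refine key {a} (fun e => ha e.symm) fun m hm => h m (hm a rfl) ?_
      rcases hb0 with rfl | rfl
      exacts [smul_zero m, hm _ rfl]
    push Not at hb0
    have hab : a + b ≠ 0 := fun e => hb0.2 (add_left_cancel (e.trans (h2' a).symm))
    have key2 : ∀ x y : A, x ≠ 0 → y ≠ 0 → (∀ m : M, m • x = x → m • y = y → ∀ z : A, m • z = z) →
        (¬ ∃ m : M, m • x = y ∧ m • y = x) →
        ∃ χ : G ⧸ M → Fin 3, ∀ g : G, (∀ ω, χ (g • ω) = χ ω) → ∀ ω : G ⧸ M, g • ω = ω := by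
      intro x y hx hy h hn
      refine key {x, y} (by simp [hx.symm, hy.symm]) fun m hm => ?_
      rcases hm x (by simp) with e1 | e1 <;> rcases hm y (by simp) with e2 | e2
      · exact h m e1 (by rw [e2]; exact MulAction.injective m (e1.trans e2.symm))
      · exact h m e1 e2
      · exact absurd ⟨m, e1, e2⟩ hn
      · exact h m (by rw [e1]; exact MulAction.injective m (e2.trans e1.symm)) e2
    by_cases c1 : ∃ m : M, m • a = b ∧ m • b = a
    · obtain ⟨m, e1, e2⟩ := c1
      refine key2 b (a + b) hb0.1 hab (fun g x y => h g (by rwa [smul_add, x, add_left_inj] at y) x) ?_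
      rintro ⟨m', e3, e4⟩
      have e5 : m' • a = a := by
        rw [smul_add, e3, ← add_assoc, add_eq_right] at e4
        exact add_right_cancel (e4.trans (h2' a).symm)
      refine hM (three_dvd_of_cycle (g := m * m') pow_card_eq_one' (x := a) ?_ ?_)
      · rw [mul_smul, e5, e1]; exact hb0.2
      · simp only [mul_smul, e5, e1, e3, smul_add, e2]
        rw [add_right_comm, h2', zero_add]
    · exact key2 a b ha hb0.1 h c1
  · obtain ⟨N, h1, h2, -⟩ := exists_six_set (Multiplicative A) ho fun h => hG (h.trans (by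
      rw [show Nat.card (Multiplicative A) = Nat.card (G ⧸ M) from Nat.card_congr e]
      exact Subgroup.card_quotient_dvd_card M))
    exact key N h1 fun m hm x => DFunLike.congr_fun
      (h2 (AddEquiv.toMultiplicative (DistribMulAction.toAddEquiv A m)) hm) x

theorem irr_six (n : ℕ) : ∀ (G V : Type u) [Group G] [AddCommGroup V] [DistribMulAction G V]
    [Finite V] [Finite G] [Group.IsSolvable G], ¬ 3 ∣ Nat.card G → (∀ x : V, 2 • x = 0) →
    Nat.card V = n → Irr G V → ∃ t : Fin 2 → V, IsBase G t := by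
  induction n using Nat.strong_induction_on with
  | _ n ih =>
  intro G0 V _ _ _ _ _ _ h30 hV hn hirr0
  rcases subsingleton_or_nontrivial V with hV | hV
  · exact ⟨0, fun _ _ _ => Subsingleton.elim _ _⟩
  have hirr := hirr0.im
  have h3 : ¬ 3 ∣ Nat.card (Im G0 V) := fun h => h30 (h.trans card_im_dvd)
  have := solvable_im (G := G0) (V := V)
  suffices h : ∃ t : Fin 2 → V, IsBase (Im G0 V) t from h.imp fun _ => IsBase.of_im
  obtain ⟨U, hUn, hUc, hmax⟩ := exists_max_abelian (G := Im G0 V)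
  rcases fpf_or_imprim hirr U hUc with hf | ⟨M, _, W, hM, hW, hW0⟩
  · exact prim_six ‹_› h3 (exists_prim U hUn hUc hmax hf).some
  · have : Nontrivial (Im G0 V ⧸ M) := QuotientGroup.nontrivial_iff.mpr hM.1
    obtain ⟨A, _, _, e, hA, h0, hm, -⟩ := exists_affine M hM
    have : Finite A := Finite.of_equiv _ e.symm
    obtain ⟨χ, hχ⟩ := colouring_three h3 h0 hm hA fun h2 =>
      ih _ (hn ▸ (Nat.card_congr e).trans_lt (hW.card_index_lt _ hW0)) M A
        (fun h => h3 (h.trans (Subgroup.card_subgroup_dvd_card M))) h2 rfl hA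
    let _ := subAct _ _ (hW.stab_inv ((1 : Im G0 V) : Im G0 V ⧸ M))
    have hS : ¬ 3 ∣ _ := fun h => h3 (h.trans (Subgroup.card_subgroup_dvd_card
      (MulAction.stabilizer (Im G0 V) ((1 : Im G0 V) : Im G0 V ⧸ M))))
    have hW2 : ∀ x : W ((1 : Im G0 V) : Im G0 V ⧸ M), 2 • x = 0 := fun x => Subtype.ext (‹∀ x : V, 2 • x = 0› x)
    obtain ⟨t', ht'⟩ := ih _ (hn ▸ hW.card_block_lt _ hW0) _ _ hS hW2 rfl (hW.irr_block hirr _)
    have := (AddSubgroup.nontrivial_iff_ne_bot _).mpr hW0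
    obtain ⟨T, hT, hT'⟩ := many_three hW2 hS ht'
    exact hW.wreath' _ T hT (fun c c' g hg => hT' c c' g fun i => Subtype.ext (hg i)) χ hχ

instance finite_aut {V : Type*} [AddCommGroup V] [Finite V] : Finite (V ≃ₗ[ℤ] V) :=
  DFunLike.finite _

theorem fld_of_max {V : Type*} [AddCommGroup V] [Finite V] {p : ℕ} (hp : p.Prime)
    (hV : ∀ x : V, p • x = 0) {H : Subgroup (V ≃ₗ[ℤ] V)} [Group.IsSolvable H] (hirr : Irr H V)
    (hH : ¬ p ∣ Nat.card H)
    (hmax : ∀ K : Subgroup (V ≃ₗ[ℤ] V), H ≤ K → Group.IsSolvable K → ¬ p ∣ Nat.card K → K ≤ H)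
    (P : Pre H V) : P.Fld := by
  have := Fact.mk hp
  let U : Subgroup (V ≃ₗ[ℤ] V) := P.U.map H.subtype
  let T : Subgroup (V ≃ₗ[ℤ] V) := Subgroup.centralizer (Subgroup.centralizer (U : Set (V ≃ₗ[ℤ] V)))
  have hUC : U ≤ Subgroup.centralizer (U : Set (V ≃ₗ[ℤ] V)) := by
    rintro _ ⟨u, hu, rfl⟩ _ ⟨u', hu', rfl⟩
    exact congrArg Subtype.val (Pre.U_comm hu' hu)
  have hTc : ∀ x ∈ T, ∀ y ∈ T, x * y = y * x := fun x hx y hy =>
    hy x (Subgroup.centralizer_le hUC hx)
  have hTn : ∀ h ∈ H, ∀ t ∈ T, h * t * h⁻¹ ∈ T := fun h hh t ht c hc => by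
    have := ht (h⁻¹ * c * h) (by
      rintro _ ⟨u, hu, rfl⟩
      have := hc _ ⟨_, P.Un.conj_mem u hu ⟨h, hh⟩, rfl⟩
      simp only [Subgroup.coe_subtype, Subgroup.coe_mul, Subgroup.coe_inv] at this ⊢
      calc (u : V ≃ₗ[ℤ] V) * (h⁻¹ * c * h) = h⁻¹ * (h * u * h⁻¹ * c) * h := by group
        _ = _ := by rw [this]; group)
    calc c * (h * t * h⁻¹) = h * (h⁻¹ * c * h * t) * h⁻¹ := by group
      _ = _ := by rw [this]; group
  have hHT : H ≤ Subgroup.normalizer (T : Set (V ≃ₗ[ℤ] V)) :=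
    Subgroup.le_normalizer_iff.mpr hTn
  have : Group.IsSolvable T := Group.isSolvable_of_comm fun a b => Subtype.ext (hTc _ a.2 _ b.2)
  have hTp : ¬ p ∣ Nat.card T := fun hd => by
    let Q : Subgroup (V ≃ₗ[ℤ] V) :=
      { carrier := {t | t ∈ T ∧ t ^ p = 1}
        one_mem' := ⟨T.one_mem, one_pow p⟩
        mul_mem' := fun {a b} ha hb => ⟨T.mul_mem ha.1 hb.1, by
          rw [Commute.mul_pow (hTc _ ha.1 _ hb.1), ha.2, hb.2, one_mul]⟩
        inv_mem' := fun {a} ha => ⟨T.inv_mem ha.1, by rw [inv_pow, ha.2, inv_one]⟩ }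
    have hQ : IsPGroup p Q := fun t => ⟨1, Subtype.ext (by simpa using t.2.2)⟩
    obtain ⟨y, hy, hy0⟩ := hQ.exists_fixed_point_of_prime_dvd_card_of_fixed_point V
      (addOrderOf_eq_prime (hV P.v) P.v0 ▸ addOrderOf_dvd_natCard _) (a := 0) fun _ => smul_zero _
    rcases hirr (fixS V Q) (fun h v hv t ht => by
      have := hv _ (show (h : V ≃ₗ[ℤ] V)⁻¹ * t * (h : V ≃ₗ[ℤ] V)⁻¹⁻¹ ∈ Q from
        ⟨hTn _ (H.inv_mem h.2) t ht.1, by rw [conj_pow, ht.2]; simp⟩)
      rw [inv_inv, mul_smul, mul_smul, inv_smul_eq_iff] at this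
      exact this) with e | e
    · have : y ∈ fixS V Q := fun t ht => hy ⟨t, ht⟩
      exact hy0 (AddSubgroup.mem_bot.mp (e ▸ this)).symm
    · obtain ⟨t, ht⟩ := exists_prime_orderOf_dvd_card' (G := T) p hd
      have h1 : t = 1 := Subtype.ext (LinearEquiv.ext fun x =>
        (e ▸ AddSubgroup.mem_top x : x ∈ fixS V Q) t
          ⟨t.2, ht ▸ congrArg Subtype.val (pow_orderOf_eq_one t)⟩)
      rw [h1, orderOf_one] at ht
      exact hp.one_lt.ne ht
  have hTH : T ≤ H := le_sup_right.trans (hmax (H ⊔ T) le_sup_left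
    (GT.isSolvable_sup_of_le_normalizer hHT) fun hd =>
      (hp.dvd_mul.mp (hd.trans (GT.card_sup_dvd_of_le_normalizer hHT))).elim hH hTp)
  have key : ∀ t ∈ T, ∃ u ∈ P.U, ∀ x : V, u • x = t x := fun t ht =>
    ⟨⟨t, hTH ht⟩, P.umax (T.subgroupOf H) ⟨fun n hn g => hTn g g.2 n hn⟩
      (fun x hx y hy => Subtype.ext (hTc _ hx _ hy))
      (fun u hu c hc => (hc _ ⟨u, hu, rfl⟩).symm) ht, fun _ => rfl⟩
  obtain ⟨z, hz, hz'⟩ := key (LinearEquiv.neg ℤ) fun c _ => LinearEquiv.ext fun x => map_neg c x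
  refine ⟨⟨z, hz, hz'⟩, fun u hu u' hu' => ?_⟩
  let s : V →+ V := DistribSMul.toAddMonoidHom V u + DistribSMul.toAddMonoidHom V u'
  by_cases hs : Function.Injective s
  · refine Or.inr (key (LinearEquiv.ofBijective s.toIntLinearMap (Finite.injective_iff_bijective.mp hs))
      fun c hc => LinearEquiv.ext fun x => ?_)
    have h1 : ∀ w ∈ P.U, c (w • x) = w • c x := fun w hw =>
      (DFunLike.congr_fun (hc _ ⟨w, hw, rfl⟩) x).symm
    show c (u • x + u' • x) = u • c x + u' • c x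
    rw [map_add, h1 u hu, h1 u' hu']
  · rw [injective_iff_map_eq_zero] at hs
    push Not at hs
    obtain ⟨x, hx, hx0⟩ := hs
    have h1 : (z * u')⁻¹ * u = 1 := by
      by_contra hc
      refine hx0 (P.fpf _ (P.U.mul_mem (P.U.inv_mem (P.U.mul_mem hz hu')) hu) hc x ?_)
      rw [mul_smul, inv_smul_eq_iff, mul_smul, hz']
      exact eq_neg_of_add_eq_zero_left hx
    exact Or.inl fun y => by
      rw [← inv_mul_eq_one.mp h1, mul_smul, hz']; exact neg_add_cancel _

theorem irr_cop (n : ℕ) : ∀ (G V : Type u) [Group G] [AddCommGroup V] [DistribMulAction G V]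
    [Finite V] [Finite G] [Group.IsSolvable G], (Nat.card G).Coprime (Nat.card V) →
    Nat.card V = n → Irr G V → ∃ t : Fin 2 → V, IsBase G t := by
  induction n using Nat.strong_induction_on with
  | _ n ih =>
  intro G0 V _ _ _ _ _ _ hcop0 hn hirr0
  rcases subsingleton_or_nontrivial V with hV | hV
  · exact ⟨0, fun _ _ _ => Subsingleton.elim _ _⟩
  obtain ⟨p, hp, hd⟩ := Nat.exists_prime_and_dvd (Finite.one_lt_card (α := V)).ne'
  have hVp := hirr0.nsmul_eq_zero hp hd
  have hp0 : ¬ p ∣ Nat.card G0 := fun h => hp.one_lt.ne' (Nat.eq_one_of_dvd_coprimes hcop0 h hd)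
  by_cases hp2 : p = 2
  · subst hp2
    exact base_two_of_irr_odd (Nat.odd_iff.mpr (by omega)) hirr0
  let f := DistribMulAction.toModuleAut ℤ V (S := G0)
  obtain ⟨H, ⟨h1, h2, h3⟩, hHmax⟩ := (Set.toFinite {K : Subgroup (V ≃ₗ[ℤ] V) | f.range ≤ K ∧
    Group.IsSolvable K ∧ ¬ p ∣ Nat.card K}).exists_maximal ⟨f.range, le_rfl,
      Group.isSolvable_of_surjective f.rangeRestrict_surjective,
      fun h => hp0 (h.trans (Subgroup.card_range_dvd f))⟩
  have hirr : Irr H V := fun U hU => hirr0 U fun g => hU ⟨f g, h1 ⟨g, rfl⟩⟩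
  suffices h : ∃ t : Fin 2 → V, IsBase H t from h.imp fun _ h g => h ⟨f g, h1 ⟨g, rfl⟩⟩
  have hcop : (Nat.card H).Coprime (Nat.card V) := Nat.coprime_of_dvd fun q hq hq1 hq2 => by
    have := Fact.mk hp
    have := Fact.mk hq
    obtain ⟨x, hx⟩ := exists_ne (0 : V)
    exact h3 (((addOrderOf_eq_prime (hirr.nsmul_eq_zero hq hq2 x) hx).symm.trans
      (addOrderOf_eq_prime (hVp x) hx)) ▸ hq1)
  obtain ⟨U, hUn, hUc, hmax⟩ := exists_max_abelian (G := H)
  rcases fpf_or_imprim hirr U hUc with hf | ⟨M, _, W, hM, hW, hW0⟩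
  · obtain ⟨P⟩ := exists_prim U hUn hUc hmax hf
    exact prim_cop P (fld_of_max hp hVp hirr h3
      (fun K a b c => hHmax ⟨h1.trans a, b, c⟩ a) _) hp hp2 hVp hcop
  · have : Nontrivial (H ⧸ M) := QuotientGroup.nontrivial_iff.mpr hM.1
    obtain ⟨A, _, _, e, hA, h0, hm, -⟩ := exists_affine M hM
    have : Finite A := Finite.of_equiv _ e.symm
    let _ := subAct _ _ (hW.stab_inv ((1 : H) : H ⧸ M))
    have hS : ¬ p ∣ _ := fun h => h3 (h.trans (Subgroup.card_subgroup_dvd_card
      (MulAction.stabilizer H ((1 : H) : H ⧸ M))))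
    obtain ⟨t', ht'⟩ := ih _ (hn ▸ hW.card_block_lt _ hW0) _ _
      ((hcop.coprime_dvd_left (Subgroup.card_subgroup_dvd_card _)).coprime_dvd_right
        (AddSubgroup.card_addSubgroup_dvd_card _)) rfl (hW.irr_block hirr _)
    have := (AddSubgroup.nontrivial_iff_ne_bot _).mpr hW0
    have hWp : ∀ x : W ((1 : H) : H ⧸ M), p • x = 0 := fun x => Subtype.ext (hVp x)
    by_cases hp3 : p = 3
    · subst hp3
      obtain ⟨χ, hχ⟩ := colouring_three h3 h0 hm hA fun h2 => irr_six _ M A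
        (fun h => h3 (h.trans (Subgroup.card_subgroup_dvd_card M))) h2 rfl hA
      obtain ⟨T, hT, hT'⟩ := many_shear hp hWp hS ht' (fun c : Fin 3 => c.val) Fin.val_injective
        fun c => c.2
      exact hW.wreath' _ T hT (fun c c' g hg => hT' c c' g fun i => Subtype.ext (hg i)) χ hχ
    · obtain ⟨t, ht⟩ := base_three_of_irr hA
      obtain ⟨χ, hχ⟩ := colouring_five h0 hm ht
      obtain ⟨T, hT, hT'⟩ := many_shear hp hWp hS ht'
        (fun c : Option (Fin 4) => c.elim 4 Fin.val) (by decide)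
        fun c => lt_of_lt_of_le (by revert c; decide) (hp.five_le_of_ne_two_of_ne_three hp2 hp3)
      exact hW.wreath' _ T hT (fun c c' g hg => hT' c c' g fun i => Subtype.ext (hg i)) χ hχ

theorem base_two_of_irr_cop {G V : Type*} [Group G] [AddCommGroup V] [DistribMulAction G V]
    [Finite V] [Group.IsSolvable G] (hcop : (Nat.card G).Coprime (Nat.card V)) (h : Irr G V) :
    ∃ t : Fin 2 → V, IsBase G t :=
  have := solvable_im (G := G) (V := V)
  (irr_cop _ (Im G V) V (hcop.coprime_dvd_left card_im_dvd) rfl h.im).imp fun _ => IsBase.of_im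

end Cfsg.Agent.FG.BS
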