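import Mathlib
import Cfsg.Agent.GT.CoprimeActThms
import Cfsg.Agent.GT.PiGroups
import Cfsg.Agent.GT.TransferEval
import Cfsg.Agent.GT.PGroupMaxClass

/-! Inequalities between the orders of fixed point subgroups in a coprime action of a `p`-group. -/

set_option autoImplicit false

namespace Cfsg.Agent.FG.FixI

open Subgroup Cfsg.Agent.GT Cfsg.Agent.GT.CopAct
open scoped Pointwise

universe u

variable {A : Type*} [Group A]

/-- The fixed points of the subgroup `B` of the operator group. -/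
def fx {V : Type*} [Group V] (φ : A →* MulAut V) (B : Subgroup A) : Subgroup V :=
  actFixed (φ.comp B.subtype)

section basic

variable {V : Type*} [Group V] {φ : A →* MulAut V}

theorem mem_fx {B : Subgroup A} {v : V} : v ∈ fx φ B ↔ ∀ b ∈ B, φ b v = v :=
  ⟨fun h b hb => h ⟨b, hb⟩, fun h b => h b b.2⟩

theorem mem_fx_closure {S : Set A} {v : V} : v ∈ fx φ (closure S) ↔ ∀ b ∈ S, φ b v = v := by
  refine mem_fx.trans ⟨fun h b hb => h b (Subgroup.subset_closure hb), fun h b hb => ?_⟩
  have : closure S ≤ (MulAction.stabilizer (MulAut V) v).comap φ := (closure_le _).2 h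
  exact this hb

theorem mem_fx_zpowers {x : A} {v : V} : v ∈ fx φ (zpowers x) ↔ φ x v = v := by
  rw [zpowers_eq_closure, mem_fx_closure]; simp

theorem fx_bot : fx φ ⊥ = ⊤ := by
  rw [eq_top_iff]
  intro v _
  rw [mem_fx]
  intro b hb
  rw [mem_bot.1 hb, map_one, MulAut.one_apply]

theorem card_fx_subHom {U : Subgroup V} (hU : ActInv φ U) (B : Subgroup A) :
    Nat.card (fx (subHom φ U hU) B) = Nat.card (U ⊓ fx φ B : Subgroup V) := by
  have : fx (subHom φ U hU) B = (U ⊓ fx φ B).subgroupOf U := by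
    ext v
    rw [mem_subgroupOf, mem_inf, and_iff_right v.2, mem_fx, mem_fx]
    exact forall₂_congr fun b _ => Subtype.ext_iff
  rw [this, Nat.card_congr (subgroupOfEquivOfLe inf_le_left).toEquiv]

variable [Finite A] [Finite V]

theorem card_fx_eq_mul (hcop : (Nat.card A).Coprime (Nat.card V)) [Group.IsSolvable A]
    {N : Subgroup V} [N.Normal] (hN : ActInv φ N) (B : Subgroup A) :
    Nat.card (fx φ B) = Nat.card (fx (subHom φ N hN) B) * Nat.card (fx (quotHom φ N hN) B) := by
  have hN' : ActInv (φ.comp B.subtype) N := fun b => hN b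
  have h1 := actFixed_quotHom hN' ((hcop.coprime_dvd_left (card_subgroup_dvd_card B)).coprime_dvd_right
    (card_subgroup_dvd_card N)) (Or.inl inferInstance)
  change fx (quotHom φ N hN) B = (fx φ B).map _ at h1
  rw [h1, card_fx_subHom, ← relIndex_ker, QuotientGroup.ker_mk', ← inf_relIndex_right,
    card_mul_relIndex inf_le_right]

theorem card_inf_fx_sylow (hcop : (Nat.card A).Coprime (Nat.card V)) [Group.IsSolvable A]
    {q : ℕ} [Fact q.Prime] {Q : Sylow q V} (hQ : ActInv φ Q) (B : Subgroup A) :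
    Nat.card ((Q : Subgroup V) ⊓ fx φ B : Subgroup V) = q ^ (Nat.card (fx φ B)).factorization q := by
  have hc := hcop.coprime_dvd_left (card_subgroup_dvd_card B)
  obtain ⟨U⟩ : Nonempty (Sylow q (fx φ B)) := inferInstance
  obtain ⟨R, hUR, hR⟩ := act_exists_invariant_sylow_ge (φ := φ.comp B.subtype) hc
    (Or.inl inferInstance) (U.isPGroup'.map (fx φ B).subtype)
    (actInv_of_le_actFixed (map_subtype_le _))
  obtain ⟨c, hc1, hc2⟩ := act_invariant_sylow_conj (φ := φ.comp B.subtype) hc
    (Or.inl inferInstance) R Q hR fun b => hQ b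
  have h1 : ((U : Subgroup (fx φ B)).map (fx φ B).subtype).map (MulAut.conj c).toMonoidHom ≤
      (Q : Subgroup V) ⊓ fx φ B := by
    refine le_inf ?_ (Tr.map_conj_le_iff.2 fun a ha => ?_)
    · rw [← hc2, Tr.coe_smul_sylow]
      exact map_mono hUR
    · exact mul_mem (mul_mem hc1 (map_subtype_le _ ha)) (inv_mem hc1)
  refine Nat.dvd_antisymm ?_ ?_
  · obtain ⟨k, hk⟩ := (Q.isPGroup'.to_le (inf_le_left (b := fx φ B))).exists_card_eq
    rw [hk]
    exact pow_dvd_pow _ (((Fact.out : q.Prime).pow_dvd_iff_le_factorization Nat.card_pos.ne').1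
      (hk ▸ card_dvd_of_le inf_le_right))
  · rw [← U.card_eq_multiplicity, ← card_subtype, ← Tr.card_map_conj _ c]
    exact card_dvd_of_le h1

end basic

section abelian

variable {V : Type*} [CommGroup V] [Finite V] {p : ℕ} [hp : Fact p.Prime] {α β : MulAut V}

omit [Finite V] hp in
theorem eq_one_of_fix (hβ : β ^ p = 1) (hV : p.Coprime (Nat.card V)) {v : V}
    (h : β (v⁻¹ * β v) = v⁻¹ * β v) : v⁻¹ * β v = 1 := by
  have key : ∀ k : ℕ, (β ^ k) v = v * (v⁻¹ * β v) ^ k := by
    intro k
    induction k with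
    | zero => simp
    | succ k ih => rw [pow_succ', MulAut.mul_apply, ih, map_mul, map_pow, h, pow_succ',
        ← mul_assoc, mul_inv_cancel_left]
  have h1 := key p
  rw [hβ, MulAut.one_apply, left_eq_mul] at h1
  exact eq_one_of_pow_eq_one_of_coprime hV h1

omit [Finite V] in
theorem fix_of_pow_eq (hβ : β ^ p = 1) {i j : ℕ} (hij : i < j) (hj : j < p) {e : V}
    (h : (β ^ i) e = (β ^ j) e) : β e = e := by
  obtain ⟨k, rfl⟩ := Nat.exists_eq_add_of_lt hij
  rw [add_assoc, pow_add, MulAut.mul_apply, (β ^ i).apply_eq_iff_eq] at h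
  refine Tr.mem_of_pow_mem_of_coprime (K := MulAction.stabilizer (MulAut V) e) h.symm ?_
  exact (Nat.coprime_of_lt_prime (by omega) (by omega) hp.out).coprime_dvd_left
    (orderOf_dvd_of_pow_eq_one hβ)

omit [Finite V] in
theorem indep (hc : Commute α β) (hβ : β ^ p = 1) (hV : p.Coprime (Nat.card V)) (s : Finset ℕ)
    (hs : ∀ i ∈ s, i < p) (e : ℕ → V) (he : ∀ i ∈ s, (∃ v, e i = v⁻¹ * β v) ∧ (α * β ^ i) (e i) = e i)
    (h : ∏ i ∈ s, e i = 1) : ∀ i ∈ s, e i = 1 := by
  classical
  induction s using Finset.induction_on generalizing e with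
  | empty => simp
  | insert j s hj ih =>
    have hcomm : ∀ i k : ℕ, Commute (α * β ^ i) (α * β ^ k) := fun i k =>
      ((Commute.refl α).mul_right (hc.pow_right k)).mul_left
        ((hc.symm.pow_left i).mul_right ((Commute.refl β).pow_pow i k))
    have hcb : Commute β (α * β ^ j) := hc.symm.mul_right ((Commute.refl β).pow_right j)
    have h1 : ∀ i ∈ s, e i = 1 := by
      intro i hi
      have hi' := Finset.mem_insert_of_mem (b := j) hi
      have h2 := ih (fun i hi => hs i (Finset.mem_insert_of_mem hi))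
        (fun i => (e i)⁻¹ * (α * β ^ j) (e i)) (fun i hi => ?_) ?_ i hi
      · obtain ⟨⟨v, hv⟩, h3⟩ := he i hi'
        rw [hv]
        refine eq_one_of_fix hβ hV (hv ▸ ?_)
        rw [inv_mul_eq_one] at h2
        have h4 : (β ^ i) (e i) = (β ^ j) (e i) := α.injective (h3.trans h2)
        rcases lt_or_gt_of_ne (show i ≠ j from fun e => hj (e ▸ hi)) with h5 | h5
        · exact fix_of_pow_eq hβ h5 (hs j (Finset.mem_insert_self _ _)) h4
        · exact fix_of_pow_eq hβ h5 (hs i hi') h4.symm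
      · obtain ⟨⟨v, hv⟩, h3⟩ := he i (Finset.mem_insert_of_mem hi)
        refine ⟨⟨v⁻¹ * (α * β ^ j) v, ?_⟩, ?_⟩
        · rw [hv, map_mul, map_mul, map_inv, map_inv, ← MulAut.mul_apply V β, hcb.eq,
            ← MulAut.mul_apply V _ β]
          simp only [mul_inv_rev, inv_inv, mul_comm, mul_left_comm, mul_assoc]
        · rw [map_mul, map_inv, h3, ← MulAut.mul_apply, (hcomm i j).eq, MulAut.mul_apply, h3]
      · have h2 : ∏ i ∈ insert j s, (e i)⁻¹ * (α * β ^ j) (e i) = 1 := by
          rw [Finset.prod_mul_distrib, Finset.prod_inv_distrib, ← map_prod, h, map_one, inv_one,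
            mul_one]
        rwa [Finset.prod_insert hj, (he j (Finset.mem_insert_self _ _)).2, inv_mul_cancel,
          one_mul] at h2
    rw [Finset.prod_insert hj, Finset.prod_eq_one h1, mul_one] at h
    intro i hi
    rcases Finset.mem_insert.1 hi with rfl | hi
    exacts [h, h1 i hi]

theorem ineq_comm {φ : A →* MulAut V} {x z : A} (hc : Commute (φ x) (φ z)) (hz : φ z ^ p = 1)
    (hV : p.Coprime (Nat.card V)) :
    (∏ i : Fin p, Nat.card (fx φ (zpowers (x * z ^ (i : ℕ))))) * Nat.card (fx φ (zpowers z)) ≤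
      Nat.card V * Nat.card (fx φ (closure {x, z})) ^ p := by
  let f : (∀ i : Fin p, fx φ (zpowers (x * z ^ (i : ℕ)))) →* V ⧸ fx φ (zpowers z) :=
    (QuotientGroup.mk' _).comp (MonoidHom.mk' (fun d => ∏ i, (d i : V)) fun a b => by
      simp [Finset.prod_mul_distrib])
  have hker : ∀ d ∈ f.ker, ∀ i, (d i : V) ∈ fx φ (closure {x, z}) := by
    intro d hd i
    have h1 : φ z (∏ i, (d i : V)) = ∏ i, (d i : V) :=
      mem_fx_zpowers.1 ((QuotientGroup.eq_one_iff _).1 hd)
    have h2 : ∀ i : Fin p, (φ x * φ z ^ (i : ℕ)) (d i) = d i := fun i => by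
      have := mem_fx_zpowers.1 (d i).2
      rwa [map_mul, map_pow] at this
    have h3 := indep hc hz hV (Finset.range p) (fun i => Finset.mem_range.1)
      (fun i => if h : i < p then (d ⟨i, h⟩ : V)⁻¹ * φ z (d ⟨i, h⟩) else 1) (fun i hi => by
        rw [dif_pos (Finset.mem_range.1 hi)]
        refine ⟨⟨_, rfl⟩, ?_⟩
        have h4 := h2 ⟨i, Finset.mem_range.1 hi⟩
        rw [map_mul, map_inv, h4, ← MulAut.mul_apply,
          (hc.mul_left ((Commute.refl _).pow_left i)).eq, MulAut.mul_apply, h4]) (by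
        rw [Finset.prod_range]
        simp only [Fin.is_lt, dif_pos, Fin.eta]
        rw [Finset.prod_mul_distrib, Finset.prod_inv_distrib, ← map_prod, h1, inv_mul_cancel])
      i (Finset.mem_range.2 i.2)
    simp only [Fin.is_lt, dif_pos, Fin.eta, inv_mul_eq_one] at h3
    have h4 : (φ z ^ (i : ℕ)) (d i) = d i :=
      pow_mem (S := MulAction.stabilizer (MulAut V) (d i : V)) h3.symm i
    have h5 := h2 i
    rw [MulAut.mul_apply, h4] at h5
    refine mem_fx_closure.2 ?_
    rintro b (rfl | rfl)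
    exacts [h5, h3.symm]
  have h1 : Nat.card f.ker ≤ Nat.card (fx φ (closure {x, z})) ^ p := by
    have := Nat.card_le_card_of_injective
      (fun d : f.ker => fun i : Fin p => (⟨d.1 i, hker d.1 d.2 i⟩ : fx φ (closure {x, z})))
      fun a b h => Subtype.ext (funext fun i => Subtype.ext
        (congrArg (fun y : fx φ (closure {x, z}) => (y : V)) (congrFun h i)))
    rwa [Nat.card_fun, Nat.card_eq_fintype_card (α := Fin p), Fintype.card_fin] at this
  rw [← Nat.card_pi, ← f.ker.card_mul_index, index_ker,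
    card_eq_card_quotient_mul_card_subgroup (fx φ (zpowers z)), mul_assoc, mul_comm]
  exact Nat.mul_le_mul (Nat.mul_le_mul_right _ (card_le_card_group _)) h1

end abelian

section general

variable [Finite A] {p : ℕ} [hp : Fact p.Prime]

/-- The left side of the key inequality. -/
noncomputable def lhs (p : ℕ) {V : Type*} [Group V] (φ : A →* MulAut V) (x z : A) : ℕ :=
  (∏ i : Fin p, Nat.card (fx φ (zpowers (x * z ^ (i : ℕ))))) * Nat.card (fx φ (zpowers z))

/-- The right side of the key inequality. -/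
noncomputable def rhs (p : ℕ) {V : Type*} [Group V] (φ : A →* MulAut V) (x z : A) : ℕ :=
  Nat.card (fx φ ⊥) * Nat.card (fx φ (closure {x, z})) ^ p

omit [Finite A] hp in
theorem sub_hyp {V : Type*} [Group V] {φ : A →* MulAut V} {x z : A} (hc : Commute (φ x) (φ z))
    (hz : φ z ^ p = 1) {U : Subgroup V} (hU : ActInv φ U) :
    Commute (subHom φ U hU x) (subHom φ U hU z) ∧ subHom φ U hU z ^ p = 1 := by
  constructor
  · ext u
    exact congrArg (fun f : MulAut V => f u) hc.eq
  · rw [← map_pow] at hz ⊢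
    ext u
    exact congrArg (fun f : MulAut V => f u) hz

omit [Finite A] hp in
theorem quot_hyp {V : Type*} [Group V] {φ : A →* MulAut V} {x z : A} (hc : Commute (φ x) (φ z))
    (hz : φ z ^ p = 1) {U : Subgroup V} [U.Normal] (hU : ActInv φ U) :
    Commute (quotHom φ U hU x) (quotHom φ U hU z) ∧ quotHom φ U hU z ^ p = 1 := by
  constructor
  · ext u
    obtain ⟨u, rfl⟩ := QuotientGroup.mk_surjective u
    exact congrArg (fun f : MulAut V => (f u : V ⧸ U)) hc.eq
  · rw [← map_pow] at hz ⊢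
    ext u
    obtain ⟨u, rfl⟩ := QuotientGroup.mk_surjective u
    exact congrArg (fun f : MulAut V => (f u : V ⧸ U)) hz

theorem ineq_nilp (hA : IsPGroup p A) {q : ℕ} [Fact q.Prime] (hqp : p ≠ q) {x z : A} (n : ℕ) :
    ∀ {V : Type u} [Group V] [Finite V] (φ : A →* MulAut V), Nat.card V = n → IsPGroup q V →
      Commute (φ x) (φ z) → φ z ^ p = 1 → lhs p φ x z ≤ rhs p φ x z := by
  induction n using Nat.strong_induction_on with
  | _ n ih =>
  intro V _ _ φ hn hV hc hz
  have hcop : ∀ {W : Type u} [Group W] [Finite W], IsPGroup q W → p.Coprime (Nat.card W) := by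
    intro W _ _ hW
    obtain ⟨k, hk⟩ := hW.exists_card_eq
    rw [hk]
    exact ((Nat.coprime_primes hp.out Fact.out).2 hqp).pow_right k
  have comm : ∀ {W : Type u} [Group W] [Finite W] (ψ : A →* MulAut W), IsPGroup q W →
      IsMulCommutative W → Commute (ψ x) (ψ z) → ψ z ^ p = 1 → lhs p ψ x z ≤ rhs p ψ x z := by
    intro W _ _ ψ hW hWc h1 h2
    let _ : CommGroup W := { (inferInstance : Group W) with mul_comm := hWc.is_comm.comm }
    unfold lhs rhs
    rw [fx_bot, card_top]
    exact ineq_comm h1 h2 (hcop hW)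
  rcases subsingleton_or_nontrivial V with h | h
  · exact comm φ hV ⟨⟨fun _ _ => Subsingleton.elim _ _⟩⟩ hc hz
  have hN : ActInv φ (center V) := actInv_of_characteristic φ _
  have := hA.isNilpotent
  have hcop' : (Nat.card A).Coprime (Nat.card V) := by
    obtain ⟨k, hk⟩ := hA.exists_card_eq
    rw [hk]
    exact (hcop hV).pow_left k
  have h1 := comm (subHom φ _ hN) (hV.to_subgroup _) inferInstance (sub_hyp hc hz hN).1
    (sub_hyp hc hz hN).2
  have h2 := ih _ ?_ (quotHom φ _ hN) rfl (hV.to_quotient _) (quot_hyp hc hz hN).1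
    (quot_hyp hc hz hN).2
  · unfold lhs rhs at *
    simp only [card_fx_eq_mul hcop' hN, Finset.prod_mul_distrib, mul_pow]
    rw [mul_mul_mul_comm, mul_mul_mul_comm (Nat.card (fx (subHom φ _ hN) ⊥))]
    exact Nat.mul_le_mul h1 h2
  · have := hV.center_nontrivial
    rw [← hn, card_eq_card_quotient_mul_card_subgroup (center V)]
    exact lt_mul_of_one_lt_right Nat.card_pos Finite.one_lt_card

theorem ineq_pair (hA : IsPGroup p A) {V : Type u} [Group V] [Finite V] (φ : A →* MulAut V)
    (hV : ¬ p ∣ Nat.card V) {x z : A} (hc : Commute (φ x) (φ z)) (hz : φ z ^ p = 1) :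
    lhs p φ x z ≤ rhs p φ x z := by
  have := hA.isNilpotent
  have hcop : (Nat.card A).Coprime (Nat.card V) := by
    obtain ⟨k, hk⟩ := hA.exists_card_eq
    rw [hk]
    exact ((Nat.Prime.coprime_iff_not_dvd hp.out).2 hV).pow_left k
  have h0 : ∀ B : Subgroup A, Nat.card (fx φ B) ≠ 0 := fun B => Nat.card_pos.ne'
  have hl : lhs p φ x z ≠ 0 := mul_ne_zero (Finset.prod_ne_zero_iff.2 fun _ _ => h0 _) (h0 _)
  have hr : rhs p φ x z ≠ 0 := mul_ne_zero (h0 _) (pow_ne_zero _ (h0 _))
  refine Nat.le_of_dvd (Nat.pos_of_ne_zero hr) ((Nat.factorization_prime_le_iff_dvd hl hr).1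
    fun q hq => ?_)
  have := Fact.mk hq
  obtain ⟨Q, hQ⟩ := act_exists_invariant_sylow φ hcop (Or.inl inferInstance) q
  unfold lhs rhs
  rw [Nat.factorization_mul (Finset.prod_ne_zero_iff.2 fun _ _ => h0 _) (h0 _),
    Nat.factorization_mul (h0 _) (pow_ne_zero _ (h0 _)), Nat.factorization_prod fun _ _ => h0 _,
    Nat.factorization_pow]
  simp only [Finsupp.add_apply, Finsupp.finsetSum_apply, Finsupp.smul_apply, smul_eq_mul]
  by_cases hqp : p = q
  · subst hqp
    have h1 : ∀ B : Subgroup A, (Nat.card (fx φ B)).factorization p = 0 := fun B =>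
      Nat.factorization_eq_zero_of_not_dvd fun h => hV (h.trans (card_subgroup_dvd_card _))
    simp [h1]
  have h1 := ineq_nilp hA hqp _ (subHom φ _ hQ) rfl Q.isPGroup' (sub_hyp hc hz hQ).1
    (sub_hyp hc hz hQ).2
  unfold lhs rhs at h1
  simp only [card_fx_subHom, card_inf_fx_sylow hcop hQ] at h1
  rwa [Finset.prod_pow_eq_pow_sum, ← pow_mul, ← pow_add, ← pow_add,
    Nat.pow_le_pow_iff_right hq.one_lt, mul_comm] at h1

/-- The inequality derived from the Navarro–Rizo formula. -/
theorem prod_card_fx_le [Fintype A] (hA : IsPGroup p A) (n : ℕ) :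
    ∀ {V : Type u} [Group V] [Finite V] (φ : A →* MulAut V), Nat.card V = n → ¬ p ∣ Nat.card V →
      (∏ x : A, Nat.card (fx φ (zpowers x))) ^ p ≤
        Nat.card V ^ Nat.card A * Nat.card (fx φ ⊤) ^ ((p - 1) * Nat.card A) := by
  induction n using Nat.strong_induction_on with
  | _ n ih =>
  intro V _ _ φ hn hV
  by_cases h : φ.range = ⊥
  · have h1 : ∀ B : Subgroup A, fx φ B = ⊤ := fun B => eq_top_iff.2 fun v _ => mem_fx.2 fun b _ => by
      rw [mem_bot.1 (h ▸ ⟨b, rfl⟩ : φ b ∈ (⊥ : Subgroup (MulAut V))), MulAut.one_apply]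
    simp only [h1, card_top, Finset.prod_const, Finset.card_univ, ← Nat.card_eq_fintype_card]
    rw [← pow_mul, ← pow_add, ← one_add_mul, Nat.add_sub_cancel' hp.out.one_le, mul_comm]
  have hR : IsPGroup p φ.range := hA.of_surjective _ φ.rangeRestrict_surjective
  have : Nontrivial φ.range := (nontrivial_iff_ne_bot _).2 h
  have := hR.center_nontrivial
  obtain ⟨⟨⟨_, z, rfl⟩, hzc⟩, hz⟩ := exists_prime_orderOf_dvd_card' (G := center φ.range) p
    ((hR.to_subgroup _).card_eq_or_dvd.resolve_left Finite.one_lt_card.ne')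
  rw [← orderOf_coe, ← orderOf_coe] at hz
  change orderOf (φ z) = p at hz
  have hc : ∀ x, Commute (φ x) (φ z) := fun x =>
    congrArg Subtype.val (Subgroup.mem_center_iff.1 hzc ⟨_, x, rfl⟩)
  have hW : ActInv φ (fx φ (zpowers z)) := fun a w hw => mem_fx_zpowers.2 (by
    rw [← MulAut.mul_apply, ← (hc a).eq, MulAut.mul_apply, mem_fx_zpowers.1 hw])
  have hlt : Nat.card (fx φ (zpowers z)) < n := by
    rw [← hn, ← card_top (G := V)]
    refine Tr.card_lt_of_lt (lt_top_iff_ne_top.2 fun h1 => ?_)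
    have : φ z = 1 := MulEquiv.ext fun v => mem_fx_zpowers.1 (h1 ▸ mem_top v)
    rw [this, orderOf_one] at hz
    exact hp.out.one_lt.ne hz
  have h1 := ih _ hlt (subHom φ _ hW) rfl fun h => hV (h.trans (card_subgroup_dvd_card _))
  have h2 : ∀ x : A, (∏ i : Fin p, Nat.card (fx φ (zpowers (x * z ^ (i : ℕ))))) *
      Nat.card (fx φ (zpowers z)) ≤
      Nat.card V * Nat.card (fx (subHom φ _ hW) (zpowers x)) ^ p := fun x => by
    have h3 := ineq_pair hA φ hV (hc x) (hz ▸ pow_orderOf_eq_one _)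
    unfold lhs rhs at h3
    rw [fx_bot, card_top] at h3
    convert h3 using 3
    rw [card_fx_subHom]
    congr 2
    ext v
    simp [mem_fx_zpowers, mem_fx_closure, and_comm]
  have h3 := Finset.prod_le_prod' (s := Finset.univ) fun x _ => h2 x
  have h4 : ∀ i : Fin p, ∏ x : A, Nat.card (fx φ (zpowers (x * z ^ (i : ℕ)))) =
      ∏ x : A, Nat.card (fx φ (zpowers x)) := fun i =>
    Equiv.prod_comp (Equiv.mulRight (z ^ (i : ℕ))) fun x => Nat.card (fx φ (zpowers x))
  rw [Finset.prod_mul_distrib, Finset.prod_mul_distrib, Finset.prod_comm, Finset.prod_pow] at h3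
  simp only [h4, Finset.prod_const, Finset.card_univ, Fintype.card_fin] at h3
  rw [← Nat.card_eq_fintype_card] at h3
  rw [card_fx_subHom hW ⊤, inf_eq_right.2 (show fx φ ⊤ ≤ fx φ (zpowers z) from
    fun v hv => mem_fx.2 fun b _ => mem_fx.1 hv b (mem_top b))] at h1
  refine Nat.le_of_mul_le_mul_right (h3.trans ((Nat.mul_le_mul_left _ h1).trans_eq ?_))
    (pow_pos Nat.card_pos _)
  ring

end general

end Cfsg.Agent.FG.FixI
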