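import Mathlib
import Cfsg.Agent.FG.BaseCop
import Cfsg.Agent.FG.H94FixIneq
import Cfsg.Agent.GT.Fitting

/-! Base size two for solvable groups acting coprimely on finite groups. -/

set_option autoImplicit false

namespace Cfsg.Agent.FG.BS

open Cfsg.Agent.GT.CopAct Cfsg.Agent.FG.FixI

universe u

open Classical in
theorem card_ge_eq {L Z : Type*} [PartialOrder L] [Fintype L] [Finite Z] (f : Z → L) (B : L) :
    Nat.card {x | B ≤ f x} =
      Nat.card {x | f x = B} + ∑ C ∈ Finset.univ.filter (B < ·), Nat.card {x | f x = C} := by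
  have := Fintype.ofFinite Z
  simp only [Set.coe_ofPred, Nat.card_eq_fintype_card, Fintype.card_subtype]
  rw [Finset.card_eq_sum_card_fiberwise (f := f) (t := insert B (Finset.univ.filter (B < ·)))
    (fun x hx => by simpa [eq_comm (b := B)] using (Finset.mem_filter.mp hx).2.eq_or_lt),
    Finset.sum_insert (by simp)]
  congr 1
  · congr 1; ext x; simpa using fun e => e.ge
  · refine Finset.sum_congr rfl fun C hC => ?_
    congr 1; ext x; simpa using fun e => e ▸ (Finset.mem_filter.mp hC).2.le

/-- equal numbers of fixed points give equal stabilisers -/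
theorem exists_eq_of_marks {L X Y : Type*} [PartialOrder L] [Finite L] [Finite X] [Finite Y]
    (f : X → L) (g : Y → L) (h : ∀ B, Nat.card {x | B ≤ f x} = Nat.card {y | B ≤ g y}) (y : Y) :
    ∃ x, f x = g y := by
  classical
  have := Fintype.ofFinite L
  have h2 : ∀ B, Nat.card {x | f x = B} = Nat.card {y | g y = B} := fun B => by
    induction B using WellFoundedGT.induction with
    | _ B ih =>
    have e := h B
    rw [card_ge_eq f, card_ge_eq g, Finset.sum_congr rfl fun C hC => ih C (Finset.mem_filter.mp hC).2] at e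
    exact add_right_cancel e
  have : Nonempty {y' | g y' = g y} := ⟨⟨y, rfl⟩⟩
  obtain ⟨x, hx⟩ := (Nat.card_pos_iff.mp (Nat.card_pos.trans_eq (h2 (g y)).symm)).1
  exact ⟨x, hx⟩

variable {A : Type*} [Group A] [Finite A] [Group.IsSolvable A]

theorem base_two_solvable (n : ℕ) : ∀ {K : Type u} [Group K] [Finite K] [Group.IsSolvable K]
    (φ : A →* MulAut K), (Nat.card A).Coprime (Nat.card K) → Nat.card K = n →
    ∃ x y : K, ∀ a, φ a x = x → φ a y = y → ∀ k, φ a k = k := by
  induction n using Nat.strong_induction_on with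
  | _ n ih =>
  intro K _ _ _ φ hcop hn
  by_cases h : ∃ N : Subgroup K, N.Normal ∧ ActInv φ N ∧ N ≠ ⊥ ∧ N ≠ ⊤
  · obtain ⟨N, _, hN, h1, h2⟩ := h
    have hc := hcop.coprime_dvd_right (Subgroup.card_subgroup_dvd_card N)
    have e := N.card_mul_index
    have e1 : 1 < Nat.card N := (Subgroup.one_lt_card_iff_ne_bot N).mpr h1
    have e2 : 1 < N.index := Subgroup.one_lt_index_of_ne_top h2
    obtain ⟨x, y, hxy⟩ := ih _ (by nlinarith) (subHom φ N hN) hc rfl
    obtain ⟨x', y', hxy'⟩ := ih _ (show N.index < n by nlinarith) (quotHom φ N hN)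
      (hcop.coprime_dvd_right N.index_dvd_card) rfl
    have key : ∀ (z' : K ⧸ N) (z : N), ∃ c : K, ∀ a, φ a c = c →
        quotHom φ N hN a z' = z' ∧ φ a z = z := by
      intro z' z
      obtain ⟨g, rfl⟩ := QuotientGroup.mk_surjective z'
      let B := (MulAction.stabilizer (MulAut (K ⧸ N)) (g : K ⧸ N)).comap (quotHom φ N hN)
      obtain ⟨c, hc1, hc2⟩ := act_exists_fixed_inv_mul_mem (φ := φ.comp B.subtype) (N := N)
        (fun b => hN b) (hc.coprime_dvd_left (Subgroup.card_subgroup_dvd_card B))
        (Or.inl inferInstance) (g := g) fun b => QuotientGroup.eq.mp (Eq.symm b.2)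
      refine ⟨c * z, fun a ha => ?_⟩
      have h3 : quotHom φ N hN a g = g := by
        rw [QuotientGroup.eq.mpr hc2, ← QuotientGroup.mk_mul_of_mem c z.2, quotHom_mk, ha]
      refine ⟨h3, ?_⟩
      have h4 : φ a c = c := hc1 ⟨a, h3⟩
      rwa [map_mul, h4, mul_right_inj] at ha
    obtain ⟨c, hc'⟩ := key x' x
    obtain ⟨d, hd'⟩ := key y' y
    refine ⟨c, d, fun a h1 h2 k => ?_⟩
    have h3 := hxy a (Subtype.ext (hc' a h1).2) (Subtype.ext (hd' a h2).2)
    have h4 := hxy' a (hc' a h1).1 (hd' a h2).1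
    refine mem_fx_zpowers.mp (act_trivial_of_trivial_on_factors
      (φ := φ.comp (Subgroup.zpowers a).subtype) (U := ⊤)
      (hc.coprime_dvd_left (Subgroup.card_subgroup_dvd_card _)) (fun u _ b => ?_)
      (fun u hu => mem_fx_zpowers.mpr (congrArg Subtype.val (h3 ⟨u, hu⟩))) (Subgroup.mem_top k))
    exact QuotientGroup.eq.mp (Eq.symm (mem_fx_zpowers.mpr (h4 u) b))
  · push Not at h
    rcases subsingleton_or_nontrivial K with hK | hK
    · exact ⟨1, 1, fun _ _ _ _ => Subsingleton.elim _ _⟩
    have hc : commutator K = ⊥ := by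
      by_contra hc
      exact (Group.IsSolvable.commutator_lt_top_of_nontrivial K).ne (h _ inferInstance
        (fun a u hu => (Subgroup.characteristic_iff_le_comap.mp inferInstance (φ a)) hu) hc)
    let _ : CommGroup K := { ‹Group K› with
      mul_comm := fun a b => commutatorElement_eq_one_iff_mul_comm.mp (Subgroup.mem_bot.mp
        (hc.le (Subgroup.commutator_mem_commutator (Subgroup.mem_top a) (Subgroup.mem_top b)))) }
    let _ : DistribMulAction A (Additive K) :=
      { smul := fun a x => Additive.ofMul (φ a x.toMul)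
        one_smul := fun x => congrArg Additive.ofMul (by simp; rfl)
        mul_smul := fun a b x => congrArg Additive.ofMul (by simp; rfl)
        smul_zero := fun a => map_one (φ a)
        smul_add := fun a x y => map_mul (φ a) _ _ }
    obtain ⟨t, ht⟩ := base_two_of_irr_cop (G := A) (V := Additive K) hcop fun U hU => by
      refine or_iff_not_imp_left.mpr fun h1 => ?_
      have := h (AddSubgroup.toSubgroup' U) inferInstance hU (by simpa using h1)
      simpa using this
    exact ⟨(t 0).toMul, (t 1).toMul, fun a h0 h1 k => ht a (fun i => by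
      fin_cases i; exacts [h0, h1]) (Additive.ofMul k)⟩

theorem base_two_coprime {K : Type*} [Group K] [Finite K] (φ : A →* MulAut K)
    (hcop : (Nat.card A).Coprime (Nat.card K)) :
    ∃ x y : K, ∀ a, φ a x = x → φ a y = y → ∀ k, φ a k = k := by
  let I := {p // p ∈ (Nat.card K).primeFactors}
  have hI : ∀ p : I, Fact p.1.Prime := fun p => ⟨Nat.prime_of_mem_primeFactors p.2⟩
  choose P hP using fun p : I => act_exists_invariant_sylow φ hcop (Or.inl inferInstance) p.1
  choose x y hxy using fun p : I =>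
    have := (P p).isPGroup'.isNilpotent
    base_two_solvable _ (subHom φ _ (hP p))
      (hcop.coprime_dvd_right (Subgroup.card_subgroup_dvd_card _)) rfl
  let s : K → Subgroup A := fun k => (MulAction.stabilizer (MulAut K) k).comap φ
  have key := exists_eq_of_marks s (fun z : ∀ p : I, (P p : Subgroup K) => ⨅ p, s (z p)) fun B => by
    have h1 : Nat.card {x | B ≤ s x} = Nat.card (fx φ B) := Nat.card_congr
      (Equiv.subtypeEquivRight fun k => mem_fx.symm)
    have h2 : Nat.card {z : ∀ p : I, (P p : Subgroup K) | B ≤ ⨅ p, s (z p)} =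
        Nat.card (∀ p : I, ((P p : Subgroup K) ⊓ fx φ B : Subgroup K)) := Nat.card_congr
      { toFun := fun z p => ⟨z.1 p, (z.1 p).2, 
          mem_fx.mpr fun _ hb => Subgroup.mem_iInf.mp ((show B ≤ _ from z.2) hb) p⟩
        invFun := fun z => ⟨fun p => ⟨z p, (z p).2.1⟩, 
          show B ≤ _ from le_iInf fun p => mem_fx.mp (z p).2.2⟩
        left_inv := fun _ => rfl
        right_inv := fun _ => rfl }
    rw [h1, h2, Nat.card_pi, Finset.prod_congr rfl fun p _ => card_inf_fx_sylow hcop (hP p) B,
      Finset.prod_coe_sort _ fun p => p ^ (Nat.card (fx φ B)).factorization p,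
      ← Finsupp.prod_of_support_subset _ (Nat.primeFactors_mono
        (Subgroup.card_subgroup_dvd_card _) Nat.card_pos.ne') (· ^ ·) (by simp),
      Nat.prod_factorization_pow_eq_self Nat.card_pos.ne']
  obtain ⟨c, hc⟩ := key x
  obtain ⟨d, hd⟩ := key y
  refine ⟨c, d, fun a h1 h2 k => mem_fx_zpowers.mp ((GT.eq_top_of_forall_sylow_le fun p hp hd' =>
    ⟨P ⟨p, Nat.mem_primeFactors.mpr ⟨hp, hd', Nat.card_pos.ne'⟩⟩, fun u hu => mem_fx_zpowers.mpr
      (congrArg Subtype.val (hxy _ a (Subtype.ext ?_) (Subtype.ext ?_) ⟨u, hu⟩))⟩) ▸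
        Subgroup.mem_top k)⟩
  · exact Subgroup.mem_iInf.mp (hc ▸ h1 : a ∈ ⨅ p, s (x p)) _
  · exact Subgroup.mem_iInf.mp (hd ▸ h2 : a ∈ ⨅ p, s (y p)) _

end Cfsg.Agent.FG.BS
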