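import Mathlib
import Cfsg.Agent.GT.Schmidt
import Cfsg.Agent.GT.MinNormal
import Cfsg.Agent.GT.Quasisimple
import Cfsg.Agent.GT.FixedPointFreeThompson
import Cfsg.Agent.GT.TransferEval
import Cfsg.Agent.GT.TransferAbelian

/-! Groups all of whose proper subgroups are CA-groups: solvable normal subgroups are central. -/

set_option autoImplicit false

namespace Cfsg.Agent.FG.CAm

open Subgroup

variable {G : Type*} [Group G]

/-- `H` is a CA-group, written with elements of the ambient group. -/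
def CAon (H : Subgroup G) : Prop :=
  ∀ x ∈ H, ∀ a ∈ H, ∀ b ∈ H, Commute x a → Commute x b → ¬ Commute a b → ∀ c ∈ H, Commute x c

/-- Every proper subgroup is a CA-group. -/
def W (G : Type*) [Group G] : Prop := ∀ H : Subgroup G, H ≠ ⊤ → CAon H

/-- A non-central element with non-abelian centralizer. -/
def Bad (x : G) : Prop := x ∉ center G ∧ ∃ a b, Commute x a ∧ Commute x b ∧ ¬ Commute a b

/-- `H` contains two non-commuting elements. -/
def Nab (H : Subgroup G) : Prop := ∃ a ∈ H, ∃ b ∈ H, ¬ Commute a b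

theorem mem_cen {x g : G} : g ∈ centralizer ({x} : Set G) ↔ Commute x g :=
  mem_centralizer_singleton_iff.trans ⟨fun h => h.symm, fun h => h.symm⟩

theorem mem_center' {x : G} : x ∈ center G ↔ ∀ g, Commute x g :=
  mem_center_iff.trans ⟨fun h g => (h g).symm, fun h g => (h g).symm⟩

theorem mem_cent {H : Subgroup G} {x : G} :
    x ∈ centralizer (H : Set G) ↔ ∀ h ∈ H, Commute x h :=
  mem_centralizer_iff.trans ⟨fun h g hg => (h g hg).symm, fun h g hg => (h g hg).symm⟩

theorem cen_ne_top {x : G} (hx : x ∉ center G) : centralizer ({x} : Set G) ≠ ⊤ := fun h =>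
  hx (mem_center'.2 fun g => mem_cen.1 (h ▸ mem_top g))

theorem Nab.mono {H K : Subgroup G} (h : Nab H) (hK : H ≤ K) : Nab K :=
  let ⟨a, ha, b, hb, hn⟩ := h; ⟨a, hK ha, b, hK hb, hn⟩

theorem not_nab {H : Subgroup G} : ¬ Nab H ↔ ∀ a ∈ H, ∀ b ∈ H, Commute a b := by
  simp only [Nab, not_exists, not_and, not_not]

theorem comm_of_not_nab {H : Subgroup G} (h : ¬ Nab H) : IsMulCommutative H :=
  ⟨⟨fun a b => Subtype.ext (not_nab.1 h a a.2 b b.2).eq⟩⟩

theorem solv_of_not_nab {H : Subgroup G} (h : ¬ Nab H) : Group.IsSolvable H :=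
  Group.isSolvable_of_comm fun a b => Subtype.ext (not_nab.1 h a a.2 b b.2).eq

theorem Bad.nab {x : G} (h : Bad x) : Nab (centralizer ({x} : Set G)) :=
  let ⟨_, a, b, h1, h2, h3⟩ := h; ⟨a, mem_cen.2 h1, b, mem_cen.2 h2, h3⟩

theorem bad_of {x : G} (hx : x ∉ center G) (h : Nab (centralizer ({x} : Set G))) : Bad x :=
  let ⟨a, h1, b, h2, h3⟩ := h; ⟨hx, a, b, mem_cen.1 h1, mem_cen.1 h2, h3⟩

theorem conj_comm {a b : G} (g : G) :
    Commute (g * a * g⁻¹) (g * b * g⁻¹) ↔ Commute a b :=
  ⟨fun h => by simpa [mul_assoc] using h.conj g⁻¹, fun h => h.conj g⟩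

theorem Bad.conj {x : G} (h : Bad x) (g : G) : Bad (g * x * g⁻¹) := by
  obtain ⟨h0, a, b, h1, h2, h3⟩ := h
  refine ⟨fun hc => h0 ?_, _, _, h1.conj g, h2.conj g, fun hc => h3 ((conj_comm g).1 hc)⟩
  simpa [mul_assoc] using (inferInstance : (center G).Normal).conj_mem _ hc g⁻¹

theorem CAon.central {H L : Subgroup G} (h : CAon H) {x : G} (hx : x ∈ H) (hL : Nab L)
    (hLH : L ≤ H) (hc : ∀ l ∈ L, Commute x l) : ∀ c ∈ H, Commute x c :=
  let ⟨a, ha, b, hb, hn⟩ := hL; h x hx a (hLH ha) b (hLH hb) (hc a ha) (hc b hb) hn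

theorem W.central (hW : W G) {H L : Subgroup G} (hH : H ≠ ⊤) {x : G} (hx : x ∈ H) (hL : Nab L)
    (hLH : L ≤ H) (hc : ∀ l ∈ L, Commute x l) : ∀ c ∈ H, Commute x c :=
  (hW H hH).central hx hL hLH hc

theorem ne_top_of_solv (hG : ¬ Group.IsSolvable G) {H : Subgroup G} (h : Group.IsSolvable H) :
    H ≠ ⊤ := fun e => hG (by
  subst e; exact Group.isSolvable_of_surjective (f := (⊤ : Subgroup G).subtype)
    fun g => ⟨⟨g, trivial⟩, rfl⟩)

theorem solv_zpowers (x : G) : Group.IsSolvable (zpowers x) :=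
  solv_of_not_nab (not_nab.2 fun _ ⟨m, hm⟩ _ ⟨n, hn⟩ => hm ▸ hn ▸ Commute.zpow_zpow_self x m n)

theorem solv_of_cmt {K : Subgroup G} (hs : Group.IsSolvable (⁅K, K⁆ : Subgroup G)) :
    Group.IsSolvable K := by
  refine Group.isSolvable_of_ker_le_range
    (inclusion (commutator_le_self K)) (Abelianization.of (G := K)) fun y hy => ?_
  rw [Abelianization.ker_of] at hy
  have := mem_map_of_mem K.subtype hy
  rw [commutator_def, map_commutator, ← MonoidHom.range_eq_map, range_subtype] at this
  exact ⟨⟨y, this⟩, rfl⟩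

variable [Finite G]

/-- A non-abelian finite group has a non-abelian solvable subgroup. -/
theorem Nab.exists_solv {H : Subgroup G} (h : Nab H) :
    ∃ M ≤ H, Nab M ∧ Group.IsSolvable M := by
  obtain ⟨M, hMH, hM⟩ := exists_minimal_le_of_wellFoundedLT (fun M : Subgroup G => Nab M) H h
  refine ⟨M, hMH, hM.1, GT.Schmidt.isSolvable_of_forall_proper fun L hL => ?_⟩
  have hn : ¬ Nab (L.map M.subtype) := fun hn => hL (by
    have := hM.2 hn (map_subtype_le L)
    refine top_unique fun x _ => ?_
    obtain ⟨y, hy, e⟩ := this x.2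
    exact (Subtype.ext e : y = x) ▸ hy)
  let _ : CommGroup L := { (inferInstance : Group L) with
    mul_comm := fun a b => Subtype.ext (Subtype.ext
      (not_nab.1 hn _ ⟨a, a.2, rfl⟩ _ ⟨b, b.2, rfl⟩).eq) }
  infer_instance

/-- Transfer: in a perfect group an abelian Sylow subgroup meets the centre of its normalizer
trivially. -/
theorem eq_one_of_perfect {p : ℕ} [Fact p.Prime] (hG : commutator G = ⊤) (P : Sylow p G)
    (hP : ¬ Nab (P : Subgroup G)) {t : G} (ht : t ∈ (P : Subgroup G))
    (hc : ∀ n ∈ normalizer ((P : Subgroup G) : Set G), Commute t n) : t = 1 := by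
  have h1 := GT.Tr.commutator_inf_sylow_eq_of_abelian P (comm_of_not_nab hP)
  rw [hG, top_inf_eq] at h1
  have h2 := GT.Tr.inf_commutator_inf_centralizer_eq_bot (A := (P : Subgroup G))
    (L := normalizer ((P : Subgroup G) : Set G)) (comm_of_not_nab hP)
    (P.card_coprime_index.of_dvd_right (relIndex_dvd_index_of_le le_normalizer))
  have : t ∈ (⊥ : Subgroup G) := h2 ▸ ⟨⟨ht, commutator_mono le_normalizer le_rfl (h1 ▸ ht)⟩,
    mem_cent.2 hc⟩
  exact this

omit [Finite G] in
theorem commutator_eq_top_of {K : Subgroup G} (hK : ⁅K, K⁆ = K) : commutator K = ⊤ := by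
  apply map_injective K.subtype_injective
  rw [commutator_def, map_commutator, ← MonoidHom.range_eq_map, range_subtype, hK]

/-- A perfect normal subgroup has central centralizer. -/
theorem W.center_of_perfect (hW : W G) {K : Subgroup G} [K.Normal] (hK : ⁅K, K⁆ = K)
    (h1 : K ≠ ⊥) {x : G} (hx : ∀ k ∈ K, Commute x k) : x ∈ center G := by
  by_contra hxc
  refine h1 (GT.perfect_eq_bot_of_isSolvable hK ?_)
  have : Group.IsNilpotent K := by
    suffices h : ∀ (p : ℕ) (_ : Fact p.Prime) (P : Sylow p K), (P : Subgroup K).Normal from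
      (Group.isNilpotent_of_finite_tfae.out 3 0).1 h
    intro p _ P
    by_contra hP
    set N := normalizer (((P : Subgroup K).map K.subtype : Subgroup G) : Set G) with hN
    have hle : (normalizer ((P : Subgroup K) : Set K)).map K.subtype ≤ N := le_normalizer_map _
    have hNt : N ≠ ⊤ := fun e => hP ((normalizer_eq_top_iff.1 e).of_map_injective
      K.subtype_injective)
    have hxN : x ∈ N := centralizer_le_normalizer _ (mem_cent.2 fun h hh =>
      hx h (map_subtype_le _ hh))
    have hnab : Nab ((normalizer ((P : Subgroup K) : Set K)).map K.subtype) := by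
      by_contra hn
      have hc : ∀ a ∈ normalizer ((P : Subgroup K) : Set K),
          ∀ b ∈ normalizer ((P : Subgroup K) : Set K), Commute a b := fun a ha b hb =>
        Subtype.ext (not_nab.1 hn _ ⟨a, ha, rfl⟩ _ ⟨b, hb, rfl⟩).eq
      have : (P : Subgroup K) = ⊥ := eq_bot_iff.2 fun t ht =>
        eq_one_of_perfect (commutator_eq_top_of hK) P
          (not_nab.2 fun a ha b hb => hc a (le_normalizer ha) b (le_normalizer hb)) ht
          fun n hn => hc t (le_normalizer ht) n hn
      exact hP (this ▸ inferInstance)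
    have hc := hW.central hNt hxN hnab hle fun l hl => hx l (map_subtype_le _ hl)
    refine cen_ne_top hxc (top_unique ?_)
    rw [← P.normalizer_sup_eq_top]
    exact sup_le (fun g hg => mem_cen.2 (hc g hg)) fun g hg => mem_cen.2 (hx g hg)
  infer_instance

theorem exists_perfect {N : Subgroup G} [N.Normal] (h : ¬ Group.IsSolvable N) :
    ∃ K ≤ N, K.Normal ∧ ⁅K, K⁆ = K ∧ K ≠ ⊥ := by
  obtain ⟨K, hKN, hK⟩ := exists_minimal_le_of_wellFoundedLT
    (fun K : Subgroup G => K.Normal ∧ ¬ Group.IsSolvable K) N ⟨inferInstance, h⟩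
  have := hK.1.1
  refine ⟨K, hKN, this, le_antisymm (commutator_le_left K K) (hK.2 ⟨inferInstance, fun hs => ?_⟩
    (commutator_le_left K K)), fun e => hK.1.2 (e ▸ inferInstance)⟩
  exact hK.1.2 (solv_of_cmt hs)

/-- A non-solvable normal subgroup has central centralizer. -/
theorem W.center_of_nonsolv (hW : W G) {N : Subgroup G} [N.Normal] (h : ¬ Group.IsSolvable N)
    {x : G} (hx : ∀ k ∈ N, Commute x k) : x ∈ center G := by
  obtain ⟨K, hKN, _, h1, h2⟩ := exists_perfect h
  exact hW.center_of_perfect h1 h2 fun k hk => hx k (hKN hk)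

variable (hW : W G) (hG : ¬ Group.IsSolvable G)
include hW hG

/-- The centralizer of a bad element is self-normalizing. -/
theorem W.comm_of_norm {x g : G} (hx : Bad x)
    (hg : g ∈ normalizer (centralizer ({x} : Set G) : Set G)) : Commute x g := by
  by_cases ht : normalizer (centralizer ({x} : Set G) : Set G) = ⊤
  · have : (centralizer ({x} : Set G)).Normal := normalizer_eq_top_iff.1 ht
    by_cases hs : Group.IsSolvable (centralizer ({x} : Set G))
    · have := solv_zpowers g
      exact hW.central (ne_top_of_solv hG (GT.isSolvable_sup (zpowers g) _))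
        (mem_sup_right (mem_cen.2 rfl)) hx.nab le_sup_right (fun l hl => mem_cen.1 hl) g
        (mem_sup_left (mem_zpowers g))
    · exact absurd (hW.center_of_nonsolv hs fun k hk => mem_cen.1 hk) hx.1
  · exact hW.central ht (le_normalizer (mem_cen.2 rfl)) hx.nab le_normalizer
      (fun l hl => mem_cen.1 hl) g hg

/-- If the centralizer of a bad element centralizes a conjugate, the conjugate is the element. -/
theorem W.comm_of_le {x g : G} (hx : Bad x)
    (h : ∀ c, Commute x c → Commute (g * x * g⁻¹) c) : Commute x g := by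
  have h1 : ∀ c ∈ centralizer ({x} : Set G), g⁻¹ * c * g⁻¹⁻¹ ∈ centralizer ({x} : Set G) :=
    fun c hc => mem_cen.2 (by simpa [mul_assoc] using (h c (mem_cen.1 hc)).conj g⁻¹)
  exact Commute.inv_right_iff.1 (hW.comm_of_norm hG hx (mem_normalizer_fintype h1))

/-- A bad element centralizes every solvable normal subgroup. -/
theorem W.bad_comm {x : G} (hx : Bad x) {R : Subgroup G} [R.Normal] [Group.IsSolvable R] :
    ∀ r ∈ R, Commute x r := fun r hr => by
  obtain ⟨M, hM, h1, h2⟩ := hx.nab.exists_solv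
  have := solv_zpowers x
  have h3 : Group.IsSolvable (M ⊔ zpowers x : Subgroup G) :=
    GT.isSolvable_sup_of_le_normalizer (hM.trans ((centralizer_le_normalizer _).trans' fun c hc =>
      mem_cent.2 fun _ ⟨k, hk⟩ => hk ▸ ((mem_cen.1 hc).symm.zpow_right k)))
  exact hW.central (ne_top_of_solv hG (GT.isSolvable_sup (M ⊔ zpowers x) R))
    (mem_sup_left (mem_sup_right (mem_zpowers x))) h1 (le_sup_left.trans le_sup_left)
    (fun l hl => mem_cen.1 (hM hl)) r (mem_sup_right hr)

/-- If there is a bad element, solvable normal subgroups are central. -/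
theorem W.le_center {x : G} (hx : Bad x) {R : Subgroup G} [R.Normal] [Group.IsSolvable R] :
    R ≤ center G := by
  by_contra hR
  have hN : Group.IsSolvable (centralizer (R : Set G)) := by
    by_contra hN
    exact hR fun r hr => hW.center_of_nonsolv hN fun k hk => (mem_cent.1 hk r hr).symm
  set N := centralizer (R : Set G)
  set D := N ⊓ centralizer (N : Set G) with hD
  have hXD : ∀ y, Bad y → y ∈ D := fun y hy =>
    ⟨mem_cent.2 (hW.bad_comm hG hy), mem_cent.2 (hW.bad_comm hG hy)⟩
  have hDab : ∀ a ∈ D, ∀ b ∈ D, Commute a b := fun a ha b hb => mem_cent.1 ha.2 b hb.1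
  set E := centralizer (D : Set G)
  have hDE : D ≤ E := fun a ha => mem_cent.2 (hDab a ha)
  have hE : Group.IsSolvable E := by
    by_contra hE
    exact hx.1 (hW.center_of_nonsolv hE fun k hk => (mem_cent.1 hk x (hXD x hx)).symm)
  set M := centralizer ({x} : Set G)
  have hM : M ≠ ⊤ := cen_ne_top hx.1
  have hEM : E ≤ M := fun e he => mem_cen.2 (mem_cent.1 he x (hXD x hx)).symm
  have hME : ¬ M ≤ E := fun h => hx.1 (mem_center'.2 fun g => hW.comm_of_norm hG hx (by
    rw [show centralizer ({x} : Set G) = E from le_antisymm h hEM, normalizer_eq_top]; trivial))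
  -- two conjugates of `M` meet in `E`
  have hint : ∀ g, g ∉ M → ∀ m ∈ M, Commute (g * x * g⁻¹) m → m ∈ E := fun g hg m hm hc => by
    by_contra hmE
    obtain ⟨d, hd, hn⟩ : ∃ d ∈ D, ¬ Commute m d := by
      by_contra hn; push Not at hn; exact hmE (mem_cent.2 hn)
    have hy := hXD _ (hx.conj g)
    exact hg (mem_cen.2 (hW.comm_of_le hG hx fun c hc' => hW M hM _ (hEM (hDE hy)) m hm d
      (hEM (hDE hd)) hc (hDab _ hy d hd) hn c (mem_cen.2 hc')))
  let f := QuotientGroup.mk' E
  have hcm : (M.map f).comap f = M := by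
    rw [comap_map_eq, QuotientGroup.ker_mk', sup_eq_left.2 hEM]
  have hmem : ∀ g, f g ∈ M.map f ↔ g ∈ M := fun g => by rw [← mem_comap, hcm]
  have hF : IsFrobeniusComplement (M.map f) := by
    refine ⟨fun e => hME fun m hm => ?_, fun e => hM (top_unique fun g _ => (hmem g).1
      (e ▸ mem_top _)), fun g hg => ?_⟩
    · have : f m ∈ (⊥ : Subgroup (G ⧸ E)) := e ▸ mem_map_of_mem f hm
      exact (QuotientGroup.eq_one_iff m).1 this
    · obtain ⟨g, rfl⟩ := QuotientGroup.mk'_surjective E g
      refine eq_bot_iff.2 fun y ⟨hy1, hy2⟩ => ?_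
      obtain ⟨m, hm, rfl⟩ := hy1
      have hy3 := mem_pointwise_smul_iff_inv_smul_mem.1 hy2
      rw [← map_inv, MulAut.smul_def, MulAut.conj_apply] at hy3
      have h2 : g⁻¹ * m * g⁻¹⁻¹ ∈ M := (hmem _).1 (by rw [map_mul, map_mul, map_inv, map_inv]; exact hy3)
      refine (QuotientGroup.eq_one_iff m).2 (hint g (fun h => hg (mem_map_of_mem f h)) m hm ?_)
      simpa [mul_assoc] using (mem_cen.1 h2).conj g
  obtain ⟨m, hm, hmE⟩ := SetLike.not_le_iff_exists.1 hME
  obtain ⟨d, hd, hn⟩ : ∃ d ∈ D, ¬ Commute m d := by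
    by_contra hn; push Not at hn; exact hmE (mem_cent.2 hn)
  have := hF.kernel_isNilpotent
  have := hF.kernel_normal
  have hKs : Group.IsSolvable (hF.kernel.comap f) :=
    GT.isSolvable_comap_mk' _
  have hK : ∀ e ∈ D, e ∈ hF.kernel.comap f := fun e he => by
    rw [mem_comap, show f e = 1 from (QuotientGroup.eq_one_iff e).2 (hDE he)]; exact one_mem _
  have := solv_zpowers m
  have hc := hW _ (ne_top_of_solv hG (GT.isSolvable_sup (zpowers m) (hF.kernel.comap f))) x
    (mem_sup_right (hK x (hXD x hx))) m (mem_sup_left (mem_zpowers m)) d (mem_sup_right (hK d hd))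
    (mem_cen.1 hm) (hDab x (hXD x hx) d hd) hn
  refine hF.ne_bot_of_coe_eq hF.coe_kernel (eq_bot_iff.2 fun y hy => ?_)
  obtain ⟨k, rfl⟩ := QuotientGroup.mk'_surjective E y
  have hk : f k ∈ M.map f := (hmem k).2 (mem_cen.2 (hc k (mem_sup_right hy)))
  exact (hF.isComplement'_of_coe_eq hF.coe_kernel).disjoint.le_bot ⟨hy, hk⟩

/-- There are no two commuting non-abelian subgroups. -/
theorem W.not_comm {A B : Subgroup G} (hA : Nab A) (hB : Nab B)
    (h : ∀ a ∈ A, ∀ b ∈ B, Commute a b) : False := by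
  obtain ⟨A', h1, ⟨a, ha, a', ha', hn⟩, h3⟩ := hA.exists_solv
  obtain ⟨B', h4, h5, h6⟩ := hB.exists_solv
  have hs : Group.IsSolvable (A' ⊔ B' : Subgroup G) :=
    GT.isSolvable_sup_of_le_normalizer ((centralizer_le_normalizer _).trans' fun c hc =>
      mem_cent.2 fun b hb => h c (h1 hc) b (h4 hb))
  exact hn (hW.central (ne_top_of_solv hG hs) (mem_sup_left ha) h5 le_sup_right
    (fun l hl => h a (h1 ha) l (h4 hl)) a' (mem_sup_left ha'))

end Cfsg.Agent.FG.CAm
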