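import Mathlib
import Cfsg.Agent.FG.CAmA
import Cfsg.Agent.Loc.MssSyl
import Cfsg.Agent.GT.PStable
import Cfsg.Agent.GT.TransferFrobenius
import Cfsg.Agent.S0205

/-! Groups all of whose proper subgroups are CA-groups: centralizers of involutions. -/

set_option autoImplicit false
set_option linter.unusedVariables false
set_option linter.unusedSectionVars false

namespace Cfsg.Agent.FG.CAm

open Subgroup Cfsg.Agent.Loc.Mss
open scoped commutatorElement

variable {G Q : Type*} [Group G] [Group Q]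

/-- The kernel of `π` is the centre. -/
def Ker (π : G →* Q) : Prop := ∀ g, π g = 1 ↔ g ∈ center G

theorem cmt_pow {a b : G} (h : ⁅a, b⁆ ∈ center G) (n : ℕ) :
    ⁅a ^ n, b⁆ = ⁅a, b⁆ ^ n ∧ ⁅a, b ^ n⁆ = ⁅a, b⁆ ^ n := by
  have hc := mem_center'.1 h
  induction n with
  | zero => simp
  | succ n ih =>
    constructor
    · calc ⁅a ^ (n + 1), b⁆ = a * ⁅a ^ n, b⁆ * a⁻¹ * ⁅a, b⁆ := by
            simp only [commutatorElement_def]; group
        _ = _ := by rw [ih.1, ← ((hc a).pow_left n).eq, mul_inv_cancel_right, pow_succ]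
    · calc ⁅a, b ^ (n + 1)⁆ = ⁅a, b⁆ * (b * ⁅a, b ^ n⁆ * b⁻¹) := by
            simp only [commutatorElement_def]; group
        _ = _ := by rw [ih.2, ← ((hc b).pow_left n).eq, mul_inv_cancel_right, pow_succ']

namespace Ker
variable {π : G →* Q} (hπ : Ker π) {a b c x : G}
include hπ

theorem cmt (h : Commute (π a) (π b)) : ⁅a, b⁆ ∈ center G :=
  (hπ _).1 (by rw [map_commutatorElement]; exact commutatorElement_eq_one_iff_commute.2 h)

theorem comm_of_eq (h : π a = π b) (hc : Commute b c) : Commute a c := by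
  have : a * b⁻¹ ∈ center G := (hπ _).1 (by rw [map_mul, map_inv, h, mul_inv_cancel])
  simpa using (mem_center'.1 this c).mul_left hc

theorem comm_of_zpow {k : ℤ} (h : π a = π b ^ k) : Commute a b :=
  hπ.comm_of_eq (b := b ^ k) (by rw [h, map_zpow]) ((Commute.refl b).zpow_left k)

theorem comm_of_pow {k : ℕ} (h : π a = π b ^ k) : Commute a b :=
  hπ.comm_of_zpow (k := k) (by rw [h, zpow_natCast])

theorem comm_of_cyc {y : Q} (hy : y ∈ π.range) (ha : π a ∈ zpowers y) (hb : π b ∈ zpowers y) :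
    Commute a b := by
  obtain ⟨c, rfl⟩ := hy
  obtain ⟨m, hm⟩ := ha
  obtain ⟨n, hn⟩ := hb
  exact hπ.comm_of_eq (b := c ^ m) (by rw [map_zpow]; exact hm.symm)
    ((hπ.comm_of_zpow hn.symm).symm.zpow_left m)

theorem cmt_pow_left (h : Commute (π a) (π b)) {n : ℕ} (ha : π a ^ n = 1) : ⁅a, b⁆ ^ n = 1 := by
  rw [← (cmt_pow (hπ.cmt h) n).1, commutatorElement_eq_one_iff_commute]
  exact mem_center'.1 ((hπ _).1 (by rw [map_pow, ha])) b

theorem comm_pow (h : Commute (π a) (π b)) {n : ℕ} (ha : π a ^ n = 1) : Commute a (b ^ n) := by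
  rw [← commutatorElement_eq_one_iff_commute, (cmt_pow (hπ.cmt h) n).2, hπ.cmt_pow_left h ha]

theorem comm_of_coprime (h : Commute (π a) (π b)) {m n : ℕ} (ha : π a ^ m = 1)
    (hb : π b ^ n = 1) (hc : m.Coprime n) : Commute a b := by
  have h1 := hπ.cmt_pow_left h ha
  have h2 := hπ.cmt_pow_left h.symm hb
  rw [← commutatorElement_inv, inv_pow, inv_eq_one] at h2
  rw [← commutatorElement_eq_one_iff_commute, ← orderOf_eq_one_iff]
  exact Nat.eq_one_of_dvd_coprimes hc (orderOf_dvd_of_pow_eq_one h1) (orderOf_dvd_of_pow_eq_one h2)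

theorem comm_cmt (ha : Commute (π x) (π a)) (hb : Commute (π x) (π b)) : Commute x ⁅a, b⁆ := by
  have h1 := mem_center'.1 (hπ.cmt ha)
  have h2 := mem_center'.1 (hπ.cmt hb)
  have e1 : x * a * x⁻¹ = ⁅x, a⁆ * a := by simp only [commutatorElement_def]; group
  have e2 : x * b * x⁻¹ = ⁅x, b⁆ * b := by simp only [commutatorElement_def]; group
  have : x * ⁅a, b⁆ * x⁻¹ = ⁅a, b⁆ := by
    calc x * ⁅a, b⁆ * x⁻¹ = ⁅x * a * x⁻¹, x * b * x⁻¹⁆ := by
          simp only [commutatorElement_def]; group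
      _ = ⁅a, b⁆ := by
          rw [e1, e2]
          generalize ⁅x, a⁆ = c at h1
          generalize ⁅x, b⁆ = d at h2
          calc c * a * (d * b) * (c * a)⁻¹ * (d * b)⁻¹
              = c * (a * (d * b) * a⁻¹) * c⁻¹ * (d * b)⁻¹ := by group
            _ = a * (d * b) * a⁻¹ * (d * b)⁻¹ := by rw [(h1 _).eq, mul_inv_cancel_right]
            _ = a * (d * (b * a⁻¹ * b⁻¹) * d⁻¹) := by group
            _ = _ := by rw [(h2 _).eq, mul_inv_cancel_right, commutatorElement_def]; group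
  exact mul_inv_eq_iff_eq_mul.1 this

theorem not_mem (h : π x ≠ 1) : x ∉ center G := fun hx => h ((hπ x).2 hx)

theorem exists_lift [Finite G] {p k : ℕ} [Fact p.Prime] (h : π x ^ p ^ k = 1) :
    ∃ y, π y = π x ∧ ∃ j, y ^ p ^ j = 1 := by
  obtain ⟨P, hP, e⟩ := GT.exists_isPGroup_map_eq π (Q := zpowers (π x)) (q := p)
    (IsPGroup.of_card_dvd_pow (by rw [Nat.card_zpowers]; exact orderOf_dvd_of_pow_eq_one h))
    (zpowers_le.2 ⟨x, rfl⟩)
  obtain ⟨y, hy, e'⟩ : π x ∈ P.map π := e ▸ mem_zpowers _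
  obtain ⟨j, hj⟩ := hP ⟨y, hy⟩
  exact ⟨y, e', j, congrArg Subtype.val hj⟩

end Ker

theorem isPGroup_zpowers [Finite G] {p k : ℕ} [Fact p.Prime] {x : G} (h : x ^ p ^ k = 1) :
    IsPGroup p (zpowers x) :=
  IsPGroup.of_card_dvd_pow (by rw [Nat.card_zpowers]; exact orderOf_dvd_of_pow_eq_one h)

theorem Nab.conj {H : Subgroup G} (h : Nab H) (g : G) :
    Nab (H.map (MulAut.conj g).toMonoidHom) :=
  let ⟨a, ha, b, hb, hn⟩ := h
  ⟨_, mem_map_of_mem _ ha, _, mem_map_of_mem _ hb, fun hc => hn ((conj_comm g).1 hc)⟩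

theorem Nab.of_map {H : Subgroup G} {f : G →* Q} (h : Nab (H.map f)) : Nab H := by
  obtain ⟨_, ⟨a, ha, rfl⟩, _, ⟨b, hb, rfl⟩, hn⟩ := h
  exact ⟨a, ha, b, hb, fun hc => hn (hc.map f)⟩

variable [Finite G]

theorem nab_norm {p : ℕ} [Fact p.Prime] {A C D P : Subgroup G} {y : G} (hD : Syl p D A)
    (hA : ¬ Nab A) (hAC : A ≤ C) (hy : y ∈ D) (hyA : ∀ n ∈ C, Commute y n → n ∈ A)
    (hP : IsPGroup p P) (hPC : P ≤ C) (hPn : Nab P) : Nab (normalizer (D : Set G) ⊓ C) := by
  by_contra hn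
  have hs : Syl p D C := Syl.of_norm hD.pg (hD.le.trans hAC) fun T h1 h2 h3 h4 =>
    hD.ge_of_le h1 h2 fun n hn' => hyA n (h3 hn')
      (not_nab.1 hn y ⟨le_normalizer hy, hAC (hD.le hy)⟩ n ⟨h4 hn', h3 hn'⟩)
  obtain ⟨g, -, hg⟩ := hs.conj_le hP hPC
  exact hA (((hPn.conj g).mono hg).mono hD.le)

/-- The standing hypothesis. -/
structure Hy (G : Type*) [Group G] : Prop where
  w : W G
  ns : ¬ Group.IsSolvable G
  rad : ∀ R : Subgroup G, R.Normal → Group.IsSolvable R → R ≤ center G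

namespace Hy
variable (h : Hy G)
include h

theorem norm_ne_top {D : Subgroup G} (hD : ¬ Nab D) {x : G} (hx : x ∈ D) (hc : x ∉ center G) :
    normalizer (D : Set G) ≠ ⊤ := fun e =>
  hc (h.rad D (normalizer_eq_top_iff.1 e) (solv_of_not_nab hD) hx)

/-- A `p`-element centralized by a non-abelian `p`-group commutes with no other conjugate. -/
theorem nd {p k : ℕ} [Fact p.Prime] {x g : G} (hx : x ^ p ^ k = 1) (hxc : x ∉ center G)
    {P : Subgroup G} (hP : IsPGroup p P) (hPn : Nab P) (hPx : ∀ y ∈ P, Commute x y)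
    (hc : Commute x (g * x * g⁻¹)) : Commute x g := by
  by_contra hg
  have hPC : P ≤ centralizer {x} := fun y hy => mem_cen.2 (hPx y hy)
  have hb : Bad x := bad_of hxc (hPn.mono hPC)
  set y := g * x * g⁻¹ with hy
  set A := centralizer ({x} : Set G) ⊓ centralizer {y}
  have hA : ¬ Nab A := fun hA => hg (h.w.comm_of_le h.ns hb fun c hc' =>
    h.w.central (cen_ne_top hxc) (mem_cen.2 hc) hA inf_le_left (fun l hl => mem_cen.1 hl.2) c
      (mem_cen.2 hc'))
  obtain ⟨D, hD⟩ := Syl.exists p A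
  have hmem : ∀ {u : G} {j : ℕ}, u ^ p ^ j = 1 → u ∈ A → u ∈ D := fun {u j} h1 h2 =>
    hD.le_of_norm' (isPGroup_zpowers h1) (zpowers_le.2 h2) (zpowers_le.2
      (centralizer_le_normalizer _ (mem_cent.2 fun d hd => not_nab.1 hA u h2 d (hD.le hd))))
      (mem_zpowers u)
  have hxD : x ∈ D := hmem hx ⟨mem_cen.2 rfl, mem_cen.2 hc.symm⟩
  have hyD : y ∈ D := hmem (j := k) (by rw [hy, conj_pow, hx]; simp) ⟨mem_cen.2 hc, mem_cen.2 rfl⟩
  have hN := h.norm_ne_top (fun hn => hA (hn.mono hD.le)) hxD hxc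
  have h1 := nab_norm hD hA inf_le_left hyD (fun n h1 h2 => ⟨h1, mem_cen.2 h2⟩) hP hPC hPn
  have h2 := nab_norm hD hA inf_le_right hxD (fun n h1 h2 => ⟨mem_cen.2 h2, h1⟩)
    (hP.map (MulAut.conj g).toMonoidHom) (by
      rintro _ ⟨u, hu, rfl⟩; exact mem_cen.2 ((hPx u hu).conj g)) (hPn.conj g)
  have h3 := h.w.central hN (le_normalizer hyD) h2 inf_le_left fun l hl => mem_cen.1 hl.2
  exact hA (h1.mono fun n hn => ⟨hn.2, mem_cen.2 (h3 n hn.1)⟩)

variable {π : G →* Q} (hπ : Ker π)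
include hπ

theorem comap_ne_top {x : G} (hx : x ∉ center G) :
    (centralizer ({π x} : Set Q)).comap π ≠ ⊤ := fun e => by
  have hn : (zpowers x ⊔ center G).Normal := by
    rw [← normalizer_eq_top_iff, eq_top_iff, le_normalizer_iff_commutator_le_left]
    refine commutator_le.2 fun a ha g _ => mem_sup_right (hπ.cmt ?_)
    have : zpowers x ⊔ center G ≤ (centralizer ({π g} : Set Q)).comap π :=
      sup_le (zpowers_le.2 (mem_cen.2 (mem_cen.1 (show g ∈ (centralizer ({π x} : Set Q)).comap π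
        from e ▸ mem_top g)).symm)) fun z hz => by
          rw [mem_comap, (hπ z).2 hz]; exact one_mem _
    exact (mem_cen.1 (this ha)).symm
  have := solv_zpowers x
  have : Group.IsSolvable (center G) :=
    solv_of_not_nab (not_nab.2 fun a ha b _ => mem_center'.1 ha b)
  exact hx (h.rad _ hn (GT.isSolvable_sup _ _) (mem_sup_left (mem_zpowers x)))

/-- A bad element commutes with everything it commutes with modulo the centre. -/
theorem good {x c : G} (hx : Bad x) (hc : Commute (π x) (π c)) : Commute x c :=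
  h.w.central (h.comap_ne_top hπ hx.1) (mem_cen.2 rfl) hx.nab
    (fun l hl => mem_cen.2 ((mem_cen.1 hl).map π)) (fun l hl => mem_cen.1 hl) c (mem_cen.2 hc)

/-- `π x` commutes with another of its conjugates. -/
def Fu (π : G →* Q) (x : G) : Prop :=
  ∃ g, Commute (π x) (π g * π x * (π g)⁻¹) ∧ π g * π x * (π g)⁻¹ ≠ π x

theorem not_nab_of_bad {x : G} {p k : ℕ} [Fact p.Prime] (hx : Bad x) (h2 : π x ^ p ^ k = 1)
    (hf : Fu π x) {P : Subgroup G} (hP : IsPGroup p P)
    (hPx : ∀ y ∈ P, Commute (π x) (π y)) : ¬ Nab P := fun hn => by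
  obtain ⟨g, hg1, hg2⟩ := hf
  obtain ⟨y, hy, j, hj⟩ := hπ.exists_lift h2
  have hc : Commute x (g * y * g⁻¹) := h.good hπ hx (by simpa [hy] using hg1)
  have := h.nd hj (fun hc => hx.1 ((hπ x).1 (hy ▸ (hπ y).2 hc))) hP hn
    (fun u hu => hπ.comm_of_eq hy (h.good hπ hx (hPx u hu))) (hπ.comm_of_eq hy hc)
  exact hg2 (by rw [← hy, ← (this.map π).eq, mul_inv_cancel_right])

theorem not_nab_of_bad' {x : G} {p k : ℕ} [Fact p.Prime] (hx : Bad x) (h2 : π x ^ p ^ k = 1)
    (hf : Fu π x) {P : Subgroup Q} (hP : IsPGroup p P) (hr : P ≤ π.range)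
    (hPx : ∀ y ∈ P, Commute (π x) y) : ¬ Nab P := fun hn => by
  obtain ⟨P', hP', rfl⟩ := GT.exists_isPGroup_map_eq π hP hr
  exact h.not_nab_of_bad hπ hx h2 hf hP' (fun y hy => hPx _ (mem_map_of_mem π hy)) hn.of_map

/-- The central involution of a dihedral group of order 8 has no bad lift. -/
theorem not_bad_of_d8 [Finite Q] {x : G} (hf : Fu π x) {w m : Q} (hw : w ∈ π.range)
    (hm : m ∈ π.range) (h1 : w * w = π x) (h2 : π x * π x = 1) (h3 : π x ≠ 1) (h4 : m * m = 1)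
    (h5 : m * w * m⁻¹ = w⁻¹) : ¬ Bad x := fun hx => by
  have hxw : Commute (π x) w := h1 ▸ (Commute.refl w).mul_left rfl
  have hxm : Commute (π x) m := by
    have : m * π x * m⁻¹ = π x := by
      calc m * π x * m⁻¹ = m * w * m⁻¹ * (m * w * m⁻¹) := by rw [← h1]; group
        _ = (π x)⁻¹ := by rw [h5, ← h1, mul_inv_rev]
        _ = π x := inv_eq_of_mul_eq_one_right h2
    exact (mul_inv_eq_iff_eq_mul.1 this).symm
  refine h.not_nab_of_bad' hπ hx (p := 2) (k := 1) (by rw [pow_one, pow_two, h2]) hf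
    (P := zpowers m ⊔ zpowers w) (IsPGroup.to_sup_of_normal_right'
      (isPGroup_zpowers (k := 1) (by rw [pow_one, pow_two, h4]))
      (isPGroup_zpowers (k := 2) (by
        rw [show 2 ^ 2 = 2 * 2 from rfl, pow_mul, pow_two, pow_two, h1, h2]))
      (zpowers_le.2 (mem_normalizer_fintype ?_))) (sup_le (zpowers_le.2 hm) (zpowers_le.2 hw))
    (fun y hy => mem_cen.1 ((sup_le (zpowers_le.2 (mem_cen.2 hxm)) (zpowers_le.2 (mem_cen.2 hxw)) :
      _ ≤ centralizer ({π x} : Set Q)) hy))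
    ⟨m, mem_sup_left (mem_zpowers m), w, mem_sup_right (mem_zpowers w), fun hc => h3 ?_⟩
  · rintro _ ⟨n, rfl⟩
    exact ⟨-n, by simp only []; rw [← conj_zpow, h5, inv_zpow']⟩
  · rw [hc.eq, mul_inv_cancel_right] at h5
    rw [← h1]; exact mul_eq_one_iff_eq_inv.2 h5

theorem comm_of_not_bad {x a b : G} (hx : ¬ Bad x) (h1 : π x ≠ 1) (ha : Commute x a)
    (hb : Commute x b) : Commute a b := by
  by_contra hn
  exact hx ⟨hπ.not_mem h1, a, b, ha, hb, hn⟩

/-- In a perfect group the centralizer of the image of `x` is solvable. -/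
theorem solv_cen (hG : commutator G = ⊤) (hs : Function.Surjective π) {x : G} (h1 : π x ≠ 1)
    (h2 : π x ^ 2 ^ 1 = 1) (hf : Fu π x) : Group.IsSolvable (centralizer ({π x} : Set Q)) := by
  suffices hC : Group.IsSolvable ((centralizer ({π x} : Set Q)).comap π) by
    rw [← map_comap_eq_self_of_surjective hs (centralizer ({π x} : Set Q))]
    exact Group.isSolvable_of_surjective (π.subgroupMap_surjective _)
  set C := (centralizer ({π x} : Set Q)).comap π
  by_cases hx : Bad x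
  swap
  · refine solv_of_cmt (solv_of_not_nab (not_nab.2 fun a ha b hb => ?_))
    have : ⁅C, C⁆ ≤ centralizer ({x} : Set G) := commutator_le.2 fun a ha b hb =>
      mem_cen.2 (hπ.comm_cmt (mem_cen.1 ha) (mem_cen.1 hb))
    exact h.comm_of_not_bad hπ hx h1 (mem_cen.1 (this ha)) (mem_cen.1 (this hb))
  obtain ⟨y, hy, j, hj⟩ := hπ.exists_lift h2
  have hyC : ∀ c, c ∈ C ↔ Commute y c := fun c =>
    ⟨fun hc => hπ.comm_of_eq hy (h.good hπ hx (mem_cen.1 hc)),
      fun hc => mem_cen.2 (hy ▸ hc.map π)⟩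
  obtain ⟨T, hyT, hT⟩ := Syl.exists_ge (L := C) (isPGroup_zpowers hj)
    (zpowers_le.2 ((hyC y).2 rfl))
  replace hyT := zpowers_le.1 hyT
  have hTn : ¬ Nab T := h.not_nab_of_bad hπ hx h2 hf hT.pg fun u hu => mem_cen.1 (hT.le hu)
  have hy1 : π y ≠ 1 := hy ▸ h1
  have hN := h.norm_ne_top hTn hyT (hπ.not_mem hy1)
  have hn : ¬ Nab (normalizer (T : Set G) ⊓ C) := fun hn => by
    have hc := h.w.central hN (le_normalizer hyT) hn inf_le_left fun l hl => (hyC l).1 hl.2
    obtain ⟨P, rfl⟩ := (Syl.of_norm (L := ⊤) hT.pg le_top fun P h1 h2 _ h4 =>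
      hT.ge_of_le h1 h2 fun n hn => (hyC n).2 (hc n (h4 hn))).exists_sylow_top
    exact hy1 (by rw [eq_one_of_perfect hG P hTn hyT hc, map_one])
  obtain ⟨P, hP, hP'⟩ := hT.exists_sylow
  obtain ⟨P₁, N, hN1, hN2⟩ := GT.Tr.hasNormalPComplement_of_normalizer_le_centralizer P
    fun n hn' => mem_cent.2 fun t ht => Subtype.ext (not_nab.1 hn n.1
      ⟨hP' ▸ le_normalizer_map _ (mem_map_of_mem C.subtype hn'), n.2⟩ t.1
      ⟨le_normalizer (hP' ▸ mem_map_of_mem C.subtype ht), t.2⟩).eq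
  have : Group.IsSolvable N := S0205.result (by
    rw [← hN2.index_eq_card, ← Nat.not_even_iff_odd, even_iff_two_dvd]
    exact P₁.not_dvd_index)
  have := P₁.isPGroup'.isNilpotent
  have hs := GT.isSolvable_sup (P₁ : Subgroup C) N
  rw [sup_comm, hN2.sup_eq_top] at hs
  exact Group.isSolvable_of_surjective (f := (⊤ : Subgroup C).subtype) fun g => ⟨⟨g, trivial⟩, rfl⟩

end Hy

end Cfsg.Agent.FG.CAm
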