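import Mathlib

/-!
# Two-transitive linear groups over `F₂`, I: duality

For `G` acting linearly on a finite `F₂`-space and 2-transitively on its nonzero vectors, the
stabiliser of `a, b` can move `x ∉ ⟨a, b⟩` to `x + a` (`elation`).
-/

set_option autoImplicit false

namespace Cfsg.Agent.FG.CK

open Subgroup Module MulAction

section Orb

variable {G : Type*} [Group G] {α : Type*} [MulAction G α]

/-- the orbit of `x` under the subgroup `Γ` -/
def orb (Γ : Subgroup G) (x : α) : Set α := {y | ∃ g ∈ Γ, g • x = y}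

theorem ncard_orb (Γ : Subgroup G) (x : α) : (orb Γ x).ncard = (stabilizer G x).relIndex Γ := by
  have h := index_stabilizer Γ x
  rw [show orbit Γ x = orb Γ x from Set.ext fun y =>
    ⟨fun ⟨g, h⟩ => ⟨g, g.2, h⟩, fun ⟨g, h1, h2⟩ => ⟨⟨g, h1⟩, h2⟩⟩] at h
  exact h.symm

theorem ncard_orb_dvd {Λ Γ : Subgroup G} (h : Λ ≤ Γ) (x : α) :
    (orb Γ x).ncard ∣ Λ.relIndex Γ * (orb Λ x).ncard := by
  rw [ncard_orb, ncard_orb, mul_comm, ← inf_relIndex_right (stabilizer G x) Λ,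
    relIndex_mul_relIndex _ _ _ inf_le_right h]
  exact relIndex_dvd_of_le_left _ inf_le_left

theorem orb_mono {Λ Γ : Subgroup G} (h : Λ ≤ Γ) (x : α) : orb Λ x ⊆ orb Γ x :=
  fun _ ⟨g, h1, h2⟩ => ⟨g, h h1, h2⟩

theorem orb_eq_of_odd [Finite α] {Λ Γ : Subgroup G} (h : Λ ≤ Γ) {x : α} {k : ℕ}
    (hk : (orb Γ x).ncard = 2 ^ k) (ho : Odd (Λ.relIndex Γ)) : orb Λ x = orb Γ x := by
  have h1 := ncard_orb_dvd h x
  rw [hk] at h1
  refine Set.eq_of_subset_of_ncard_le (orb_mono h x) (hk ▸ Nat.le_of_dvd ?_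
    ((Nat.coprime_two_left.mpr ho).pow_left k |>.dvd_of_dvd_mul_left h1))
  exact (Set.ncard_pos).mpr ⟨x, 1, one_mem _, one_smul _ _⟩

/-- an invariant set all of whose orbits have length divisible by `m` -/
theorem dvd_ncard_of_orb [Finite α] (Λ : Subgroup G) {m : ℕ} (S : Set α)
    (hS : ∀ g ∈ Λ, ∀ y ∈ S, g • y ∈ S) (h : ∀ y ∈ S, m ∣ (orb Λ y).ncard) : m ∣ S.ncard := by
  induction hn : S.ncard using Nat.strong_induction_on generalizing S with
  | _ n ih =>
  rcases S.eq_empty_or_nonempty with rfl | ⟨y, hy⟩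
  · rw [← hn]; simp
  have h1 : orb Λ y ⊆ S := fun _ ⟨g, h1, h2⟩ => h2 ▸ hS g h1 y hy
  have h2 := Set.ncard_diff_add_ncard_of_subset h1
  have h3 : 0 < (orb Λ y).ncard := (Set.ncard_pos).mpr ⟨y, 1, one_mem _, one_smul _ _⟩
  rw [← hn, ← h2]
  refine dvd_add (ih _ (by omega) (S \ orb Λ y) (fun g hg z hz => ⟨hS g hg z hz.1, fun ⟨k, hk, e⟩ =>
    hz.2 ⟨g⁻¹ * k, mul_mem (inv_mem hg) hk, by rw [mul_smul, e, inv_smul_smul]⟩⟩)
    (fun z hz => h z hz.1) rfl) (h y hy)

end Orb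

section Fourier

/-- the sign character of `F₂` -/
def χ (t : ZMod 2) : ℤ := if t = 0 then 1 else -1

theorem χ_add (s t : ZMod 2) : χ (s + t) = χ s * χ t := by revert s t; decide

theorem χ_zero : χ 0 = 1 := rfl

theorem χ_one : χ 1 = -1 := rfl

theorem z2 (t : ZMod 2) : t = 0 ∨ t = 1 := by revert t; decide

theorem sum_eq_zero_of_shift {A : Type*} [AddCommGroup A] [Fintype A] (f : A → ℤ) (s : A)
    (h : ∀ y, f (y + s) = -f y) : ∑ y, f y = 0 := by
  have h1 := Equiv.sum_comp (Equiv.addRight s) f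
  simp only [Equiv.coe_addRight, h, Finset.sum_neg_distrib] at h1
  omega

theorem inversion {A B : Type*} [AddCommGroup A] [AddCommGroup B] [Fintype A] [Fintype B]
    (β : A → B → ZMod 2) (h1 : ∀ a a' b, β (a - a') b = β a b + β a' b)
    (h2 : ∀ a b b', β a (b + b') = β a b + β a b') (h3 : ∀ a ≠ 0, ∃ b, β a b = 1) (F : A → ℤ)
    (y : A) : ∑ b, (∑ a, F a * χ (β a b)) * χ (β y b) = Fintype.card B * F y := by
  simp only [Finset.sum_mul, mul_assoc, ← χ_add, ← h1]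
  rw [Finset.sum_comm, Finset.sum_eq_single y]
  · have : ∀ b, β 0 b = 0 := fun b => by
      rw [← sub_self y, h1]; exact CharTwo.add_self_eq_zero _
    simp [this, χ_zero]
  · intro a _ ha
    obtain ⟨b, hb⟩ := h3 _ (sub_ne_zero.mpr ha)
    exact sum_eq_zero_of_shift _ b fun c => by rw [h2, hb, χ_add, χ_one]; ring
  · simp

end Fourier

variable {G : Type*} [Group G] {V : Type*} [AddCommGroup V] [Module (ZMod 2) V]

theorem add_self (v : V) : v + v = 0 := by
  rw [← two_smul (ZMod 2), show (2 : ZMod 2) = 0 from rfl, zero_smul]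

theorem neg_eq (v : V) : -v = v := neg_eq_of_add_eq_zero_left (add_self v)

theorem sub_eq (v w : V) : v - w = v + w := by rw [sub_eq_add_neg, neg_eq]

theorem add_add_cancel (v w : V) : v + w + w = v := by rw [add_assoc, add_self, add_zero]

theorem add_add_cancel' (v w : V) : v + (v + w) = w := by rw [← add_assoc, add_self, zero_add]

theorem add_eq_zero' {v w : V} : v + w = 0 ↔ v = w := by rw [← sub_eq, sub_eq_zero]

/-- `a, b` are linearly independent -/
def Ind2 (a b : V) : Prop := a ≠ 0 ∧ b ≠ 0 ∧ a ≠ b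

/-- `x ∉ ⟨a, b⟩` -/
def Out (a b x : V) : Prop := x ≠ 0 ∧ x ≠ a ∧ x ≠ b ∧ x ≠ a + b

theorem Ind2.symm {a b : V} (h : Ind2 a b) : Ind2 b a := ⟨h.2.1, h.1, h.2.2.symm⟩

theorem Ind2.add {a b : V} (h : Ind2 a b) : Ind2 a (a + b) :=
  ⟨h.1, fun e => h.2.2 (add_eq_zero'.mp e), fun e => h.2.1 (by simpa using e)⟩

theorem mem_span_pair' {a b x : V} : x ∈ Submodule.span (ZMod 2) {a, b} ↔ ¬ Out a b x := by
  rw [Submodule.mem_span_pair, Out]
  constructor
  · rintro ⟨s, t, rfl⟩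
    rcases z2 s with rfl | rfl <;> rcases z2 t with rfl | rfl <;> simp
  · intro h
    by_cases h0 : x = 0
    · exact ⟨0, 0, by simp [h0]⟩
    by_cases h1 : x = a
    · exact ⟨1, 0, by simp [h1]⟩
    by_cases h2 : x = b
    · exact ⟨0, 1, by simp [h2]⟩
    exact ⟨1, 1, by simp only [one_smul]; tauto⟩

theorem exists_dual_of_not_mem {A : Submodule (ZMod 2) V} {x : V} (h : x ∉ A) :
    ∃ η : Dual (ZMod 2) V, (∀ v ∈ A, η v = 0) ∧ η x = 1 := by
  obtain ⟨η, h1, h2⟩ := Submodule.exists_dual_map_eq_bot_of_notMem h inferInstance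
  exact ⟨η, fun v hv => (Submodule.eq_bot_iff _).mp h2 _ ⟨v, hv, rfl⟩, (z2 _).resolve_left h1⟩

theorem exists_dual_one {x : V} (h : x ≠ 0) : ∃ η : Dual (ZMod 2) V, η x = 1 :=
  (exists_dual_of_not_mem (A := ⊥) h).imp fun _ h => h.2

theorem exists_one {η : Dual (ZMod 2) V} (h : η ≠ 0) : ∃ x, η x = 1 := by
  obtain ⟨x, hx⟩ := DFunLike.ne_iff.mp h
  exact ⟨x, (z2 _).resolve_left hx⟩

theorem card_sub [Finite V] (W : Submodule (ZMod 2) V) : Nat.card W = 2 ^ finrank (ZMod 2) W := by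
  rw [Module.natCard_eq_pow_finrank (K := ZMod 2), Nat.card_zmod]

theorem ncard_sub [Finite V] (W : Submodule (ZMod 2) V) :
    (W : Set V).ncard = 2 ^ finrank (ZMod 2) W := card_sub W

theorem card_V [Finite V] : Nat.card V = 2 ^ finrank (ZMod 2) V := by
  rw [Module.natCard_eq_pow_finrank (K := ZMod 2), Nat.card_zmod]

theorem ncard_one [Finite V] {η : Dual (ZMod 2) V} (h : η ≠ 0) :
    {x | η x = 1}.ncard = 2 ^ finrank (ZMod 2) (LinearMap.ker η) := by
  obtain ⟨y, hy⟩ := exists_one h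
  rw [← ncard_sub, ← Set.ncard_image_of_injective _ (add_left_injective y)]
  congr 1
  ext x
  simp only [Set.mem_image, Set.mem_setOf_eq, SetLike.mem_coe, LinearMap.mem_ker]
  exact ⟨fun ⟨v, h1, h2⟩ => by rw [← h2, map_add, h1, hy]; rfl,
    fun h => ⟨x + y, by rw [map_add, h, hy, zero_add], add_add_cancel _ _⟩⟩

variable [DistribMulAction G V] [SMulCommClass G (ZMod 2) V]

/-- `g` as a linear map -/
abbrev lin (g : G) : V →ₗ[ZMod 2] V := DistribMulAction.toLinearMap (ZMod 2) V g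

/-- pull-back of a functional -/
def pull (g : G) (η : Dual (ZMod 2) V) : Dual (ZMod 2) V := η ∘ₗ lin g

theorem pull_apply (g : G) (η : Dual (ZMod 2) V) (v : V) : pull g η v = η (g • v) := rfl

theorem pull_pull (g h : G) (η : Dual (ZMod 2) V) : pull g (pull h η) = pull (h * g) η :=
  LinearMap.ext fun v => by simp only [pull_apply, mul_smul]

theorem pull_one (η : Dual (ZMod 2) V) : pull (1 : G) η = η :=
  LinearMap.ext fun v => by simp only [pull_apply, one_smul]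

/-- pull-back as a permutation -/
def pullE (g : G) : Dual (ZMod 2) V ≃ Dual (ZMod 2) V where
  toFun := pull g
  invFun := pull g⁻¹
  left_inv η := by rw [pull_pull, mul_inv_cancel, pull_one]
  right_inv η := by rw [pull_pull, inv_mul_cancel, pull_one]

theorem pull_ne_zero (g : G) {η : Dual (ZMod 2) V} (h : η ≠ 0) : pull g η ≠ 0 := fun e =>
  h ((pullE g).injective (e.trans (LinearMap.ext fun _ => rfl)))

/-- the stabiliser of a functional -/
def fixd (G : Type*) [Group G] [DistribMulAction G V] [SMulCommClass G (ZMod 2) V]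
    (η : Dual (ZMod 2) V) : Subgroup G where
  carrier := {g | pull g η = η}
  one_mem' := pull_one η
  mul_mem' {g h} h1 h2 := by
    rw [Set.mem_setOf_eq, ← pull_pull, show pull g η = η from h1]; exact h2
  inv_mem' {g} h := by
    have := congrArg (pull g⁻¹) (show pull g η = η from h)
    rw [pull_pull, mul_inv_cancel, pull_one] at this
    exact this.symm

variable (G V) in
/-- `G` is 2-transitive on the nonzero vectors -/
def TwoT : Prop := ∀ a b a' b' : V, Ind2 a b → Ind2 a' b' → ∃ g : G, g • a = a' ∧ g • b = b'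

omit [SMulCommClass G (ZMod 2) V] in
theorem TwoT.trans (h : TwoT G V) {a b : V} (hab : Ind2 a b) {x y : V} (hx : x ≠ 0) (hy : y ≠ 0) :
    ∃ g : G, g • x = y := by
  have key : ∀ x : V, x ≠ 0 → ∃ z, Ind2 x z := fun x hx => by
    by_cases e : x = a
    · exact ⟨b, e ▸ hab⟩
    · exact ⟨a, hx, hab.1, e⟩
  obtain ⟨z, hz⟩ := key x hx
  obtain ⟨w, hw⟩ := key y hy
  exact (h _ _ _ _ hz hw).imp fun _ h => h.1

variable [Finite V]

theorem TwoT.flag (h : TwoT G V) {a : V} (ha : a ≠ 0) {η ζ : Dual (ZMod 2) V} (hη : η ≠ 0)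
    (hζ : ζ ≠ 0) (e : η a = ζ a) : ∃ g : G, g • a = a ∧ pull g ζ = η := by
  classical
  have := Fintype.ofFinite V
  have : Finite (Dual (ZMod 2) V) := Module.finite_of_finite (ZMod 2)
  have := Fintype.ofFinite (Dual (ZMod 2) V)
  let f : Dual (ZMod 2) V → ℤ := fun ξ => if ∃ g : G, g • a = a ∧ pull g ζ = ξ then 1 else 0
  have hf : ∀ g : G, g • a = a → ∀ ξ, f (pull g ξ) = f ξ := fun g hg ξ => by
    refine if_congr ⟨fun ⟨k, h1, h2⟩ => ⟨k * g⁻¹, ?_, ?_⟩, fun ⟨k, h1, h2⟩ => ⟨k * g, ?_, ?_⟩⟩ rfl rfl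
    · rw [mul_smul, inv_smul_eq_iff.mpr hg.symm, h1]
    · rw [← pull_pull, h2, pull_pull, mul_inv_cancel, pull_one]
    · rw [mul_smul, hg, h1]
    · rw [← pull_pull, h2]
  obtain ⟨α, hα⟩ : ∃ α, ∀ x : V, x ≠ 0 → x ≠ a → ∑ ξ, f ξ * χ (ξ x) = α := by
    by_cases hx : ∃ x : V, x ≠ 0 ∧ x ≠ a
    · obtain ⟨x, h1, h2⟩ := hx
      refine ⟨∑ ξ, f ξ * χ (ξ x), fun y h3 h4 => ?_⟩
      obtain ⟨g, h5, rfl⟩ := h a x a y ⟨ha, h1, h2.symm⟩ ⟨ha, h3, h4.symm⟩
      rw [← (pullE g).sum_comp fun ξ => f ξ * χ (ξ x)]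
      exact Finset.sum_congr rfl fun ξ _ => by rw [← hf g h5 ξ]; rfl
    · exact ⟨0, fun x h1 h2 => absurd ⟨x, h1, h2⟩ hx⟩
  have inv := inversion (fun (ξ : Dual (ZMod 2) V) (x : V) => ξ x)
    (fun ξ ξ' x => by rw [sub_eq]; rfl) (fun ξ x y => map_add _ _ _) (fun _ => exists_one) f
  have h0 : ∀ ξ : Dual (ZMod 2) V, ξ ≠ 0 → ∑ x, χ (ξ x) = 0 := fun ξ hξ => by
    obtain ⟨y, hy⟩ := exists_one hξ
    exact sum_eq_zero_of_shift _ y fun x => by rw [map_add, hy, χ_add, χ_one]; ring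
  have h1 : (Fintype.card V : ℤ) * f η - Fintype.card V * f ζ = α * 0 - α * 0 := by
    rw [← inv η, ← inv ζ]
    nth_rw 1 [← h0 η hη]
    rw [← h0 ζ hζ, Finset.mul_sum, Finset.mul_sum, ← Finset.sum_sub_distrib,
      ← Finset.sum_sub_distrib]
    refine Finset.sum_congr rfl fun x _ => ?_
    by_cases e1 : x = 0
    · simp [e1]
    by_cases e2 : x = a
    · simp [e2, e]
    rw [hα x e1 e2]
  have h2 : f ζ = 1 := if_pos ⟨1, one_smul _ _, pull_one _⟩
  have h3 : (0 : ℤ) < Fintype.card V := by exact_mod_cast Fintype.card_pos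
  by_contra h4
  rw [h2, show f η = 0 from if_neg h4] at h1
  omega

theorem TwoT.flag' (h : TwoT G V) {a b : V} (hab : Ind2 a b) {η : Dual (ZMod 2) V} (hη : η ≠ 0)
    {x y : V} (hx : x ≠ 0) (hy : y ≠ 0) (e : η x = η y) : ∃ g ∈ fixd G η, g • x = y := by
  obtain ⟨g, rfl⟩ := h.trans hab hx hy
  obtain ⟨k, h1, h2⟩ := h.flag hx hη (pull_ne_zero g hη) e
  exact ⟨g * k, (pull_pull _ _ _).symm.trans h2, by rw [mul_smul, h1]⟩

theorem TwoT.orb_one (h : TwoT G V) {a b : V} (hab : Ind2 a b) {η : Dual (ZMod 2) V} {x : V}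
    (hx : η x = 1) : orb (fixd G η) x = {y | η y = 1} := by
  have h0 : ∀ y, η y = 1 → y ≠ 0 := fun y hy e => by rw [e, map_zero] at hy; exact zero_ne_one hy
  have hη : η ≠ 0 := fun e => by rw [e] at hx; exact zero_ne_one hx
  ext y
  exact ⟨fun ⟨g, h1, h2⟩ => by
    rw [Set.mem_setOf_eq, ← h2, ← pull_apply, show pull g η = η from h1, hx],
    fun hy => h.flag' hab hη (h0 x hx) (h0 y hy) (hx.trans hy.symm)⟩

theorem TwoT.two (h : TwoT G V) {a b : V} (hab : Ind2 a b) {η ζ : Dual (ZMod 2) V}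
    (h1 : η a = 0) (h2 : ζ a = 0) (h3 : η b = 1) (h4 : ζ b = 1) :
    ∃ g : G, g • a = a ∧ g • b = b ∧ pull g ζ = η := by
  have hη : η ≠ 0 := fun e => by rw [e] at h3; exact zero_ne_one h3
  have hζ : ζ ≠ 0 := fun e => by rw [e] at h4; exact zero_ne_one h4
  obtain ⟨g, h5, h6⟩ := h.flag hab.1 hη hζ (h1.trans h2.symm)
  have h7 : ζ (g • b) = 1 := by rw [← pull_apply, h6, h3]
  have h8 : orb (fixd G ζ) a = (LinearMap.ker ζ : Set V) \ {0} := by
    ext y
    exact ⟨fun ⟨k, e1, e2⟩ => ⟨by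
      rw [SetLike.mem_coe, LinearMap.mem_ker, ← e2, ← pull_apply, show pull k ζ = ζ from e1, h2],
      fun e => hab.1 ((smul_eq_zero_iff_eq k).mp (e2.trans e))⟩,
      fun hy => h.flag' hab hζ hab.1 hy.2 (h2.trans hy.1.symm)⟩
  have h9 : Odd ((stabilizer G a ⊓ fixd G ζ).relIndex (fixd G ζ)) := by
    rw [inf_relIndex_right, ← ncard_orb, h8, Set.ncard_diff_singleton_of_mem (zero_mem _), ncard_sub]
    refine Nat.Even.sub_odd (Nat.one_le_two_pow) (Nat.even_pow.mpr ⟨even_two, fun e => ?_⟩) odd_one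
    exact hab.1 ((Submodule.eq_bot_iff _).mp (Submodule.finrank_eq_zero.mp e) a h2)
  have h10 := orb_eq_of_odd inf_le_right (x := g • b) (by rw [h.orb_one hab h7, ncard_one hζ]) h9
  rw [h.orb_one hab h7] at h10
  obtain ⟨k, ⟨e1, e2⟩, e3⟩ := h10.ge h4
  exact ⟨k * g, by rw [mul_smul, h5, e1], by rw [mul_smul, e3],
    by rw [← pull_pull, show pull k ζ = ζ from e2, h6]⟩

theorem TwoT.elation (h : TwoT G V) {a b x : V} (hab : Ind2 a b) (hx : Out a b x) :
    ∃ g : G, g • a = a ∧ g • b = b ∧ g • x = x + a := by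
  classical
  have := Fintype.ofFinite V
  have : Finite (Dual (ZMod 2) V) := Module.finite_of_finite (ZMod 2)
  have := Fintype.ofFinite (Dual (ZMod 2) V)
  let F : V → ℤ := fun y => if ∃ g : G, g • a = a ∧ g • b = b ∧ g • x = y then 1 else 0
  have hF : ∀ g : G, g • a = a → g • b = b → ∀ η : Dual (ZMod 2) V,
      ∑ y, F y * χ (pull g η y) = ∑ y, F y * χ (η y) := fun g h1 h2 η => by
    rw [← Equiv.sum_comp (MulAction.toPerm g) fun y => F y * χ (η y)]
    refine Finset.sum_congr rfl fun y _ => congrArg (· * _) (if_congr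
      ⟨fun ⟨k, e1, e2, e3⟩ => ⟨g * k, ?_, ?_, ?_⟩, fun ⟨k, e1, e2, e3⟩ => ⟨g⁻¹ * k, ?_, ?_, ?_⟩⟩
      rfl rfl)
    · rw [mul_smul, e1, h1]
    · rw [mul_smul, e2, h2]
    · rw [mul_smul, e3]; rfl
    · rw [mul_smul, e1, inv_smul_eq_iff, h1]
    · rw [mul_smul, e2, inv_smul_eq_iff, h2]
    · rw [mul_smul, e3]; exact inv_smul_smul _ _
  obtain ⟨θ, hθ, hθx⟩ := exists_dual_of_not_mem (fun e => mem_span_pair'.mp e hx)
  have ha : θ a = 0 := hθ a (Submodule.subset_span (by simp))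
  have hb : θ b = 0 := hθ b (Submodule.subset_span (by simp))
  have key : ∀ η : Dual (ZMod 2) V, η a = 1 →
      ∑ y, F y * χ ((η + θ) y) = ∑ y, F y * χ (η y) := fun η hη => by
    have e1 : (η + θ) a = 1 := by rw [LinearMap.add_apply, ha, hη, add_zero]
    rcases z2 (η b) with e | e
    · obtain ⟨g, h1, h2, h3⟩ := h.two hab.symm (η := η + θ) (ζ := η)
        (by rw [LinearMap.add_apply, hb, e, add_zero]) e e1 hη
      rw [← h3, hF g h2 h1]
    · have e2 : η (a + b) = 0 := by rw [map_add, hη, e]; rfl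
      obtain ⟨g, h1, h2, h3⟩ := h.two hab.add.symm (η := η + θ) (ζ := η)
        (by rw [LinearMap.add_apply, e2, map_add, ha, hb]; rfl) e2 e1 hη
      rw [← h3, hF g h2 (by rwa [smul_add, h2, add_right_inj] at h1)]
  have inv := inversion (fun (y : V) (ξ : Dual (ZMod 2) V) => ξ y)
    (fun y y' ξ => by rw [sub_eq, map_add]) (fun _ _ _ => rfl) (fun _ => exists_dual_one) F
  have h1 : (Fintype.card (Dual (ZMod 2) V) : ℤ) * F (x + a) -
      Fintype.card (Dual (ZMod 2) V) * F x = 0 := by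
    rw [← inv, ← inv, ← Finset.sum_sub_distrib]
    refine sum_eq_zero_of_shift _ θ fun η => ?_
    rcases z2 (η a) with e | e
    · simp [e, ha]
    · rw [key η e]
      simp only [LinearMap.add_apply, map_add, ha, hθx, e, χ_add, χ_one, χ_zero]
      ring
  have h2 : F x = 1 := if_pos ⟨1, one_smul _ _, one_smul _ _, one_smul _ _⟩
  have h3 : (0 : ℤ) < Fintype.card (Dual (ZMod 2) V) := by exact_mod_cast Fintype.card_pos
  by_contra h4
  rw [h2, show F (x + a) = 0 from if_neg h4] at h1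
  omega

end Cfsg.Agent.FG.CK
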