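import Mathlib
import Cfsg.Agent.FG.CKA
import Cfsg.Agent.Loc.MssSyl

/-!
# Two-transitive linear groups over `F₂`, II: the subspaces `W a b`

The stabiliser of `a, b` is transitive on the complement of a proper subspace `W a b`; the relation
`x ∈ W a b` is symmetric.  If `G` contains a Singer cycle, `3 · codim W ≥ dim V`.
-/

set_option autoImplicit false

namespace Cfsg.Agent.FG.CK

open Subgroup Module MulAction Cfsg.Agent.Loc.Mss

section Deg

variable {A B : Type*} [AddCommGroup A] [AddCommGroup B]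

/-- all `d`-fold differences vanish -/
def DegLt : ℕ → (A → ZMod 2) → Prop
  | 0, φ => ∀ t, φ t = 0
  | d + 1, φ => ∀ s, DegLt d fun t => φ (t + s) + φ t

theorem degLt_succ {d : ℕ} {φ : A → ZMod 2} :
    DegLt (d + 1) φ ↔ ∀ s, DegLt d fun t => φ (t + s) + φ t := Iff.rfl

theorem degLt_of_zero (d : ℕ) {φ : A → ZMod 2} (h : ∀ t, φ t = 0) : DegLt d φ := by
  induction d generalizing φ with
  | zero => exact h
  | succ d ih => exact fun s => ih fun t => by rw [h, h, add_zero]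

theorem DegLt.add {d : ℕ} {φ ψ : A → ZMod 2} (h1 : DegLt d φ) (h2 : DegLt d ψ) :
    DegLt d fun t => φ t + ψ t := by
  induction d generalizing φ ψ with
  | zero =>
    exact fun t => show φ t + ψ t = 0 by rw [show φ t = 0 from h1 t, show ψ t = 0 from h2 t, add_zero]
  | succ d ih =>
    intro s
    have := ih (h1 s) (h2 s)
    have e : ∀ t, φ (t + s) + φ t + (ψ (t + s) + ψ t) = φ (t + s) + ψ (t + s) + (φ t + ψ t) :=
      fun t => add_add_add_comm _ _ _ _
    simp only [e] at this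
    exact this

theorem DegLt.comp {d : ℕ} {φ : A → ZMod 2} (h : DegLt d φ) (f : B →+ A) (u : A) :
    DegLt d fun t => φ (f t + u) := by
  induction d generalizing φ with
  | zero => exact fun t => h _
  | succ d ih =>
    intro s
    have := ih (h (f s))
    simp only [add_right_comm _ u, ← map_add] at this
    exact this

theorem DegLt.mono {d e : ℕ} {φ : A → ZMod 2} (h : DegLt d φ) (he : d ≤ e) : DegLt e φ := by
  induction d generalizing φ e with
  | zero => exact degLt_of_zero _ h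
  | succ d ih =>
    obtain ⟨e, rfl⟩ : ∃ k, e = k + 1 := ⟨e - 1, by omega⟩
    exact fun s => ih (h s) (by omega)

theorem degLt_prod (m : ℕ) : ∀ (i j : ℕ) (Φ : A → B → ZMod 2), i + j ≤ m + 1 →
    (∀ b, DegLt i (Φ · b)) → (∀ a, DegLt j (Φ a)) → DegLt m fun p : A × B => Φ p.1 p.2 := by
  induction m with
  | zero =>
    intro i j Φ h h1 h2 p
    rcases i with _ | i
    · exact h1 _ _
    obtain rfl : j = 0 := by omega
    exact h2 _ _
  | succ m ih =>
    intro i j Φ h h1 h2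
    rcases i with _ | i
    · exact degLt_of_zero _ fun p => h1 _ _
    rcases j with _ | j
    · exact degLt_of_zero _ fun p => h2 _ _
    intro s
    have e1 := ih i (j + 1) (fun a b => Φ (a + s.1) (b + s.2) + Φ a (b + s.2)) (by omega)
      (fun b => h1 _ _) fun a =>
        ((h2 _).comp (AddMonoidHom.id B) s.2).add ((h2 _).comp (AddMonoidHom.id B) s.2)
    have e2 := ih (i + 1) j (fun a b => Φ a (b + s.2) + Φ a b) (by omega)
      (fun b => (h1 _).add (h1 _)) fun a => h2 _ _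
    have := e1.add e2
    simp only [add_assoc (Φ _ _), CharTwo.add_cancel_left] at this
    exact this

theorem DegLt.sum_eq_zero (d : ℕ) : ∀ {V : Type u_1} [AddCommGroup V] [Module (ZMod 2) V]
    [Fintype V] {φ : V → ZMod 2}, DegLt d φ → d ≤ finrank (ZMod 2) V → ∑ t, φ t = 0 := by
  induction d with
  | zero => exact fun h _ => Finset.sum_eq_zero fun t _ => h t
  | succ d ih =>
    intro V _ _ _ φ h hd
    classical
    have : Nontrivial V := Module.nontrivial_of_finrank_pos (R := ZMod 2) (by omega)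
    obtain ⟨s, hs⟩ := exists_ne (0 : V)
    obtain ⟨η, hη⟩ := exists_dual_one hs
    have h1 := LinearMap.finrank_range_add_finrank_ker η
    have h2 : finrank (ZMod 2) (LinearMap.range η) ≤ 1 :=
      (Submodule.finrank_le _).trans (finrank_self _).le
    have h3 := ih ((h s).comp (LinearMap.ker η).subtype.toAddMonoidHom 0) (by omega)
    let e : LinearMap.ker η ≃ {t // ¬ t ∈ LinearMap.ker η} :=
      { toFun := fun t => ⟨t + s, by
          rw [LinearMap.mem_ker, map_add, hη, show η t = 0 from t.2]; decide⟩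
        invFun := fun t => ⟨t + s, by
          rw [LinearMap.mem_ker, map_add, hη, (z2 _).resolve_left t.2]; decide⟩
        left_inv := fun t => Subtype.ext (add_add_cancel _ _)
        right_inv := fun t => Subtype.ext (add_add_cancel _ _) }
    rw [← Fintype.sum_subtype_add_sum_subtype (· ∈ LinearMap.ker η), ← Equiv.sum_comp e,
      ← Finset.sum_add_distrib, ← h3]
    exact Finset.sum_congr rfl fun t _ => by simp [e, add_comm]

end Deg

variable {G : Type*} [Group G] {V : Type*} [AddCommGroup V] [Module (ZMod 2) V]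

theorem degLt_of_inv [Finite V] (c : ℕ) : ∀ (U : Submodule (ZMod 2) V) (φ : V → ZMod 2),
    (∀ u ∈ U, ∀ t, φ (t + u) = φ t) → finrank (ZMod 2) V ≤ finrank (ZMod 2) U + c →
    DegLt (c + 1) φ := by
  have h0 : ∀ (U : Submodule (ZMod 2) V) (φ : V → ZMod 2), (∀ u ∈ U, ∀ t, φ (t + u) = φ t) →
      ∀ s ∈ U, ∀ d, DegLt d fun t => φ (t + s) + φ t := fun U φ h s hs d =>
    degLt_of_zero _ fun t => by rw [h s hs, CharTwo.add_self_eq_zero]
  induction c with
  | zero =>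
    intro U φ h hc s
    exact h0 U φ h s ((Submodule.eq_top_of_finrank_eq
      (le_antisymm (Submodule.finrank_le _) hc)).ge trivial) _
  | succ c ih =>
    intro U φ h hc s
    by_cases hs : s ∈ U
    · exact h0 U φ h s hs _
    have h1 : finrank (ZMod 2) U < finrank (ZMod 2) ↥(U ⊔ Submodule.span (ZMod 2) {s}) :=
      Submodule.finrank_lt_finrank_of_lt (lt_of_le_of_ne le_sup_left fun e => hs
        (e.ge (Submodule.mem_sup_right (Submodule.mem_span_singleton_self s))))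
    refine ih (U ⊔ Submodule.span (ZMod 2) {s}) _ (fun u hu t => ?_) (by omega)
    obtain ⟨u, h2, _, h3, rfl⟩ := Submodule.mem_sup.mp hu
    obtain ⟨r, rfl⟩ := Submodule.mem_span_singleton.mp h3
    rcases z2 r with rfl | rfl
    · rw [zero_smul, add_zero, add_right_comm, h u h2, h u h2]
    · rw [one_smul, ← add_assoc, add_add_cancel, add_right_comm, h u h2, h u h2, add_comm]

theorem eq_add_iff {x a b : V} : x = a + b ↔ b = a + x :=
  ⟨fun h => by rw [h, add_add_cancel'], fun h => by rw [h, add_add_cancel']⟩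

/-- `a, b, x` are linearly independent -/
def Ind3 (a b x : V) : Prop := Ind2 a b ∧ Out a b x

theorem Ind3.s12 {a b x : V} (h : Ind3 a b x) : Ind3 b a x :=
  ⟨h.1.symm, h.2.1, h.2.2.2.1, h.2.2.1, add_comm a b ▸ h.2.2.2.2⟩

theorem Ind3.s23 {a b x : V} (h : Ind3 a b x) : Ind3 a x b :=
  ⟨⟨h.1.1, h.2.1, h.2.2.1.symm⟩, h.1.2.1, h.1.2.2.symm, h.2.2.2.1.symm,
    fun e => h.2.2.2.2 (eq_add_iff.mp e)⟩

theorem Ind3.add {a b x : V} (h : Ind3 a b x) : Ind3 a b (x + a) :=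
  ⟨h.1, fun e => h.2.2.1 (add_eq_zero'.mp e), fun e => h.2.1 (by simpa using e),
    fun e => h.2.2.2.2 (by rw [← e, add_comm x, add_add_cancel']),
    fun e => h.2.2.2.1 (by rwa [add_comm a, add_left_inj] at e)⟩

variable [DistribMulAction G V]

theorem Ind2.smul {a b : V} (h : Ind2 a b) (g : G) : Ind2 (g • a) (g • b) :=
  ⟨fun e => h.1 ((smul_eq_zero_iff_eq g).mp e), fun e => h.2.1 ((smul_eq_zero_iff_eq g).mp e),
    fun e => h.2.2 (MulAction.injective g e)⟩

/-- an element of `Γ` maps one triple to the other -/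
def R3 (Γ : Subgroup G) (a b x a' b' x' : V) : Prop := ∃ g ∈ Γ, g • a = a' ∧ g • b = b' ∧ g • x = x'

theorem R3.trans {Γ : Subgroup G} {a b x a' b' x' a'' b'' x'' : V} (h1 : R3 Γ a b x a' b' x')
    (h2 : R3 Γ a' b' x' a'' b'' x'') : R3 Γ a b x a'' b'' x'' := by
  obtain ⟨g, e0, e1, e2, e3⟩ := h1
  obtain ⟨k, f0, f1, f2, f3⟩ := h2
  exact ⟨k * g, mul_mem f0 e0, by rw [mul_smul, e1, f1], by rw [mul_smul, e2, f2],
    by rw [mul_smul, e3, f3]⟩

/-- `Γ` induces all elations on the 3-spaces of `F` -/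
def Tr (Γ : Subgroup G) (F : Submodule (ZMod 2) V) : Prop :=
  ∀ a ∈ F, ∀ b ∈ F, ∀ x ∈ F, Ind3 a b x → R3 Γ a b x a b (x + a)

section Tr

variable {Γ : Subgroup G} {F : Submodule (ZMod 2) V} {a b x : V}

theorem Tr.e31 (h : Tr Γ F) (ha : a ∈ F) (hb : b ∈ F) (hx : x ∈ F) (i : Ind3 a b x) :
    R3 Γ a b x a b (x + a) := h a ha b hb x hx i

theorem Tr.e32 (h : Tr Γ F) (ha : a ∈ F) (hb : b ∈ F) (hx : x ∈ F) (i : Ind3 a b x) :
    R3 Γ a b x a b (x + b) :=
  let ⟨g, h0, h1, h2, h3⟩ := h b hb a ha x hx i.s12; ⟨g, h0, h2, h1, h3⟩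

theorem Tr.e21 (h : Tr Γ F) (ha : a ∈ F) (hb : b ∈ F) (hx : x ∈ F) (i : Ind3 a b x) :
    R3 Γ a b x a (b + a) x :=
  let ⟨g, h0, h1, h2, h3⟩ := h a ha x hx b hb i.s23; ⟨g, h0, h1, h3, h2⟩

theorem Tr.e23 (h : Tr Γ F) (ha : a ∈ F) (hb : b ∈ F) (hx : x ∈ F) (i : Ind3 a b x) :
    R3 Γ a b x a (b + x) x :=
  let ⟨g, h0, h1, h2, h3⟩ := h x hx a ha b hb i.s23.s12; ⟨g, h0, h2, h3, h1⟩

theorem Tr.e12 (h : Tr Γ F) (ha : a ∈ F) (hb : b ∈ F) (hx : x ∈ F) (i : Ind3 a b x) :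
    R3 Γ a b x (a + b) b x :=
  let ⟨g, h0, h1, h2, h3⟩ := h b hb x hx a ha i.s12.s23; ⟨g, h0, h3, h1, h2⟩

theorem Tr.e13 (h : Tr Γ F) (ha : a ∈ F) (hb : b ∈ F) (hx : x ∈ F) (i : Ind3 a b x) :
    R3 Γ a b x (a + x) b x :=
  let ⟨g, h0, h1, h2, h3⟩ := h x hx b hb a ha i.s23.s12.s23; ⟨g, h0, h3, h2, h1⟩

theorem Tr.swap23 (h : Tr Γ F) (ha : a ∈ F) (hb : b ∈ F) (hx : x ∈ F) (i : Ind3 a b x) :
    R3 Γ a b x a x b := by
  have i1 : Ind3 a (b + x) x := i.s23.s12.add.s12.s23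
  have i2 : Ind3 a (b + x) (x + (b + x)) := i1.s12.add.s12
  have := ((h.e23 ha hb hx i).trans (h.e32 ha (add_mem hb hx) hx i1)).trans
    (h.e23 ha (add_mem hb hx) (add_mem hx (add_mem hb hx)) i2)
  rwa [add_comm b x, add_add_cancel', add_add_cancel] at this

theorem Tr.swap12 (h : Tr Γ F) (ha : a ∈ F) (hb : b ∈ F) (hx : x ∈ F) (i : Ind3 a b x) :
    R3 Γ a b x b a x :=
  let ⟨g, h0, h1, h2, h3⟩ := h.swap23 hx ha hb i.s23.s12; ⟨g, h0, h2, h3, h1⟩

end Tr

variable [SMulCommClass G (ZMod 2) V]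

theorem TwoT.tr [Finite V] (h : TwoT G V) : Tr (⊤ : Subgroup G) (⊤ : Submodule (ZMod 2) V) :=
  fun _ _ _ _ _ _ i => (h.elation i.1 i.2).imp fun g h => ⟨mem_top g, h⟩

variable (G) in
/-- special functionals -/
def Sp (a b : V) (η : Dual (ZMod 2) V) : Prop :=
  η a = 0 ∧ η b = 0 ∧ η ≠ 0 ∧ ∀ x y, η x = 1 → η y = 1 → ∃ g : G, g • a = a ∧ g • b = b ∧ g • x = y

variable (G) in
/-- the common kernel of the special functionals -/
def W (a b : V) : Submodule (ZMod 2) V := ⨅ η : {η // Sp G a b η}, LinearMap.ker η.1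

omit [SMulCommClass G (ZMod 2) V] in
theorem mem_W {a b x : V} : x ∈ W G a b ↔ ∀ η, Sp G a b η → η x = 0 := by
  simp [W, Submodule.mem_iInf]

theorem Sp.pull {a b : V} {η : Dual (ZMod 2) V} {g : G} (h : Sp G (g • a) (g • b) η) :
    Sp G a b (pull g η) := by
  refine ⟨h.1, h.2.1, pull_ne_zero g h.2.2.1, fun x y hx hy => ?_⟩
  obtain ⟨k, h1, h2, h3⟩ := h.2.2.2 (g • x) (g • y) hx hy
  exact ⟨g⁻¹ * k * g, by simp [mul_smul, h1], by simp [mul_smul, h2], by simp [mul_smul, h3]⟩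

theorem smul_mem_W {a b x : V} (g : G) : g • x ∈ W G (g • a) (g • b) ↔ x ∈ W G a b := by
  have key : ∀ (g : G) (a b x : V), x ∈ W G a b → g • x ∈ W G (g • a) (g • b) := fun g a b x h =>
    mem_W.mpr fun η hη => mem_W.mp h _ hη.pull
  exact ⟨fun h => by simpa using key g⁻¹ _ _ _ h, key g a b x⟩

omit [SMulCommClass G (ZMod 2) V] in
theorem W_comm (a b : V) : W G a b = W G b a := by
  have key : ∀ a b : V, W G a b ≤ W G b a := fun a b x h => mem_W.mpr fun η hη => mem_W.mp h _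
    ⟨hη.2.1, hη.1, hη.2.2.1, fun x y hx hy => (hη.2.2.2 x y hx hy).imp fun _ h => ⟨h.2.1, h.1, h.2.2⟩⟩
  exact le_antisymm (key a b) (key b a)

omit [SMulCommClass G (ZMod 2) V] in
theorem W_add (a b : V) : W G a (a + b) = W G a b := by
  have key : ∀ a b : V, W G a (a + b) ≤ W G a b := fun a b x h => mem_W.mpr fun η hη => mem_W.mp h _
    ⟨hη.1, by rw [map_add, hη.1, hη.2.1, add_zero], hη.2.2.1, fun x y hx hy =>
      (hη.2.2.2 x y hx hy).imp fun _ h => ⟨h.1, by rw [smul_add, h.1, h.2.1], h.2.2⟩⟩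
  refine le_antisymm (key a b) ?_
  simpa only [add_add_cancel'] using key a (a + b)

omit [SMulCommClass G (ZMod 2) V] in
theorem left_mem_W (a b : V) : a ∈ W G a b := mem_W.mpr fun _ h => h.1

omit [SMulCommClass G (ZMod 2) V] in
theorem right_mem_W (a b : V) : b ∈ W G a b := mem_W.mpr fun _ h => h.2.1

omit [SMulCommClass G (ZMod 2) V] in
theorem out_of_not_mem {a b x : V} (h : x ∉ W G a b) : Out a b x :=
  ⟨fun e => h (e ▸ zero_mem _), fun e => h (e ▸ left_mem_W _ _), fun e => h (e ▸ right_mem_W _ _),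
    fun e => h (e ▸ add_mem (left_mem_W _ _) (right_mem_W _ _))⟩

omit [SMulCommClass G (ZMod 2) V] in
theorem trans_W {a b x y : V} (hx : x ∉ W G a b) (hy : y ∉ W G a b) :
    ∃ g : G, g • a = a ∧ g • b = b ∧ g • x = y := by
  simp only [mem_W, not_forall] at hx hy
  obtain ⟨η, h1, h2⟩ := hx
  obtain ⟨ζ, h3, h4⟩ := hy
  have h2 := (z2 _).resolve_left h2
  have h4 := (z2 _).resolve_left h4
  rcases z2 (ζ x) with h5 | h5
  swap
  · exact h3.2.2.2 x y h5 h4
  rcases z2 (η y) with h6 | h6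
  swap
  · exact h1.2.2.2 x y h2 h6
  obtain ⟨g, e1, e2, e3⟩ := h1.2.2.2 x (x + y) h2 (by rw [map_add, h2, h6, add_zero])
  obtain ⟨k, f1, f2, f3⟩ := h3.2.2.2 (x + y) y (by rw [map_add, h5, h4, zero_add]) h4
  exact ⟨k * g, by rw [mul_smul, e1, f1], by rw [mul_smul, e2, f2], by rw [mul_smul, e3, f3]⟩

theorem W_smul (g : G) (a b : V) : W G (g • a) (g • b) = (W G a b).map (lin g) := by
  ext x
  rw [← smul_inv_smul g x, smul_mem_W]
  exact ⟨fun h => ⟨_, h, rfl⟩, fun ⟨y, h1, h2⟩ => MulAction.injective g h2 ▸ h1⟩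

theorem finrank_map_lin (g : G) (U : Submodule (ZMod 2) V) :
    finrank (ZMod 2) (U.map (lin g)) = finrank (ZMod 2) U :=
  LinearEquiv.finrank_map_eq (DistribMulAction.toLinearEquiv (ZMod 2) V g) U

theorem TwoT.finrank_W (h : TwoT G V) {a b a' b' : V} (i : Ind2 a b) (i' : Ind2 a' b') :
    finrank (ZMod 2) (W G a' b') = finrank (ZMod 2) (W G a b) := by
  obtain ⟨g, rfl, rfl⟩ := h _ _ _ _ i i'
  rw [W_smul, finrank_map_lin]

theorem exists_fixed {α : Type*} [MulAction G α] [Finite α] [Finite G] {S : Subgroup G}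
    (hS : IsPGroup 2 S) (T : Set α) (hT : ∀ g ∈ S, ∀ y ∈ T, g • y ∈ T) (ho : Odd T.ncard) :
    ∃ y ∈ T, ∀ g ∈ S, g • y = y := by
  by_contra h
  refine Nat.not_even_iff_odd.mpr ho (even_iff_two_dvd.mpr (dvd_ncard_of_orb S T hT fun y hy => ?_))
  obtain ⟨k, hk⟩ := hS.index ((stabilizer G y).subgroupOf S)
  rw [ncard_orb, relIndex, hk]
  refine dvd_pow_self 2 fun e => h ⟨y, hy, fun g hg => ?_⟩
  rw [e, pow_zero, index_eq_one, subgroupOf_eq_top] at hk
  exact hk hg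

theorem odd_ncard {U : Type*} [AddCommGroup U] [Module (ZMod 2) U] [Finite U]
    {B : Submodule (ZMod 2) U} (h : B ≠ ⊥) : Odd ((B : Set U) \ {0}).ncard := by
  rw [Set.ncard_diff_singleton_of_mem (zero_mem _), ncard_sub]
  exact Nat.Even.sub_odd Nat.one_le_two_pow
    (Nat.even_pow.mpr ⟨even_two, fun e => h (Submodule.finrank_eq_zero.mp e)⟩) odd_one

variable [Finite V]

theorem mem_W_symm (h : TwoT G V) {a b x : V} (i : Ind3 a b x) : x ∈ W G a b ↔ b ∈ W G a x := by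
  obtain ⟨g, -, h1, h2, h3⟩ := h.tr.swap23 trivial trivial trivial i
  rw [← smul_mem_W g, h1, h2, h3]

theorem exists_sp [Finite G] (h : TwoT G V) {a b x : V} (i : Ind3 a b x) {a' b' : V}
    (i' : Ind2 a' b') : ∃ η, Sp G a' b' η := by
  obtain ⟨S, hS⟩ := Syl.exists 2 (⊤ : Subgroup G)
  have : Finite (Dual (ZMod 2) V) := Module.finite_of_finite (ZMod 2)
  obtain ⟨η, hη, h1⟩ : ∃ η : Dual (ZMod 2) V, η ≠ 0 ∧ S ≤ fixd G η := by
    letI : MulAction G (Dual (ZMod 2) V) :=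
      { smul := fun g η => pull g⁻¹ η
        one_smul := fun η => by change pull 1⁻¹ η = η; rw [inv_one, pull_one]
        mul_smul := fun g k η => by
          change pull (g * k)⁻¹ η = pull g⁻¹ (pull k⁻¹ η); rw [pull_pull, mul_inv_rev] }
    obtain ⟨ζ, hζ⟩ := exists_dual_one i.1.1
    obtain ⟨η, h1, h2⟩ := exists_fixed hS.pg
      (((⊤ : Submodule (ZMod 2) (Dual (ZMod 2) V)) : Set (Dual (ZMod 2) V)) \ {0})
      (fun g _ y hy => ⟨trivial, pull_ne_zero g⁻¹ hy.2⟩) (odd_ncard (B := ⊤) fun e => by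
        rw [show ζ = 0 from e.le trivial] at hζ; exact zero_ne_one hζ)
    exact ⟨η, h1.2, fun g hg => (inv_mem_iff (x := g)).mp (h2 g hg)⟩
  have hk : ∀ g ∈ S, ∀ y, η (g • y) = η y := fun g hg y => by
    rw [← pull_apply, show pull g η = η from h1 hg]
  obtain ⟨u, v, hu, hv, i2⟩ : ∃ u v, η u = 0 ∧ η v = 0 ∧ Ind2 u v := by
    have e : ∀ {s t : V}, η s = 1 → η t = 1 → η (s + t) = 0 := fun h1 h2 => by
      rw [map_add, h1, h2]; rfl
    rcases z2 (η a) with h2 | h2 <;> rcases z2 (η b) with h3 | h3 <;> rcases z2 (η x) with h4 | h4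
    · exact ⟨a, b, h2, h3, i.1⟩
    · exact ⟨a, b, h2, h3, i.1⟩
    · exact ⟨a, x, h2, h4, i.s23.1⟩
    · exact ⟨a, x + b, h2, e h4 h3, i.s12.add.s12.s23.1⟩
    · exact ⟨b, x, h3, h4, i.s12.s23.1⟩
    · exact ⟨b, x + a, h3, e h4 h2, i.add.s12.s23.1⟩
    · exact ⟨x, b + a, h4, e h3 h2, i.s23.add.s12.s23.1⟩
    · exact ⟨x + a, x + a + (b + a), e h4 h2, by rw [map_add, e h4 h2, e h3 h2, add_zero],
        i.add.s23.add.s12.s23.1.add⟩
  obtain ⟨c, ⟨hc, hc0⟩, h2⟩ := exists_fixed hS.pg ((LinearMap.ker η : Set V) \ {0})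
    (fun g hg y hy => ⟨(hk g hg y).trans hy.1, fun e => hy.2 ((smul_eq_zero_iff_eq g).mp e)⟩)
    (odd_ncard fun e => i2.1 (e.le hu))
  obtain ⟨d, hd, i3, h3⟩ : ∃ d, η d = 0 ∧ Ind2 c d ∧ ∀ g ∈ S, g • d = d ∨ g • d = d + c := by
    let A := Submodule.span (ZMod 2) {c}
    have hA : ∀ {y}, y ∈ A ↔ y = 0 ∨ y = c := fun {y} => by
      rw [Submodule.mem_span_singleton]
      exact ⟨fun ⟨r, e⟩ => by rcases z2 r with rfl | rfl <;> simp [← e],
        fun e => by rcases e with rfl | rfl; exacts [⟨0, zero_smul _ _⟩, ⟨1, one_smul _ _⟩]⟩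
    have hi : ∀ g : S, A ≤ A.comap (lin (g : G)) := fun g =>
      Submodule.span_le.mpr (Set.singleton_subset_iff.mpr (hA.mpr (.inr (h2 g g.2))))
    have : Finite (V ⧸ A) := Finite.of_surjective _ A.mkQ_surjective
    letI : MulAction S (V ⧸ A) :=
      { smul := fun g => A.mapQ A (lin (g : G)) (hi g)
        one_smul := fun y => Submodule.Quotient.induction_on _ y fun y =>
          congrArg Submodule.Quotient.mk (one_smul G y)
        mul_smul := fun g k y => Submodule.Quotient.induction_on _ y fun y =>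
          congrArg Submodule.Quotient.mk (mul_smul (g : G) k y) }
    obtain ⟨_, ⟨⟨d, e1, rfl⟩, e2⟩, e3⟩ := exists_fixed (S := (⊤ : Subgroup S)) (hS.pg.to_subgroup ⊤)
      (((LinearMap.ker η).map A.mkQ : Set (V ⧸ A)) \ {0}) (by
        rintro g - _ ⟨⟨y, e1, rfl⟩, e2⟩
        refine ⟨⟨(g : G) • y, (hk g g.2 y).trans e1, rfl⟩, fun e => e2 ?_⟩
        have := congrArg (g⁻¹ • ·) e
        simp only [inv_smul_smul] at this
        exact this.trans (map_zero (A.mapQ A (lin ((g⁻¹ : S) : G)) (hi _)))) (odd_ncard fun e => by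
        have e1 := hA.mp ((Submodule.Quotient.mk_eq_zero A).mp (e.le ⟨u, hu, rfl⟩))
        have e2 := hA.mp ((Submodule.Quotient.mk_eq_zero A).mp (e.le ⟨v, hv, rfl⟩))
        exact i2.2.2 ((e1.resolve_left i2.1).trans (e2.resolve_left i2.2.1).symm))
    have e4 := mt (fun e => (Submodule.Quotient.mk_eq_zero A).mpr (hA.mpr e)) e2
    refine ⟨d, e1, ⟨hc0, fun e => e4 (.inl e), fun e => e4 (.inr e.symm)⟩, fun g hg => ?_⟩
    rcases hA.mp ((Submodule.Quotient.eq A).mp (e3 ⟨g, hg⟩ trivial)) with e | e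
    · exact .inl (sub_eq_zero.mp e)
    · exact .inr (sub_eq_iff_eq_add'.mp e)
  obtain ⟨g, rfl, rfl⟩ := h _ _ _ _ i' i3
  refine ⟨_, Sp.pull (g := g) ⟨hc, hd, hη, fun y z hy hz => ?_⟩⟩
  have h4 := orb_eq_of_odd h1 (x := y) (by rw [h.orb_one i3 hy, ncard_one hη])
    (Nat.odd_iff.mpr (Nat.two_dvd_ne_zero.mp (hS.mono h1 le_top).nd))
  rw [h.orb_one i3 hy] at h4
  obtain ⟨s, hs, rfl⟩ := h4.ge hz
  rcases h3 s hs with e | e
  · exact ⟨s, h2 s hs, e, rfl⟩
  have h5 : ∀ t, η t = 0 → y ≠ t := fun t ht e => by rw [e, ht] at hy; exact zero_ne_one hy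
  obtain ⟨k, -, e1, e2, e3⟩ := h.tr.e21 trivial trivial trivial ⟨i3, h5 _ (map_zero _), h5 _ hc,
    h5 _ hd, h5 _ (by rw [map_add, show η _ = 0 from hc, hd, add_zero])⟩
  exact ⟨s * k, by rw [mul_smul, e1, h2 s hs],
    by rw [mul_smul, e2, smul_add, e, h2 s hs, add_add_cancel], by rw [mul_smul, e3]⟩

theorem exists_not_mem_W [Finite G] (h : TwoT G V) {a b x : V} (i : Ind3 a b x) {a' b' : V}
    (i' : Ind2 a' b') : ∃ y, y ∉ W G a' b' := by
  obtain ⟨η, hη⟩ := exists_sp h i i'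
  obtain ⟨y, hy⟩ := exists_one hη.2.2.1
  exact ⟨y, fun e => by rw [mem_W.mp e η hη] at hy; exact zero_ne_one hy⟩

/-- the Singer cycle bound -/
theorem singer_bound (h : TwoT G V) {P : Subgroup G} (hP : ∀ p ∈ P, ∀ q ∈ P, p * q = q * p)
    (hP' : ∀ x y : V, x ≠ 0 → y ≠ 0 → ∃ p ∈ P, p • x = y) {a b x : V} (i : Ind2 a b)
    (hx : x ∉ W G a b) {c : ℕ} (hc : finrank (ZMod 2) V = finrank (ZMod 2) (W G a b) + c) :
    finrank (ZMod 2) V ≤ 3 * c := by
  classical
  let Γ : V → V → V → ZMod 2 := fun a b x => if Ind2 a b ∧ x ∉ W G a b then 1 else 0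
  have s12 : ∀ a b x, Γ a b x = Γ b a x := fun a b x =>
    if_congr ⟨fun h => ⟨h.1.symm, W_comm (G := G) a b ▸ h.2⟩,
      fun h => ⟨h.1.symm, W_comm (G := G) b a ▸ h.2⟩⟩ rfl rfl
  have s23 : ∀ a b x, Γ a b x = Γ a x b := fun a b x => by
    have key : ∀ b x, Ind2 a b ∧ x ∉ W G a b → Ind2 a x ∧ b ∉ W G a x := fun b x e =>
      have i : Ind3 a b x := ⟨e.1, out_of_not_mem e.2⟩
      ⟨i.s23.1, fun e' => e.2 ((mem_W_symm h i).mpr e')⟩
    exact if_congr ⟨key b x, key x b⟩ rfl rfl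
  have d3 : ∀ a b, DegLt (c + 1) (Γ a b) := fun a' b' => by
    by_cases i' : Ind2 a' b'
    · refine degLt_of_inv c (W G a' b') _ (fun u hu t => if_congr (and_congr_right fun _ =>
        not_congr (Submodule.add_mem_iff_left _ hu)) rfl rfl) (by rw [h.finrank_W i i', hc])
    · exact degLt_of_zero _ fun t => if_neg fun e => i' e.1
  have d := degLt_prod (3 * c + 1) (2 * c + 1) (c + 1) (fun (p : V × V) x => Γ p.1 p.2 x)
    (by omega) (fun x => degLt_prod (2 * c + 1) (c + 1) (c + 1) (fun a b => Γ a b x) (by omega)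
      (fun b => by simpa only [s12 _ b, s23 b _ x] using d3 b x)
      (fun a => by simpa only [s23 a _ x] using d3 a x)) fun p => d3 _ _
  let C : Submodule (ZMod 2) (V →ₗ[ZMod 2] V) :=
    { carrier := {φ | ∀ p ∈ P, ∀ v, φ (p • v) = p • φ v}
      add_mem' := fun h1 h2 p hp v => by simp [h1 p hp, h2 p hp]
      zero_mem' := fun p _ v => by simp
      smul_mem' := fun r φ h p hp v => by simp [h p hp, smul_comm p r] }
  have : Finite (V →ₗ[ZMod 2] V) := Module.finite_of_finite (ZMod 2)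
  have := Fintype.ofFinite C
  let ev : V → C →ₗ[ZMod 2] V := fun v => (LinearMap.applyₗ v).comp C.subtype
  have h1 : finrank (ZMod 2) V ≤ finrank (ZMod 2) C := by
    refine LinearMap.finrank_le_finrank_of_surjective (f := ev a) fun y => ?_
    by_cases e : y = 0
    · exact ⟨0, by rw [e, map_zero]⟩
    obtain ⟨p, hp, rfl⟩ := hP' a y i.1 e
    exact ⟨⟨lin p, fun q hq v => by
      change p • q • v = q • p • v; rw [smul_smul, smul_smul, hP p hp q hq]⟩, rfl⟩
  by_contra h2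
  have h3 := DegLt.sum_eq_zero _ (d.comp
    (((ev a).prod (ev b)).prod (ev x)).toAddMonoidHom 0) (by omega)
  have h4 : ∀ t : C, t ≠ 0 → Γ (ev a t) (ev b t) (ev x t) = 1 := fun t ht => by
    obtain ⟨v, hv⟩ := DFunLike.ne_iff.mp fun e : t.1 = 0 => ht (Subtype.ext e)
    have hv0 : v ≠ 0 := fun e => hv (by rw [e, map_zero]; rfl)
    obtain ⟨p, hp, e⟩ := hP' v _ hv0 hv
    have e1 : ∀ y, ev y t = p • y := fun y => by
      by_cases e2 : y = 0
      · rw [e2, smul_zero]; exact map_zero t.1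
      obtain ⟨q, hq, rfl⟩ := hP' v y hv0 e2
      change t.1 (q • v) = _
      rw [t.2 q hq, ← e, smul_smul, smul_smul, hP p hp q hq]
    rw [e1, e1, e1]
    exact if_pos ⟨i.smul p, fun e => hx ((smul_mem_W p).mp e)⟩
  have h5 : ∑ t : C, Γ (ev a t) (ev b t) (ev x t) = 0 := by simpa using h3
  have h6 : Γ (ev a 0) (ev b 0) (ev x 0) = 0 := if_neg fun e => e.1.1 (map_zero _)
  rw [← Finset.add_sum_erase _ _ (Finset.mem_univ 0), h6, zero_add,
    Finset.sum_congr rfl fun t ht => h4 t (Finset.mem_erase.mp ht).1, Finset.sum_const,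
    Finset.card_erase_of_mem (Finset.mem_univ _), Finset.card_univ, ← Nat.card_eq_fintype_card,
    card_sub, nsmul_one, ZMod.natCast_eq_zero_iff] at h5
  have h7 : 2 ∣ 2 ^ finrank (ZMod 2) C := dvd_pow_self 2 (by omega)
  have := Nat.one_le_two_pow (n := finrank (ZMod 2) C)
  omega

end Cfsg.Agent.FG.CK
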