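import Mathlib
import Cfsg.Agent.FG.CKA
import Cfsg.Agent.GT.FrobeniusComplement
import Cfsg.Agent.FG.H94Orb2

/-!
# Two-transitive linear groups over `F₂`, III: small modules for normal `ℓ`-subgroups

`ℓ` is a prime such that `c` divides the order of `2` modulo `ℓ`; `X ⊴ Γ` is an `ℓ`-group without
fixed points on a module of dimension at most `2c`.  Then 2-elements of `Γ''` act quadratically.
-/

set_option autoImplicit false

namespace Cfsg.Agent.FG.CK

open Subgroup Module MulAction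

variable {Γ : Type*} [Group Γ] {U : Type*} [AddCommGroup U] [Module (ZMod 2) U]

/-- the action given by a representation -/
@[reducible] def actOf (ρ : Representation (ZMod 2) Γ U) : DistribMulAction Γ U :=
  DistribMulAction.compHom U (ρ : Γ →* Module.End (ZMod 2) U)

/-- `A` is `X`-invariant -/
def Inv (ρ : Representation (ZMod 2) Γ U) (X : Subgroup Γ) (A : Submodule (ZMod 2) U) : Prop :=
  ∀ x ∈ X, ∀ v ∈ A, ρ x v ∈ A

/-- fixed points -/
def fix (ρ : Representation (ZMod 2) Γ U) (X : Subgroup Γ) : Submodule (ZMod 2) U where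
  carrier := {v | ∀ x ∈ X, ρ x v = v}
  add_mem' h1 h2 x hx := by rw [map_add, h1 x hx, h2 x hx]
  zero_mem' x _ := map_zero _
  smul_mem' r v h x hx := by rw [map_smul, h x hx]

variable {ρ : Representation (ZMod 2) Γ U} {X : Subgroup Γ}

theorem mem_fix {v : U} : v ∈ fix ρ X ↔ ∀ x ∈ X, ρ x v = v := Iff.rfl

theorem rho_mul (g h : Γ) (v : U) : ρ (g * h) v = ρ g (ρ h v) := by rw [map_mul]; rfl

theorem rho_inv (g : Γ) (v : U) : ρ g⁻¹ (ρ g v) = v := by rw [← rho_mul, inv_mul_cancel, map_one]; rfl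

theorem rho_inv' (g : Γ) (v : U) : ρ g (ρ g⁻¹ v) = v := by
  rw [← rho_mul, mul_inv_cancel, map_one]; rfl

theorem mem_fix_zpowers {z : Γ} {v : U} : v ∈ fix ρ (zpowers z) ↔ ρ z v = v := by
  letI := actOf ρ
  exact ⟨fun h => h z (mem_zpowers z), fun h x hx =>
    (zpowers_le.mpr (show z ∈ stabilizer Γ v from h) : zpowers z ≤ stabilizer Γ v) hx⟩

theorem Inv.inf {A B : Submodule (ZMod 2) U} (h1 : Inv ρ X A) (h2 : Inv ρ X B) : Inv ρ X (A ⊓ B) :=
  fun x hx v hv => ⟨h1 x hx v hv.1, h2 x hx v hv.2⟩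

theorem Inv.sup {A B : Submodule (ZMod 2) U} (h1 : Inv ρ X A) (h2 : Inv ρ X B) :
    Inv ρ X (A ⊔ B) := fun x hx v hv => by
  obtain ⟨a, ha, b, hb, rfl⟩ := Submodule.mem_sup.mp hv
  rw [map_add]
  exact add_mem (Submodule.mem_sup_left (h1 x hx a ha)) (Submodule.mem_sup_right (h2 x hx b hb))

theorem pow_two_pow_add_one (φ : Module.End (ZMod 2) U) (k : ℕ) :
    (φ + 1) ^ 2 ^ k = φ ^ 2 ^ k + 1 := by
  induction k with
  | zero => simp
  | succ k ih =>
    rw [pow_succ, pow_mul, ih, pow_mul, sq, sq, add_mul, mul_add, mul_add, mul_one, one_mul, one_mul,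
      add_assoc, add_add_cancel']

variable [Finite U]

theorem finrank_map_lt {φ : Module.End (ZMod 2) U} {k : ℕ} (h : φ ^ k = 0)
    {A : Submodule (ZMod 2) U} (hA : A.map φ ≤ A) (h0 : A ≠ ⊥) :
    finrank (ZMod 2) (A.map φ) < finrank (ZMod 2) A := by
  refine Submodule.finrank_lt_finrank_of_lt (lt_of_le_of_ne hA fun e => h0 ?_)
  have : ∀ i, A.map (φ ^ i) = A := fun i => by
    induction i with
    | zero => exact Submodule.map_id A
    | succ i ih => rw [pow_succ', Module.End.mul_eq_comp, Submodule.map_comp, ih, e]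
  rw [← this k, h, Submodule.map_zero]

theorem lemQ {c k : ℕ} (hc : ∀ A, Inv ρ X A → c ∣ finrank (ZMod 2) A) {g : Γ}
    (hg : ρ g ^ 2 ^ k = 1) (h : ∀ x ∈ X, ρ g * ρ x = ρ x * ρ g) (m : ℕ)
    (hm : finrank (ZMod 2) U ≤ m * c) : (ρ g + 1) ^ m = 0 := by
  have h1 : (ρ g + 1) ^ 2 ^ k = 0 := by rw [pow_two_pow_add_one, hg, add_self]
  have key : ∀ (m : ℕ) (A : Submodule (ZMod 2) U), Inv ρ X A → A.map (ρ g + 1) ≤ A →
      finrank (ZMod 2) A ≤ m * c → A.map ((ρ g + 1) ^ m) = ⊥ := fun m => by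
    induction m with
    | zero =>
      intro A _ _ h2
      rw [Submodule.finrank_eq_zero.mp (show finrank (ZMod 2) A = 0 by omega), Submodule.map_bot]
    | succ m ih =>
      intro A h2 h3 h4
      by_cases h0 : A = ⊥
      · rw [h0, Submodule.map_bot]
      have h5 : Inv ρ X (A.map (ρ g + 1)) := by
        rintro x hx _ ⟨v, hv, rfl⟩
        refine ⟨_, h2 x hx v hv, ?_⟩
        have := LinearMap.congr_fun (h x hx) v
        simp only [Module.End.mul_apply] at this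
        simp [this]
      have h6 := finrank_map_lt h1 h3 h0
      obtain ⟨s, hs⟩ := hc _ h5
      rw [pow_succ, Module.End.mul_eq_comp, Submodule.map_comp]
      refine ih _ h5 (Submodule.map_mono h3) ?_
      rw [hs, mul_comm]
      exact Nat.mul_le_mul_right _ (Nat.lt_succ_iff.mp (lt_of_mul_lt_mul_right (a := c)
        (by rw [mul_comm, ← hs]; exact h6.trans_le h4) (Nat.zero_le _)))
  rw [← LinearMap.range_eq_bot, LinearMap.range_eq_map]
  exact key m ⊤ (fun _ _ _ _ => trivial) le_top (by rwa [finrank_top])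

theorem eq_one_of_add {φ : Module.End (ZMod 2) U} (h : (φ + 1) ^ 1 = 0) : φ = 1 :=
  add_eq_zero'.mp (by rwa [pow_one] at h)

variable [Finite Γ] {ℓ c : ℕ} [Fact ℓ.Prime]

theorem dvd_sub_fix (hX : IsPGroup ℓ X) {A : Submodule (ZMod 2) U} (hA : Inv ρ X A) :
    ℓ ∣ 2 ^ finrank (ZMod 2) A - 2 ^ finrank (ZMod 2) ↥(A ⊓ fix ρ X) := by
  letI := actOf ρ
  rw [← ncard_sub, ← ncard_sub, ← Set.ncard_diff (SetLike.coe_subset_coe.mpr inf_le_left)]
  refine dvd_ncard_of_orb X _ (fun g hg y hy => ⟨hA g hg y hy.1, fun e => hy.2 ⟨hy.1, fun x hx => ?_⟩⟩)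
    fun y hy => ?_
  · have := e.2 (g * x * g⁻¹) (mul_mem (mul_mem hg hx) (inv_mem hg))
    change ρ _ (ρ g y) = ρ g y at this
    rw [rho_mul, rho_inv, rho_mul] at this
    rw [← rho_inv (ρ := ρ) g (ρ x y), this, rho_inv]
  obtain ⟨k, hk⟩ := hX.index ((stabilizer Γ y).subgroupOf X)
  rw [ncard_orb, relIndex, hk]
  refine dvd_pow_self ℓ fun e => hy.2 ⟨hy.1, fun g hg => ?_⟩
  rw [e, pow_zero, index_eq_one, subgroupOf_eq_top] at hk
  exact hk hg

/-- `ℓ` is odd and `c` divides the order of `2` modulo `ℓ` -/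
def Prim (ℓ c : ℕ) : Prop := ℓ ≠ 2 ∧ ∀ k, ℓ ∣ 2 ^ k - 1 → c ∣ k

theorem Prim.dvd (hp : Prim ℓ c) {a b : ℕ} (hab : b ≤ a) (h : ℓ ∣ 2 ^ a - 2 ^ b) : c ∣ a - b := by
  obtain ⟨d, rfl⟩ := Nat.exists_eq_add_of_le hab
  rw [pow_add, ← Nat.mul_sub_one, (Fact.out : ℓ.Prime).dvd_mul] at h
  rw [Nat.add_sub_cancel_left]
  exact hp.2 _ (h.resolve_left fun e => hp.1
    ((Nat.prime_dvd_prime_iff_eq Fact.out Nat.prime_two).mp ((Fact.out : ℓ.Prime).dvd_of_dvd_pow e)))

theorem Prim.dvd_inv (hp : Prim ℓ c) (hX : IsPGroup ℓ X) (h0 : fix ρ X = ⊥)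
    (A : Submodule (ZMod 2) U) (hA : Inv ρ X A) : c ∣ finrank (ZMod 2) A := by
  have := hp.dvd (Submodule.finrank_mono inf_le_left) (dvd_sub_fix hX hA)
  rwa [h0, inf_bot_eq, finrank_bot, Nat.sub_zero] at this

theorem Prim.dvd_fix (hp : Prim ℓ c) (hX : IsPGroup ℓ X) :
    c ∣ finrank (ZMod 2) U - finrank (ZMod 2) (fix ρ X) := by
  have := hp.dvd (Submodule.finrank_mono inf_le_left)
    (dvd_sub_fix (ρ := ρ) (A := ⊤) hX fun _ _ _ _ => trivial)
  rwa [top_inf_eq, finrank_top] at this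

theorem Prim.dvd_fix' (hp : Prim ℓ c) (hX : IsPGroup ℓ X) {x : Γ} (hx : x ∈ X) :
    c ∣ finrank (ZMod 2) U - finrank (ZMod 2) (fix ρ (zpowers x)) :=
  hp.dvd_fix (hX.to_le (zpowers_le.mpr hx))

theorem Prim.one_or (hp : Prim ℓ c) (hX : IsPGroup ℓ X) (hc : finrank (ZMod 2) U ≤ c) {x : Γ}
    (hx : x ∈ X) : ρ x = 1 ∨ fix ρ (zpowers x) = ⊥ := by
  have h1 := hp.dvd_fix' (ρ := ρ) hX hx
  have h2 := Submodule.finrank_le (fix ρ (zpowers x))
  by_cases h : finrank (ZMod 2) (fix ρ (zpowers x)) = finrank (ZMod 2) U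
  · exact .inl (LinearMap.ext fun v =>
      mem_fix_zpowers.mp ((Submodule.eq_top_of_finrank_eq h).ge trivial))
  · have := Nat.le_of_dvd (by omega) h1
    exact .inr (Submodule.finrank_eq_zero.mp (by omega))

theorem comm_of_fpf (hl : ℓ ≠ 2) [X.Normal] (hX : IsPGroup ℓ X)
    (h : ∀ x ∈ X, ρ x = 1 ∨ fix ρ (zpowers x) = ⊥) {g : Γ} (hg : g ∈ commutator Γ) :
    ∀ x ∈ X, ρ g * ρ x = ρ x * ρ g := by
  intro x hx
  rcases subsingleton_or_nontrivial U with _ | _
  · exact Subsingleton.elim _ _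
  let π := ρ.asGroupHom.rangeRestrict
  have hπ : Function.Surjective π := MonoidHom.rangeRestrict_surjective _
  let Y := X.map π
  have : Y.Normal := Normal.map inferInstance π hπ
  have : Finite ρ.asGroupHom.range := Finite.of_surjective _ hπ
  letI : DistribMulAction Y U := DistribMulAction.compHom U
    ((Units.coeHom (Module.End (ZMod 2) U)).comp (ρ.asGroupHom.range.subtype.comp Y.subtype))
  have h1 : GT.Frob.HasFpfAction Y := GT.Frob.hasFpfAction_of_distribMulAction U (by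
    rintro ⟨_, y, hy, rfl⟩ h2 v h3
    rcases h y hy with e | e
    · exact absurd (Subtype.ext (Subtype.ext (Units.ext e))) h2
    · exact e.le (mem_fix_zpowers.mpr h3))
  have h2 : IsCyclic (⊤ : Subgroup Y) :=
    h1.isCyclic_of_isPGroup hl ((hX.map π).to_subgroup ⊤)
  have h3 : IsCyclic Y := isCyclic_of_surjective _ topEquiv.surjective
  have h4 : commutator Γ ≤ ((MulAut.conjNormal (H := Y)).comp π).ker :=
    commutator_le.mpr fun a _ b _ => by
      rw [MonoidHom.mem_ker, map_commutatorElement, commutatorElement_eq_one_iff_mul_comm]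
      exact Orb2.mulAut_comm _ _
  have h5 := congrArg (fun t : Y => ((t : ρ.asGroupHom.range) : (Module.End (ZMod 2) U)ˣ))
    (DFunLike.congr_fun (h4 hg) ⟨π x, x, hx, rfl⟩)
  have h6 : ρ.asGroupHom g * ρ.asGroupHom x * (ρ.asGroupHom g)⁻¹ = ρ.asGroupHom x := h5
  exact congrArg Units.val (mul_inv_eq_iff_eq_mul.mp h6)

theorem Prim.m1 (hp : Prim ℓ c) [X.Normal] (hX : IsPGroup ℓ X) (h0 : fix ρ X = ⊥)
    (hc : finrank (ZMod 2) U ≤ c) {g : Γ} (hg : g ∈ commutator Γ) {k : ℕ} (hk : g ^ 2 ^ k = 1) :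
    ρ g = 1 :=
  eq_one_of_add (lemQ (hp.dvd_inv hX h0) (by rw [← map_pow, hk, map_one])
    (comm_of_fpf hp.1 hX (fun _ => hp.one_or hX hc) hg) 1 (by omega))

theorem le_two_mul_fix {t : Γ} (h : ρ t * ρ t = 1) :
    finrank (ZMod 2) U ≤ 2 * finrank (ZMod 2) (fix ρ (zpowers t)) := by
  have h1 := LinearMap.finrank_range_add_finrank_ker (ρ t + 1)
  have h2 : LinearMap.ker (ρ t + 1) ≤ fix ρ (zpowers t) := fun v hv =>
    mem_fix_zpowers.mpr (add_eq_zero'.mp hv)
  have h3 : LinearMap.range (ρ t + 1) ≤ fix ρ (zpowers t) := by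
    rintro _ ⟨v, rfl⟩
    have := LinearMap.congr_fun h v
    simp only [Module.End.mul_apply, Module.End.one_apply] at this
    exact mem_fix_zpowers.mpr (by simp [this, add_comm])
  have := Submodule.finrank_mono h2
  have := Submodule.finrank_mono h3
  omega

theorem Prim.m3 (hp : Prim ℓ c) [hn : X.Normal] (hX : IsPGroup ℓ X) (h0 : fix ρ X = ⊥)
    (hc : finrank (ZMod 2) U ≤ c) (ho : Odd (finrank (ZMod 2) U)) (k : ℕ) :
    ∀ g : Γ, ρ g ^ 2 ^ k = 1 → ρ g = 1 := by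
  induction k with
  | zero => exact fun g h => by rwa [pow_zero, pow_one] at h
  | succ k ih =>
  intro t ht
  have h1 : ρ t * ρ t = 1 := by
    rw [← map_mul]
    exact ih _ (by rwa [map_mul, ← sq, ← pow_mul, ← pow_succ'])
  refine eq_one_of_add (lemQ (hp.dvd_inv hX h0) ht (fun x hx => ?_) 1 (by omega))
  have h2 : t * x * t⁻¹ * x⁻¹ ∈ X := mul_mem (hn.conj_mem x hx t) (inv_mem hx)
  rcases hp.one_or hX hc h2 with e | e
  · rw [← map_mul, ← map_mul, show t * x = t * x * t⁻¹ * x⁻¹ * (x * t) by group, map_mul, e, one_mul]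
  have h3 : ρ (x * t * x⁻¹) * ρ (x * t * x⁻¹) = 1 := by
    rw [← map_mul, show x * t * x⁻¹ * (x * t * x⁻¹) = x * (t * t) * x⁻¹ by group, map_mul, map_mul,
      map_mul ρ t, h1, mul_one, ← map_mul, mul_inv_cancel, map_one]
  have h4 := le_two_mul_fix h1
  have h5 := le_two_mul_fix h3
  have h6 := Submodule.finrank_sup_add_finrank_inf_eq (fix ρ (zpowers t))
    (fix ρ (zpowers (x * t * x⁻¹)))
  have h7 : fix ρ (zpowers t) ⊓ fix ρ (zpowers (x * t * x⁻¹)) = ⊥ := by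
    refine eq_bot_iff.mpr (le_trans (fun v hv => mem_fix_zpowers.mpr ?_) e.le)
    rw [show t * x * t⁻¹ * x⁻¹ = t * (x * t * x⁻¹)⁻¹ by group, rho_mul,
      hv.2 _ (inv_mem (mem_zpowers _)), hv.1 _ (mem_zpowers _)]
  have h8 := Submodule.finrank_le (fix ρ (zpowers t) ⊔ fix ρ (zpowers (x * t * x⁻¹)))
  rw [h7, finrank_bot] at h6
  obtain ⟨r, hr⟩ := ho
  omega

theorem Prim.m2' (hp : Prim ℓ c) (h2 : 2 ≤ c) [hn : X.Normal] (hX : IsPGroup ℓ X)
    (h0 : fix ρ X = ⊥) (hc : finrank (ZMod 2) U ≤ 2 * c) (hi : Function.Injective ρ) {g : Γ}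
    (hg : g ∈ ⁅commutator Γ, commutator Γ⁆) {k : ℕ} (hk : g ^ 2 ^ k = 1) : (ρ g + 1) ^ 2 = 0 := by
  rcases subsingleton_or_nontrivial U with _ | _
  · exact Subsingleton.elim _ _
  let Z := (center X).map X.subtype
  have hZ : Z ≤ X := map_subtype_le _
  have hZc : ∀ z ∈ Z, ∀ x ∈ X, x * z = z * x := by
    rintro _ ⟨z, hz, rfl⟩ x hx
    exact congrArg Subtype.val (mem_center_iff.mp hz ⟨x, hx⟩)
  have hinv : ∀ z ∈ Z, Inv ρ X (fix ρ (zpowers z)) := fun z hz x hx v hv =>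
    mem_fix_zpowers.mpr (by rw [← rho_mul, ← hZc z hz x hx, rho_mul, mem_fix_zpowers.mp hv])
  have h1 : ∀ z, ρ z = 1 → z = 1 := fun z e => hi (e.trans (map_one ρ).symm)
  by_cases h3 : ∀ z ∈ Z, z = 1 ∨ fix ρ (zpowers z) = ⊥
  · have : Nontrivial X := (nontrivial_iff_ne_bot X).mpr fun e => by
      obtain ⟨v, hv⟩ := exists_ne (0 : U)
      exact hv (h0.le fun x hx => by rw [e, mem_bot] at hx; rw [hx, map_one]; rfl)
    have := hX.center_nontrivial
    obtain ⟨z, hz⟩ := exists_ne (1 : center X)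
    have h4 : fix ρ Z = ⊥ := eq_bot_iff.mpr (le_trans (fun v hv => mem_fix_zpowers.mpr
      (hv _ ⟨z, z.2, rfl⟩)) ((h3 _ ⟨z, z.2, rfl⟩).resolve_left fun e =>
        hz (Subtype.ext (Subtype.ext e))).le)
    exact lemQ (hp.dvd_inv (hX.to_le hZ) h4) (by rw [← map_pow, hk, map_one])
      (comm_of_fpf hp.1 (hX.to_le hZ) (fun z hz => (h3 z hz).imp_left fun e => by rw [e, map_one])
        (commutator_mono le_top le_top hg)) 2 hc
  simp only [not_forall, not_or] at h3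
  obtain ⟨z, hz, hz1, hz2⟩ := h3
  have h4 : ∀ z ∈ Z, z ≠ 1 → fix ρ (zpowers z) ≠ ⊥ →
      finrank (ZMod 2) (fix ρ (zpowers z)) = c ∧ finrank (ZMod 2) U = 2 * c := fun z hz e1 e2 => by
    obtain ⟨s, hs⟩ := hp.dvd_fix' (ρ := ρ) hX (hZ hz)
    obtain ⟨t, ht⟩ := hp.dvd_inv hX h0 _ (hinv z hz)
    have e3 := mt Submodule.finrank_eq_zero.mp e2
    have e4 : finrank (ZMod 2) (fix ρ (zpowers z)) < finrank (ZMod 2) U :=
      Submodule.finrank_lt fun e => e1 (h1 z (LinearMap.ext fun v =>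
        mem_fix_zpowers.mp (e.ge trivial)))
    have := Nat.le_of_dvd (by omega) ⟨s, hs⟩
    have := Nat.le_of_dvd (by omega) ⟨t, ht⟩
    omega
  let A : Γ → Submodule (ZMod 2) U := fun γ => fix ρ (zpowers (γ * z * γ⁻¹))
  have hA : ∀ γ v, v ∈ A γ ↔ ρ γ⁻¹ v ∈ fix ρ (zpowers z) := fun γ v => by
    rw [mem_fix_zpowers, mem_fix_zpowers, rho_mul, rho_mul]
    exact ⟨fun e => by rw [← rho_inv (ρ := ρ) γ (ρ z _), e], fun e => by rw [e, rho_inv']⟩
  have hz' : ∀ γ, γ * z * γ⁻¹ ∈ Z := fun γ => (inferInstance : Z.Normal).conj_mem z hz γ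
  have h5 : ∀ γ, finrank (ZMod 2) (A γ) = c := fun γ => (h4 _ (hz' γ) (by simpa using hz1)
    fun e => hz2 (eq_bot_iff.mpr fun v hv => by
      have := (show A γ = ⊥ from e).le ((hA γ (ρ γ v)).mpr (by rwa [rho_inv]))
      rw [← rho_inv (ρ := ρ) γ v, (Submodule.mem_bot _).mp this, map_zero]
      exact zero_mem _)).1
  have h6 : ∀ γ δ, A γ ≠ A δ → A γ ⊓ A δ = ⊥ ∧ A γ ⊔ A δ = ⊤ := fun γ δ e => by
    have e1 := hp.dvd_inv hX h0 _ ((hinv _ (hz' γ)).inf (hinv _ (hz' δ)))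
    have e2 : finrank (ZMod 2) ↥(A γ ⊓ A δ) < finrank (ZMod 2) (A γ) :=
      Submodule.finrank_lt_finrank_of_lt (lt_of_le_of_ne inf_le_left fun e' => e
        (Submodule.eq_of_le_of_finrank_eq (e'.ge.trans inf_le_right) (by rw [h5, h5])))
    have e3 := Nat.eq_zero_of_dvd_of_lt e1 (by rwa [h5] at e2)
    have e4 := Submodule.finrank_sup_add_finrank_inf_eq (A γ) (A δ)
    refine ⟨Submodule.finrank_eq_zero.mp e3, Submodule.eq_top_of_finrank_eq ?_⟩
    have e5 : finrank (ZMod 2) ↥(A γ ⊓ A δ) = 0 := e3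
    rw [h5, h5, e5] at e4
    rw [(h4 z hz hz1 hz2).2]
    omega
  have h7 : ∀ γ δ, A γ ≠ A 1 → A δ ≠ A 1 → A γ = A δ := fun γ δ e1 e2 => by
    by_contra e3
    refine e3 (Submodule.eq_of_le_of_finrank_eq (fun v hv => mem_fix_zpowers.mpr
      (add_eq_zero'.mp ((h6 γ 1 e1).1.le ⟨add_mem (hinv _ (hz' γ) _ (hZ (hz' δ)) v hv) hv, ?_⟩)))
      (by rw [h5, h5]))
    obtain ⟨a, ha, b, hb, rfl⟩ := Submodule.mem_sup.mp ((h6 δ 1 e2).2.ge (trivial : v ∈ ⊤))
    rw [map_add, mem_fix_zpowers.mp ha, add_add_add_comm, add_self, zero_add]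
    exact add_mem (hinv _ (hz' 1) _ (hZ (hz' δ)) b hb) hb
  have h8 : ∀ γ δ v, v ∈ A (γ * δ) ↔ ρ γ⁻¹ v ∈ A δ := fun γ δ v => by
    rw [hA, hA, mul_inv_rev, rho_mul]
  let H : Subgroup Γ :=
    { carrier := {γ | A γ = A 1}
      one_mem' := rfl
      mul_mem' := fun {γ δ} e1 e2 => Submodule.ext fun v => by
        rw [h8, show A δ = A 1 from e2, ← h8, mul_one, show A γ = A 1 from e1]
      inv_mem' := fun {γ} e => Submodule.ext fun v => by
        have := h8 γ⁻¹ γ v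
        rw [inv_mul_cancel, show A γ = A 1 from e, ← h8, mul_one] at this
        exact this.symm }
  have h9 : ∀ a b, a * b ∈ H ↔ (a ∈ H ↔ b ∈ H) := fun a b => by
    by_cases e1 : a ∈ H
    · simp [e1, mul_mem_cancel_left e1]
    by_cases e2 : b ∈ H
    · simp [e1, e2, mul_mem_cancel_right e2]
    simp only [e1, e2, iff_true]
    exact Submodule.ext fun v => by
      rw [h8, h7 b a⁻¹ e2 fun e => e1 ((inv_mem_iff (H := H)).mp e), ← h8, mul_inv_cancel]
  have h10 : commutator Γ ≤ H := commutator_le.mpr fun a _ b _ => by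
    rw [commutatorElement_def, mul_assoc, h9, h9, h9, inv_mem_iff, inv_mem_iff]
  have h11 : ∀ γ : H, A 1 ≤ (A 1).comap ((ρ.comp H.subtype) γ) := fun γ v hv =>
    (show A γ = A 1 from γ.2).le (by rw [← mul_one (γ : Γ), h8]; exact (rho_inv (ρ := ρ) _ v).symm ▸ hv)
  have h12 : X ≤ H := fun x hx => show A x = A 1 by
    simp only [A]
    rw [show x * z * x⁻¹ = 1 * z * 1⁻¹ by rw [hZc z hz x hx]; group]
  obtain ⟨g, hg', rfl⟩ : g ∈ (commutator H).map H.subtype := by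
    rw [map_subtype_commutator]; exact commutator_mono h10 h10 hg
  have hk' : g ^ 2 ^ k = 1 := Subtype.ext hk
  have hX' : IsPGroup ℓ (X.subgroupOf H) := hX.comap_subtype
  have h13 := hp.m1 (ρ := Representation.subrepresentation _ (A 1) h11) hX'
    (eq_bot_iff.mpr fun v hv => Subtype.ext (h0.le fun x hx =>
      congrArg Subtype.val (hv ⟨x, h12 hx⟩ hx))) (h5 1).le hg' hk'
  have : Finite (U ⧸ A 1) := Finite.of_surjective _ (A 1).mkQ_surjective
  have h14 := hp.m1 (ρ := Representation.quotient _ (A 1) h11) hX' (eq_bot_iff.mpr fun v hv => by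
    obtain ⟨v, rfl⟩ := (A 1).mkQ_surjective v
    by_contra e
    have e1 : v ∉ A 1 := fun e' => e ((Submodule.Quotient.mk_eq_zero _).mpr e')
    have e2 := hp.dvd_inv hX h0 (A 1 ⊔ Submodule.span (ZMod 2) {v}) fun x hx w hw => by
      obtain ⟨a, ha, _, hb, rfl⟩ := Submodule.mem_sup.mp hw
      obtain ⟨r, rfl⟩ := Submodule.mem_span_singleton.mp hb
      have e3 := (Submodule.Quotient.eq _).mp (hv ⟨x, h12 hx⟩ hx)
      rw [map_add, map_smul, ← sub_add_cancel (ρ x v) v, smul_add, ← add_assoc]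
      exact add_mem (Submodule.mem_sup_left (add_mem (hinv _ (hz' 1) x hx a ha)
        (Submodule.smul_mem _ _ e3))) (Submodule.mem_sup_right hb)
    rw [Submodule.finrank_sup_span_singleton e1, h5, Nat.dvd_add_right dvd_rfl, Nat.dvd_one] at e2
    omega) (by have := (A 1).finrank_quotient_add_finrank; rw [h5] at this; omega) hg' hk'
  refine LinearMap.ext fun v => ?_
  have e1 : ρ g v + v ∈ A 1 := by
    rw [← sub_eq]; exact (Submodule.Quotient.eq _).mp (LinearMap.congr_fun h14 ((A 1).mkQ v))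
  exact add_eq_zero'.mpr (congrArg Subtype.val (LinearMap.congr_fun h13 ⟨_, e1⟩))

theorem Prim.m2 (hp : Prim ℓ c) (h2 : 2 ≤ c) [hn : X.Normal] (hX : IsPGroup ℓ X)
    (h0 : fix ρ X = ⊥) (hc : finrank (ZMod 2) U ≤ 2 * c) {g : Γ}
    (hg : g ∈ ⁅commutator Γ, commutator Γ⁆) {k : ℕ} (hk : g ^ 2 ^ k = 1) : ρ (g ^ 2) = 1 := by
  let π := ρ.asGroupHom.rangeRestrict
  have hπ : Function.Surjective π := MonoidHom.rangeRestrict_surjective _
  have : (X.map π).Normal := Normal.map inferInstance π hπ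
  have : Finite ρ.asGroupHom.range := Finite.of_surjective _ hπ
  have h1 : (commutator Γ).map π ≤ commutator _ := by
    rw [_root_.commutator_def, map_commutator]; exact commutator_mono le_top le_top
  have h3 := hp.m2' (ρ := (Units.coeHom (Module.End (ZMod 2) U)).comp ρ.asGroupHom.range.subtype)
    h2 (hX.map π) (eq_bot_iff.mpr fun v hv => h0.le fun x hx => hv _ ⟨x, hx, rfl⟩) hc
    (Units.val_injective.comp Subtype.val_injective) (g := π g)
    (commutator_mono h1 h1 (by rw [← map_commutator]; exact mem_map_of_mem _ hg)) (k := k)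
    (by rw [← map_pow, hk, map_one])
  have h4 := pow_two_pow_add_one (ρ g) 1
  rw [map_pow]
  exact add_eq_zero'.mp (h4.symm.trans h3)

end Cfsg.Agent.FG.CK
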