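import Mathlib
import Cfsg.Agent.FG.CKB

/-!
# Two-transitive linear groups over `F₂`, IV: counting, the key lemma, blocks
-/

set_option autoImplicit false

namespace Cfsg.Agent.FG.CK

open Subgroup Module MulAction
open scoped commutatorElement

variable {G : Type*} [Group G] {V : Type*} [AddCommGroup V] [Module (ZMod 2) V]

theorem exists_ppart [Finite G] (α : Type*) [MulAction G α] (g : G) {p : ℕ} (hp : p.Prime)
    (j : ℕ) : ∃ g' ∈ zpowers g, (∃ k, g' ^ p ^ k = 1) ∧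
      ∀ v : α, g ^ p ^ j • v = v → g' • v = g • v := by
  obtain ⟨k, s, h1, h2⟩ := Nat.exists_eq_pow_mul_and_not_dvd (orderOf_pos g).ne' p hp.ne_one
  have h3 := Nat.ModEq.pow_totient ((hp.coprime_iff_not_dvd.mpr h1).symm.pow_right (j + 1))
  obtain ⟨t, ht⟩ : ∃ t, Nat.totient (p ^ (j + 1)) = t + 1 :=
    ⟨_, (Nat.succ_pred_eq_of_pos (Nat.totient_pos.mpr (pow_pos hp.pos _))).symm⟩
  rw [ht] at h3
  refine ⟨g ^ s ^ (t + 1), pow_mem (mem_zpowers g) _, ⟨k, ?_⟩, fun v hv => ?_⟩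
  · rw [← pow_mul, ← orderOf_dvd_iff_pow_eq_one, h2, pow_succ]
    exact ⟨s ^ t, by ring⟩
  have := Nat.one_le_pow (t + 1) s (Nat.pos_of_ne_zero fun e => h1 (e ▸ dvd_zero p))
  obtain ⟨r, hr⟩ := (Nat.modEq_iff_dvd' this).mp h3.symm
  have h4 : s ^ (t + 1) = 1 + p ^ j * (p * r) := by
    rw [← mul_assoc, ← pow_succ, ← hr]; omega
  rw [h4, pow_add, pow_one, mul_smul, pow_mul,
    show (g ^ p ^ j) ^ (p * r) • v = v from pow_mem (show _ ∈ stabilizer G v from hv) _]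

variable [DistribMulAction G V]

section Tr

variable {Γ Λ : Subgroup G} {F : Submodule (ZMod 2) V}

theorem Tr.mono (h : Tr Γ F) (h' : Γ ≤ Λ) : Tr Λ F := fun a ha b hb x hx i =>
  (h a ha b hb x hx i).imp fun _ e => ⟨h' e.1, e.2⟩

theorem Tr.comm (h : Tr Γ F) : Tr ⁅Γ, Γ⁆ F := fun a ha b hb x hx i => by
  obtain ⟨g, g0, g1, g2, g3⟩ := h.e21 ha hb hx i
  obtain ⟨k, k0, k1, k2, k3⟩ := h.e32 ha hb hx i
  have e1 : g⁻¹ • a = a := inv_smul_eq_iff.mpr g1.symm
  have e2 : g⁻¹ • b = b + a := inv_smul_eq_iff.mpr (by rw [smul_add, g1, g2, add_add_cancel])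
  have e3 : g⁻¹ • x = x := inv_smul_eq_iff.mpr g3.symm
  have f1 : k⁻¹ • a = a := inv_smul_eq_iff.mpr k1.symm
  have f2 : k⁻¹ • b = b := inv_smul_eq_iff.mpr k2.symm
  have f3 : k⁻¹ • x = x + b := inv_smul_eq_iff.mpr (by rw [smul_add, k3, k2, add_add_cancel])
  refine ⟨⁅g, k⁆, commutator_mem_commutator g0 k0, ?_, ?_, ?_⟩ <;>
    simp only [commutatorElement_def, mul_smul, smul_add, e1, e2, e3, f1, f2, f3, g1, g2, g3, k1, k2,
      k3, add_add_cancel, add_assoc, add_add_cancel', add_self, add_zero]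
  rw [add_comm a b, add_add_cancel']

theorem Tr.sq [Finite G] (h : Tr Γ F) (h' : ∀ g ∈ Γ, ∀ k, g ^ 2 ^ k = 1 → g ^ 2 ∈ Λ) : Tr Λ F :=
  fun a ha b hb x hx i => by
  obtain ⟨g, g0, g1, g2, g3⟩ := h.e21 ha hb hx i
  obtain ⟨k, k0, k1, k2, k3⟩ := h.e32 ha hb hx i
  obtain ⟨u, u0, ⟨m, hm⟩, hu⟩ := exists_ppart V (g * k) Nat.prime_two 2
  have e : ∀ v : V, (g * k) ^ 2 ^ 2 • v = g • k • g • k • g • k • g • k • v := fun v => by
    rw [show 2 ^ 2 = 1 + 1 + 1 + 1 from rfl]; simp only [pow_add, pow_one, mul_smul]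
  have u1 : u • a = a := by
    rw [hu a (by simp only [e, g1, k1]), mul_smul, k1, g1]
  have u2 : u • b = b + a := by
    rw [hu b (by simp only [e, smul_add, g1, k1, g2, k2, add_add_cancel]), mul_smul, k2, g2]
  have u3 : u • x = x + (b + a) := by
    rw [hu x (by simp only [e, smul_add, g1, k1, g2, k2, g3, k3, add_add_cancel, add_assoc,
      add_add_cancel', add_self, add_zero]), mul_smul, k3, smul_add, g3, g2]
  refine ⟨u ^ 2, h' u (zpowers_le.mpr (mul_mem g0 k0) u0) m hm, ?_, ?_, ?_⟩ <;>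
    simp only [pow_two, mul_smul, smul_add, u1, u2, u3, add_add_cancel]
  rw [add_assoc, add_comm b a, add_add_cancel]

theorem Tr.seven [Finite G] (h : Tr Γ F) (h' : ∀ g ∈ Γ, ∀ k, g ^ 7 ^ k = 1 → g ∈ Λ) : Tr Λ F := by
  have key : ∀ p ∈ F, ∀ q ∈ F, ∀ r ∈ F, Ind3 p q r → R3 Λ p q r q r (p + q) := fun p hp q hq r hr i => by
    obtain ⟨g, g0, g1, g2, g3⟩ := ((h.swap12 hp hq hr i).trans (h.swap23 hq hp hr i.s12)).trans
      (h.e31 hq hr hp i.s12.s23)
    obtain ⟨u, u0, ⟨m, hm⟩, hu⟩ := exists_ppart V g (by norm_num : Nat.Prime 7) 1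
    have e : ∀ v : V, g ^ 7 ^ 1 • v = g • g • g • g • g • g • g • v := fun v => by
      rw [show 7 ^ 1 = 1 + 1 + 1 + 1 + 1 + 1 + 1 from rfl]; simp only [pow_add, pow_one, mul_smul]
    have e1 : g • g • g • g • g • g • g • p = p := by
      simp only [smul_add, g1, g2, g3]
      rw [add_assoc, add_add_cancel', add_comm p, add_add_cancel']
    have e2 : ∀ v : V, g ^ 7 ^ 1 • v = v → g ^ 7 ^ 1 • g • v = g • v := fun v hv => by
      rw [smul_smul, ← pow_succ, pow_succ', mul_smul, hv]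
    have e3 := (e p).trans e1
    have e4 := e2 p e3
    have e5 := e2 _ e4
    rw [g1] at e4 e5
    rw [g2] at e5
    exact ⟨u, h' u (zpowers_le.mpr g0 u0) m hm, (hu p e3).trans g1, (hu q e4).trans g2,
      (hu r e5).trans g3⟩
  intro a ha b hb x hx i
  obtain ⟨g, g0, g1, g2, g3⟩ := key b hb x hx a ha i.s12.s23
  obtain ⟨k, k0, k1, k2, k3⟩ := key a ha x hx _ (add_mem hb hx) i.s23.s12.add.s12
  have k4 : k • b = a + b := by
    rw [← add_add_cancel b x, smul_add, k3, k2, add_add_cancel, add_comm b x, ← add_assoc,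
      add_add_cancel]
  exact ⟨g * k, mul_mem g0 k0, by rw [mul_smul, k1, g2],
    by rw [mul_smul, k4, smul_add, g3, g1, add_add_cancel], by rw [mul_smul, k2, smul_add, g1, g2]⟩

end Tr

variable [SMulCommClass G (ZMod 2) V] [Finite V]

theorem count_W (h : TwoT G V) {y a b : V} (i : Ind2 y a) (hb : b ∉ W G y a) :
    (2 ^ finrank (ZMod 2) V - 2 ^ finrank (ZMod 2) (W G y a)) *
      (2 ^ finrank (ZMod 2) ↥(W G y a ⊓ W G y b) - 2) ≤
    (2 ^ finrank (ZMod 2) (W G y a) - 4) * 2 ^ finrank (ZMod 2) (W G y a) := by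
  classical
  have := Fintype.ofFinite V
  have hc : ∀ A : Submodule (ZMod 2) V, (Finset.univ.filter (· ∈ A)).card = 2 ^ finrank (ZMod 2) A :=
    fun A => by rw [← card_sub, Nat.card_eq_fintype_card, Fintype.card_subtype]
  have hy := left_mem_W (G := G) y
  obtain ⟨S, hS, cS⟩ : ∃ S : Finset V, (∀ v, v ∈ S ↔ v ∉ W G y a) ∧
      S.card = 2 ^ finrank (ZMod 2) V - 2 ^ finrank (ZMod 2) (W G y a) :=
    ⟨Finset.univ \ Finset.univ.filter (· ∈ W G y a), by simp, by
      rw [Finset.card_sdiff_of_subset (Finset.subset_univ _), hc, Finset.card_univ,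
        ← Nat.card_eq_fintype_card, card_V]⟩
  obtain ⟨T, hT, cT⟩ : ∃ T : Finset V, (∀ v, v ∈ T ↔ v ∈ W G y a ∧ Out y a v) ∧
      T.card = 2 ^ finrank (ZMod 2) (W G y a) - 4 := by
    refine ⟨Finset.univ.filter (· ∈ W G y a) \ {0, y, a, y + a}, by simp [Out], ?_⟩
    rw [Finset.card_sdiff_of_subset, hc, Finset.card_eq_four.mpr ⟨_, _, _, _, i.1.symm, i.2.1.symm,
      i.add.2.1.symm, i.2.2, i.add.2.2, by simpa using i.1, rfl⟩]
    intro v hv
    simp only [Finset.mem_insert, Finset.mem_singleton] at hv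
    rcases hv with rfl | rfl | rfl | rfl
    exacts [by simp, by simpa using hy _, by simpa using right_mem_W _ _,
      by simpa using add_mem (hy _) (right_mem_W _ _)]
  rw [← cS, ← cT]
  refine Finset.card_mul_le_card_mul (fun a' v => v ∈ W G y a') (fun a' ha' => ?_) fun v hv => ?_
  · have h2 := (hS _).mp ha'
    have h3 : a ∉ W G y a' := fun e => h2 ((mem_W_symm h ⟨i, out_of_not_mem h2⟩).mpr e)
    obtain ⟨g, e1, e2, e3⟩ := trans_W hb h2
    have h4 : W G y a ⊓ W G y a' = (W G y a ⊓ W G y b).map (lin g) := by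
      rw [Submodule.map_inf _ (MulAction.injective g), ← W_smul, ← W_smul, e1, e2, e3]
    rw [← finrank_map_lin g, ← h4, ← hc]
    refine le_trans (le_trans (Nat.sub_le_sub_left Finset.card_le_two _)
      (Finset.le_card_sdiff {0, y} _)) (Finset.card_le_card fun v hv => ?_)
    simp only [Finset.mem_sdiff, Finset.mem_filter, Finset.mem_univ, true_and, Finset.mem_insert,
      Finset.mem_singleton, not_or, Finset.mem_bipartiteAbove, Submodule.mem_inf, hT] at hv ⊢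
    exact ⟨⟨hv.1.1, hv.2.1, hv.2.2, fun e => h3 (e ▸ hv.1.2), fun e =>
      h3 ((Submodule.add_mem_iff_right _ (hy _)).mp (e ▸ hv.1.2))⟩, hv.1.2⟩
  · obtain ⟨h2, h3⟩ := (hT _).mp hv
    have i' : Ind2 y v := ⟨i.1, h3.1, h3.2.1.symm⟩
    rw [← h.finrank_W i i', ← hc]
    refine Finset.card_le_card fun a' ha' => ?_
    rw [Finset.mem_bipartiteBelow, hS] at ha'
    have i3 : Ind3 y v a' := ⟨i', fun e => ha'.1 (e ▸ zero_mem _),
      fun e => ha'.1 (by rw [e]; exact hy _), fun e => ha'.1 (e ▸ h2),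
      fun e => ha'.1 (by rw [e]; exact add_mem (hy _) h2)⟩
    exact Finset.mem_filter.mpr ⟨Finset.mem_univ _, (mem_W_symm h i3).mpr ha'.2⟩

theorem three_le_finrank {F : Submodule (ZMod 2) V} {a b x : V} (ha : a ∈ F) (hb : b ∈ F)
    (hx : x ∈ F) (i : Ind3 a b x) : 3 ≤ finrank (ZMod 2) F := by
  have h1 : b ∉ Submodule.span (ZMod 2) {a} := fun e => by
    obtain ⟨r, rfl⟩ := Submodule.mem_span_singleton.mp e
    rcases z2 r with rfl | rfl
    exacts [i.1.2.1 (zero_smul _ _), i.1.2.2 (one_smul _ _).symm]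
  have h2 : x ∉ Submodule.span (ZMod 2) {a} ⊔ Submodule.span (ZMod 2) {b} := fun e =>
    mem_span_pair'.mp (by rwa [← Submodule.span_union] at e) i.2
  have h3 := Submodule.finrank_mono (sup_le (sup_le ((Submodule.span_singleton_le_iff_mem _ _).mpr ha)
    ((Submodule.span_singleton_le_iff_mem _ _).mpr hb))
    ((Submodule.span_singleton_le_iff_mem _ _).mpr hx))
  rwa [Submodule.finrank_sup_span_singleton h2, Submodule.finrank_sup_span_singleton h1,
    finrank_span_singleton i.1.1] at h3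

/-- the key lemma -/
theorem key_lemma (h : TwoT G V) {K : Subgroup G} {F R : Submodule (ZMod 2) V} {a b x : V}
    (ha : a ∈ F) (hb : b ∈ F) (hx : x ∈ F) (i : Ind3 a b x) (hF : F ≤ W G a b) (hR : F ⊔ R = ⊤)
    (hK : ∀ g ∈ K, ∀ v ∈ R, g • v = v) (ht : Tr K F) :
    finrank (ZMod 2) V ≤ finrank (ZMod 2) (W G a b) + 1 := by
  by_contra hc
  obtain ⟨y, hy, h1⟩ : ∃ y ∈ R, y ∉ W G a b := by
    by_contra e
    simp only [not_exists, not_and, not_not] at e
    rw [eq_top_iff.mpr (hR.ge.trans (sup_le hF e)), finrank_top] at hc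
    omega
  have h2 : y ∉ W G a x := fun e => by
    obtain ⟨g, g0, g1, g2, -⟩ := ht.swap23 ha hb hx i
    exact h1 ((smul_mem_W g).mp (by rwa [g1, g2, hK g g0 y hy]))
  have i1 : Ind3 a b y := ⟨i.1, out_of_not_mem h1⟩
  have h3 : W G a y ≤ (W G a y ⊓ R) ⊔ Submodule.span (ZMod 2) {a} := fun v hv => by
    obtain ⟨f, hf, r, hr, rfl⟩ := Submodule.mem_sup.mp (hR.ge (trivial : v ∈ ⊤))
    have key : ∀ d ∈ F, y ∉ W G a d → Ind3 a d f → False := fun d hd e1 e2 => by
      obtain ⟨g, g0, g1, -, g3⟩ := ht.e32 ha hd hf e2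
      have e3 := (smul_mem_W g).mpr hv
      rw [g1, hK g g0 y hy, smul_add, g3, hK g g0 r hr, add_right_comm,
        Submodule.add_mem_iff_right _ hv] at e3
      exact e1 ((mem_W_symm h ⟨e2.1, out_of_not_mem e1⟩).mpr e3)
    by_cases e0 : f = 0
    · rw [e0, zero_add] at hv ⊢; exact Submodule.mem_sup_left ⟨hv, hr⟩
    by_cases e1 : f = a
    · rw [e1] at hv ⊢
      exact add_mem (Submodule.mem_sup_right (Submodule.mem_span_singleton_self a))
        (Submodule.mem_sup_left ⟨(Submodule.add_mem_iff_right _ (left_mem_W _ _)).mp hv, hr⟩)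
    by_cases e2 : Out a b f
    · exact (key b hb h1 ⟨i.1, e2⟩).elim
    refine (key x hx h2 ⟨i.s23.1, e0, e1, fun e => e2 (e ▸ i.2), fun e => e2 ?_⟩).elim
    rw [e, add_comm]
    exact i.add.2
  have h4 : W G a y ⊓ R ≤ W G y a ⊓ W G y b := fun v hv => by
    obtain ⟨g, g0, g1, -, -⟩ := ht.swap12 ha hb hx i
    have := (smul_mem_W g).mpr hv.1
    rw [g1, hK g g0 y hy, hK g g0 v hv.2] at this
    exact ⟨W_comm (G := G) a y ▸ hv.1, W_comm (G := G) b y ▸ this⟩
  have h5 := count_W h i1.s23.1.symm (b := b) fun e =>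
    h1 ((mem_W_symm h i1).mpr (W_comm (G := G) y a ▸ e))
  have h6 := Submodule.finrank_mono h3
  have h7 := Submodule.finrank_add_le_finrank_add_finrank (W G a y ⊓ R) (Submodule.span (ZMod 2) {a})
  have h8 := Submodule.finrank_mono h4
  have h9 := (three_le_finrank ha hb hx i).trans (Submodule.finrank_mono hF)
  rw [finrank_span_singleton i.1.1] at h7
  rw [h.finrank_W i.1 i1.s23.1] at h6
  rw [h.finrank_W i.1 i1.s23.1.symm] at h5
  obtain ⟨k, hk⟩ := Nat.exists_eq_add_of_le h9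
  have e1 := Nat.pow_le_pow_right two_pos (show 5 + k ≤ finrank (ZMod 2) V by omega)
  have e2 := Nat.pow_le_pow_right two_pos
    (show 2 + k ≤ finrank (ZMod 2) ↥(W G y a ⊓ W G y b) by omega)
  rw [hk] at h5
  simp only [pow_add] at e1 e2 h5
  have e3 := Nat.one_le_two_pow (n := k)
  generalize 2 ^ k = t at *
  have e4 := (Nat.mul_le_mul (show 24 * t ≤ _ by omega) (show 4 * t - 2 ≤ _ by omega)).trans h5
  obtain ⟨s, rfl⟩ := Nat.exists_eq_add_of_le e3
  rw [show 4 * (1 + s) - 2 = 2 + 4 * s by omega, show 2 ^ 3 * (1 + s) - 4 = 4 + 8 * s by omega] at e4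
  nlinarith

variable (G) in
/-- the block containing `a, b` -/
def E (a b : V) : Submodule (ZMod 2) V := ⨅ v : {v // v ∈ W G a b ∧ v ≠ 0 ∧ v ≠ a}, W G a v

omit [SMulCommClass G (ZMod 2) V] [Finite V] in
theorem mem_E {a b y : V} : y ∈ E G a b ↔ ∀ v ∈ W G a b, v ≠ 0 → v ≠ a → y ∈ W G a v := by
  simp [E, Submodule.mem_iInf]

omit [Finite V] in
theorem smul_mem_E {a b y : V} (g : G) : g • y ∈ E G (g • a) (g • b) ↔ y ∈ E G a b := by
  have key : ∀ (g : G) (a b y : V), g • y ∈ E G (g • a) (g • b) → y ∈ E G a b := fun g a b y h =>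
    mem_E.mpr fun v h1 h2 h3 => (smul_mem_W g).mp (mem_E.mp h _ ((smul_mem_W g).mpr h1)
      (fun e => h2 ((smul_eq_zero_iff_eq g).mp e)) fun e => h3 (MulAction.injective g e))
  exact ⟨key g a b y, fun h => key g⁻¹ _ _ _ (by simpa using h)⟩

theorem mem_W_symm' (h : TwoT G V) {a v y : V} (i : Ind2 a v) (hy : y ∈ W G a v) (h0 : y ≠ 0)
    (h1 : y ≠ a) : v ∈ W G a y := by
  by_cases e : y = v
  · exact e ▸ right_mem_W _ _
  by_cases e' : y = a + v
  · rw [e', W_add]; exact right_mem_W _ _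
  exact (mem_W_symm h ⟨i, h0, h1, e, e'⟩).mp hy

theorem mem_E_iff (h : TwoT G V) {a b y : V} (i : Ind2 a b) (h0 : y ≠ 0) (h1 : y ≠ a) :
    y ∈ E G a b ↔ W G a y = W G a b := by
  have i' : Ind2 a y := ⟨i.1, h0, h1.symm⟩
  refine ⟨fun e => (Submodule.eq_of_le_of_finrank_eq (fun v hv => ?_) (h.finrank_W i' i)).symm,
    fun e => mem_E.mpr fun v hv h2 h3 => mem_W_symm' h i' (e ▸ hv) h2 h3⟩
  by_cases h2 : v = 0
  · exact h2 ▸ zero_mem _
  by_cases h3 : v = a
  · exact h3 ▸ left_mem_W _ _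
  exact mem_W_symm' h ⟨i.1, h2, Ne.symm h3⟩ (mem_E.mp e v hv h2 h3) h0 h1

omit [SMulCommClass G (ZMod 2) V] [Finite V] in
theorem left_mem_E (a b : V) : a ∈ E G a b := mem_E.mpr fun _ _ _ _ => left_mem_W _ _

theorem right_mem_E (h : TwoT G V) {a b : V} (i : Ind2 a b) : b ∈ E G a b :=
  (mem_E_iff h i i.2.1 i.2.2.symm).mpr rfl

theorem E_eq (h : TwoT G V) {a b y : V} (i : Ind2 a b) (hy : y ∈ E G a b) (h0 : y ≠ 0)
    (h1 : y ≠ a) : E G a y = E G a b :=
  Submodule.ext fun v => by rw [mem_E, mem_E, (mem_E_iff h i h0 h1).mp hy]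

theorem E_comm (h : TwoT G V) {a b : V} (i : Ind2 a b) : E G a b = E G b a := by
  have key : ∀ a b : V, Ind2 a b → E G a b ≤ E G b a := fun a b i y hy => by
    by_cases e : Out a b y
    · obtain ⟨g, -, g1, g2, g3⟩ := h.tr.swap12 trivial trivial trivial ⟨i, e⟩
      rw [← smul_mem_E g, g1, g2, g3] at hy
      exact hy
    · exact (Submodule.span_le.mpr (Set.insert_subset (right_mem_E h i.symm)
        (Set.singleton_subset_iff.mpr (left_mem_E _ _))) : _ ≤ E G b a) (mem_span_pair'.mpr e)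
  exact le_antisymm (key a b i) (key b a i.symm)

theorem E_pair (h : TwoT G V) {a b a' b' : V} (i : Ind2 a b) (i' : Ind2 a' b') (ha : a' ∈ E G a b)
    (hb : b' ∈ E G a b) : E G a' b' = E G a b := by
  by_cases e : a' = a
  · subst e; exact E_eq h i hb i'.2.1 i'.2.2.symm
  have i1 : Ind2 a' a := ⟨i'.1, i.1, e⟩
  have h1 := (E_comm h i1).trans (E_eq h i ha i'.1 e)
  rw [E_eq h i1 (h1 ▸ hb) i'.2.1 i'.2.2.symm, h1]

theorem E_dvd (h : TwoT G V) {a b : V} (i : Ind2 a b) :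
    2 ^ finrank (ZMod 2) (E G a b) - 2 ∣ 2 ^ finrank (ZMod 2) V - 2 ∧
    2 ^ finrank (ZMod 2) (E G a b) - 1 ∣
      (2 ^ finrank (ZMod 2) V - 2) * (2 ^ finrank (ZMod 2) V - 1) := by
  have h1 : ∀ (g k : G) (v : V), v ∈ E G ((g * k) • a) ((g * k) • b) ↔
      g⁻¹ • v ∈ E G (k • a) (k • b) := fun g k v => by
    rw [← smul_mem_E g (y := g⁻¹ • v), smul_inv_smul, mul_smul, mul_smul]
  let H : Subgroup G :=
    { carrier := {g | E G (g • a) (g • b) = E G a b}
      one_mem' := by simp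
      mul_mem' := fun {g k} e1 e2 => Submodule.ext fun v => by
        rw [h1, show E G (k • a) (k • b) = _ from e2, ← smul_mem_E g, smul_inv_smul,
          show E G (g • a) (g • b) = _ from e1]
      inv_mem' := fun {g} e => Submodule.ext fun v => by
        rw [← smul_mem_E g, smul_inv_smul, smul_inv_smul, ← smul_mem_E g (y := v),
          show E G (g • a) (g • b) = _ from e] }
  have h2 : stabilizer G b ⊓ stabilizer G a ≤ H := fun g hg =>
    show E G (g • a) (g • b) = _ by rw [show g • a = a from hg.2, show g • b = b from hg.1]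
  have h3 : ∀ a' b', Ind2 a' b' → a' ∈ E G a b → b' ∈ E G a b → ∃ g ∈ H, g • a = a' ∧ g • b = b' :=
    fun a' b' i' ha hb => by
    obtain ⟨g, rfl, rfl⟩ := h _ _ _ _ i i'
    exact ⟨g, E_pair h i i' ha hb, rfl, rfl⟩
  have n2 : ∀ A : Submodule (ZMod 2) V, a ∈ A →
      ((A : Set V) \ {0, a}).ncard = 2 ^ finrank (ZMod 2) A - 2 := fun A ha => by
    rw [Set.ncard_diff (Set.insert_subset (zero_mem _) (Set.singleton_subset_iff.mpr ha)),
      ncard_sub, Set.ncard_pair i.1.symm]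
  have n1 : ∀ A : Submodule (ZMod 2) V,
      ((A : Set V) \ {0}).ncard = 2 ^ finrank (ZMod 2) A - 1 := fun A => by
    rw [Set.ncard_diff_singleton_of_mem (zero_mem _), ncard_sub]
  have o1 : orb (H ⊓ stabilizer G a) b = (E G a b : Set V) \ {0, a} := Set.ext fun y =>
    ⟨fun ⟨g, ⟨e1, e2⟩, e3⟩ => ⟨e3 ▸ (show E G (g • a) (g • b) = _ from e1).le
      (right_mem_E h (i.smul g)), by
        have := i.smul g
        rw [show g • a = a from e2, e3] at this
        simpa using ⟨this.2.1, this.2.2.symm⟩⟩, fun hy => by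
      have e : y ≠ 0 ∧ y ≠ a := by simpa using hy.2
      obtain ⟨g, e1, e2, e3⟩ := h3 a y ⟨i.1, e.1, e.2.symm⟩ (left_mem_E _ _) hy.1
      exact ⟨g, ⟨e1, e2⟩, e3⟩⟩
  have o2 : orb (stabilizer G a) b = ((⊤ : Submodule (ZMod 2) V) : Set V) \ {0, a} := Set.ext fun y =>
    ⟨fun ⟨g, e2, e3⟩ => ⟨trivial, by
        have := i.smul g
        rw [show g • a = a from e2, e3] at this
        simpa using ⟨this.2.1, this.2.2.symm⟩⟩, fun hy => by
      have e : y ≠ 0 ∧ y ≠ a := by simpa using hy.2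
      exact h a b a y i ⟨i.1, e.1, e.2.symm⟩⟩
  have o3 : orb H a = (E G a b : Set V) \ {0} := Set.ext fun y =>
    ⟨fun ⟨g, e1, e3⟩ => ⟨e3 ▸ (show E G (g • a) (g • b) = _ from e1).le (left_mem_E _ _),
      e3 ▸ (i.smul g).1⟩, fun hy => by
      by_cases e : y = a
      · exact ⟨1, one_mem _, by rw [one_smul, e]⟩
      obtain ⟨g, e1, e2, -⟩ := h3 y a ⟨hy.2, i.1, e⟩ hy.1 (left_mem_E _ _)
      exact ⟨g, e1, e2⟩⟩
  have o4 : orb (⊤ : Subgroup G) a = ((⊤ : Submodule (ZMod 2) V) : Set V) \ {0} := Set.ext fun y =>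
    ⟨fun ⟨g, _, e3⟩ => ⟨trivial, e3 ▸ (i.smul g).1⟩, fun hy =>
      (h.trans i i.1 hy.2).imp fun g e => ⟨trivial, e⟩⟩
  rw [← finrank_top (ZMod 2) V, ← n2 _ (left_mem_E _ _), ← n2 ⊤ trivial, ← n1, ← n1, ← o1, ← o2, ← o3, ← o4]
  simp only [ncard_orb]
  rw [← inf_relIndex_right (stabilizer G b) (stabilizer G a),
    relIndex_mul_relIndex _ _ _ inf_le_right le_top,
    ← relIndex_mul_relIndex _ (H ⊓ stabilizer G a) _ (le_inf h2 inf_le_right) inf_le_right,
    ← relIndex_mul_relIndex _ H ⊤ h2 le_top]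
  exact ⟨(relIndex_dvd_of_le_left _ inf_le_left).mul_right _,
    (relIndex_dvd_of_le_left _ inf_le_right).mul_right _⟩

end Cfsg.Agent.FG.CK
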