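import Mathlib
import Cfsg.Agent.Loc.RkMod
import Cfsg.Agent.GT.CoprimeAct
import Cfsg.Agent.GT.HallHigmanB
import Cfsg.Agent.Perm.SpecAff
import Cfsg.Agent.Phan.Emb
import Cfsg.Agent.Cl.UModel
import Cfsg.Agent.Inv.U3Syl
import Cfsg.Agent.GT.TransferSL23
import Cfsg.Agent.GT.PGroupCyclicNormal

/-!
# Faithful `F₂`-modules for groups with a section `L₂(q)`, `Sz(q)`, `U₃(q)`

`rk ρ s = dim [V, s]`; the bounds of `Loc.RkMod` in the language of representations.
-/

set_option autoImplicit false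

namespace Cfsg.Agent.FG.SEM

open Cfsg Cfsg.Agent.GT Cfsg.Agent.GT.CopAct Cfsg.Agent.Loc.Mss Cfsg.Agent.Loc.RkM Subgroup Module
open Cfsg.Agent.Perm SemidirectProduct

variable {G : Type*} [Group G] {V : Type*} [AddCommGroup V] [Module (ZMod 2) V]

/-- `dim [V, s]` -/
noncomputable def rk (ρ : Representation (ZMod 2) G V) (s : G) : ℕ :=
  finrank (ZMod 2) (LinearMap.range (ρ s - 1))

theorem card_eq [Finite V] (W : Submodule (ZMod 2) V) : Nat.card W = 2 ^ finrank (ZMod 2) W := by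
  rw [Module.natCard_eq_pow_finrank (K := ZMod 2), Nat.card_zmod]

theorem card_V [Finite V] : Nat.card V = 2 ^ finrank (ZMod 2) V := by
  rw [Module.natCard_eq_pow_finrank (K := ZMod 2), Nat.card_zmod]

theorem ix_eq [Finite G] [Finite V] (ρ : Representation (ZMod 2) G V) (s : G) :
    ix (sdL (affAut ρ) ⊤) (inr s) = 2 ^ rk ρ s := by
  have h3 : Nat.card ↥(sdL (affAut ρ) ⊤ ⊓ centralizer ({inr s} : Set (Aff ρ))) *
      ix (sdL (affAut ρ) ⊤) (inr s) = Nat.card (sdL (affAut ρ) ⊤) := by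
    rw [← relIndex_bot_left, ← relIndex_bot_left]
    exact relIndex_mul_relIndex _ _ _ bot_le inf_le_left
  have h4 : Nat.card ↥(sdL (affAut ρ) ⊤ ⊓ centralizer ({inr s} : Set (Aff ρ))) =
      Nat.card (LinearMap.ker (ρ s - 1)) := by
    refine (Nat.card_congr (Equiv.ofBijective (fun v : LinearMap.ker (ρ s - 1) =>
      (⟨inl (Multiplicative.ofAdd v.1), (inl_mem_sdL _).mpr (mem_top _),
        (inl_mem_centralizer_inr _).mpr (congrArg Multiplicative.ofAdd
          (show ρ s v = v from sub_eq_zero.mp (LinearMap.mem_ker.mp v.2)))⟩ :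
        ↥(sdL (affAut ρ) ⊤ ⊓ centralizer ({inr s} : Set (Aff ρ))))) ⟨fun v w h => ?_, ?_⟩)).symm
    · exact Subtype.ext (Multiplicative.ofAdd.injective (inl_injective (congrArg Subtype.val h)))
    · rintro ⟨_, ⟨v, -, rfl⟩, h⟩
      refine ⟨⟨v.toAdd, ?_⟩, rfl⟩
      have := congrArg Multiplicative.toAdd ((inl_mem_centralizer_inr _).mp h)
      exact sub_eq_zero.mpr this
  rw [h4, card_sdL_top, card_eq, Nat.card_congr Multiplicative.toAdd, card_V (V := V),
    ← LinearMap.finrank_range_add_finrank_ker (ρ s - 1 : V →ₗ[ZMod 2] V), add_comm, pow_add] at h3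
  exact Nat.eq_of_mul_eq_mul_left (by positivity) h3

theorem ea (ρ : Representation (ZMod 2) G V) : IsElementaryAbelian 2 (sdL (affAut ρ) ⊤) := by
  refine ⟨isMulCommutative_sdL _ inferInstance, ?_⟩
  rintro _ ⟨v, -, rfl⟩
  change (inl v : Aff ρ) ^ 2 = 1
  rw [← map_pow, show v ^ 2 = 1 from ?_, map_one]
  refine Multiplicative.toAdd.injective ?_
  rw [toAdd_pow, ← Nat.cast_smul_eq_nsmul (ZMod 2), toAdd_one,
    show ((2 : ℕ) : ZMod 2) = 0 from rfl, zero_smul]

theorem faith {ρ : Representation (ZMod 2) G V} (hρ : Function.Injective ρ) :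
    sdR (affAut ρ) ⊤ ⊓ 𝐂[sdL (affAut ρ) ⊤] = ⊥ := by
  rw [eq_bot_iff]
  rintro _ ⟨⟨g, -, rfl⟩, h⟩
  have h1 : ρ g = 1 := LinearMap.ext fun v => by
    have h2 := mem_centralizer_iff.mp h (inl (Multiplicative.ofAdd v))
      ((inl_mem_sdL _).mpr (mem_top _))
    exact congrArg Multiplicative.toAdd ((inl_mem_centralizer_inr (affAut ρ)).mp
      (mem_centralizer_singleton_iff.mpr h2))
  rw [hρ (h1.trans (map_one ρ).symm), map_one]
  exact one_mem _

/-- `G` inside the split extension -/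
noncomputable def eR (ρ : Representation (ZMod 2) G V) : G ≃* sdR (affAut ρ) ⊤ :=
  topEquiv.symm.trans (sdREquiv _ ⊤)

theorem coe_eR (ρ : Representation (ZMod 2) G V) (g : G) : (eR ρ g : Aff ρ) = inr g := rfl

theorem rk_pow_le [Finite G] [Finite V] (ρ : Representation (ZMod 2) G V) (s : G) (n : ℕ) :
    rk ρ (s ^ n) ≤ rk ρ s := by
  have := ix_pow_le (sdL (affAut ρ) ⊤) (inr s) n
  rw [← map_pow, ix_eq, ix_eq] at this
  exact (Nat.pow_le_pow_iff_right one_lt_two).mp this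

theorem rk_conj [Finite G] [Finite V] (ρ : Representation (ZMod 2) G V) (g s : G) :
    rk ρ (g * s * g⁻¹) = rk ρ s := by
  have := ix_conj (sdR_le_normalizer_top (affAut ρ) ⊤ ((inr_mem_sdR _).mpr (mem_top g))) (inr s)
  rw [← map_inv, ← map_mul, ← map_mul, ix_eq, ix_eq] at this
  exact Nat.pow_right_injective le_rfl this

theorem two_mul_rk_le [Finite V] (ρ : Representation (ZMod 2) G V) {s : G} (hs : s * s = 1) :
    2 * rk ρ s ≤ finrank (ZMod 2) V := by
  have h : LinearMap.range (ρ s - 1) ≤ LinearMap.ker (ρ s - 1) := by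
    rintro _ ⟨v, rfl⟩
    have h1 : ρ s (ρ s v) = v := by rw [← Module.End.mul_apply, ← map_mul, hs, map_one]; rfl
    have h2 : ∀ w : V, w + w = 0 := fun w => by
      rw [← two_smul (ZMod 2), show (2 : ZMod 2) = 0 from rfl, zero_smul]
    simp only [LinearMap.mem_ker, LinearMap.sub_apply, map_sub, h1, Module.End.one_apply]
    rw [show v - ρ s v - (ρ s v - v) = (v + v) - (ρ s v + ρ s v) by abel, h2, h2, sub_zero]
  have := Submodule.finrank_mono h
  have := LinearMap.finrank_range_add_finrank_ker (ρ s - 1)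
  unfold rk
  omega

theorem rk_pos [Finite V] {ρ : Representation (ZMod 2) G V} (hρ : Function.Injective ρ) {s : G}
    (hs : s ≠ 1) : 1 ≤ rk ρ s := by
  refine Nat.pos_of_ne_zero fun h => hs (hρ ?_)
  rw [rk, Submodule.finrank_eq_zero, LinearMap.range_eq_bot, sub_eq_zero] at h
  rw [h, map_one]

variable [Finite G] [Finite V] {ρ : Representation (ZMod 2) G V} {Q : Type*} [Group Q]

theorem l2_rep (hρ : Function.Injective ρ) {F : Type*} [Field F] [Finite F] [CharP F 2]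
    {π : Matrix.SpecialLinearGroup (Fin 2) F →* Q} (hπ : Function.Surjective π)
    (hker : ∀ x, π x = 1 → x ^ 2 = 1) {φ : G →* Q} (hφ : Function.Surjective φ) {s : G}
    (hs : s * s = 1) (hs1 : φ s ≠ 1) : Nat.card F ≤ 2 ^ rk ρ s := by
  rw [← ix_eq, ← coe_eR]
  exact l2_bound (ea ρ) (sdR_le_normalizer_top _ _) (faith hρ) hπ hker
    (φ := φ.comp (eR ρ).symm.toMonoidHom) (hφ.comp (eR ρ).symm.surjective) (eR ρ s) (k := 1)
    (by rw [← map_pow, pow_one, pow_two, hs, map_one]) (by simpa using hs1)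

theorem sz_rep (hρ : Function.Injective ρ) {F : Type*} [Field F] {m : ℕ} [Chev.Sz.SzF F m]
    {φ : G →* Cfsg.Sz F m} (hφ : Function.Surjective φ) {s : G}
    (hs : s * s = 1) (hs1 : φ s ≠ 1) : Nat.card F ^ 2 ≤ 2 ^ rk ρ s := by
  rw [← ix_eq, ← coe_eR]
  exact (sz_bound (ea ρ) (sdR_le_normalizer_top _ _) (faith hρ)
    (φ := φ.comp (eR ρ).symm.toMonoidHom) (hφ.comp (eR ρ).symm.surjective) (Chev.Sz.card_F F)
    (eR ρ s) (by rw [← map_mul, ← map_mul, hs, map_one, map_one]) (by simpa using hs1)).1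

omit [Finite G] in
theorem card_dvd (hρ : Function.Injective ρ) : Nat.card G ∣
    ∏ i ∈ Finset.range (finrank (ZMod 2) V), (2 ^ finrank (ZMod 2) V - 2 ^ i) := by
  classical
  let b := Module.finBasis (ZMod 2) V
  have h := card_dvd_of_injective ((Units.mapEquiv
    (LinearMap.toMatrixAlgEquiv b).toMulEquiv).toMonoidHom.comp ρ.asGroupHom)
    ((Units.mapEquiv _).injective.comp fun g h e => hρ (by
      simpa [Representation.asGroupHom_apply] using congrArg Units.val e))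
  have h2 := Matrix.card_GL_field (𝔽 := ZMod 2) (finrank (ZMod 2) V)
  rw [ZMod.card, Fin.prod_univ_eq_prod_range (fun i => 2 ^ finrank (ZMod 2) V - 2 ^ i)] at h2
  rwa [← h2]

omit [Finite G] in
theorem exists_dvd (hρ : Function.Injective ρ) {r : ℕ} (hr : r.Prime) (hr2 : r ≠ 2)
    (h : r ∣ Nat.card G) : ∃ c, 0 < c ∧ c ≤ finrank (ZMod 2) V ∧ r ∣ 2 ^ c - 1 := by
  obtain ⟨i, hi, h1⟩ := (Nat.prime_iff.mp hr).exists_mem_finset_dvd (h.trans (card_dvd hρ))
  rw [Finset.mem_range] at hi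
  refine ⟨finrank (ZMod 2) V - i, by omega, by omega, ?_⟩
  rw [show 2 ^ finrank (ZMod 2) V = 2 ^ i * 2 ^ (finrank (ZMod 2) V - i) by
    rw [← pow_add]; congr 1; omega, ← Nat.mul_sub_one] at h1
  exact (Nat.Coprime.pow_right _ ((Nat.coprime_primes hr Nat.prime_two).mpr hr2)).dvd_of_dvd_mul_left
    h1

section U3

variable {F : Type*} [Field F] [Fintype F] {n : ℕ}

theorem u3_dim (hρ : Function.Injective ρ) (hn : 2 ≤ n) (hF : Fintype.card F = (2 ^ n) ^ 2)
    {φ : G →* PSU 3 F (2 ^ n)} (hφ : Function.Surjective φ) : 6 * n ≤ finrank (ZMod 2) V := by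
  obtain ⟨r, hr, h1, -, h2⟩ := NT.zsigmondy' (a := 2) (n := 6 * n) one_lt_two (by omega)
    (by omega) (by omega)
  have h3 : r ∣ (2 ^ n) ^ 3 + 1 := by
    have h4 := (h1 _).mpr dvd_rfl
    rw [show 6 * n = n * 3 * 2 by ring, pow_mul, ← one_pow 2, Nat.sq_sub_sq] at h4
    rcases (Nat.Prime.dvd_mul hr).mp h4 with h5 | h5
    · rwa [pow_mul] at h5
    · have := Nat.le_of_dvd (by omega) ((h1 _).mp h5); omega
  have h4 : r ∣ Nat.gcd 3 (2 ^ n + 1) * Nat.card (PSU 3 F (2 ^ n)) := by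
    obtain ⟨σ, hq⟩ := Cl.exists_uField hF
    rw [Inv.U3.card_PSU_three hq]
    exact (h3.mul_left _).mul_left _
  rcases (Nat.Prime.dvd_mul hr).mp h4 with h5 | h5
  · have := Nat.le_of_dvd (by norm_num) (h5.trans (Nat.gcd_dvd_left _ _)); omega
  obtain ⟨c, c1, c2, c3⟩ := exists_dvd hρ hr (by omega) (h5.trans (card_dvd_of_surjective φ hφ))
  exact (Nat.le_of_dvd c1 ((h1 c).mp c3)).trans c2

theorem exists_sl2_psu3 (hn : 1 ≤ n) (hF : Fintype.card F = (2 ^ n) ^ 2) :
    ∃ ψ : Matrix.SpecialLinearGroup (Fin 2) (GaloisField 2 n) →* PSU 3 F (2 ^ n),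
      Function.Injective ψ := by
  obtain ⟨σ, hq⟩ := Cl.exists_uField hF
  obtain ⟨e⟩ := hq.nonempty_SU_two_equiv (K := GaloisField 2 n) (GaloisField.card 2 n (by omega))
  let j : Fin 2 ↪ Fin 3 := Fin.castSuccEmb
  have key : Function.Injective ((QuotientGroup.mk' (center _)).comp (Phan.embU hq j)) := by
    refine (injective_iff_map_eq_one _).mpr fun g hg => ?_
    obtain ⟨a, ha⟩ := (hq.mem_center_SU_iff (by norm_num)).mp ((QuotientGroup.eq_one_iff _).mp hg)
    have h1 : Phan.embM j (Phan.mat g) = a • 1 := (Phan.mat_embU hq j g).symm.trans ha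
    have h2 := Phan.embM_apply_left j (Phan.mat g) (k := 2) (fun b => by fin_cases b <;> decide) 2
    rw [h1] at h2
    have h3 : a = 1 := by simpa using h2
    rw [h3, one_smul, ← Phan.embM_one j] at h1
    exact Phan.su_ext (Phan.embM_injective j.injective h1)
  exact ⟨((QuotientGroup.mk' _).comp (Phan.embU hq j)).comp e.symm.toMonoidHom,
    key.comp e.symm.injective⟩

theorem u3_rep (hρ : Function.Injective ρ) (hn : 1 ≤ n) (hF : Fintype.card F = (2 ^ n) ^ 2)
    {φ : G →* PSU 3 F (2 ^ n)} (hφ : Function.Surjective φ)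
    (hker : ∀ t, t * t = 1 → φ t = 1 → t = 1) : ∃ t : G, orderOf t = 2 ∧ n ≤ rk ρ t := by
  obtain ⟨ψ, hψ⟩ := exists_sl2_psu3 hn hF
  let K := ψ.range.comap φ
  let φ' : K →* ψ.range := (φ.comp K.subtype).codRestrict _ fun x => x.2
  have hφ' : Function.Surjective φ' := fun y => by
    obtain ⟨x, hx⟩ := hφ y
    exact ⟨⟨x, by change φ x ∈ ψ.range; rw [hx]; exact y.2⟩, Subtype.ext hx⟩
  have h2 : 2 ∣ Nat.card K := by
    refine dvd_trans ?_ (card_dvd_of_surjective φ' hφ')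
    rw [← Nat.card_congr (MonoidHom.ofInjective hψ).toEquiv, Cl.card_sl_two,
      GaloisField.card 2 n (by omega)]
    exact (dvd_pow_self 2 (by omega)).mul_right _
  obtain ⟨t, ht⟩ := exists_prime_orderOf_dvd_card' 2 h2
  have ht2 : t * t = 1 := by rw [← pow_two, ← ht, pow_orderOf_eq_one]
  have h := l2_rep (ρ := ρ.comp K.subtype) (hρ.comp Subtype.val_injective)
    ψ.rangeRestrict_surjective (fun x hx => by
      rw [hψ (congrArg Subtype.val hx |>.trans (map_one ψ).symm), one_pow]) hφ' ht2 (fun h => by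
      have := hker t (congrArg Subtype.val ht2) (congrArg Subtype.val h)
      rw [show t = 1 from Subtype.ext this, orderOf_one] at ht
      omega)
  rw [GaloisField.card 2 n (by omega)] at h
  exact ⟨t, by rw [orderOf_coe, ht], (Nat.pow_le_pow_iff_right one_lt_two).mp h⟩

end U3

section RankOne

variable {S Q : Subgroup G} {z : G}

/-- the elements of `Q` not commuting with `z` -/
abbrev Out (Q : Subgroup G) (z : G) : Type _ := {y : G // y ∈ Q ∧ y ∉ centralizer ({z} : Set G)}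

theorem card_out : Nat.card (Out Q z) =
    Nat.card Q - Nat.card ↥(Q ⊓ centralizer ({z} : Set G)) := by
  have h := Set.ncard_diff (s := ((Q ⊓ centralizer ({z} : Set G) : Subgroup G) : Set G))
    (t := (Q : Set G)) (fun y hy => hy.1)
  rw [← Nat.card_coe_set_eq, ← Nat.card_coe_set_eq, ← Nat.card_coe_set_eq] at h
  refine Eq.trans (Nat.card_congr (Equiv.subtypeEquivRight fun y => ?_)) h
  simp only [Set.mem_diff, SetLike.mem_coe, mem_inf, not_and]
  tauto

theorem exists_pow_eq (hS : IsPGroup 2 S) (hu : ∀ x ∈ S, orderOf x = 2 → x = z) {s : G}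
    (hs : s ∈ S) (h1 : s ≠ 1) : ∃ n, orderOf s = 2 ^ (n + 1) ∧ s ^ 2 ^ n = z := by
  obtain ⟨j, hj⟩ := (IsPGroup.iff_orderOf.mp hS) ⟨s, hs⟩
  rw [← orderOf_coe] at hj
  change orderOf s = _ at hj
  obtain ⟨n, rfl⟩ : ∃ n, j = n + 1 := Nat.exists_eq_succ_of_ne_zero fun e => h1 (by
    rwa [e, pow_zero, orderOf_eq_one_iff] at hj)
  refine ⟨n, hj, hu _ (pow_mem hs _) ?_⟩
  rw [orderOf_pow_of_dvd (by positivity) (hj ▸ pow_dvd_pow 2 (by omega)), hj, pow_succ,
    Nat.mul_div_cancel_left _ (by positivity)]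

theorem out_facts (hS : IsPGroup 2 S) (hz : z ∈ S) (hz2 : orderOf z = 2)
    (hu : ∀ x ∈ S, orderOf x = 2 → x = z) (hSQ : S ≤ normalizer (Q : Set G)) :
    Nat.card S ∣ Nat.card (Out Q z) ∧ (Nat.card S = Nat.card (Out Q z) →
      ∀ y y' : Out Q z, ∃ s : G, s * y * s⁻¹ = y') := by
  have hc : ∀ s ∈ S, s * z * s⁻¹ = z := fun s hs =>
    hu _ (mul_mem (mul_mem hs hz) (inv_mem hs)) (by
      rw [← hz2]; exact (SemiconjBy.orderOf_eq s (by simp [SemiconjBy])).symm)
  letI : MulAction S (Out Q z) :=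
    { smul := fun s y => ⟨s * y * s⁻¹, (mem_normalizer_iff.mp (hSQ s.2) _).mp y.2.1, fun h =>
        y.2.2 (by
          rw [mem_centralizer_singleton_iff] at h ⊢
          have h1 := mul_inv_eq_iff_eq_mul.mp (hc _ s.2)
          refine mul_left_cancel (a := (s : G)) (mul_right_cancel (b := (s : G)⁻¹) ?_)
          calc (s : G) * (y * z) * (s : G)⁻¹ = s * y * (s : G)⁻¹ * (s * z * (s : G)⁻¹) := by group
            _ = s * z * (s : G)⁻¹ * (s * y * (s : G)⁻¹) := by rw [hc _ s.2]; exact h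
            _ = _ := by group)⟩
      one_smul := fun y => Subtype.ext (by change (1 : G) * y * 1⁻¹ = y; group)
      mul_smul := fun s t y => Subtype.ext (by
        change (s * t : G) * y * (s * t : G)⁻¹ = s * (t * y * (t : G)⁻¹) * (s : G)⁻¹; group) }
  have hfree : ∀ y : Out Q z, MulAction.stabilizer S y = ⊥ := fun y => by
    rw [eq_bot_iff]
    intro s hs
    by_contra h1
    obtain ⟨n, -, hn⟩ := exists_pow_eq hS hu s.2 fun e => h1 (Subtype.ext e)
    have h2 : (s : G) * y * (s : G)⁻¹ = y := congrArg Subtype.val hs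
    refine y.2.2 (mem_centralizer_singleton_iff.mpr ?_)
    have h3 := (Commute.pow_right (mul_inv_eq_iff_eq_mul.mp h2).symm (2 ^ n)).eq
    rwa [hn] at h3
  refine ⟨?_, fun h y y' => ?_⟩
  · rw [Nat.card_congr (MulAction.selfEquivOrbitsQuotientProd hfree), Nat.card_prod]
    exact dvd_mul_left _ _
  · have hi : Function.Injective fun s : S => s • y := fun s t e => by
      have : t⁻¹ * s ∈ MulAction.stabilizer S y := by
        rw [MulAction.mem_stabilizer_iff, mul_smul, inv_smul_eq_iff]; exact e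
      rw [hfree, mem_bot, inv_mul_eq_one] at this
      exact this.symm
    obtain ⟨s, hs⟩ := (hi.bijective_of_nat_card_le h.ge).2 y'
    exact ⟨s, congrArg Subtype.val hs⟩

theorem not_nine (hρ : Function.Injective ρ) (hQ : Nat.card Q = 9)
    (hc : ∀ y ∈ Q, ∀ y' ∈ Q, y ≠ 1 → y' ≠ 1 → ∃ s : G, s * y * s⁻¹ = y') :
    6 ≤ finrank (ZMod 2) V := by
  classical
  letI : MulAction Q V := MulAction.compHom V (ρ.comp Q.subtype : Q →* Module.End (ZMod 2) V)
  have := Fintype.ofFinite Q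
  have := Fintype.ofFinite V
  have h := MulAction.sum_card_fixedBy_eq_card_orbits_mul_card_group Q V
  have hf : ∀ y : Q, Fintype.card (MulAction.fixedBy V y) = 2 ^ (finrank (ZMod 2) V - rk ρ y) :=
    fun y => by
      rw [← LinearMap.finrank_range_add_finrank_ker (ρ y - 1 : V →ₗ[ZMod 2] V), rk,
        Nat.add_sub_cancel_left, ← card_eq, ← Nat.card_eq_fintype_card]
      exact Nat.card_congr (Equiv.subtypeEquivRight fun v => sub_eq_zero.symm)
  obtain ⟨y, hy, hy1⟩ := exists_ne_one_of_card (A := Q) (by omega)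
  have h1 : rk ρ 1 = 0 := by simp [rk]
  rw [← Finset.add_sum_erase _ _ (Finset.mem_univ 1), hf, Finset.sum_congr rfl
    (g := fun _ => 2 ^ (finrank (ZMod 2) V - rk ρ y)) (fun y' hy' => by
      obtain ⟨s, hs⟩ := hc y hy y' y'.2 hy1 fun e => (Finset.mem_erase.mp hy').1 (Subtype.ext e)
      rw [hf, ← hs, rk_conj]), Finset.sum_const, Finset.card_erase_of_mem (Finset.mem_univ _),
    Finset.card_univ, ← Nat.card_eq_fintype_card (α := Q), hQ, OneMemClass.coe_one, h1] at h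
  have h2 := rk_pos hρ hy1
  have h3 : rk ρ y ≤ finrank (ZMod 2) V := Submodule.finrank_le _
  by_contra h4
  generalize rk ρ y = c at h h2 h3
  generalize finrank (ZMod 2) V = d at h h3 h4
  have h5 : d < 6 := by omega
  interval_cases d <;> interval_cases c <;> simp at h <;> omega

theorem exists_big (hS : IsPGroup 2 S) (hu : ∀ x ∈ S, orderOf x = 2 → x = z) {k : ℕ}
    (hk : Nat.card S = 2 ^ (k + 1)) : ∃ x ∈ S, 2 ^ k ∣ orderOf x := by
  rcases PG.isCyclic_or_quaternion_of_pRankLE_one hS (Tr.pRankLE_one_of_unique_involution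
    fun a b ha hb => Subtype.ext ((hu _ a.2 (by rwa [orderOf_coe])).trans
      (hu _ b.2 (by rwa [orderOf_coe])).symm)) with h | ⟨-, m, hm, ⟨e⟩⟩
  · obtain ⟨x, hx⟩ := IsCyclic.exists_ofOrder_eq_natCard (α := S)
    exact ⟨x, x.2, by rw [orderOf_coe, hx, hk]; exact pow_dvd_pow 2 (by omega)⟩
  · refine ⟨e.symm (QuaternionGroup.a 1), SetLike.coe_mem _, ?_⟩
    have h1 := Nat.card_congr e.toEquiv
    rw [hk, Nat.card_eq_fintype_card, QuaternionGroup.card] at h1
    rw [orderOf_coe, MulEquiv.orderOf_eq, QuaternionGroup.orderOf_a_one]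
    exact dvd_of_eq (by rw [pow_succ] at h1; omega)

theorem arith (d : ℕ) (hd : d ≤ 7) : ∏ i ∈ Finset.range d, (2 ^ d - 2 ^ i) ∣
    if d ≤ 1 then 1 else if d ≤ 3 then 2 ^ 3 * 3 * 7 else if d ≤ 5 then 2 ^ 10 * 3 ^ 2 * 5 * 7 * 31
      else 2 ^ 21 * 3 ^ 4 * 5 * 7 ^ 2 * 31 * 127 := by
  interval_cases d <;> simp [Finset.prod_range_succ]

theorem arith2 {q a b k : ℕ} (hq : q.Prime) (hq2 : q ≠ 2) (hb : b < a) (h : 2 ^ k ∣ q ^ a - q ^ b)
    {d : ℕ} (hd : d < 2 * k) (hk : k ≤ 3 ∨ k = 4 ∧ 1 ≤ b)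
    (h1 : q ^ a ∣ ∏ i ∈ Finset.range d, (2 ^ d - 2 ^ i)) : k = 3 ∧ q = 3 ∧ a = 2 ∧ b = 0 := by
  have h2 := h1.trans (arith d (by omega))
  have h3 : q ^ a ∣ 2 ^ 21 * 3 ^ 4 * 5 * 7 ^ 2 * 31 * 127 := h2.trans (by split_ifs <;> norm_num)
  have h4 : q = 3 ∨ q = 5 ∨ q = 7 ∨ q = 31 ∨ q = 127 := by
    have h5 := (dvd_pow_self q (by omega)).trans h3
    simp only [hq.dvd_mul] at h5
    have e : ∀ {p : ℕ}, p.Prime → q ∣ p → q = p := fun hp => (Nat.prime_dvd_prime_iff_eq hq hp).mp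
    rcases h5 with ((((h5 | h5) | h5) | h5) | h5) | h5
    · exact absurd (e Nat.prime_two (hq.dvd_of_dvd_pow h5)) hq2
    · exact .inl (e Nat.prime_three (hq.dvd_of_dvd_pow h5))
    · exact .inr (.inl (e Nat.prime_five h5))
    · exact .inr (.inr (.inl (e Nat.prime_seven (hq.dvd_of_dvd_pow h5))))
    · exact .inr (.inr (.inr (.inl (e (by norm_num) h5))))
    · exact .inr (.inr (.inr (.inr (e (by norm_num) h5))))
  have h5 : a ≤ 4 := by
    by_contra h6
    have := (pow_dvd_pow q (show 5 ≤ a by omega)).trans h3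
    rcases h4 with rfl | rfl | rfl | rfl | rfl <;> norm_num at this
  have h6 : k ≤ 4 := by omega
  clear h1 h3
  rcases h4 with rfl | rfl | rfl | rfl | rfl <;> interval_cases a <;> interval_cases b <;>
    interval_cases k <;> simp at h hk ⊢ <;> split_ifs at h2 <;> first | omega | norm_num at h2

theorem rank_one (hρ : Function.Injective ρ) (hS : IsPGroup 2 S) (hz : z ∈ S) (hz2 : orderOf z = 2)
    (hu : ∀ x ∈ S, orderOf x = 2 → x = z) {R : Subgroup G} (hR : (Nat.card R).Coprime 2)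
    (hSR : S ≤ normalizer (R : Set G)) (hzR : z ∉ centralizer (R : Set G)) {k : ℕ}
    (hk : Nat.card S = 2 ^ k) : 2 * k ≤ finrank (ZMod 2) V := by
  by_contra hd
  have hc : ∀ s ∈ S, s * z * s⁻¹ = z := fun s hs =>
    hu _ (mul_mem (mul_mem hs hz) (inv_mem hs)) (by
      rw [← hz2]; exact (SemiconjBy.orderOf_eq s (by simp [SemiconjBy])).symm)
  obtain ⟨q, hq, hq2, Q, hQR, hQ, hSQ, hQ1, h1, h2, -⟩ := exists_isPGroup_minimal_not_centralized
    (A := zpowers z) hS ((zpowers_le).mpr hz) (fun s hs => centralizer_le_normalizer _ (by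
      rw [centralizer_zpowers, mem_centralizer_singleton_iff]
      exact mul_inv_eq_iff_eq_mul.mp (hc s hs))) hR hSR (by rwa [zpowers_le])
  have : Fact q.Prime := ⟨hq⟩
  rw [centralizer_zpowers] at h2
  obtain ⟨a, ha⟩ := IsPGroup.iff_card.mp hQ
  obtain ⟨b, hb⟩ := IsPGroup.iff_card.mp (hQ.to_le (inf_le_left (b := centralizer ({z} : Set G))))
  have hba : b < a := by
    rw [← Nat.pow_lt_pow_iff_right hq.one_lt, ← ha, ← hb]
    refine lt_of_le_of_ne (card_le_of_le inf_le_left) fun e => hQ1 ?_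
    have h3 := eq_of_le_of_card_ge inf_le_left e.ge
    rw [← h1, commutator_eq_bot_iff_le_centralizer, centralizer_zpowers, ← h3]
    exact inf_le_right
  obtain ⟨h3, h4⟩ := out_facts hS hz hz2 hu hSQ
  rw [card_out, ha, hb, hk] at h3 h4
  have h5 := (card_subgroup_dvd_card Q).trans (card_dvd hρ)
  rw [ha] at h5
  have h6 : k ≤ 3 ∨ k = 4 ∧ 1 ≤ b := by
    by_contra h7
    obtain ⟨k, rfl⟩ : ∃ j, k = j + 1 := ⟨k - 1, by omega⟩
    obtain ⟨x, hx, h8⟩ := exists_big hS hu hk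
    obtain ⟨n, hn, hxz⟩ := exists_pow_eq hS hu hx (fun e => by
      rw [e, orderOf_one, Nat.dvd_one, Nat.pow_eq_one] at h8; omega)
    rw [hn, Nat.pow_dvd_pow_iff_le_right one_lt_two] at h8
    have hx1 : x ^ 2 ^ (n + 1) = 1 := by rw [← hn, pow_orderOf_eq_one]
    have hnil : IsNilpotent (ρ x - 1) := ⟨2 ^ (n + 1), by
      cases subsingleton_or_nontrivial V
      · exact Subsingleton.elim _ _
      have : CharP (V →ₗ[ZMod 2] V) 2 := charP_of_injective_algebraMap
        (algebraMap (ZMod 2) (Module.End (ZMod 2) V)).injective 2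
      rw [sub_pow_char_pow_of_commute _ _ (Commute.one_right _), ← map_pow, hx1, map_one, one_pow,
        sub_self]⟩
    have hr : (ρ x - 1) ^ finrank (ZMod 2) V = 0 := by
      have := LinearMap.aeval_self_charpoly (ρ x - 1)
      rwa [hnil.charpoly_eq_X_pow_finrank, map_pow, Polynomial.aeval_X] at this
    have e1 : ∀ n, 3 ≤ n → 2 * n + 2 ≤ 2 ^ n := fun n hn => by
      induction n, hn using Nat.le_induction with
      | base => norm_num
      | succ n _ ih => rw [pow_succ]; omega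
    have e2 : ∀ n, 4 ≤ n → 8 * n + 8 ≤ 3 * 2 ^ n := fun n hn => by
      induction n, hn using Nat.le_induction with
      | base => norm_num
      | succ n _ ih => rw [pow_succ]; omega
    rcases hallHigmanB ρ hρ (R := Q) (ha ▸ ((Nat.coprime_primes hq Nat.prime_two).mpr hq2).pow_left a)
      (hSQ hx) hx1 (fun h => hQ1 (by
        rw [← h1, commutator_comm, commutator_eq_bot_iff_le_centralizer, zpowers_le, ← hxz]
        exact h)) hr with h9 | ⟨n₀, q', m, -, g1, g2, g3, g4, ⟨Q', g5, -, -, g6⟩, g7⟩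
    · have := e1 (n + 1) (by omega); omega
    have g8 : 1 ≤ b := Nat.pos_of_ne_zero fun e => g6 (by
      rw [e, pow_zero, card_eq_one, h2, commutator_eq_bot_iff_le_centralizer] at hb
      exact ⟨⟨fun u v => Subtype.ext (mem_centralizer_iff.mp (hb (g5 v.2)) _ (g5 u.2))⟩⟩)
    have g9 : 4 ≤ 2 ^ n₀ := by
      have := Nat.pow_le_pow_left g2.two_le m
      have := Nat.pow_le_pow_right two_pos g3
      have : 2 < 2 ^ n₀ := by omega
      exact Nat.pow_le_pow_right two_pos (show 2 ≤ n₀ from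
        (Nat.pow_lt_pow_iff_right one_lt_two).mp (show 2 ^ 1 < _ from this))
    have g10 : 2 ^ (n + 1) = 2 ^ (n + 1 - n₀) * 2 ^ n₀ := by rw [← pow_add]; congr 1; omega
    have g11 : 3 * 2 ^ (n + 1) ≤ 4 * (2 ^ (n + 1 - n₀) * (2 ^ n₀ - 1)) := by
      rw [g10, mul_left_comm, mul_left_comm 4]
      exact Nat.mul_le_mul_left _ (by omega)
    have := e2 (n + 1) (by omega)
    omega
  obtain ⟨rfl, rfl, rfl, rfl⟩ := arith2 hq hq2 hba h3 (not_le.mp hd) h6 h5
  rw [pow_zero, card_eq_one] at hb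
  have h7 : ∀ y ∈ Q, y ≠ 1 → y ∉ centralizer ({z} : Set G) := fun y hy h1 h => h1 (by
    rw [← mem_bot, ← hb]; exact ⟨hy, h⟩)
  exact hd (not_nine hρ ha fun y hy y' hy' e e' =>
    h4 (by norm_num) ⟨y, hy, h7 y hy e⟩ ⟨y', hy', h7 y' hy' e'⟩)

end RankOne

end Cfsg.Agent.FG.SEM
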