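import Mathlib
import Cfsg.Agent.FG.CKC
import Cfsg.Agent.FG.CKD
import Cfsg.Agent.FG.SEMod
import Cfsg.Agent.GT.Conj

/-!
# Two-transitive linear groups over `F₂`, V: Sylow subgroups of two-point stabilisers
-/

set_option autoImplicit false

namespace Cfsg.Agent.FG.CK

open Subgroup Module MulAction Cfsg.Agent.Loc.Mss

variable {G : Type*} [Group G] {V : Type*} [AddCommGroup V] [Module (ZMod 2) V]

theorem finrank_map_mkQ [Finite V] {A B : Submodule (ZMod 2) V} (h : A ≤ B) :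
    finrank (ZMod 2) (B.map A.mkQ) + finrank (ZMod 2) A = finrank (ZMod 2) B := by
  rw [← LinearMap.finrank_range_add_finrank_ker (A.mkQ.domRestrict B), LinearMap.range_domRestrict,
    LinearMap.ker_domRestrict, Submodule.ker_mkQ, (Submodule.comapSubtypeEquivOfLe h).finrank_eq]

theorem two_le_finrank [Finite V] {F : Submodule (ZMod 2) V} {a b : V} (ha : a ∈ F) (hb : b ∈ F)
    (i : Ind2 a b) : 2 ≤ finrank (ZMod 2) F := by
  have h1 : b ∉ Submodule.span (ZMod 2) {a} := fun e => by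
    obtain ⟨r, rfl⟩ := Submodule.mem_span_singleton.mp e
    rcases z2 r with rfl | rfl
    exacts [i.2.1 (zero_smul _ _), i.2.2 (one_smul _ _).symm]
  have h3 := Submodule.finrank_mono (sup_le ((Submodule.span_singleton_le_iff_mem _ _).mpr ha)
    ((Submodule.span_singleton_le_iff_mem _ _).mpr hb))
  rwa [Submodule.finrank_sup_span_singleton h1, finrank_span_singleton i.1] at h3

theorem exists_out [Finite V] {F : Submodule (ZMod 2) V} (h : 3 ≤ finrank (ZMod 2) F) (a b : V) :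
    ∃ x ∈ F, Out a b x := by
  classical
  by_contra e
  have h1 : F ≤ Submodule.span (ZMod 2) {a, b} := fun x hx =>
    mem_span_pair'.mpr fun e' => e ⟨x, hx, e'⟩
  have h2 := (Submodule.finrank_mono h1).trans (finrank_span_le_card _)
  rw [Set.toFinset_insert, Set.toFinset_singleton] at h2
  have := h2.trans Finset.card_le_two
  omega

variable [DistribMulAction G V] [SMulCommClass G (ZMod 2) V]

variable (G V) in
/-- the representation given by the action -/
abbrev rep : Representation (ZMod 2) G V := Representation.ofDistribMulAction (ZMod 2) G V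

variable (G) in
/-- two-point stabiliser -/
abbrev S2 (a b : V) : Subgroup G := stabilizer G a ⊓ stabilizer G b

theorem smul_mem_fix {X : Subgroup G} {g : G} (hg : g ∈ 𝐍[X]) {v : V} (hv : v ∈ fix (rep G V) X) :
    g • v ∈ fix (rep G V) X := fun x hx => by
  have : (g⁻¹ * x * g) • v = v := hv _ (conj_mem_of_norm' hg hx)
  change x • g • v = g • v
  rwa [mul_smul, mul_smul, inv_smul_eq_iff] at this

theorem inv_W {X : Subgroup G} {a b : V} (ha : a ∈ fix (rep G V) X) (hb : b ∈ fix (rep G V) X) :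
    Inv (rep G V) X (W G a b) := fun x hx v hv => by
  have := (smul_mem_W x).mpr hv
  rwa [show x • a = a from ha x hx, show x • b = b from hb x hx] at this

variable [Finite G] {ℓ : ℕ} [Fact ℓ.Prime] {X : Subgroup G} {a b : V}

theorem left_mem_fix (hX : Syl ℓ X (S2 G a b)) : a ∈ fix (rep G V) X := fun _ hx => (hX.le hx).1

theorem right_mem_fix (hX : Syl ℓ X (S2 G a b)) : b ∈ fix (rep G V) X := fun _ hx => (hX.le hx).2

theorem witt (h : TwoT G V) (i : Ind2 a b) (hX : Syl ℓ X (S2 G a b)) {a' b' : V}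
    (ha : a' ∈ fix (rep G V) X) (hb : b' ∈ fix (rep G V) X) (i' : Ind2 a' b') :
    Syl ℓ X (S2 G a' b') ∧ ∃ g ∈ 𝐍[X], g • a = a' ∧ g • b = b' := by
  obtain ⟨g, rfl, rfl⟩ := h _ _ _ _ i i'
  have h1 := hX.cj g
  rw [show cj(g, S2 G a b) = S2 G (g • a) (g • b) from Subgroup.ext fun y => by
    simp only [mem_cj, mem_inf, mem_stabilizer_iff, mul_smul, inv_smul_eq_iff]] at h1
  have h2 := h1.of_card_le hX.pg (fun x hx => ⟨ha x hx, hb x hx⟩) (card_cj _ _).le
  obtain ⟨k, hk, e⟩ := h1.conj_eq h2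
  rw [cj_cj, cj_eq_iff] at e
  exact ⟨h2, k * g, e, by rw [mul_smul]; exact hk.1, by rw [mul_smul]; exact hk.2⟩

variable [Finite V]

theorem tr_norm (h : TwoT G V) (i : Ind2 a b) (hX : Syl ℓ X (S2 G a b)) :
    Tr 𝐍[X] (fix (rep G V) X) := by
  let ρ := Representation.subrepresentation ((rep G V).comp (𝐍[X]).subtype) (fix (rep G V) X)
    fun g _ hv => smul_mem_fix g.2 hv
  letI := actOf ρ
  haveI : SMulCommClass 𝐍[X] (ZMod 2) (fix (rep G V) X) := ⟨fun g r v => map_smul (ρ g) r v⟩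
  have e : ∀ {p q : fix (rep G V) X}, Ind2 p q ↔ Ind2 (p : V) q :=
    and_congr (not_congr Subtype.ext_iff) (and_congr (not_congr Subtype.ext_iff)
      (not_congr Subtype.ext_iff))
  have h1 : TwoT 𝐍[X] (fix (rep G V) X) := fun p q p' q' i1 i2 => by
    obtain ⟨h2, -⟩ := witt h i hX p.2 q.2 (e.mp i1)
    obtain ⟨-, g, h3, h4, h5⟩ := witt h (e.mp i1) h2 p'.2 q'.2 (e.mp i2)
    exact ⟨⟨g, h3⟩, Subtype.ext h4, Subtype.ext h5⟩
  intro p hp q hq r hr i3
  obtain ⟨g, h2, h3, h4⟩ := h1.elation (a := ⟨p, hp⟩) (b := ⟨q, hq⟩) (x := ⟨r, hr⟩) (e.mpr i3.1)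
    ⟨fun e => i3.2.1 (congrArg Subtype.val e), fun e => i3.2.2.1 (congrArg Subtype.val e),
      fun e => i3.2.2.2.1 (congrArg Subtype.val e), fun e => i3.2.2.2.2 (congrArg Subtype.val e)⟩
  exact ⟨g, g.2, congrArg Subtype.val h2, congrArg Subtype.val h3, congrArg Subtype.val h4⟩

theorem dvd_orb (hX : Syl ℓ X (S2 G a b)) {j : ℕ}
    (hj : ℓ ^ j ∣ 2 ^ finrank (ZMod 2) V - 2 ^ finrank (ZMod 2) (W G a b)) {y : V}
    (hy : y ∉ W G a b) : ℓ ^ j ∣ (orb X y).ncard := by
  have h1 : orb (S2 G a b) y = ((⊤ : Submodule (ZMod 2) V) : Set V) \ W G a b := Set.ext fun z =>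
    ⟨fun ⟨g, e1, e2⟩ => ⟨trivial, fun e => hy ((smul_mem_W g).mp (by
      rwa [e2, show g • a = a from e1.1, show g • b = b from e1.2]))⟩,
      fun e => (trans_W hy e.2).imp fun g e => ⟨⟨e.1, e.2.1⟩, e.2.2⟩⟩
  have h2 := ncard_orb_dvd hX.le y
  rw [h1, Set.ncard_diff (SetLike.coe_subset_coe.mpr le_top), ncard_sub, ncard_sub, finrank_top] at h2
  exact (((Fact.out : ℓ.Prime).coprime_iff_not_dvd.mpr hX.nd).pow_left j).dvd_of_dvd_mul_left
    (hj.trans h2)

omit [Finite V] in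
theorem exists_compl (hX : IsPGroup ℓ X) (hl : ℓ ≠ 2) : ∃ R : Submodule (ZMod 2) V,
    fix (rep G V) X ⊔ R = ⊤ ∧ fix (rep G V) X ⊓ R = ⊥ ∧ ∀ g ∈ 𝐍[X], ∀ v ∈ R, g • v ∈ R := by
  have := Fintype.ofFinite X
  let e : V →ₗ[ZMod 2] V := ∑ x : X, lin (x : G)
  have he : ∀ v, e v = ∑ x : X, (x : G) • v := fun v => LinearMap.sum_apply _ _ _
  have h1 : ∀ v, e v ∈ fix (rep G V) X := fun v y hy => by
    change y • e v = e v
    rw [he, Finset.smul_sum, ← Equiv.sum_comp (Equiv.mulLeft (⟨y, hy⟩ : X)) fun x : X => (x : G) • v]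
    exact Finset.sum_congr rfl fun x _ => (mul_smul _ _ _).symm
  have h2 : ∀ v ∈ fix (rep G V) X, e v = v := fun v hv => by
    obtain ⟨k, hk⟩ := IsPGroup.iff_card.mp hX
    obtain ⟨r, hr⟩ := ((Fact.out : ℓ.Prime).odd_of_ne_two hl).pow (n := k)
    rw [he, Finset.sum_congr rfl fun (x : X) _ => show (x : G) • v = v from hv x x.2, Finset.sum_const,
      Finset.card_univ, ← Nat.card_eq_fintype_card, hk, hr, add_smul, one_smul, two_mul, add_smul,
      add_self, zero_add]
  refine ⟨LinearMap.ker e, eq_top_iff.mpr fun v _ => Submodule.mem_sup.mpr ⟨_, h1 v, e v + v, ?_,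
    add_add_cancel' _ _⟩, eq_bot_iff.mpr fun v hv => (h2 v hv.1).symm.trans hv.2, fun g hg v hv => ?_⟩
  · rw [LinearMap.mem_ker, map_add, h2 _ (h1 v), add_self]
  rw [LinearMap.mem_ker, he, ← smul_zero g, ← show e v = 0 from hv, he, Finset.smul_sum,
    ← Equiv.sum_comp (X.normalizerMonoidHom ⟨g, hg⟩).toEquiv]
  exact Finset.sum_congr rfl fun x _ => by
    change (g * x * g⁻¹) • g • v = _
    rw [mul_smul, inv_smul_smul, mul_smul]

variable (G V) in
/-- some element acts as a transvection -/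
def HasTv : Prop := ∃ (g : G) (u : V) (η : Dual (ZMod 2) V),
  u ≠ 0 ∧ η ≠ 0 ∧ η u = 0 ∧ ∀ v, g • v = v + η v • u

omit [Finite G] [Finite V] in
theorem hasTv_of {A : Submodule (ZMod 2) V} {x u : V} (hx : x ∉ A)
    (hA : A ⊔ Submodule.span (ZMod 2) {x} = ⊤) (hu : u ∈ A) (h0 : u ≠ 0) {g : G}
    (h1 : ∀ v ∈ A, g • v = v) (h2 : g • x = x + u) : HasTv G V := by
  obtain ⟨η, e1, e2⟩ := exists_dual_of_not_mem hx
  refine ⟨g, u, η, h0, fun e => by rw [e] at e2; exact zero_ne_one e2, e1 u hu, fun v => ?_⟩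
  obtain ⟨w, hw, _, hb, rfl⟩ := Submodule.mem_sup.mp (hA.ge (trivial : v ∈ ⊤))
  obtain ⟨r, rfl⟩ := Submodule.mem_span_singleton.mp hb
  rw [smul_add, h1 w hw, smul_comm, h2, map_add, e1 w hw, map_smul, e2, zero_add, smul_eq_mul,
    mul_one, smul_add, add_assoc]

theorem generic (h : TwoT G V) (i : Ind2 a b) {c : ℕ} (hp : Prim ℓ c) (hl : ℓ ∣ 2 ^ c - 1)
    (h2 : 2 ≤ c) (hc : finrank (ZMod 2) V = finrank (ZMod 2) (W G a b) + c)
    (h3 : finrank (ZMod 2) V ≤ 3 * c) (ho : Odd (finrank (ZMod 2) V)) : HasTv G V := by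
  obtain ⟨X, hX⟩ := Syl.exists ℓ (S2 G a b)
  have ha := left_mem_fix hX
  have hb := right_mem_fix hX
  have hF : fix (rep G V) X ≤ W G a b := fun y hy => by
    by_contra e
    have h4 := dvd_orb hX (j := 1) (by
      rw [hc, pow_add, ← Nat.mul_sub_one, pow_one]; exact hl.mul_left _) e
    rw [show orb X y = {y} from Set.eq_singleton_iff_unique_mem.mpr ⟨⟨1, one_mem _, one_smul _ _⟩,
      fun z ⟨g, e1, e2⟩ => e2.symm.trans (hy g e1)⟩, Set.ncard_singleton, pow_one, Nat.dvd_one] at h4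
    exact (Fact.out : ℓ.Prime).ne_one h4
  obtain ⟨R, r1, r2, r3⟩ := exists_compl (V := V) hX.pg hp.1
  let ρ := Representation.subrepresentation ((rep G V).comp (𝐍[X]).subtype) R
    fun g v hv => r3 g g.2 v hv
  have hX' : IsPGroup ℓ (X.subgroupOf 𝐍[X]) := hX.pg.comap_subtype
  have h0 : fix ρ (X.subgroupOf 𝐍[X]) = ⊥ := eq_bot_iff.mpr fun v hv => Subtype.ext (r2.le
    ⟨fun x hx => congrArg Subtype.val (hv ⟨x, le_normalizer hx⟩ hx), v.2⟩)
  have h4 := Submodule.finrank_sup_add_finrank_inf_eq (fix (rep G V) X) R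
  rw [r1, r2, finrank_top, finrank_bot] at h4
  obtain ⟨s, hs⟩ := hp.dvd_inv hX' h0 ⊤ fun _ _ _ _ => trivial
  rw [finrank_top] at hs
  have h5 := two_le_finrank ha hb i
  have h6 : s < 3 := lt_of_mul_lt_mul_left (a := c) (by omega) (Nat.zero_le _)
  by_cases h7 : 3 ≤ finrank (ZMod 2) (fix (rep G V) X)
  · obtain ⟨x, hx, i3⟩ := exists_out h7 a b
    have h8 := key_lemma h (K := fixingSubgroup G (R : Set V)) ha hb hx ⟨i, i3⟩ hF r1
      (fun g hg v hv => (mem_fixingSubgroup_iff G).mp hg v hv)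
      ((tr_norm h i hX).comm.comm.sq fun g hg k hk => by
        rw [← map_subtype_commutator 𝐍[X], ← map_commutator] at hg
        obtain ⟨g, hg, rfl⟩ := hg
        have := hp.m2 h2 hX' h0 (by rw [hs, mul_comm]; exact Nat.mul_le_mul_right _ (by omega)) hg
          (k := k) (Subtype.ext hk)
        exact (mem_fixingSubgroup_iff G).mpr fun v hv =>
          congrArg Subtype.val (LinearMap.congr_fun this ⟨v, hv⟩))
    omega
  obtain ⟨r, hr⟩ := ho
  obtain rfl : s = 1 := by interval_cases s <;> omega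
  obtain ⟨-, g, g0, g1, g2⟩ := witt h i hX ha (add_mem ha hb) i.add
  obtain ⟨u, u0, ⟨m, hm⟩, hu⟩ := exists_ppart V g Nat.prime_two 1
  have u1 : u • a = a := (hu a (by rw [pow_one, pow_two, mul_smul, g1, g1])).trans g1
  have u2 : u • b = b + a := (hu b (by
    rw [pow_one, pow_two, mul_smul, g2, smul_add, g1, g2, add_add_cancel'])).trans
      (g2.trans (add_comm _ _))
  have h8 := hp.m3 hX' h0 (by omega) ⟨r - 1, by omega⟩ m ⟨u, zpowers_le.mpr g0 u0⟩
    (by rw [← map_pow, show (⟨u, zpowers_le.mpr g0 u0⟩ : 𝐍[X]) ^ 2 ^ m = 1 from Subtype.ext hm,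
      map_one])
  have h9 : ∀ v ∈ R ⊔ Submodule.span (ZMod 2) {a}, u • v = v := fun v hv => by
    obtain ⟨w, hw, _, hb, rfl⟩ := Submodule.mem_sup.mp hv
    obtain ⟨r, rfl⟩ := Submodule.mem_span_singleton.mp hb
    rw [smul_add, smul_comm, u1,
      show u • w = w from congrArg Subtype.val (LinearMap.congr_fun h8 ⟨w, hw⟩)]
  refine hasTv_of (fun e => i.1 ?_) (eq_top_iff.mpr (r1.ge.trans (sup_le (fun v hv => ?_)
    (le_sup_of_le_left le_sup_left))))
    (Submodule.mem_sup_right (Submodule.mem_span_singleton_self a)) i.1 h9 u2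
  · simpa [u2] using h9 b e
  rw [sup_assoc, ← Submodule.span_union]
  exact Submodule.mem_sup_right (mem_span_pair'.mpr fun e => h7 (three_le_finrank ha hb hv ⟨i, e⟩))

omit [Finite G] in
theorem not_thirteen (h : TwoT G V) (i : Ind2 a b) (hn : finrank (ZMod 2) V = 13)
    (hk : finrank (ZMod 2) (W G a b) = 7) : False := by
  have h1 : W G a b ≤ E G a b := fun y hy => mem_E.mpr fun v hv h0 h1 => by
    have i' : Ind2 a v := ⟨i.1, h0, h1.symm⟩
    rw [← Submodule.eq_of_le_of_finrank_eq (S₁ := W G a v) (S₂ := W G a b) (fun z hz => ?_)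
      (h.finrank_W i i')] at hy
    · exact hy
    by_contra e
    have h2 := count_W h i e
    have h3 := two_le_finrank (F := W G a b ⊓ W G a z) ⟨left_mem_W _ _, left_mem_W _ _⟩
      ⟨hv, mem_W_symm' h i' hz (out_of_not_mem e).1 (out_of_not_mem e).2.1⟩ i'
    have := Nat.pow_le_pow_right two_pos h3
    rw [hn, hk] at h2
    omega
  have h2 : E G a b ≤ W G a b := fun y hy => by
    by_cases h0 : y = 0
    · exact h0 ▸ zero_mem _
    by_cases h1 : y = a
    · exact h1 ▸ left_mem_W _ _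
    exact (mem_E_iff h i h0 h1).mp hy ▸ right_mem_W _ _
  have := (E_dvd h i).2
  rw [le_antisymm h2 h1, hn, hk] at this
  omega

theorem not_seventeen (h : TwoT G V) (i : Ind2 a b) (hn : finrank (ZMod 2) V = 17)
    (hk : finrank (ZMod 2) (W G a b) = 11) : False := by
  have hW : ∀ {p q : V}, Ind2 p q → finrank (ZMod 2) (W G p q) = 11 := fun i' =>
    (h.finrank_W i i').trans hk
  have ne : ∀ {p q r : V}, Ind3 p q r → W G p r ≠ W G p q := fun {p q r} i3 e => by
    have h1 := three_le_finrank (left_mem_E _ _) (right_mem_E h i3.1)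
      ((mem_E_iff h i3.1 i3.2.1 i3.2.2.1).mpr e) i3
    have h2 : finrank (ZMod 2) (E G p q) ≤ 11 := hW i3.1 ▸ Submodule.finrank_mono fun y hy =>
      mem_E.mp hy q (right_mem_W _ _) i3.1.2.1 i3.1.2.2.symm
    obtain ⟨h3, h4⟩ := E_dvd h i3.1
    rw [hn] at h3 h4
    generalize finrank (ZMod 2) (E G p q) = e at *
    interval_cases e <;> omega
  have : Fact (Nat.Prime 3) := ⟨Nat.prime_three⟩
  obtain ⟨X, hX⟩ := Syl.exists 3 (S2 G a b)
  have ha := left_mem_fix hX
  have hb := right_mem_fix hX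
  obtain ⟨x, hx, i3⟩ : ∃ x ∈ fix (rep G V) X, Out a b x := by
    have h1 := two_le_finrank ha hb i
    have h2 := dvd_sub_fix (ρ := rep G V) (A := ⊤) hX.pg fun _ _ _ _ => trivial
    rw [top_inf_eq, finrank_top, hn] at h2
    refine exists_out (lt_of_le_of_ne h1 fun e => ?_) a b
    rw [← e] at h2
    omega
  replace i3 : Ind3 a b x := ⟨i, i3⟩
  have irr : ∀ {p q}, p ∈ fix (rep G V) X → q ∈ fix (rep G V) X → Ind2 p q → ∀ A,
      Inv (rep G V) X A → finrank (ZMod 2) ↥(W G p q ⊔ A) = 11 ∨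
        finrank (ZMod 2) ↥(W G p q ⊔ A) = 17 := fun {p q} hp hq i' A hA => by
    have h1 := dvd_ncard_of_orb X (m := 3 ^ 2) ((W G p q ⊔ A : Submodule _ V) \ (W G p q : Set V))
      (fun g hg y hy => ⟨((inv_W hp hq).sup hA) g hg y hy.1, fun e => hy.2 (by
        simpa using inv_W hp hq g⁻¹ (inv_mem hg) _ e)⟩)
      fun y hy => dvd_orb (witt h i hX hp hq i').1 (by rw [hn, hW i']; norm_num) hy.2
    rw [Set.ncard_diff (SetLike.coe_subset_coe.mpr le_sup_left), ncard_sub, ncard_sub, hW i'] at h1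
    have h2 := Submodule.finrank_le (W G p q ⊔ A)
    have h3 := Submodule.finrank_mono (le_sup_left : W G p q ≤ W G p q ⊔ A)
    rw [hW i'] at h3
    rw [hn] at h2
    generalize finrank (ZMod 2) ↥(W G p q ⊔ A) = e at *
    interval_cases e <;> omega
  have two : ∀ {p q r}, p ∈ fix (rep G V) X → q ∈ fix (rep G V) X → r ∈ fix (rep G V) X →
      Ind3 p q r → W G p q ⊔ W G p r = ⊤ ∧ finrank (ZMod 2) ↥(W G p q ⊓ W G p r) = 5 :=
    fun {p q r} hp hq hr i' => by
    have h1 := (irr hp hq i'.1 _ (inv_W hp hr)).resolve_left fun e => ne i'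
      ((Submodule.eq_of_le_of_finrank_eq le_sup_right ((hW i'.s23.1).trans e.symm)).trans
        (Submodule.eq_of_le_of_finrank_eq le_sup_left ((hW i'.1).trans e.symm)).symm)
    have h2 := Submodule.finrank_sup_add_finrank_inf_eq (W G p q) (W G p r)
    rw [hW i'.1, hW i'.s23.1] at h2
    exact ⟨Submodule.eq_top_of_finrank_eq (h1.trans hn.symm), by omega⟩
  obtain ⟨W0, hW0⟩ : ∃ W0, W0 = W G a b ⊓ W G a x := ⟨_, rfl⟩
  have w5 : finrank (ZMod 2) W0 = 5 := hW0 ▸ (two ha hb hx i3).2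
  have wi : Inv (rep G V) X W0 := hW0 ▸ (inv_W ha hb).inf (inv_W ha hx)
  have wle : ∀ {p q}, p ∈ fix (rep G V) X → q ∈ fix (rep G V) X → Ind2 p q → W0 ≤ W G p q :=
    fun {p q} hp hq i' => by
    have h1 := Submodule.finrank_add_le_finrank_add_finrank (W G p q) W0
    have h2 := irr hp hq i' _ wi
    rw [hW i'] at h1
    exact le_sup_right.trans (Submodule.eq_of_le_of_finrank_eq le_sup_left
      (by rw [hW i']; omega)).ge
  have wN : ∀ g : 𝐍[X], W0 ≤ W0.comap (((rep G V).comp (𝐍[X]).subtype) g) := fun g v hv => by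
    have key : ∀ {p q}, p ∈ fix (rep G V) X → q ∈ fix (rep G V) X → Ind2 p q →
        (g : G) • v ∈ W G p q := fun hp hq i' => by
      simpa using (smul_mem_W (g : G)).mpr (wle (smul_mem_fix (inv_mem g.2) hp)
        (smul_mem_fix (inv_mem g.2) hq) (i'.smul _) hv)
    rw [hW0]
    exact ⟨key ha hb i, key ha hx i3.s23.1⟩
  let ρ := Representation.quotient _ W0 wN
  have : Finite (V ⧸ W0) := Finite.of_surjective _ W0.mkQ_surjective
  have hc : ∀ A, Inv ρ (X.subgroupOf 𝐍[X]) A → 6 ∣ finrank (ZMod 2) A := fun A hA => by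
    have h1 : W0 ≤ A.comap W0.mkQ := fun v hv => by
      rw [Submodule.mem_comap, show W0.mkQ v = 0 from (Submodule.Quotient.mk_eq_zero _).mpr hv]
      exact zero_mem _
    have h2 := finrank_map_mkQ h1
    rw [Submodule.map_comap_eq_of_surjective W0.mkQ_surjective, w5] at h2
    have h3 : Inv (rep G V) X (A.comap W0.mkQ) := fun y hy v hv => hA ⟨y, le_normalizer hy⟩ hy _ hv
    have h4 := irr ha hb i _ h3
    have h5 := irr ha hx i3.s23.1 _ ((inv_W ha hb).inf h3)
    have h6 := Submodule.finrank_sup_add_finrank_inf_eq (W G a b) (A.comap W0.mkQ)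
    have h7 := Submodule.finrank_sup_add_finrank_inf_eq (W G a x) (W G a b ⊓ A.comap W0.mkQ)
    rw [← inf_assoc, inf_comm (W G a x), ← hW0, inf_eq_left.mpr h1, w5, hW i3.s23.1] at h7
    rw [hW i] at h6
    omega
  let π := ρ.asGroupHom
  let Y := (X.subgroupOf 𝐍[X]).map π
  have : Finite (Module.End (ZMod 2) (V ⧸ W0)) := Module.finite_of_finite (ZMod 2)
  have hY : IsPGroup 3 Y := hX.pg.comap_subtype.map π
  obtain ⟨s, hs⟩ := IsPGroup.iff_card.mp hY
  have h4 : s ≤ 4 := by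
    have h1 := SEM.card_dvd (ρ := Representation.subrepresentation
      ((Units.coeHom (Module.End (ZMod 2) (V ⧸ W0))).comp Y.subtype) ((W G a x).map W0.mkQ) (by
        rintro ⟨_, y, hy, rfl⟩ _ ⟨v, hv, rfl⟩
        exact ⟨_, inv_W ha hx y hy v hv, rfl⟩)) ((injective_iff_map_eq_one _).mpr (by
      rintro ⟨_, y, hy, rfl⟩ e
      have e1 : ∀ v ∈ W G a x, (y : G) • v + v ∈ W0 := fun v hv => by
        rw [← sub_eq]
        exact (Submodule.Quotient.eq _).mp
          (congrArg Subtype.val (LinearMap.congr_fun e ⟨_, v, hv, rfl⟩))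
      have e2 : ∀ v, (y : G) • v + v ∈ W G a b := fun v => by
        obtain ⟨p, hp, q, hq, rfl⟩ := Submodule.mem_sup.mp ((two ha hb hx i3).1.ge (trivial : v ∈ ⊤))
        rw [smul_add, add_add_add_comm]
        exact add_mem (add_mem (inv_W ha hb y hy p hp) hp) (wle ha hb i (e1 q hq))
      have hxb := add_mem hx hb
      have i4 : Ind3 a b (x + b) := i3.s12.add.s12
      have i5 : Ind3 a x (b + x) := i3.s23.s12.add.s12
      have e3 : W0 = W G a b ⊓ W G a (x + b) := Submodule.eq_of_le_of_finrank_eq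
        (le_inf (wle ha hb i) (wle ha hxb i4.s23.1)) (w5.trans (two ha hb hxb i4).2.symm)
      refine Subtype.ext (Units.ext (LinearMap.ext fun v => ?_))
      obtain ⟨v, rfl⟩ := W0.mkQ_surjective v
      refine (Submodule.Quotient.eq _).mpr ?_
      obtain ⟨p, hp, q, hq, rfl⟩ := Submodule.mem_sup.mp
        ((two ha hx (add_mem hb hx) i5).1.ge (trivial : v ∈ ⊤))
      change (y : G) • (p + q) - (p + q) ∈ W0
      rw [sub_eq, smul_add, add_add_add_comm]
      rw [add_comm b x] at hq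
      exact add_mem (e1 p hp) (e3.ge ⟨e2 q, add_mem (inv_W ha hxb y hy q hq) hq⟩)))
    have h2 := finrank_map_mkQ (wle ha hx i3.s23.1)
    rw [w5, hW i3.s23.1] at h2
    rw [show finrank (ZMod 2) ((W G a x).map W0.mkQ) = 6 by omega, hs] at h1
    by_contra h3
    exact absurd ((pow_dvd_pow 3 (show 5 ≤ s by omega)).trans h1) (by decide +kernel)
  have t1 : Tr ((((centralizer (Y : Set _)).comap π)).map (𝐍[X]).subtype) (fix (rep G V) X) :=
    (tr_norm h i hX).seven fun g hg k hk => by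
      have : Fact (Nat.Prime 7) := ⟨by norm_num⟩
      have h1 := GT.card_modEq_card_inf_centralizer (L := Y) (p := 7) (Q := zpowers (π ⟨g, hg⟩))
        (IsPGroup.iff_card.mpr (by
          rw [Nat.card_zpowers]
          exact ((Nat.dvd_prime_pow Fact.out).mp (orderOf_dvd_of_pow_eq_one (by
            rw [← map_pow, show (⟨g, hg⟩ : 𝐍[X]) ^ 7 ^ k = 1 from Subtype.ext hk, map_one]))).imp
              fun _ e => e.2))
        (zpowers_le.mpr (le_normalizer_map π ⟨_, (normalizer_eq_top _).ge trivial, rfl⟩))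
      obtain ⟨t, ht, e⟩ := (Nat.dvd_prime_pow Nat.prime_three).mp
        (hs ▸ card_dvd_of_le (inf_le_left : Y ⊓ centralizer (zpowers (π ⟨g, hg⟩) : Set _) ≤ Y))
      have h2 : s = t := by
        rw [hs, e] at h1
        interval_cases s <;> interval_cases t <;> simp_all [Nat.ModEq]
      have h3 := eq_of_le_of_card_ge inf_le_left (by rw [hs, e, h2])
      exact ⟨⟨g, hg⟩, fun y hy => ((h3.ge hy).2 _ (mem_zpowers _)).symm, rfl⟩
  have t2 : Tr (ρ.ker.map (𝐍[X]).subtype) (fix (rep G V) X) := t1.sq (by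
    rintro _ ⟨g, hg, rfl⟩ k hk
    have h1 := lemQ hc (g := g) (k := k)
      (by rw [← map_pow, show g ^ 2 ^ k = 1 from Subtype.ext hk, map_one])
      (fun y hy => congrArg Units.val (hg _ ⟨y, hy, rfl⟩).symm) 2
      (by have := W0.finrank_quotient_add_finrank; omega)
    exact ⟨g ^ 2, (map_pow ρ g 2).trans
      (add_eq_zero'.mp ((pow_two_pow_add_one (ρ g) 1).symm.trans h1)), rfl⟩)
  obtain ⟨_, ⟨g, hg, rfl⟩, -, g2, g3⟩ := t2 a ha b hb x hx i3
  have i6 : Ind3 b (x + a) x := by simpa only [add_add_cancel', add_comm x a] using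
    i3.add.s12.s23.s12.add.s12
  refine ne i6 (Submodule.eq_of_le_of_finrank_eq (fun v hv => ?_) ((hW i6.s23.1).trans (hW i6.1).symm))
  have h1 := (smul_mem_W (g : G)).mpr hv
  have h2 : (g : G) • v - v ∈ W0 :=
    (Submodule.Quotient.eq _).mp (LinearMap.congr_fun (show ρ g = 1 from hg) (W0.mkQ v))
  rw [show (g : G) • b = b from g2, show (g : G) • x = x + a from g3] at h1
  simpa using sub_mem h1 (wle hb (add_mem hx ha) i6.1 h2)

end Cfsg.Agent.FG.CK
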