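import Mathlib
import Cfsg.Agent.FG.CKE
import Cfsg.Agent.NT.Zsigmondy
import Cfsg.Agent.Cl.ClassSinger
import Cfsg.Agent.Perm.PrimeDegree

/-!
# Transitive linear groups over `F₂` of Mersenne prime degree
-/

set_option autoImplicit false

namespace Cfsg.Agent.FG.CK

open Subgroup Module MulAction Cfsg.Agent.Loc.Mss

variable {G : Type*} [Group G] {V : Type*} [AddCommGroup V] [Module (ZMod 2) V] [Finite V]

theorem exists_ind2 (h : 2 ≤ finrank (ZMod 2) V) : ∃ a b : V, Ind2 a b := by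
  have : Nontrivial V := Module.nontrivial_of_finrank_pos (R := ZMod 2) (by omega)
  obtain ⟨a, ha⟩ := exists_ne (0 : V)
  by_contra e
  have h1 : ⊤ ≤ Submodule.span (ZMod 2) {a} := fun b _ => by
    by_contra e'
    exact e ⟨a, b, ha, fun h => e' (h ▸ zero_mem _),
      fun h => e' (h ▸ Submodule.mem_span_singleton_self a)⟩
  have := Submodule.finrank_mono h1
  rw [finrank_top, finrank_span_singleton ha] at this
  omega

theorem hasTv [DistribMulAction G V] [SMulCommClass G (ZMod 2) V] [Finite G] (h : TwoT G V)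
    (hp : (2 ^ finrank (ZMod 2) V - 1).Prime) {P : Subgroup G}
    (hP : ∀ p ∈ P, ∀ q ∈ P, p * q = q * p)
    (hP' : ∀ x y : V, x ≠ 0 → y ≠ 0 → ∃ p ∈ P, p • x = y) : HasTv G V := by
  have hn : (finrank (ZMod 2) V).Prime := Nat.Prime.of_mersenne hp
  obtain ⟨a, b, i⟩ := exists_ind2 hn.two_le
  have h1 : b ∉ Submodule.span (ZMod 2) {a} := fun e => by
    obtain ⟨r, rfl⟩ := Submodule.mem_span_singleton.mp e
    rcases z2 r with rfl | rfl
    exacts [i.2.1 (zero_smul _ _), i.2.2 (one_smul _ _).symm]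
  have h2 : ∀ (g : G) (a : V), g • a = a → ∀ v ∈ Submodule.span (ZMod 2) {a}, g • v = v :=
    fun g a e v hv => by
    obtain ⟨r, rfl⟩ := Submodule.mem_span_singleton.mp hv
    rw [smul_comm, e]
  rcases hn.eq_two_or_odd' with e | ho
  · obtain ⟨g, g1, g2⟩ := h a b a (a + b) i i.add
    exact hasTv_of h1 (Submodule.eq_top_of_finrank_eq (by
      rw [Submodule.finrank_sup_span_singleton h1, finrank_span_singleton i.1, e]))
      (Submodule.mem_span_singleton_self a) i.1 (h2 g a g1) (g2.trans (add_comm _ _))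
  have h3 : 3 ≤ finrank (ZMod 2) V := by
    have := hn.two_le
    obtain ⟨r, hr⟩ := ho
    omega
  obtain ⟨x, -, i3⟩ := exists_out (F := ⊤) (by rwa [finrank_top]) a b
  rcases h3.eq_or_lt with e | h4
  · obtain ⟨g, g1, g2, g3⟩ := h.elation i i3
    have h5 : x ∉ Submodule.span (ZMod 2) {a} ⊔ Submodule.span (ZMod 2) {b} := fun e =>
      mem_span_pair'.mp (by rwa [← Submodule.span_union] at e) i3
    refine hasTv_of h5 (Submodule.eq_top_of_finrank_eq (by
      rw [Submodule.finrank_sup_span_singleton h5, Submodule.finrank_sup_span_singleton h1,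
        finrank_span_singleton i.1, ← e]))
      (Submodule.mem_sup_left (Submodule.mem_span_singleton_self a)) i.1 (fun v hv => ?_) g3
    obtain ⟨p, hp, q, hq, rfl⟩ := Submodule.mem_sup.mp hv
    rw [smul_add, h2 g a g1 p hp, h2 g b g2 q hq]
  obtain ⟨y, hy⟩ := exists_not_mem_W h ⟨i, i3⟩ i
  obtain ⟨c, hc⟩ := Nat.exists_eq_add_of_le (Submodule.finrank_le (W G a b))
  have h5 := singer_bound h hP hP' i hy hc
  by_cases h6 : c = 6
  · have h7 := two_le_finrank (left_mem_W (G := G) a b) (right_mem_W a b) i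
    have h8 : finrank (ZMod 2) V = 13 ∨ finrank (ZMod 2) V = 17 := by
      have : finrank (ZMod 2) V ≤ 18 := by omega
      have : 8 ≤ finrank (ZMod 2) V := by omega
      generalize finrank (ZMod 2) V = n at *
      interval_cases n <;> first | omega | (exfalso; revert hp; norm_num)
    rcases h8 with e | e
    · exact (not_thirteen h i e (by omega)).elim
    · exact (not_seventeen h i e (by omega)).elim
  obtain ⟨r, r1, r2, -, r3⟩ := NT.zsigmondy' (a := 2) (n := c) one_lt_two (by omega)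
    (fun e => h6 e.2) fun ⟨_, m, e⟩ => by
      rcases m with _ | m
      · omega
      · rw [pow_succ] at e; omega
  have : Fact r.Prime := ⟨r1⟩
  exact generic h i ⟨by omega, fun k => (r2 k).mp⟩ ((r2 c).mpr dvd_rfl) (by omega) hc h5 ho

theorem eq_top_of_hasTv {H : Subgroup (V ≃ₗ[ZMod 2] V)} (h : TwoT H V) (h2 : 2 ≤ finrank (ZMod 2) V)
    (ht : HasTv H V) : H = ⊤ := by
  obtain ⟨t, u, η, hu, hη, h0, ht⟩ := ht
  obtain ⟨a, b, i⟩ := exists_ind2 h2
  have h1 : ∀ e ∈ LinearEquiv.dilatransvections (ZMod 2) V, e ∈ H := by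
    rintro e ⟨f, v, he⟩
    have he' : ∀ x, e x = x + f x • v := LinearMap.congr_fun he
    by_cases hv : v = 0
    · rw [show e = 1 from LinearEquiv.ext fun x => by simp [he', hv]]; exact one_mem _
    by_cases hf : f = 0
    · rw [show e = 1 from LinearEquiv.ext fun x => by simp [he', hf]]; exact one_mem _
    have h3 : f v = 0 := (z2 _).resolve_right fun e' =>
      hv (e.map_eq_zero_iff.mp (by rw [he', e', one_smul, add_self]))
    obtain ⟨g, hg⟩ := h.trans i hu hv
    obtain ⟨k, k1, k2⟩ := h.flag hv hf (pull_ne_zero g⁻¹ hη)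
      (by rw [h3, pull_apply, ← hg, inv_smul_smul, h0])
    rw [show e = (k⁻¹ * g * t * g⁻¹ * k : H) from LinearEquiv.ext fun x => by
      change _ = (k⁻¹ * g * t * g⁻¹ * k) • x
      simp only [mul_smul, ht, smul_add, smul_inv_smul, inv_smul_smul, smul_comm _ (_ : ZMod 2), hg,
        inv_smul_eq_iff.mpr k1.symm, he', ← k2, pull_apply]]
    exact Subtype.prop _
  refine eq_top_iff.mpr fun e _ => ?_
  have h3 : e.fixedReduce = 1 ∨ ∀ a : ZMod 2, ∃ x, e.fixedReduce x ≠ a • x := by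
    by_contra h4
    simp only [not_or, not_forall, not_exists, not_not] at h4
    obtain ⟨h4, r, h5⟩ := h4
    refine h4 (LinearEquiv.ext fun x => ?_)
    rcases z2 r with rfl | rfl
    · have := e.fixedReduce.map_eq_zero_iff.mp ((h5 x).trans (zero_smul _ _))
      rw [this, map_zero, map_zero]
    · exact (h5 x).trans (one_smul _ _)
  obtain ⟨s, hs, d, hd, rfl⟩ := h3.elim
    LinearEquiv.mem_transvections_pow_mul_dilatransvections_of_fixedReduce_eq_one
    LinearEquiv.mem_transvections_pow_mul_dilatransvections_of_fixedReduce_ne_smul_id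
  obtain ⟨f, hf⟩ := Set.mem_pow.mp hs
  refine mul_mem (hf ▸ list_prod_mem fun x hx => ?_) (h1 d hd)
  obtain ⟨i, rfl⟩ := List.mem_ofFn.mp hx
  exact h1 _ (LinearEquiv.transvections_subset_dilatransvections (f i).2)

theorem card_normalizer (hp : (2 ^ finrank (ZMod 2) V - 1).Prime) {P : Subgroup (V ≃ₗ[ZMod 2] V)}
    (hP : Nat.card P = 2 ^ finrank (ZMod 2) V - 1) :
    Nat.card 𝐍[P] = finrank (ZMod 2) V * (2 ^ finrank (ZMod 2) V - 1) := by
  have hn : (finrank (ZMod 2) V).Prime := Nat.Prime.of_mersenne hp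
  generalize e : finrank (ZMod 2) V = n at *
  have := Fact.mk hp
  let K := GaloisField 2 n
  have e' : finrank (ZMod 2) K = n := GaloisField.finrank 2 hn.ne_zero
  let Φ := (LinearMap.GeneralLinearGroup.generalLinearEquiv (ZMod 2) V).symm.trans
    (LinearMap.GeneralLinearGroup.congrLinearEquiv (LinearEquiv.ofFinrankEq V K (e.trans e'.symm)))
  have : Finite (Module.End (ZMod 2) K) := Module.finite_of_finite (ZMod 2)
  have h1 := Cl.Cls.card_singer (F := ZMod 2) (K := K)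
  have h2 := Cl.Cls.card_normalizer_singer (F := ZMod 2) (K := K)
  rw [GaloisField.card 2 n hn.ne_zero] at h1 h2
  rw [IsGalois.card_aut_eq_finrank, e'] at h2
  have h3 : Syl (2 ^ n - 1) (Cl.Cls.singerHom (ZMod 2) K).range ⊤ :=
    Syl.of_norm (IsPGroup.of_card (h1.trans (pow_one _).symm)) le_top fun Q q1 q2 _ q3 => by
      obtain ⟨k, hk⟩ := IsPGroup.iff_card.mp q1
      refine (eq_of_le_of_card_ge q2 ?_).ge
      have h4 := card_dvd_of_le q3
      rw [h2, hk] at h4
      rw [h1, hk]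
      rcases k with _ | _ | k
      · exact hp.one_le
      · rw [zero_add, pow_one]
      rw [pow_succ, Nat.mul_dvd_mul_iff_right hp.pos] at h4
      have h5 := (Nat.prime_dvd_prime_iff_eq hp hn).mp ((dvd_pow_self _ k.succ_ne_zero).trans h4)
      have h6 := Nat.lt_two_pow_self (n := n - 1)
      have h7 : 2 ^ n = 2 * 2 ^ (n - 1) := by rw [← pow_succ', Nat.sub_add_cancel hn.one_le]
      have := hn.two_le
      omega
  have h4 : Nat.card (P.map Φ.toMonoidHom) = 2 ^ n - 1 := (card_map_of_injective Φ.injective).trans hP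
  obtain ⟨g, -, hg⟩ := h3.conj_le (IsPGroup.of_card (h4.trans (pow_one _).symm)) le_top
  rw [← h2, ← eq_of_le_of_card_ge hg (by rw [card_cj, h1, h4]), ← cj_norm, card_cj,
    ← map_equiv_normalizer_eq, card_map_of_injective Φ.injective]

variable (V) in
/-- the nonzero vectors -/
def nz : SubMulAction (V ≃ₗ[ZMod 2] V) V where
  carrier := {v | v ≠ 0}
  smul_mem' g _ h := fun e => h (g.map_eq_zero_iff.mp e)

omit [Finite V] in
instance : FaithfulSMul (V ≃ₗ[ZMod 2] V) (nz V) := ⟨fun {g k} h => LinearEquiv.ext fun v => by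
  by_cases e : v = 0
  · rw [e, map_zero, map_zero]
  · exact congrArg Subtype.val (h ⟨v, e⟩)⟩

theorem card_nz : Nat.card (nz V) = 2 ^ finrank (ZMod 2) V - 1 := by
  rw [← finrank_top, ← ncard_sub, ← Set.ncard_diff_singleton_of_mem (zero_mem _)]
  exact congrArg Set.ncard (show {v : V | v ≠ 0} = _ by ext; simp)

theorem trans_of_card (hp : (2 ^ finrank (ZMod 2) V - 1).Prime) {C : Subgroup (V ≃ₗ[ZMod 2] V)}
    (hC : Nat.card C = 2 ^ finrank (ZMod 2) V - 1) {v w : V} (hv : v ≠ 0) (hw : w ≠ 0) :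
    ∃ h ∈ C, h v = w := by
  have := Fact.mk hp
  have : Finite C := Nat.finite_of_card_ne_zero (hC ▸ hp.ne_zero)
  have : Nontrivial C := Finite.one_lt_card_iff_nontrivial.mp (hC ▸ hp.one_lt)
  obtain ⟨τ, hτ⟩ := exists_ne (1 : C)
  obtain ⟨x, hx⟩ : ∃ x : nz V, τ • x ≠ x := by
    by_contra e
    simp only [not_exists, not_not] at e
    exact hτ (eq_of_smul_eq_smul (α := nz V) fun x => by rw [e, one_smul])
  obtain ⟨e, -, he⟩ := Perm.exists_coord_of_pow_eq_one card_nz (hC ▸ pow_card_eq_one') hx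
  refine ⟨_, (τ ^ (e ⟨w, hw⟩ - e ⟨v, hv⟩).val).2, congrArg Subtype.val
    (e.injective (a₁ := τ ^ (e ⟨w, hw⟩ - e ⟨v, hv⟩).val • ⟨v, hv⟩) (a₂ := ⟨w, hw⟩) ?_)⟩
  rw [Perm.coord_pow he, ZMod.natCast_zmod_val, add_sub_cancel]

theorem main (hp : (2 ^ finrank (ZMod 2) V - 1).Prime) (H : Subgroup (V ≃ₗ[ZMod 2] V)) :
    (∀ v w : V, v ≠ 0 → w ≠ 0 → ∃ h ∈ H, h v = w) ↔
      ((IsCyclic H ∧ Nat.card H = 2 ^ finrank (ZMod 2) V - 1) ∨
       (Nat.card H = finrank (ZMod 2) V * (2 ^ finrank (ZMod 2) V - 1) ∧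
         ∃ C : Subgroup (V ≃ₗ[ZMod 2] V), C ≤ H ∧ (C.subgroupOf H).Normal ∧
          IsCyclic C ∧ Nat.card C = 2 ^ finrank (ZMod 2) V - 1) ∨ H = ⊤) := by
  have hn : (finrank (ZMod 2) V).Prime := Nat.Prime.of_mersenne hp
  have := Fact.mk hp
  have : Finite (V ≃ₗ[ZMod 2] V) := Finite.of_injective _ DFunLike.coe_injective
  refine ⟨fun h => ?_, ?_⟩
  swap
  · rintro (⟨-, h⟩ | ⟨-, C, h1, -, -, h⟩ | rfl) v w hv hw
    · exact trans_of_card hp h hv hw
    · exact (trans_of_card hp h hv hw).imp fun _ e => ⟨h1 e.1, e.2⟩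
    obtain ⟨η, h1, h2⟩ := exists_dual_of_not_mem (A := Submodule.span (ZMod 2) {v + w}) (x := v)
      fun e => by
        obtain ⟨r, e⟩ := Submodule.mem_span_singleton.mp e
        rcases z2 r with rfl | rfl
        exacts [hv (by rw [← e, zero_smul]), hw (by simpa using e)]
    exact ⟨LinearEquiv.transvection (h1 _ (Submodule.mem_span_singleton_self _)), trivial, by
      rw [LinearEquiv.transvection.apply, h2, one_smul, add_add_cancel']⟩
  have : IsPretransitive H (nz V) := ⟨fun v w =>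
    let ⟨g, h1, h2⟩ := h v w v.2 w.2; ⟨⟨g, h1⟩, Subtype.ext h2⟩⟩
  obtain ⟨P⟩ : Nonempty (Sylow (2 ^ finrank (ZMod 2) V - 1) H) := inferInstance
  obtain ⟨a⟩ : Nonempty (nz V) := (Nat.card_ne_zero.mp (card_nz (V := V) ▸ hp.ne_zero)).1
  obtain ⟨τ, -, h1, e, -, he⟩ := Perm.exists_coord_sylow card_nz P a
  have h2 : Nat.card (zpowers (τ : V ≃ₗ[ZMod 2] V)) = 2 ^ finrank (ZMod 2) V - 1 := by
    rw [Nat.card_zpowers, orderOf_coe, h1]
  rcases Perm.affine_or_two_pretransitive he with h3 | h3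
  · have h4 : H ≤ 𝐍[zpowers (τ : V ≃ₗ[ZMod 2] V)] := fun g hg => by
      obtain ⟨s, t, h5⟩ := h3 ⟨g, hg⟩
      have h6 : (⟨g, hg⟩ : H) * τ * (⟨g, hg⟩ : H)⁻¹ = τ ^ s.val :=
        eq_of_smul_eq_smul (α := nz V) fun x => e.injective (by
          rw [Perm.coord_pow he, ZMod.natCast_zmod_val, mul_smul, mul_smul, h5, he, mul_add,
            add_right_comm, ← h5, smul_inv_smul, mul_one])
      refine mem_norm_of_cj_le ?_
      rw [MonoidHom.map_zpowers, zpowers_le]
      exact ⟨s.val, (zpow_natCast _ _).trans (congrArg Subtype.val h6).symm⟩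
    have h5 := card_dvd_of_le h4
    have h6 : zpowers (τ : V ≃ₗ[ZMod 2] V) ≤ H := zpowers_le.mpr τ.2
    obtain ⟨k, hk⟩ := card_dvd_of_le h6
    rw [card_normalizer hp h2, hk, h2, mul_comm, Nat.mul_dvd_mul_iff_right hp.pos,
      Nat.dvd_prime hn] at h5
    rw [h2] at hk
    rcases h5 with rfl | rfl
    · exact .inl ⟨isCyclic_of_prime_card (hk.trans (mul_one _)), hk.trans (mul_one _)⟩
    · exact .inr (.inl ⟨hk.trans (mul_comm _ _), _, h6, (normal_subgroupOf_iff_le_normalizer h6).mpr h4,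
        inferInstance, h2⟩)
  have h4 : TwoT H V := fun a b a' b' i i' => by
    obtain ⟨g, g1, g2⟩ := @is_two_pretransitive_iff.mp h3 ⟨a, i.1⟩ ⟨b, i.2.1⟩ ⟨a', i'.1⟩ ⟨b', i'.2.1⟩
      (fun e => i.2.2 (congrArg Subtype.val e)) fun e => i'.2.2 (congrArg Subtype.val e)
    exact ⟨g, congrArg Subtype.val g1, congrArg Subtype.val g2⟩
  refine .inr (.inr (eq_top_of_hasTv h4 hn.two_le (hasTv h4 hp (P := zpowers τ) ?_ fun x y hx hy => ?_)))
  · rintro _ ⟨i, rfl⟩ _ ⟨j, rfl⟩
    exact zpow_mul_comm _ _ _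
  obtain ⟨_, ⟨k, rfl⟩, h5⟩ := trans_of_card hp h2 hx hy
  exact ⟨τ ^ k, zpow_mem_zpowers _ _, h5⟩

end Cfsg.Agent.FG.CK
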