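import Mathlib
import Cfsg.Agent.FG.ClassIdx
import Cfsg.Agent.FG.ClassCount
import Cfsg.Agent.FG.ConjTypeA
import Cfsg.Agent.GT.TransferPNilp

/-!
# Groups with the class sizes of `PSL₂(q)`, abstract part

Pairwise coprime `A, B, C` (`A, B` odd, `C` even); every noncentral class size is one of
`BC, AC, AB, 2AB` and the first three occur.  Then `|G : Z(G)| = ABC`, and in `L = G / Z(G)`
every nontrivial class size is again of this shape.
-/

set_option autoImplicit false

namespace Cfsg.Agent.FG.CsL2

open Subgroup Cfsg.Agent.FG.CI Cfsg.Agent.FG.CT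
open scoped commutatorElement

variable {G : Type*} [Group G]

/-- A noncentral element whose class size is incomparable with all other class sizes. -/
def Free (x : G) : Prop :=
  x ∉ center G ∧ ∀ y : G, y ∉ center G → (cidx y ∣ cidx x ∨ cidx x ∣ cidx y) → cidx y = cidx x

theorem Free.of_cidx {x y : G} (hx : Free x) (hy : y ∉ center G) (h : cidx y = cidx x) :
    Free y :=
  ⟨hy, fun z hz hd => by rw [h] at hd ⊢; exact hx.2 z hz hd⟩

theorem notMem_center_of_le {x y : G} (hx : x ∉ center G)
    (h : centralizer ({y} : Set G) ≤ centralizer {x}) : y ∉ center G := fun hy =>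
  hx (cent_eq_top_iff.mp (top_le_iff.mp (cent_eq_top_iff.mpr hy ▸ h)))

theorem Free.cent_eq_of_le [Finite G] {x y : G} (hx : Free x) (hy : y ∉ center G)
    (h : centralizer ({x} : Set G) ≤ centralizer {y}) :
    centralizer ({x} : Set G) = centralizer {y} :=
  eq_of_le_of_index h (hx.2 y hy (Or.inl (index_dvd_of_le h))).symm

theorem Free.cent_eq_of_ge [Finite G] {x y : G} (hx : Free x)
    (h : centralizer ({y} : Set G) ≤ centralizer {x}) :
    centralizer ({y} : Set G) = centralizer {x} :=
  eq_of_le_of_index h (hx.2 y (notMem_center_of_le hx.1 h) (Or.inr (index_dvd_of_le h)))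

/-- A noncentral element commuting with a free element of coprime order has the same
centraliser. -/
theorem Free.cent_eq_of_coprime [Finite G] {x y : G} (hx : Free x) (hy : y ∉ center G)
    (hc : Commute x y) (ho : (orderOf x).Coprime (orderOf y)) :
    centralizer ({x} : Set G) = centralizer {y} := by
  have e := cent_mul_of_coprime hc ho
  have h1 : centralizer ({x * y} : Set G) = centralizer {x} :=
    hx.cent_eq_of_ge (e ▸ inf_le_left)
  exact hx.cent_eq_of_le hy (h1 ▸ e ▸ inf_le_right)

theorem Free.exists_primary [Finite G] {x : G} (hx : Free x) {s : ℕ} (hs : s.Prime)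
    (hd : s ∣ (center G).relIndex (centralizer ({x} : Set G))) :
    ∃ u : G, Free u ∧ (∃ k, orderOf u = s ^ k) ∧
      centralizer ({u} : Set G) = centralizer {x} := by
  obtain ⟨x', hx'x, hx'Z, t, ht, hk⟩ := exists_primary_notMem hx.1
  have e1 : centralizer ({x} : Set G) = centralizer {x'} :=
    hx.cent_eq_of_le hx'Z (cent_le_of_mem_zpowers hx'x)
  have hf : Free x' := hx.of_cidx hx'Z (by simp only [cidx, e1])
  by_cases hts : t = s
  · exact ⟨x', hf, hts ▸ hk, e1.symm⟩
  · obtain ⟨u, hu, huZ, hku⟩ := exists_pElem_of_dvd_relIndex hs hd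
    have hc : Commute x' u := (mem_cent_commute.mp (e1 ▸ hu)).symm
    have e2 := hf.cent_eq_of_coprime huZ hc (coprime_of_primary ht hs hts hk hku)
    exact ⟨u, hf.of_cidx huZ (by simp only [cidx, e2]), hku, e2.symm.trans e1.symm⟩

theorem Free.cidx_eq_of_mem [Finite G] {x y : G} (hx : Free x) {r s : ℕ} (hr : r.Prime)
    (hs : s.Prime) (hrs : r ≠ s)
    (hrd : r ∣ (center G).relIndex (centralizer ({x} : Set G)))
    (hsd : s ∣ (center G).relIndex (centralizer ({x} : Set G)))
    (hy : y ∉ center G) (hyx : y ∈ centralizer ({x} : Set G)) : cidx y = cidx x := by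
  obtain ⟨u, hu, hku, eu⟩ := hx.exists_primary hr hrd
  obtain ⟨w, hw, hkw, ew⟩ := hx.exists_primary hs hsd
  obtain ⟨y', hy'y, hy'Z, t, ht, hk⟩ := exists_primary_notMem hy
  have hy'x : y' ∈ centralizer ({x} : Set G) := (zpowers_le.mpr hyx) hy'y
  have e : centralizer ({x} : Set G) = centralizer {y'} := by
    by_cases htr : r = t
    · have hst : s ≠ t := fun h => hrs (htr.trans h.symm)
      rw [← ew]
      exact hw.cent_eq_of_coprime hy'Z (mem_cent_commute.mp (ew ▸ hy'x)).symm
        (coprime_of_primary hs ht hst hkw hk)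
    · rw [← eu]
      exact hu.cent_eq_of_coprime hy'Z (mem_cent_commute.mp (eu ▸ hy'x)).symm
        (coprime_of_primary hr ht htr hku hk)
  refine hx.2 y hy (Or.inr ?_)
  have := cidx_dvd_of_mem_zpowers hy'y
  simpa only [cidx, e] using this

theorem Free.cidx_eq_of_not_dvd [Finite G] {x y : G} (hx : Free x) {r s : ℕ} (hr : r.Prime)
    (hs : s.Prime) (hrs : r ≠ s)
    (hrd : r ∣ (center G).relIndex (centralizer ({x} : Set G)))
    (hsd : s ∣ (center G).relIndex (centralizer ({x} : Set G)))
    (hy : y ∉ center G) (hsy : ¬ s ∣ cidx y) : cidx y = cidx x := by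
  have := Fact.mk hs
  obtain ⟨w, hw, hkw, ew⟩ := hx.exists_primary hs hsd
  obtain ⟨S, hS⟩ := (not_dvd_index_iff (p := s) (centralizer ({y} : Set G))).mp hsy
  obtain ⟨g, hg⟩ := exists_conj_mem_sylow S hkw
  have h1 : g * w * g⁻¹ ∈ centralizer ({y} : Set G) := hS hg
  have h2 : g⁻¹ * y * g ∈ centralizer ({x} : Set G) := by
    rw [← ew, ← mem_cent_conj]; exact mem_cent_symm.mp h1
  have h3 : g⁻¹ * y * g ∉ center G := by
    rw [← one_lt_cidx_iff, cidx_conj']; exact one_lt_cidx_iff.mpr hy
  rw [← cidx_conj' y g]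
  exact hx.cidx_eq_of_mem hr hs hrs hrd hsd h3 h2

/-- Numerical data. -/
structure Num (A B C : ℕ) : Prop where
  ab : A.Coprime B
  ac : A.Coprime C
  bc : B.Coprime C
  oa : Odd A
  ob : Odd B
  ec : 2 ∣ C
  ha : 1 < A
  hb : 1 < B
  hc : 2 < C

/-- The class size hypothesis. -/
structure Cs (G : Type*) [Group G] (A B C : ℕ) : Prop where
  mem : ∀ x : G, x ∉ center G →
    cidx x = B * C ∨ cidx x = A * C ∨ cidx x = A * B ∨ cidx x = 2 * (A * B)
  exBC : ∃ x : G, cidx x = B * C
  exAC : ∃ x : G, cidx x = A * C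
  exAB : ∃ x : G, cidx x = A * B

variable {A B C : ℕ}

theorem Num.symm (h : Num A B C) : Num B A C :=
  ⟨h.ab.symm, h.bc, h.ac, h.ob, h.oa, h.ec, h.hb, h.ha, h.hc⟩

theorem Cs.symm (h : Cs G A B C) : Cs G B A C :=
  ⟨fun x hx => by rw [mul_comm B A]; have := h.mem x hx; tauto, h.exAC, h.exBC,
    mul_comm A B ▸ h.exAB⟩

theorem Num.not_a_dvd (h : Num A B C) : ¬ A ∣ B * C := fun hd => by
  have := Nat.Coprime.eq_one_of_dvd (Nat.Coprime.mul_right h.ab h.ac) hd
  have := h.ha; omega

theorem Num.not_c_dvd (h : Num A B C) : ¬ C ∣ 2 * (A * B) := fun hd => by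
  have h1 : C ∣ 2 := (Nat.Coprime.mul_right h.ac.symm h.bc.symm).dvd_of_dvd_mul_right hd
  have := Nat.le_of_dvd two_pos h1
  have := h.hc; omega

theorem Num.one_lt_bc (h : Num A B C) : 1 < B * C := by
  have := h.hb; have := h.hc; nlinarith

theorem Num.one_lt_ab (h : Num A B C) : 1 < A * B := by
  have := h.hb; have := h.ha; nlinarith

theorem Cs.free [Finite G] (hn : Num A B C) (h : Cs G A B C) {x : G} (hx : cidx x = B * C) :
    Free x := by
  refine ⟨one_lt_cidx_iff.mp (hx ▸ hn.one_lt_bc), fun y hy hd => ?_⟩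
  rw [hx] at hd ⊢
  have ha := hn.not_a_dvd
  have hb := hn.symm.not_a_dvd
  have hc := hn.not_c_dvd
  rcases h.mem y hy with e | e | e | e
  · exact e
  · rw [e] at hd
    rcases hd with hd | hd
    · exact absurd ((Dvd.intro _ rfl).trans hd) ha
    · exact absurd ((Dvd.intro _ rfl).trans hd) hb
  · rw [e] at hd
    rcases hd with hd | hd
    · exact absurd ((Dvd.intro _ rfl).trans hd) ha
    · exact absurd (((Dvd.intro_left _ rfl).trans hd).mul_left 2) hc
  · rw [e] at hd
    rcases hd with hd | hd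
    · exact absurd ((((Dvd.intro _ rfl : A ∣ A * B)).mul_left 2).trans hd) ha
    · exact absurd ((Dvd.intro_left _ rfl).trans hd) hc

theorem rel_mul_cidx (x : G) :
    (center G).relIndex (centralizer ({x} : Set G)) * cidx x = (center G).index :=
  relIndex_mul_index (center_le_cent x)

/-- Step 1. -/
theorem Cs.index_center [Finite G] (hn : Num A B C) (h : Cs G A B C) :
    (center G).index = A * B * C := by
  obtain ⟨x, hx⟩ := h.exBC
  obtain ⟨y, hy⟩ := h.exAC
  obtain ⟨z, hz⟩ := h.exAB
  have ex := rel_mul_cidx x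
  have ey := rel_mul_cidx y
  have ez := rel_mul_cidx z
  rw [hx] at ex; rw [hy] at ey; rw [hz] at ez
  have d1 : A * B ∣ (center G).index := Dvd.intro_left _ ez
  have d2 : C ∣ (center G).index := (Dvd.intro_left _ rfl).trans (Dvd.intro_left _ ex)
  obtain ⟨m, hm⟩ : A * B * C ∣ (center G).index :=
    (Nat.Coprime.mul_left hn.ac hn.bc).mul_dvd_of_dvd_of_dvd d1 d2
  by_contra hne
  have hm1 : m ≠ 1 := fun e => hne (by rw [hm, e, mul_one])
  obtain ⟨s, hs, hsm⟩ := Nat.exists_prime_and_dvd hm1
  have hA := hn.ha; have hB := hn.hb; have hC := hn.hc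
  have rx : (center G).relIndex (centralizer ({x} : Set G)) = A * m :=
    Nat.eq_of_mul_eq_mul_right (show 0 < B * C by positivity) (by rw [ex, hm]; ring)
  have ry : (center G).relIndex (centralizer ({y} : Set G)) = B * m :=
    Nat.eq_of_mul_eq_mul_right (show 0 < A * C by positivity) (by rw [ey, hm]; ring)
  have fx := h.free hn hx
  have fy := h.symm.free hn.symm hy
  have fz : z ∉ center G := one_lt_cidx_iff.mp (hz ▸ hn.one_lt_ab)
  obtain ⟨r, hr, hrA⟩ := Nat.exists_prime_and_dvd hA.ne'
  obtain ⟨t, ht, htB⟩ := Nat.exists_prime_and_dvd hB.ne'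
  have nd : ∀ {p a b : ℕ}, p.Prime → a.Coprime b → p ∣ a → ¬ p ∣ b := fun hp hc h1 h2 =>
    hp.one_lt.ne' (Nat.eq_one_of_dvd_coprimes hc h1 h2)
  by_cases hsA : s ∣ A
  · have := fy.cidx_eq_of_not_dvd ht hs (fun e => nd hs hn.ab hsA (e ▸ htB))
      (ry ▸ htB.mul_right m) (ry ▸ hsm.mul_left B) fx.1
      (hx ▸ nd hs (Nat.Coprime.mul_right hn.ab hn.ac) hsA)
    rw [hx, hy] at this
    exact hn.not_a_dvd (this ▸ Dvd.intro _ rfl)
  have hrs : r ≠ s := fun e => hsA (e ▸ hrA)
  by_cases hsB : s ∣ B
  · have := fx.cidx_eq_of_not_dvd hr hs hrs (rx ▸ hrA.mul_right m) (rx ▸ hsm.mul_left A) fy.1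
      (hy ▸ nd hs (Nat.Coprime.mul_right hn.ab.symm hn.bc) hsB)
    rw [hx, hy] at this
    exact hn.not_a_dvd (this ▸ Dvd.intro _ rfl)
  · have := fx.cidx_eq_of_not_dvd hr hs hrs (rx ▸ hrA.mul_right m) (rx ▸ hsm.mul_left A) fz
      (hz ▸ fun hd => (hs.dvd_mul.mp hd).elim hsA hsB)
    rw [hx, hz] at this
    exact hn.not_a_dvd (this ▸ Dvd.intro _ rfl)

/-- `x` is good if every element commuting with it modulo the centre commutes with it. -/
def Good (x : G) : Prop := ∀ y : G, ⁅y, x⁆ ∈ center G → Commute y x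

theorem comap_cent_mk (x y : G) :
    y ∈ (centralizer ({(x : G ⧸ center G)} : Set (G ⧸ center G))).comap
      (QuotientGroup.mk' (center G)) ↔ ⁅y, x⁆ ∈ center G := by
  rw [mem_comap, mem_cent_commute, ← commutatorElement_eq_one_iff_commute,
    QuotientGroup.mk'_apply, ← QuotientGroup.eq_one_iff]
  rfl

theorem cidx_mk_eq_comap (x : G) : cidx (x : G ⧸ center G) =
    ((centralizer ({(x : G ⧸ center G)} : Set (G ⧸ center G))).comap
      (QuotientGroup.mk' (center G))).index :=
  (index_comap_of_surjective _ (QuotientGroup.mk'_surjective _)).symm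

theorem good_iff [Finite G] (x : G) : Good x ↔ cidx (x : G ⧸ center G) = cidx x := by
  have hle : centralizer ({x} : Set G) ≤ (centralizer ({(x : G ⧸ center G)} :
      Set (G ⧸ center G))).comap (QuotientGroup.mk' (center G)) := fun y hy => by
    rw [comap_cent_mk, commutatorElement_eq_one_iff_commute.mpr (mem_cent_commute.mp hy)]
    exact one_mem _
  rw [cidx_mk_eq_comap]
  constructor
  · intro h
    congr 1
    exact le_antisymm (fun y hy => mem_cent_commute.mpr (h y ((comap_cent_mk x y).mp hy))) hle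
  · intro h y hy
    have := eq_of_le_of_index hle h.symm
    exact mem_cent_commute.mp (this ▸ (comap_cent_mk x y).mpr hy)

theorem pow_rel_mem_center [Finite G] (x : G) :
    x ^ (center G).relIndex (centralizer ({x} : Set G)) ∈ center G := by
  have := pow_index_mem (H := (center G).subgroupOf (centralizer ({x} : Set G)))
    ⟨x, self_mem_cent x⟩
  exact this

theorem commutator_pow_of_central {x y : G} (h : ⁅y, x⁆ ∈ center G) (n : ℕ) :
    ⁅y ^ n, x⁆ = ⁅y, x⁆ ^ n ∧ ⁅y, x ^ n⁆ = ⁅y, x⁆ ^ n := by
  have hz := mem_center_iff.mp h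
  induction n with
  | zero => simp
  | succ n ih =>
    constructor
    · have : ⁅y ^ (n + 1), x⁆ = y * ⁅y ^ n, x⁆ * y⁻¹ * ⁅y, x⁆ := by
        simp only [commutatorElement_def, pow_succ']; group
      rw [this, ih.1, ((Commute.pow_right (hz y) n)).eq, pow_succ]; group
    · have : ⁅y, x ^ (n + 1)⁆ = ⁅y, x⁆ * (x * ⁅y, x ^ n⁆ * x⁻¹) := by
        simp only [commutatorElement_def, pow_succ']; group
      rw [this, ih.2, ((Commute.pow_right (hz x) n)).eq, pow_succ']; group

theorem good_of_coprime [Finite G] {x : G}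
    (h : ((center G).relIndex (centralizer ({x} : Set G))).Coprime (cidx x)) : Good x := by
  intro y hy
  rw [← mem_cent_commute]
  refine mem_of_pow_mem_of_coprime_index (n := (center G).relIndex (centralizer ({x} : Set G)))
    ?_ ?_ h
  · have e : y * x * y⁻¹ = x * ⁅y, x⁆ := by
      rw [mem_center_iff.mp hy x, commutatorElement_def]; group
    rw [mem_normalizer_iff]
    intro g
    have e2 : y * g * y⁻¹ ∈ centralizer ({y * x * y⁻¹} : Set G) ↔
        g ∈ centralizer ({x} : Set G) := by
      rw [mem_cent_conj]; simp only [mul_assoc, inv_mul_cancel, mul_one, inv_mul_cancel_left]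
    rw [e, cent_mul_center hy] at e2
    exact e2.symm
  · rw [mem_cent_commute, ← commutatorElement_eq_one_iff_commute,
      (commutator_pow_of_central hy _).1, ← (commutator_pow_of_central hy _).2,
      commutatorElement_eq_one_iff_commute]
    exact mem_center_iff.mp (pow_rel_mem_center x) y

theorem mk_ne_one {x : G} : (x : G ⧸ center G) ≠ 1 ↔ x ∉ center G := by
  rw [Ne, QuotientGroup.eq_one_iff]

theorem Cs.rel_BC [Finite G] (hn : Num A B C) (h : Cs G A B C) {x : G} (hx : cidx x = B * C) :
    (center G).relIndex (centralizer ({x} : Set G)) = A := by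
  have e := rel_mul_cidx x
  rw [h.index_center hn, hx] at e
  have := hn.one_lt_bc
  exact Nat.eq_of_mul_eq_mul_right (show 0 < B * C by omega) (by rw [e]; ring)

theorem Cs.rel_AB [Finite G] (hn : Num A B C) (h : Cs G A B C) {x : G} (hx : cidx x = A * B) :
    (center G).relIndex (centralizer ({x} : Set G)) = C := by
  have e := rel_mul_cidx x
  rw [h.index_center hn, hx] at e
  have := hn.one_lt_ab
  exact Nat.eq_of_mul_eq_mul_right (show 0 < A * B by omega) (by rw [e]; ring)

theorem Cs.rel_AB2 [Finite G] (hn : Num A B C) (h : Cs G A B C) {x : G}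
    (hx : cidx x = 2 * (A * B)) :
    2 * (center G).relIndex (centralizer ({x} : Set G)) = C := by
  have e := rel_mul_cidx x
  rw [h.index_center hn, hx] at e
  have := hn.one_lt_ab
  exact Nat.eq_of_mul_eq_mul_right (show 0 < A * B by omega) (by rw [mul_comm C, ← e]; ring)

theorem Cs.good_BC [Finite G] (hn : Num A B C) (h : Cs G A B C) {x : G} (hx : cidx x = B * C) :
    Good x :=
  good_of_coprime (by rw [h.rel_BC hn hx, hx]; exact Nat.Coprime.mul_right hn.ab hn.ac)

theorem Cs.good_AB [Finite G] (hn : Num A B C) (h : Cs G A B C) {x : G} (hx : cidx x = A * B) :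
    Good x :=
  good_of_coprime (by rw [h.rel_AB hn hx, hx]; exact Nat.Coprime.mul_right hn.ac.symm hn.bc.symm)

/-- Elements of type `2AB` have image of type `AB` or `2AB`. -/
theorem Cs.cidx_mk_AB2 [Finite G] (hn : Num A B C) (h : Cs G A B C) {x : G}
    (hx : cidx x = 2 * (A * B)) :
    cidx (x : G ⧸ center G) = A * B ∨ cidx (x : G ⧸ center G) = 2 * (A * B) := by
  set D := (centralizer ({(x : G ⧸ center G)} : Set (G ⧸ center G))).comap
      (QuotientGroup.mk' (center G)) with hD
  have hle : centralizer ({x} : Set G) ≤ D := fun y hy => by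
    rw [hD, comap_cent_mk, commutatorElement_eq_one_iff_commute.mpr (mem_cent_commute.mp hy)]
    exact one_mem _
  have e1 : (centralizer ({x} : Set G)).relIndex D * D.index = 2 * (A * B) := by
    rw [relIndex_mul_index hle]; exact hx
  rw [cidx_mk_eq_comap, ← hD]
  -- the relative index is coprime to `A * B`
  have hcop : ((centralizer ({x} : Set G)).relIndex D).Coprime (A * B) := by
    refine Nat.coprime_of_dvd fun p hp hp1 hp2 => ?_
    have := Fact.mk hp
    have hnorm : ((centralizer ({x} : Set G)).subgroupOf D).Normal := by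
      refine ⟨fun g hg y => ?_⟩
      have hy : ⁅(y : G), x⁆ ∈ center G := (comap_cent_mk x y).mp y.2
      have e : (y : G) * x * (y : G)⁻¹ = x * ⁅(y : G), x⁆ := by
        rw [mem_center_iff.mp hy x, commutatorElement_def]; group
      rw [mem_subgroupOf] at hg ⊢
      rw [← cent_mul_center hy, ← e, mem_cent_conj]
      simpa [mul_assoc] using hg
    obtain ⟨g, hg⟩ := exists_prime_orderOf_dvd_card' (G := D ⧸ (centralizer ({x} : Set G)).subgroupOf D)
      p hp1
    obtain ⟨y, rfl⟩ := QuotientGroup.mk_surjective g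
    have hy : ⁅(y : G), x⁆ ∈ center G := (comap_cent_mk x y).mp y.2
    have h1 : (y : D ⧸ (centralizer ({x} : Set G)).subgroupOf D) ^ C = 1 := by
      rw [← QuotientGroup.mk_pow, QuotientGroup.eq_one_iff, mem_subgroupOf, coe_pow,
        mem_cent_commute, ← commutatorElement_eq_one_iff_commute,
        (commutator_pow_of_central hy _).1, ← (commutator_pow_of_central hy _).2,
        commutatorElement_eq_one_iff_commute, ← h.rel_AB2 hn hx, mul_comm 2, pow_mul]
      exact mem_center_iff.mp (pow_mem (pow_rel_mem_center x) 2) y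
    have h2 : p ∣ C := hg ▸ orderOf_dvd_of_pow_eq_one h1
    exact hp.one_lt.ne' (Nat.eq_one_of_dvd_coprimes (Nat.Coprime.mul_left hn.ac hn.bc) hp2 h2)
  have h2 : (centralizer ({x} : Set G)).relIndex D ∣ 2 :=
    hcop.dvd_of_dvd_mul_right (Dvd.intro _ e1)
  rcases (Nat.dvd_prime Nat.prime_two).mp h2 with e | e
  · right; rw [e, one_mul] at e1; exact e1
  · left; rw [e] at e1; omega

/-- Step 2: the data in the central quotient. -/
theorem Cs.cidx_quot [Finite G] (hn : Num A B C) (h : Cs G A B C) (x : G ⧸ center G)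
    (hx : x ≠ 1) : cidx x = B * C ∨ cidx x = A * C ∨ cidx x = A * B ∨ cidx x = 2 * (A * B) := by
  obtain ⟨x, rfl⟩ := QuotientGroup.mk_surjective x
  rcases h.mem x (mk_ne_one.mp hx) with e | e | e | e
  · exact Or.inl (((good_iff x).mp (h.good_BC hn e)).trans e)
  · exact Or.inr (Or.inl (((good_iff x).mp (h.symm.good_BC hn.symm e)).trans e))
  · exact Or.inr (Or.inr (Or.inl (((good_iff x).mp (h.good_AB hn e)).trans e)))
  · exact Or.inr (Or.inr (h.cidx_mk_AB2 hn e))

theorem Cs.card_quot [Finite G] (hn : Num A B C) (h : Cs G A B C) :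
    Nat.card (G ⧸ center G) = A * B * C := h.index_center hn

/-- A conjugation invariant set all of whose class sizes are divisible by `k` has
cardinality divisible by `k`. -/
theorem dvd_card_of_conj [Finite G] (S : Finset G) (k : ℕ)
    (hS : ∀ x ∈ S, ∀ g : G, g * x * g⁻¹ ∈ S) (hk : ∀ x ∈ S, k ∣ cidx x) : k ∣ S.card := by
  classical
  have := Fintype.ofFinite G
  rw [Finset.card_eq_sum_card_fiberwise (f := fun x => ConjClasses.mk x)
    (t := S.image ConjClasses.mk) fun x hx => Finset.mem_image_of_mem _ hx]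
  refine Finset.dvd_sum fun c hc => ?_
  obtain ⟨x, hx, rfl⟩ := Finset.mem_image.mp hc
  have e : (S.filter fun y => ConjClasses.mk y = ConjClasses.mk x).card = cidx x := by
    rw [cidx, ← natCard_carrier_mk, ← Nat.card_eq_finsetCard]
    refine Nat.card_congr (Equiv.subtypeEquivRight fun y => ?_)
    rw [Finset.mem_filter, ConjClasses.mem_carrier_iff_mk_eq]
    refine ⟨fun h => h.2, fun h => ⟨?_, h⟩⟩
    obtain ⟨c, rfl⟩ := isConj_iff.mp (ConjClasses.mk_eq_mk_iff_isConj.mp h).symm
    exact hS x hx c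
  exact e ▸ hk x hx

/-- Counting the elements of a normal subgroup. -/
theorem card_normal [Finite G]
    (h : ∀ x : G, x ≠ 1 → B * C ∣ cidx x ∨ A * C ∣ cidx x ∨ A * B ∣ cidx x)
    (N : Subgroup G) [hN : N.Normal] :
    ∃ α β γ : ℕ, Nat.card N = 1 + α * (B * C) + β * (A * C) + γ * (A * B) := by
  classical
  have := Fintype.ofFinite G
  set S := Finset.univ.filter fun x : G => x ∈ N ∧ x ≠ 1 with hS
  have hne : ∀ x g : G, x ≠ 1 → g * x * g⁻¹ ≠ 1 := fun x g hx e => hx (by simpa using e)
  have mem : ∀ x, x ∈ S ↔ x ∈ N ∧ x ≠ 1 := fun x => by simp [hS]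
  have hSc : ∀ x ∈ S, ∀ g : G, g * x * g⁻¹ ∈ S := fun x hx g =>
    (mem _).mpr ⟨hN.conj_mem x ((mem x).mp hx).1 g, hne x g ((mem x).mp hx).2⟩
  have e0 : Nat.card N = 1 + S.card := by
    have : (Finset.univ.filter fun x : G => x ∈ N) = insert 1 S := by
      ext x
      simp only [Finset.mem_filter, Finset.mem_univ, true_and, Finset.mem_insert, mem]
      by_cases hx : x = 1
      · simp [hx, one_mem]
      · simp [hx]
    rw [add_comm, ← Finset.card_insert_of_notMem (show (1 : G) ∉ S by simp [mem]), ← this,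
      ← Nat.card_eq_finsetCard]
    exact Nat.card_congr (Equiv.subtypeEquivRight fun y => by simp)
  obtain ⟨α, hα⟩ := dvd_card_of_conj (S.filter fun x => B * C ∣ cidx x) (B * C)
    (fun x hx g => by
      rw [Finset.mem_filter] at hx ⊢
      exact ⟨hSc x hx.1 g, cidx_conj x g ▸ hx.2⟩)
    fun x hx => (Finset.mem_filter.mp hx).2
  obtain ⟨β, hβ⟩ := dvd_card_of_conj
    ((S.filter fun x => ¬ B * C ∣ cidx x).filter fun x => A * C ∣ cidx x) (A * C)
    (fun x hx g => by
      rw [Finset.mem_filter, Finset.mem_filter] at hx ⊢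
      exact ⟨⟨hSc x hx.1.1 g, cidx_conj x g ▸ hx.1.2⟩, cidx_conj x g ▸ hx.2⟩)
    fun x hx => (Finset.mem_filter.mp hx).2
  obtain ⟨γ, hγ⟩ := dvd_card_of_conj
    ((S.filter fun x => ¬ B * C ∣ cidx x).filter fun x => ¬ A * C ∣ cidx x) (A * B)
    (fun x hx g => by
      rw [Finset.mem_filter, Finset.mem_filter] at hx ⊢
      exact ⟨⟨hSc x hx.1.1 g, cidx_conj x g ▸ hx.1.2⟩, cidx_conj x g ▸ hx.2⟩)
    fun x hx => by
      rw [Finset.mem_filter, Finset.mem_filter] at hx
      have := h x ((mem x).mp hx.1.1).2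
      tauto
  refine ⟨α, β, γ, ?_⟩
  have e1 := Finset.card_filter_add_card_filter_not (s := S) fun x => B * C ∣ cidx x
  have e2 := Finset.card_filter_add_card_filter_not
    (s := S.filter fun x => ¬ B * C ∣ cidx x) fun x => A * C ∣ cidx x
  rw [e0, ← e1, ← e2, hα, hβ, hγ]; ring

/-- Step 4: involution centralisers have normal `2`-complements. -/
theorem two_nilpotent [Finite G] (hn : Num A B C) (hcard : Nat.card G = A * B * C)
    (h : ∀ x : G, x ≠ 1 →
      cidx x = B * C ∨ cidx x = A * C ∨ cidx x = A * B ∨ cidx x = 2 * (A * B))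
    {t : G} (ht : orderOf t = 2) :
    Cfsg.HasNormalPComplement 2 (centralizer ({t} : Set G)) := by
  have hA := hn.ha; have hB := hn.hb; have hC := hn.hc
  have key : ∀ x : G, x ≠ 1 → t ∈ centralizer ({x} : Set G) →
      cidx x = A * B ∨ cidx x = 2 * (A * B) := fun x hx htx => by
    have h2 : 2 ∣ Nat.card (centralizer ({x} : Set G)) := ht ▸ orderOf_dvd_natCard _ htx
    have e := card_cent_mul_cidx x
    rw [hcard] at e
    rcases h x hx with e' | e' | e'
    · rw [e'] at e
      have : Nat.card (centralizer ({x} : Set G)) = A :=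
        Nat.eq_of_mul_eq_mul_right (show 0 < B * C by positivity) (by rw [e]; ring)
      exact absurd (this ▸ h2) hn.oa.not_two_dvd_nat
    · rw [e'] at e
      have : Nat.card (centralizer ({x} : Set G)) = B :=
        Nat.eq_of_mul_eq_mul_right (show 0 < A * C by positivity) (by rw [e]; ring)
      exact absurd (this ▸ h2) hn.ob.not_two_dvd_nat
    · exact e'
  have ht1 : t ≠ 1 := by rintro rfl; simp at ht
  have comm : ∀ w v : G, w ∈ centralizer ({t} : Set G) → v ∈ centralizer ({t} : Set G) →
      (orderOf w).Coprime 2 → (orderOf v).Coprime 2 → Commute v w := fun w v hw hv ow ov => by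
    have hc : Commute t w := (mem_cent_commute.mp hw).symm
    have co : (orderOf t).Coprime (orderOf w) := ht ▸ ow.symm
    have e := cidx_mul_of_coprime hc co
    have hne : t * w ≠ 1 := fun e1 => by
      rw [eq_inv_of_mul_eq_one_right e1, orderOf_inv, ht] at ow
      simp at ow
    have h1 := key (t * w) hne (mem_cent_commute.mpr ((Commute.refl t).mul_right hc))
    have h2 := key t ht1 (self_mem_cent t)
    have hpos : 0 < A * B := by positivity
    have hr : (centralizer ({w} : Set G)).relIndex (centralizer ({t} : Set G)) = 1 ∨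
        (centralizer ({w} : Set G)).relIndex (centralizer ({t} : Set G)) = 2 := by
      generalize (centralizer ({w} : Set G)).relIndex (centralizer ({t} : Set G)) = k at e ⊢
      generalize A * B = m at *
      rcases h1 with h1 | h1 <;> rcases h2 with h2 | h2 <;> rw [h1, h2] at e
      · left; nlinarith
      · exfalso; rcases k with _ | k <;> nlinarith
      · right; nlinarith
      · left; nlinarith
    rcases hr with hr | hr
    · exact mem_cent_commute.mp (relIndex_eq_one.mp hr hv)
    · have hi : ((centralizer ({w} : Set G)).subgroupOf (centralizer ({t} : Set G))).index = 2 :=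
        hr
      have := normal_of_index_eq_two hi
      have h3 := pow_index_mem (H := (centralizer ({w} : Set G)).subgroupOf
        (centralizer ({t} : Set G))) ⟨v, hv⟩
      rw [hi, mem_subgroupOf] at h3
      have h4 : v ∈ zpowers (v ^ 2) := mem_zpowers_pow_iff.mpr ov.symm
      exact mem_cent_commute.mp ((zpowers_le.mpr h3) h4)
  rw [GT.Tr.hasNormalPComplement_iff_mul_coprime]
  intro x y hx hy
  rw [← orderOf_coe] at hx hy ⊢
  have hc : Commute (x : G) y := comm y x y.2 x.2 hy hx
  exact Nat.Coprime.coprime_dvd_left hc.orderOf_mul_dvd_mul_orderOf (Nat.Coprime.mul_left hx hy)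

end Cfsg.Agent.FG.CsL2
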