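import Mathlib
import Cfsg.Prelude.Def_TwoFusion
import Cfsg.Agent.FG.H92Basic
import Cfsg.Agent.GT.TransferTate
import Cfsg.Agent.GT.PGroupChain

/-! `p`-nilpotence criteria relative to strongly closed subgroups. -/

set_option autoImplicit false
open Cfsg

namespace Cfsg.Agent.FG.H92

open Subgroup Cfsg.Agent.GT

variable {G : Type*} [Group G] [Finite G] {p : ℕ} [Fact p.Prime]

theorem mem_centralizer_of_pnilp {L Q : Subgroup G} (hL : HasNormalPComplement p L)
    (hQ : IsPGroup p Q) (hQL : Q ≤ L) {g : G} (hg : g ∈ L) (hn : g ∈ normalizer (Q : Set G))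
    (hc : (orderOf g).Coprime p) : g ∈ centralizer (Q : Set G) := by
  have h := hL.mem_centralizer (Q := Q.subgroupOf L) hQ.comap_subtype (g := ⟨g, hg⟩)
    (by rw [← subgroupOf_normalizer_eq hQL]; exact hn)
    (by rw [← Subgroup.orderOf_coe]; exact hc)
  rw [centralizer_subgroupOf_of_le hQL] at h
  exact h

/-- Frattini argument for a strongly closed subgroup. -/
theorem frattini_strongly_closed {M T K W : Subgroup G} (hT : IsPGroup p T)
    (hi : ¬ p ∣ T.relIndex M) (hKM : K ≤ M) (hn : M ≤ normalizer (K : Set G))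
    (hWT : W ≤ T) (hWK : W ≤ K)
    (hW : ∀ x ∈ W, ∀ m ∈ M, m * x * m⁻¹ ∈ T → m * x * m⁻¹ ∈ W) {m : G} (hm : m ∈ M) :
    ∃ k ∈ K, k * m ∈ normalizer (W : Set G) := by
  obtain ⟨k, hk, h⟩ := Tr.exists_conj_le_sylowIn (S := T ⊓ K) (H := K) (hT.to_le inf_le_left)
    (Tr.not_dvd_relIndex_inf_of_normal hi hT hKM hn)
    (Tr.isPGroup_map_conj (hT.to_le hWT) m) (map_conj_le_of_mem_normalizer hWK (hn hm))
  refine ⟨k, hk, mem_normalizer_iff_of_finite.2 fun x hx => hW x hx _ (M.mul_mem (hKM hk) hm) ?_⟩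
  have := (h _ (conj_mem_map_conj.2 hx)).1
  simpa [mul_assoc] using this

theorem mem_of_frattini_strongly_closed {M T K W : Subgroup G} (hT : IsPGroup p T)
    (hi : ¬ p ∣ T.relIndex M) (hKM : K ≤ M) (hn : M ≤ normalizer (K : Set G))
    (hWT : W ≤ T) (hWK : W ≤ K)
    (hW : ∀ x ∈ W, ∀ m ∈ M, m * x * m⁻¹ ∈ T → m * x * m⁻¹ ∈ W)
    (h : ∀ g ∈ M, g ∈ normalizer (W : Set G) → (orderOf g).Coprime p → g ∈ K) {g : G}
    (hg : g ∈ M) (hc : (orderOf g).Coprime p) : g ∈ K := by
  obtain ⟨k, hk, hkg⟩ := frattini_strongly_closed hT hi hKM hn hWT hWK hW hg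
  obtain ⟨a, ha, b, hb, ⟨j, hj⟩, hbo, hab⟩ := Tr.exists_pPart_mul_pPrimePart (p := p) (k * g)
  have hkgM : zpowers (k * g) ≤ M := zpowers_le_of_mem (M.mul_mem (hKM hk) hg)
  have hbK := h b (hkgM hb) (zpowers_le_of_mem hkg hb) hbo
  have : (K.subgroupOf M).Normal := (normal_subgroupOf_iff_le_normalizer hKM).2 hn
  have e : ((⟨g, hg⟩ : M) : M ⧸ K.subgroupOf M) = (⟨a, hkgM ha⟩ : M) := by
    rw [QuotientGroup.eq, mem_subgroupOf]
    change g⁻¹ * a ∈ K
    have : g⁻¹ * a = g⁻¹ * k * g * b⁻¹ := by rw [mul_assoc g⁻¹, hab]; group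
    rw [this]
    exact K.mul_mem (conj_mem_of_mem_normalizer' (hn hg) hk) (K.inv_mem hbK)
  have h1 : orderOf ((⟨g, hg⟩ : M) : M ⧸ K.subgroupOf M) ∣ orderOf g := by
    rw [← Subgroup.orderOf_mk g hg]; exact orderOf_map_dvd (QuotientGroup.mk' _) _
  have h2 : orderOf ((⟨g, hg⟩ : M) : M ⧸ K.subgroupOf M) ∣ p ^ j := by
    rw [e, ← hj, ← Subgroup.orderOf_mk a (hkgM ha)]; exact orderOf_map_dvd (QuotientGroup.mk' _) _
  have h3 := Nat.eq_one_of_dvd_coprimes (hc.pow_right j) h1 h2
  rw [orderOf_eq_one_iff, QuotientGroup.eq_one_iff] at h3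
  exact h3

theorem le_normalizer_of_stronglyClosed {R P : Subgroup G} (h : IsStronglyClosed R P) :
    P ≤ normalizer (R : Set G) := fun g hg => mem_normalizer_iff_of_finite.2 fun x hx =>
  h.2 x hx g (P.mul_mem (P.mul_mem hg (h.1 hx)) (P.inv_mem hg))

theorem pnilp_of_stronglyClosed (P : Sylow p G) {R : Subgroup G}
    (hR : IsStronglyClosed R (P : Subgroup G)) (hR0 : R ≠ ⊥)
    (h : ∀ V : Subgroup G, V ≤ R → V ≠ ⊥ → HasNormalPComplement p (normalizer (V : Set G))) :
    HasNormalPComplement p G := by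
  apply Tr.frobenius_of_fullyNormalized P
  intro Q hQ _ hi g hg hc
  have hQp := P.isPGroup'.to_le hQ
  have hQR : Q ≤ normalizer (R : Set G) := hQ.trans (le_normalizer_of_stronglyClosed hR)
  refine mem_of_frattini_strongly_closed (W := R ⊓ centralizer (Q : Set G))
    (P.isPGroup'.to_le inf_le_left) hi (centralizer_le_normalizer _)
    (Tr.normalizer_le_normalizer_centralizer Q)
    (le_inf (inf_le_left.trans hR.1) (inf_le_right.trans (centralizer_le_normalizer _)))
    inf_le_right ?_ ?_ hg hc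
  · intro x hx m hm hmx
    exact ⟨hR.2 x hx.1 m hmx.1,
      conj_mem_of_mem_normalizer (Tr.normalizer_le_normalizer_centralizer Q hm) hx.2⟩
  · intro y hy hyW hyc
    refine mem_centralizer_of_pnilp (h _ inf_le_left ?_) hQp ?_ hyW hy hyc
    · exact PG.inf_centralizer_ne_bot_of_isPGroup (P.isPGroup'.to_le hR.1) hQp hQR hR0
    · exact PG.le_normalizer_inf hQR (PG.le_normalizer_centralizer le_normalizer)

theorem pnilp_of_quotient_of_centralize (U : Subgroup G) [U.Normal]
    (h1 : HasNormalPComplement p (G ⧸ U))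
    (h2 : ∀ g : G, (orderOf g).Coprime p → g ∈ centralizer (U : Set G)) :
    HasNormalPComplement p G := by
  apply Tr.hasNormalPComplement_of_pResidual_le (Tr.pResidual_le_iff.2 h2)
  let f := (QuotientGroup.mk' U).comp (centralizer (U : Set G)).subtype
  apply Tr.hasNormalPComplement_of_quotient_of_le_center f.ker
  · intro x hx
    rw [mem_center_iff]
    intro y
    exact Subtype.ext (y.2 x ((QuotientGroup.eq_one_iff _).1 hx)).symm
  · exact h1.of_injective (QuotientGroup.kerLift f) (QuotientGroup.kerLift_injective f)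

theorem pnilp_of_stronglyClosed_normal (P : Sylow p G) {R : Subgroup G} (U : Subgroup G) [U.Normal]
    (hR : IsStronglyClosed R (P : Subgroup G)) (hUR : U ≤ R)
    (hC : ¬ R ⊓ centralizer (U : Set G) ≤ U)
    (h : ∀ V : Subgroup G, V ≤ R → U < V → HasNormalPComplement p (normalizer (V : Set G))) :
    HasNormalPComplement p G := by
  have hUP : U ≤ P := hUR.trans hR.1
  apply pnilp_of_quotient_of_centralize U
  · apply pnilp_of_stronglyClosed (P.mapSurjective (QuotientGroup.mk'_surjective U))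
      (R := R.map (QuotientGroup.mk' U))
    · refine ⟨Subgroup.map_mono hR.1, ?_⟩
      rintro _ ⟨x, hx, rfl⟩ g hg
      obtain ⟨g, rfl⟩ := QuotientGroup.mk'_surjective U g
      rw [← map_inv, ← map_mul, ← map_mul] at hg ⊢
      apply mem_map_of_mem
      apply hR.2 x hx g
      have : g * x * g⁻¹ ∈ (P : Subgroup G) ⊔ U := by
        rw [← comap_map_mk']; exact hg
      rwa [sup_eq_left.2 hUP] at this
    · rw [Ne, map_mk'_eq_bot_iff]
      exact fun h1 => hC (inf_le_left.trans h1)
    · intro V hV hV0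
      have h1 := h (V.comap (QuotientGroup.mk' U))
        (by refine (comap_mono hV).trans ?_
            rw [comap_map_mk', sup_eq_left.2 hUR])
        (lt_of_le_of_ne (le_comap_mk' V) fun h2 => hV0 (by
          rw [← map_comap_mk' V, ← h2, map_mk'_eq_bot_iff]))
      have h2 := h1.map (QuotientGroup.mk' U)
      refine h2.of_le fun x hx => ?_
      obtain ⟨x, rfl⟩ := QuotientGroup.mk'_surjective U x
      apply mem_map_of_mem
      exact le_normalizer_comap_of_map_le (H := zpowers x)
        (by rw [MonoidHom.map_zpowers]; exact zpowers_le_of_mem hx) (mem_zpowers x)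
  · intro g hc
    have hW : U < R ⊓ (U ⊔ centralizer (U : Set G)) :=
      lt_of_le_of_ne (le_inf hUR le_sup_left) fun h1 =>
        hC ((inf_le_inf_left R le_sup_right).trans h1.ge)
    have h1 : g ∈ U ⊔ centralizer (U : Set G) := by
      refine mem_of_frattini_strongly_closed (M := ⊤) (W := R ⊓ (U ⊔ centralizer (U : Set G)))
        P.isPGroup' (by rw [relIndex_top_right]; exact P.not_dvd_index) le_top
        le_normalizer_of_normal (inf_le_left.trans hR.1) inf_le_right ?_ ?_ (mem_top g) hc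
      · intro x hx m _ hmx
        exact ⟨hR.2 x hx.1 m hmx, Subgroup.Normal.conj_mem inferInstance _ hx.2 m⟩
      · intro y _ hyW hyc
        exact mem_sup_right (mem_centralizer_of_pnilp (h _ inf_le_left hW)
          (P.isPGroup'.to_le hUP) (hW.le.trans le_normalizer) hyW
          (le_normalizer_of_normal (mem_top y)) hyc)
    have h2 := isPGroup_quotient_of_sup (G := (U ⊔ centralizer (U : Set G) : Subgroup G))
      (P := U.subgroupOf _) (N := (centralizer (U : Set G)).subgroupOf _)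
      (P.isPGroup'.to_le hUP).comap_subtype
      (by rw [← subgroupOf_sup le_sup_left le_sup_right, subgroupOf_self])
    exact Tr.pResidual_le_of_isPGroup_quotient h2 (Tr.mem_pResidual (g := ⟨g, h1⟩)
      (by rw [← Subgroup.orderOf_coe]; exact hc))

end Cfsg.Agent.FG.H92
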