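import Mathlib
import Cfsg.Agent.GW.Struct
import Cfsg.Agent.GW.QuatA
import Cfsg.Agent.GW.Sect
import Cfsg.Agent.GW.Cover
import Cfsg.Agent.CIT.CAStruct
import Cfsg.Agent.GT.TransferCocycle
import Cfsg.Agent.GT.ZassenhausThm
import Cfsg.Agent.Inv.QD
import Cfsg.Agent.Blk.ZStar
import Cfsg.Agent.S3224

/-!
# Involutions whose centralizer is a generalized dihedral group

`C(j) = H` has a subgroup `A` outside of which all elements are involutions.
-/

set_option autoImplicit false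

namespace Cfsg.Agent.FG.DG

open Subgroup Cfsg.Agent.GT Cfsg.Agent.GW Cfsg.Agent.Inv Cfsg.Agent.Inv.Fz Cfsg.Agent.Inv.SE
open Cfsg.Agent.Cl Cfsg.Agent.CIT.CA
open scoped MatrixGroups

universe u

/-- `G ≅ PSL₂(q)` or `PGL₂(q)`, `q > 3`. -/
def PP (G : Type*) [Group G] : Prop :=
  ∃ (F : Type) (_ : Field F) (_ : Fintype F), 3 < Fintype.card F ∧
    (Nonempty (G ≃* Matrix.ProjectiveSpecialLinearGroup (Fin 2) F) ∨
      Nonempty (G ≃* Matrix.ProjGenLinGroup (Fin 2) F))

/-- The conclusion: `PP (G/N)` with `|N|` odd or twice an odd number. -/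
def Res (G : Type*) [Group G] : Prop :=
  ∃ (N : Subgroup G) (_ : N.Normal), (Odd (Nat.card N) ∨ ∃ m : ℕ, Odd m ∧ Nat.card N = 2 * m) ∧
    PP (G ⧸ N)

theorem PP.of_equiv {X Y : Type*} [Group X] [Group Y] (h : PP X) (e : X ≃* Y) : PP Y := by
  obtain ⟨F, _, _, h1, ⟨⟨f⟩⟩ | ⟨⟨f⟩⟩⟩ := h
  · exact ⟨F, _, _, h1, Or.inl ⟨e.symm.trans f⟩⟩
  · exact ⟨F, _, _, h1, Or.inr ⟨e.symm.trans f⟩⟩

theorem PP.res {X : Type*} [Group X] (h : PP X) : Res X :=
  ⟨⊥, inferInstance, Or.inl (by simp), h.of_equiv QuotientGroup.quotientBot.symm⟩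

theorem Res.of_quot {G : Type*} [Group G] [Finite G] {O : Subgroup G} [O.Normal]
    (hO : Odd (Nat.card O)) (h : Res (G ⧸ O)) : Res G := by
  obtain ⟨N, _, h1, h2⟩ := h
  let f : G →* (G ⧸ O) ⧸ N := (QuotientGroup.mk' N).comp (QuotientGroup.mk' O)
  have hf : Function.Surjective f :=
    (QuotientGroup.mk'_surjective N).comp (QuotientGroup.mk'_surjective O)
  have hc : Nat.card f.ker = Nat.card N * Nat.card O := by
    have e1 := f.ker.card_mul_index
    rw [index_ker, MonoidHom.range_eq_top.2 hf, card_top, ← O.card_mul_index, index_eq_card,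
      ← N.card_mul_index, index_eq_card] at e1
    refine Nat.eq_of_mul_eq_mul_right (Nat.card_pos (α := (G ⧸ O) ⧸ N)) ?_
    rw [e1]; ring
  refine ⟨f.ker, inferInstance, ?_, h2.of_equiv (QuotientGroup.quotientKerEquivOfSurjective f hf).symm⟩
  rw [hc]
  rcases h1 with h1 | ⟨m, hm, h1⟩
  · exact Or.inl (h1.mul hO)
  · exact Or.inr ⟨_, hm.mul hO, by rw [h1, mul_assoc]⟩

section Basic

variable {G : Type*} [Group G] {H A : Subgroup G} (hAH : A ≤ H)
  (hD : ∀ x ∈ H, x ∉ A → x ^ 2 = 1) {x a b : G}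
include hAH hD

theorem inv_of_out (hx : x ∈ H) (hxA : x ∉ A) (ha : a ∈ A) : x * a * x⁻¹ = a⁻¹ := by
  have h1 : x * x = 1 := by rw [← sq, hD x hx hxA]
  rw [inverts_iff_mul_sq h1, ← sq]
  exact hD _ (mul_mem (hAH ha) hx) fun h => hxA ((mul_mem_cancel_left ha).1 h)

theorem comm_of_out (hx : x ∈ H) (hxA : x ∉ A) (ha : a ∈ A) (hb : b ∈ A) : Commute a b := by
  have h1 := inv_of_out hAH hD hx hxA (mul_mem ha hb)
  rw [← conj_mul, inv_of_out hAH hD hx hxA ha, inv_of_out hAH hD hx hxA hb, ← mul_inv_rev,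
    inv_inj] at h1
  exact h1.symm

end Basic

theorem a7_facts : ∃ j u v : alternatingGroup (Fin 7), orderOf j = 2 ∧ Commute u j ∧ Commute v j ∧
    u ^ 2 ≠ 1 ∧ v ^ 2 ≠ 1 ∧ ¬ Commute u v := by
  refine ⟨⟨Equiv.swap 0 1 * Equiv.swap 2 3, by rw [Equiv.Perm.mem_alternatingGroup]; decide⟩,
    ⟨Equiv.swap 0 2 * Equiv.swap 0 1 * Equiv.swap 0 3 * Equiv.swap 4 5, by
      rw [Equiv.Perm.mem_alternatingGroup]; decide⟩,
    ⟨Equiv.swap 4 5 * Equiv.swap 4 6, by rw [Equiv.Perm.mem_alternatingGroup]; decide⟩,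
    orderOf_two_of (by decide) (by decide), ?_, ?_,
    by decide, by decide, ?_⟩
  all_goals unfold Commute SemiconjBy; decide

variable {G : Type u} [Group G] [Finite G]

theorem EE_ne_bot (hD : DihSyl G) (hO : oddCore G = ⊥) (hns : ¬ Group.IsSolvable G) :
    EE (⊤ : Subgroup G) ≠ ⊥ := by
  obtain ⟨t, s, hp⟩ := hD.exists_pair
  obtain ⟨R, hR, hp'⟩ := Frob.exists_perfect_of_not_isSolvable hns
  rcases types hD (mem_top t) hp.ha (OO_top_eq_bot hO ▸ bot_le) with h | ⟨a, -, b, -, h, hN⟩ | h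
  · exact absurd (eq_bot_of_perfect_of_nilp h le_top hp') hR
  · exact absurd (eq_bot_of_perfect_of_four hD h (le_top.trans hN) hp') hR
  · exact h

/-- Involutions outside the layer are conjugate in any subgroup containing all involutions. -/
theorem outer_conj (hD : DihSyl G) (hE : EE (⊤ : Subgroup G) ≠ ⊥) {Y : Subgroup G}
    (hY : ∀ x : G, orderOf x = 2 → x ∈ Y) {x y : G} (hx : orderOf x = 2) (hy : orderOf y = 2)
    (hxE : x ∉ EE (⊤ : Subgroup G)) (hyE : y ∉ EE (⊤ : Subgroup G)) :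
    ∃ d ∈ Y, d * x * d⁻¹ = y := by
  have hn : (EE (⊤ : Subgroup G)).Normal := subgroupLayer_normal ⊤
  obtain ⟨a, ha, b, hb, hp⟩ := EE_exists_pair hD (hD.ksec ⊤) hE
  obtain ⟨t, σ, s, m, hf, hle⟩ := hD.exists_frame₀ hp.isPGroup
  have hS : four σ s ≤ Y := hD.le_of_involutions hf.isPGroup hf.pair hf.t_mem (right_mem_four σ s)
    fun z _ hz => hY z hz
  have hc : ∀ z ∈ four a b, Commute z t := fun z hz =>
    mem_centralizer_singleton_iff.1 (hf.le_Cen (hle hz))
  have ht : t ∈ EE ⊤ := four_le ha hb (hD.mem_four hp ⟨1, by simpa using sq_of_two hf.pair.ha⟩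
    (hc a (left_mem_four a b)) (hc b (right_mem_four a b)))
  have hs : s ∈ EE ⊤ ∨ σ * s ∈ EE ⊤ := by
    have key : ∀ z ∈ four a b, orderOf z = 2 → z ≠ t → s ∈ EE ⊤ ∨ σ * s ∈ EE ⊤ := fun z hz h2 hne => by
      obtain ⟨g, -, e | e⟩ := (hf.involution_cases (hle hz) h2).resolve_left hne
      · exact Or.inl (e ▸ hn.conj_mem z (four_le ha hb hz) g)
      · exact Or.inr (e ▸ hn.conj_mem z (four_le ha hb hz) g)
    by_cases e : a = t
    · exact key b (right_mem_four a b) hp.hb fun e' => hp.ne (e.trans e'.symm)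
    · exact key a (left_mem_four a b) hp.ha e
  have out : ∀ {z g w : G}, z ∉ EE ⊤ → g * z * g⁻¹ = w → w ∉ EE ⊤ := fun {z g w} hz e hw =>
    hz (by simpa [← e, mul_assoc] using hn.conj_mem w hw g⁻¹)
  obtain ⟨g, hg, e⟩ := hf.exists_conj_of_le hS (hY x hx) hx
  obtain ⟨g', hg', e'⟩ := hf.exists_conj_of_le hS (hY y hy) hy
  have : g * x * g⁻¹ = g' * y * g'⁻¹ := by
    rcases e with e | e | e <;> rcases e' with e' | e' | e' <;>
      first
      | exact e.trans e'.symm
      | exact absurd ht (out hxE e)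
      | exact absurd ht (out hyE e')
      | exact (hs.elim (out hxE e) (out hyE e')).elim
      | exact (hs.elim (out hyE e') (out hxE e)).elim
  refine ⟨g'⁻¹ * g, mul_mem (inv_mem hg') hg, ?_⟩
  rw [show g'⁻¹ * g * x * (g'⁻¹ * g)⁻¹ = g'⁻¹ * (g * x * g⁻¹) * g' by group, this]
  group

/-- Dihedral Sylow 2-subgroups and an involution with generalized dihedral centralizer. -/
theorem pp_of_dihSyl (hD : DihSyl G) (hO : oddCore G = ⊥) (hns : ¬ Group.IsSolvable G) {j : G}
    (hj : orderOf j = 2) {A : Subgroup G} (hA : A ≤ Cen j) (hout : ∀ x ∈ Cen j, x ∉ A → x ^ 2 = 1)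
    (hu : ∀ s ∈ A, orderOf s = 2 → s = j) : PP G := by
  have hE := EE_ne_bot hD hO hns
  have hK := hD.ksec ⊤
  have hO' := OO_top_eq_bot hO
  have hn : (EE (⊤ : Subgroup G)).Normal := subgroupLayer_normal ⊤
  rcases EE_iso hD hK hE with h | h
  · obtain ⟨F, _, _, ho, h3, ⟨f⟩⟩ := h
    obtain ⟨m⟩ := nonempty_mod hD hK hE f
    have h2 : (2 : F) ≠ 0 := Ring.two_ne_zero
      (two_ne_ringChar (by rwa [Nat.card_eq_fintype_card])).symm
    have hinv : ∀ x : G, orderOf x = 2 → x ∈ m.D := fun x hx => Mod.mem_D_of_two h2 hD (mem_top x) hx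
    obtain ⟨s, hs, hp⟩ := Mod.exists_pair h2 (hinv j hj) hj
    have hsC : s ∈ Cen j := mem_centralizer_singleton_iff.2 hp.comm.symm
    have hsA : s ∉ A := fun h => hp.ne (hu s h hp.hb).symm
    have hsq : ∀ c ∈ Cen j, c ^ 2 ∈ m.D := fun c hc => by
      by_cases h : c ∈ A
      · have h1 := mul_mem (hn.conj_mem s hs c) (inv_mem hs)
        rw [show c * s * c⁻¹ * s⁻¹ = c * (s * c⁻¹ * s⁻¹) by group,
          inv_of_out hA hout hsC hsA (inv_mem h), inv_inv, ← sq] at h1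
        exact m.EE_le h1
      · rw [hout c hc h]; exact one_mem _
    have hC : Cen j ≤ m.D := fun c hc => by
      obtain ⟨v, -, w, ⟨k, rfl⟩, hv, hw, e⟩ := exists_two_mul_odd c
      obtain ⟨t, σ, s', n, hf, hle⟩ := hD.exists_frame₀ (isPGroup_zpowers_of_pow hv)
      have h1 := hD.le_of_involutions hf.isPGroup hf.pair hf.t_mem (right_mem_four σ s')
        (fun z _ hz => hinv z hz) (hle (Subgroup.mem_zpowers v))
      have h4 := hsq _ (zpow_mem hc k)
      rw [e]
      refine mul_mem h1 ?_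
      rw [← pow_half_succ_sq hw, ← sq, ← pow_mul, mul_comm, pow_mul]
      exact pow_mem h4 _
    have htop : ∀ g : G, g ∈ m.D := fun g => by
      by_cases hjE : j ∈ EE ⊤
      · obtain ⟨e, he, c, hc, rfl⟩ := exists_EE_mul hD hK hE hjE hj (mem_top g)
        exact mul_mem (m.EE_le he) (hC hc.2)
      · obtain ⟨d, hd, e⟩ := outer_conj hD hE hinv hj ((Inv.orderOf_conj' g j).trans hj) hjE
          fun h => hjE (by simpa [mul_assoc] using hn.conj_mem _ h g⁻¹)
        have : d⁻¹ * g ∈ Cen j := mem_centralizer_singleton_iff.2 (by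
          rw [← mul_inv_eq_iff_eq_mul,
            show d⁻¹ * g * j * (d⁻¹ * g)⁻¹ = d⁻¹ * (g * j * g⁻¹) * d by group, ← e]
          group)
        exact (mul_mem_cancel_left (inv_mem hd)).1 (hC this)
    let φ : G →* PGL(2, F) := MonoidHom.mk' m.π fun a b => Mod.π_mul (htop a) (htop b)
    have hφ : Function.Injective φ := (injective_iff_map_eq_one φ).2 fun a ha =>
      mem_bot.1 (hO' ▸ (Mod.π_eq_one (htop a)).1 ha)
    have hle : L2.psl F ≤ φ.range := fun g hg => by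
      obtain ⟨x, -, e⟩ := m.surj hg
      exact ⟨x, e⟩
    refine ⟨F, inferInstance, inferInstance, h3, ?_⟩
    by_cases hr : φ.range ≤ L2.psl F
    · exact Or.inl ⟨((MonoidHom.ofInjective hφ).trans
        (MulEquiv.subgroupCongr (le_antisymm hr hle))).trans L2.embEquiv.symm⟩
    · obtain ⟨x, hx, hx'⟩ := SetLike.not_le_iff_exists.1 hr
      have hi : (L2.psl F).index = 2 := by
        simpa using L2.relIndex_psl_eq_two (H := ⊤) fun h' => hx' (h' (mem_top _))
      refine Or.inr ⟨MulEquiv.ofBijective φ ⟨hφ, fun g => ?_⟩⟩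
      by_cases hg : g ∈ L2.psl F
      · exact hle hg
      · exact (mul_mem_cancel_left hx).1 (hle ((mul_mem_iff_of_index_two hi).2 (by tauto)))
  · exfalso
    have h1 := (a7t_of_isA7 hD hK hE h).sup
    rw [hO', sup_bot_eq, top_le_iff] at h1
    have e₀ : EE (⊤ : Subgroup G) ⧸ center (EE (⊤ : Subgroup G)) ≃* EE (⊤ : Subgroup G) :=
      (QuotientGroup.quotientMulEquivOfEq (hD.center_EE hO hE)).trans QuotientGroup.quotientBot
    obtain ⟨e⟩ := (h.of_equiv e₀).of_equiv ((MulEquiv.subgroupCongr h1).trans topEquiv)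
    have hone := EE_oneClass hD hK hE
    have hall : ∀ x, x ∈ EE (⊤ : Subgroup G) := fun x => by rw [h1]; trivial
    obtain ⟨s, -, hp⟩ := EE_pair hD hK hE (hall j) hj
    have hsC : s ∈ Cen j := mem_centralizer_singleton_iff.2 hp.comm.symm
    have hsA : s ∉ A := fun h => hp.ne (hu s h hp.hb).symm
    obtain ⟨j₀, a, b, h2, ha, hb, ha2, hb2, hab⟩ := a7_facts
    obtain ⟨g, -, hg⟩ := hone (e.symm j₀) (hall _) j (hall _)
      (by rw [MulEquiv.orderOf_eq, h2]) hj
    have key : ∀ c, Commute c j₀ → c ^ 2 ≠ 1 → g * e.symm c * g⁻¹ ∈ A := fun c hc hc2 => by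
      by_contra hA'
      have := hout _ (mem_centralizer_singleton_iff.2
        (hg ▸ commute_conj_iff.2 (hc.map e.symm)).eq) hA'
      rw [conj_pow, conj_eq_one_iff, ← map_pow, MulEquiv.map_eq_one_iff] at this
      exact hc2 this
    have := (commute_conj_iff.1 (comm_of_out hA hout hsC hsA (key a ha ha2) (key b hb hb2))).map e
    simp only [MulEquiv.apply_symm_apply] at this
    exact hab this

/-- The setting in which `A` has a unique involution. -/
structure Uq (j : G) (A : Subgroup G) : Prop where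
  ord : orderOf j = 2
  mem : j ∈ A
  le : A ≤ Cen j
  out : ∀ x ∈ Cen j, x ∉ A → x ^ 2 = 1
  ex : ∃ x ∈ Cen j, x ∉ A
  two : ∀ x ∈ Cen j, ∀ y ∈ Cen j, x ∉ A → y ∉ A → x * y ∈ A
  uniq : ∀ s ∈ A, orderOf s = 2 → s = j

namespace Uq

variable {j : G} {A : Subgroup G} (h : Uq j A)
include h

theorem quot (O : Subgroup G) [O.Normal] (hO : Odd (Nat.card O)) :
    Uq (j : G ⧸ O) (A.map (QuotientGroup.mk' O)) := by
  have hodd : ∀ x ∈ O, Odd (orderOf x) := fun x hx =>
    hO.of_dvd_nat (O.orderOf_dvd_natCard hx)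
  have h1 : ∀ x ∈ O, x * x = 1 → x = 1 := fun x hx h2 =>
    eq_one_of_odd_of_eq_inv (hodd x hx) (eq_inv_of_mul_eq_one_left h2)
  have hC : ∀ y ∈ Cen (j : G ⧸ O), ∃ x ∈ Cen j, (x : G ⧸ O) = y := fun y hy => by
    have := map_centralizer_of_coprime_ker (p := 2) (QuotientGroup.mk'_surjective O)
      (by rw [QuotientGroup.ker_mk']; exact Nat.coprime_two_right.2 hO) (isPGroup_zpowers_of_two h.ord)
    rw [MonoidHom.map_zpowers, centralizer_zpowers, centralizer_zpowers] at this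
    exact this.ge hy
  have hA : ∀ x ∈ Cen j, (x : G ⧸ O) ∈ A.map (QuotientGroup.mk' O) → x ∈ A := by
    rintro x hx ⟨a, ha, e⟩
    have h2 : a⁻¹ * x ∈ O := QuotientGroup.eq.1 e
    by_contra hxA
    have h3 : a⁻¹ * x ∉ A := fun h' => hxA ((mul_mem_cancel_left (inv_mem ha)).1 h')
    have := h.out _ (mul_mem (inv_mem (h.le ha)) hx) h3
    rw [h1 _ h2 (by rwa [← sq])] at h3
    exact h3 (one_mem _)
  have hmk : ∀ x ∈ Cen j, (x : G ⧸ O) ∈ Cen (j : G ⧸ O) := fun x hx =>
    mem_centralizer_singleton_iff.2 (by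
      rw [← QuotientGroup.mk_mul, mem_centralizer_singleton_iff.1 hx, QuotientGroup.mk_mul])
  refine ⟨orderOf_two_of (by rw [← QuotientGroup.mk_mul, mul_self_of_two h.ord]; rfl) fun e =>
    ne_one_of_two h.ord (h1 j ((QuotientGroup.eq_one_iff j).1 e) (mul_self_of_two h.ord)),
    mem_map_of_mem _ h.mem, ?_, fun y hy hyA => ?_, ?_, fun y hy y' hy' h2 h3 => ?_, ?_⟩
  · rintro _ ⟨a, ha, rfl⟩
    exact hmk a (h.le ha)
  · obtain ⟨x, hx, rfl⟩ := hC y hy
    rw [← QuotientGroup.mk_pow, h.out x hx fun h' => hyA (mem_map_of_mem _ h')]; rfl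
  · obtain ⟨x, hx, hxA⟩ := h.ex
    exact ⟨x, hmk x hx, fun h' => hxA (hA x hx h')⟩
  · obtain ⟨x, hx, rfl⟩ := hC y hy
    obtain ⟨x', hx', rfl⟩ := hC y' hy'
    exact mem_map_of_mem _ (h.two x hx x' hx' (fun h' => h2 (mem_map_of_mem _ h'))
      fun h' => h3 (mem_map_of_mem _ h'))
  · rintro _ ⟨a, ha, rfl⟩ h2
    have h3 : a * a ∈ O := (QuotientGroup.eq_one_iff _).1 (mul_self_of_two h2)
    obtain ⟨k, hk⟩ := hodd _ h3
    have h4 : (QuotientGroup.mk' O) (a ^ (2 * k + 1)) = (QuotientGroup.mk' O) a := by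
      rw [map_pow, pow_succ, pow_mul, sq_of_two h2, one_pow, one_mul]
    rw [← h4, h.uniq _ (pow_mem ha _) (orderOf_two_of ?_ fun e => ?_)]
    · rfl
    · rw [← (Commute.refl a).mul_pow, ← hk, pow_orderOf_eq_one]
    · rw [e, map_one] at h4
      exact ne_one_of_two h2 h4.symm

theorem dihSyl {S : Sylow 2 G} (hS : (S : Subgroup G) ≤ Cen j) {x : G} (hx : x ∈ (S : Subgroup G))
    (hxA : x ∉ A) (hj : j ∈ (S : Subgroup G)) : DihSyl G := by
  have hB : IsPGroup 2 ↥((S : Subgroup G) ⊓ A) := S.isPGroup'.to_inf_left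
  have hI : IAC ↥((S : Subgroup G) ⊓ A) := fun _ a b _ _ _ =>
    Subtype.ext (comm_of_out h.le h.out (hS hx) hxA a.2.2 b.2.2)
  have hc : IsCyclic (topSylow hB : Subgroup ↥((S : Subgroup G) ⊓ A)) := by
    by_contra hc
    obtain ⟨s, t, hs, ht, hne, -⟩ := twoInv_of_not_isCyclic hI _ hc
    exact hne (Subtype.ext ((h.uniq _ s.2.2 (by rw [orderOf_coe, hs])).trans
      (h.uniq _ t.2.2 (by rw [orderOf_coe, ht])).symm))
  have hc0 : IsCyclic (⊤ : Subgroup ↥((S : Subgroup G) ⊓ A)) := hc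
  have hc' : IsCyclic ↥((S : Subgroup G) ⊓ A) := isCyclic_of_surjective
    (topEquiv (G := ↥((S : Subgroup G) ⊓ A))) (topEquiv).surjective
  obtain ⟨c, hcB⟩ := (Subgroup.isCyclic_iff_exists_zpowers_eq_top _).1 hc'
  have hcm : c ∈ (S : Subgroup G) ⊓ A := hcB ▸ Subgroup.mem_zpowers c
  have hx2 : x * x = 1 := by rw [← sq, h.out x (hS hx) hxA]
  have hi := inv_of_out h.le h.out (hS hx) hxA hcm.2
  obtain ⟨e⟩ := nonempty_closure_equiv_dihedral hx2 hi (fun h' => hxA (hcB.le h').2) rfl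
  have hcl : closure {c, x} = (S : Subgroup G) := le_antisymm
    ((closure_le _).2 (Set.pair_subset hcm.1 hx)) fun y hy => by
      have h1 : zpowers c ≤ closure {c, x} := zpowers_le.2 (subset_closure (by simp))
      have h2 : x ∈ closure ({c, x} : Set G) := subset_closure (by simp)
      by_cases hyA : y ∈ A
      · exact h1 (hcB.ge ⟨hy, hyA⟩)
      · exact (mul_mem_cancel_right h2).1
          (h1 (hcB.ge ⟨mul_mem hy hx, h.two y (hS hy) x (hS hx) hyA hxA⟩))
  refine ⟨S, orderOf c, ?_, ⟨(MulEquiv.subgroupCongr hcl.symm).trans e⟩⟩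
  exact h.ord ▸ Nat.le_of_dvd (orderOf_pos c) (orderOf_dvd_of_mem_zpowers (hcB.ge ⟨hj, h.mem⟩))

theorem res_qd (hO : oddCore G = ⊥) (hns : ¬ Group.IsSolvable G) (h4 : ∀ a ∈ A, orderOf a ≠ 4)
    {S : Sylow 2 G} (hj : j ∈ (S : Subgroup G)) (hS : IsQuasiDihedral (S : Subgroup G)) : Res G := by
  obtain ⟨t, ht, r, s, H⟩ := exists_mx_of_qd hS
  have hr : ∀ i, r i ∈ (S : Subgroup G) := fun i => (H.mem _).2 (Or.inl ⟨i, rfl⟩)
  have hnc : ∀ g : G, g * r (Fz.hh t) * g⁻¹ ≠ j := fun g e => by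
    have h1 : orderOf (g * r (2 ^ (t - 1)) * g⁻¹) = 4 := by
      rw [Inv.orderOf_conj', H.orderOf_q (by omega)]
    have h2 : Commute (g * r (2 ^ (t - 1)) * g⁻¹) (g * r (Fz.hh t) * g⁻¹) :=
      commute_conj_iff.2 (H.comm_z (hr _))
    rw [e] at h2
    refine h4 _ (Classical.byContradiction fun hA => mul_self_ne_one_of_four h1 ?_) h1
    rw [← sq]
    exact h.out _ (mem_centralizer_singleton_iff.2 h2) hA
  have hzj : r (Fz.hh t) ≠ j := by simpa using hnc 1
  obtain ⟨g₀, -, e₀⟩ := (H.qd_two_cases hj h.ord).resolve_left hzj.symm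
  have hz : r (Fz.hh t) ∈ center G := (IsIsolatedInvolution.of_sylow S H.orderOf_z (hr _) fun g hg => by
    by_contra hne
    obtain ⟨g₁, -, e₁⟩ := (H.qd_two_cases hg
      ((Inv.orderOf_conj' _ _).trans H.orderOf_z)).resolve_left hne
    refine hnc (g₀ * g₁⁻¹ * g) ?_
    rw [show g₀ * g₁⁻¹ * g * r (Fz.hh t) * (g₀ * g₁⁻¹ * g)⁻¹ =
      g₀ * g₁⁻¹ * (g * r (Fz.hh t) * g⁻¹) * (g₀ * g₁⁻¹)⁻¹ by group, ← e₁, ← e₀]
    group).mem_center hO
  set z := r (Fz.hh t) with hzdef
  have hZ : ∀ c ∈ center G, c = 1 ∨ c = z := fun c hc =>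
    (H.mem_center_iff (by omega) ((isPGroup_center hO).le_sylow_of_normal S hc)).1
      fun y _ => (mem_center_iff.1 hc y)
  have hzC : z ∈ Cen j := mem_centralizer_singleton_iff.2 (mem_center_iff.1 hz j).symm
  have hzA : z ∉ A := fun h' => hzj (h.uniq z h' H.orderOf_z)
  have hA : ∀ a ∈ A, a = 1 ∨ a = j := fun a ha => by
    have h1 := inv_of_out h.le h.out hzC hzA ha
    rw [← mem_center_iff.1 hz a, mul_inv_cancel_right] at h1
    exact or_iff_not_imp_left.2 fun h2 =>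
      h.uniq a ha (orderOf_two_of (mul_eq_one_iff_eq_inv.2 h1) h2)
  have hmz : (z : G ⧸ center G) = 1 := (QuotientGroup.eq_one_iff z).2 hz
  have hC : ∀ x ∈ Cen j, (x : G ⧸ center G) = 1 ∨ (x : G ⧸ center G) = j := fun x hx => by
    by_cases hx' : x ∈ A
    · exact (hA x hx').imp (fun e => by rw [e]; rfl) fun e => by rw [e]
    · refine (hA _ (h.two x hx z hzC hx' hzA)).imp (fun e => ?_) fun e => ?_
      · rw [← mul_one (x : G ⧸ center G), ← hmz, ← QuotientGroup.mk_mul, e, hmz]; rfl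
      · rw [← e, QuotientGroup.mk_mul, hmz, mul_one]
  have hj2 : orderOf (j : G ⧸ center G) = 2 :=
    orderOf_two_of (by rw [← QuotientGroup.mk_mul, mul_self_of_two h.ord]; rfl) fun e =>
      (hZ j ((QuotientGroup.eq_one_iff j).1 e)).elim (ne_one_of_two h.ord) hzj.symm
  refine ⟨center G, inferInstance, Or.inr ⟨1, odd_one, ?_⟩, pp_of_dihSyl
    (CD.of_mx H (by omega) hz).dihSyl (oddCore_quotient_center hO) (fun hs => hns ?_) hj2
    (A := zpowers (j : G ⧸ center G)) (zpowers_le.2 (mem_centralizer_singleton_iff.2 rfl))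
    (fun y hy hyA => ?_) fun y hy h2 =>
      involution_unique_of_mem_zpowers h2 hj2 hy (Subgroup.mem_zpowers _)⟩
  · rw [← H.orderOf_z, mul_one, ← Nat.card_zpowers]
    congr 2
    ext c
    refine ⟨fun hc => (hZ c hc).elim (fun e => e ▸ one_mem _) fun e => e ▸ Subgroup.mem_zpowers _,
      fun hc => zpowers_le.2 hz hc⟩
  · have := (isPGroup_center hO).isNilpotent
    exact Group.isSolvable_of_ker_le_range (center G).subtype (QuotientGroup.mk' (center G))
      (by simp)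
  · obtain ⟨x, rfl⟩ := QuotientGroup.mk_surjective y
    have h1 : (x * j * x⁻¹)⁻¹ * j ∈ center G := QuotientGroup.eq.1 (by
      rw [QuotientGroup.mk_mul, QuotientGroup.mk_mul, QuotientGroup.mk_inv,
        mem_centralizer_singleton_iff.1 hy, mul_inv_cancel_right])
    have h2 : x ∉ Cen j := fun hx => hyA ((hC x hx).elim (fun e => e ▸ one_mem _)
      fun e => e ▸ Subgroup.mem_zpowers _)
    have h3 : x * j * x⁻¹ = j * z := by
      rcases hZ _ h1 with e | e
      · exact absurd (mem_centralizer_singleton_iff.2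
          (mul_inv_eq_iff_eq_mul.1 (inv_mul_eq_one.1 e))) h2
      · rw [← (inv_of_two H.orderOf_z : z⁻¹ = z), ← e, mul_inv_rev, inv_inv, mul_inv_cancel_left]
    have h5 : x ^ 2 ∈ Cen j := mem_centralizer_singleton_iff.2 (by
      rw [← mul_inv_eq_iff_eq_mul, show x ^ 2 * j * (x ^ 2)⁻¹ = x * (x * j * x⁻¹) * x⁻¹ by
        rw [sq]; group, h3, ← conj_mul, h3, mem_center_iff.1 hz x, mul_inv_cancel_right, mul_assoc,
        H.z_sq, mul_one])
    rw [← QuotientGroup.mk_pow]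
    refine (hC _ h5).resolve_right fun e => h2 ?_
    have h6 := QuotientGroup.eq.1 e
    have h7 : Commute x ((x ^ 2)⁻¹ * j) := mem_center_iff.1 h6 x
    have := ((Commute.refl x).pow_right 2).mul_right h7
    rw [mul_inv_cancel_left] at this
    exact mem_centralizer_singleton_iff.2 this

theorem res_core (hO : oddCore G = ⊥) (hns : ¬ Group.IsSolvable G) : Res G := by
  have fin : DihSyl G → Res G := fun hD =>
    (pp_of_dihSyl hD hO hns h.ord h.le h.out h.uniq).res
  obtain ⟨x, hx, hxA⟩ := h.ex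
  have hx2 : x * x = 1 := by rw [← sq, h.out x hx hxA]
  have hx1 : x ≠ 1 := fun e => hxA (e ▸ one_mem _)
  by_cases h4 : ∃ a ∈ A, orderOf a = 4
  · obtain ⟨a, ha, h4⟩ := h4
    have hi := inv_of_out h.le h.out hx hxA ha
    have ha2 : a * a = j := h.uniq _ (mul_mem ha ha) (by
      rw [← sq, orderOf_pow' _ two_ne_zero, h4]; rfl)
    obtain ⟨S, hS⟩ := (show IsPGroup 2 (closure ({a, x} : Set G)) from IsPGroup.of_card (n := 3) (by
      rw [card_closure_inverts hx2 hi (fun h' => hxA (zpowers_le.2 ha h')), h4]; rfl)).exists_le_sylow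
    have haS : a ∈ (S : Subgroup G) := hS (subset_closure (by simp))
    have hjS : j ∈ (S : Subgroup G) := ha2 ▸ mul_mem haS haS
    obtain ⟨z, -, hz, hzc⟩ := exists_central_of_isPGroup S.isPGroup'
      (fun e => ne_one_of_two h.ord (mem_bot.1 (e ▸ hjS)))
    have hzA : z ∈ A := by
      by_contra hzA
      have h1 := inv_of_out h.le h.out (mem_centralizer_singleton_iff.2 (hzc j hjS).symm) hzA ha
      rw [← (hzc a haS).eq, mul_inv_cancel_right] at h1
      exact mul_self_ne_one_of_four h4 (mul_eq_one_iff_eq_inv.2 h1)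
    exact fin (h.dihSyl (fun y hy => mem_centralizer_singleton_iff.2 (h.uniq z hzA hz ▸ hzc y hy))
      (hS (subset_closure (by simp))) hxA hjS)
  push Not at h4
  have hp : Pair j x := ⟨h.ord, orderOf_two_of hx2 hx1, fun e => hxA (e ▸ h.mem),
    (mem_centralizer_singleton_iff.1 hx).symm⟩
  obtain ⟨S, hS⟩ := hp.isPGroup.exists_le_sylow
  have hjS := hS (left_mem_four j x)
  have hxS := hS (right_mem_four j x)
  have hSA : ∀ a ∈ (S : Subgroup G), a ∈ A → a ∈ four j x := fun a ha haA => by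
    obtain ⟨k, hk⟩ := exists_orderOf_eq_pow_of_mem S.isPGroup' ha
    rcases k with _ | _ | k
    · rw [orderOf_eq_one_iff.1 hk]; exact one_mem _
    · rw [h.uniq a haA hk]; exact left_mem_four j x
    · refine absurd ?_ (h4 _ (pow_mem haA (2 ^ k)))
      rw [orderOf_pow' _ (by positivity), hk, show k + 1 + 1 = 2 + k by ring, pow_add,
        Nat.gcd_eq_right (dvd_mul_left _ _), Nat.mul_div_cancel _ (by positivity)]
      rfl
  have hC : (S : Subgroup G) ⊓ Cen j = four j x := le_antisymm (fun y hy => by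
    by_cases hyA : y ∈ A
    · exact hSA y hy.1 hyA
    · exact (mul_mem_cancel_right (right_mem_four j x)).1
        (hSA _ (mul_mem hy.1 hxS) (h.two y hy.2 x hx hyA hxA)))
    (le_inf hS (four_le (mem_centralizer_singleton_iff.2 rfl) hx))
  have hc4 : Nat.card (centralizer ({⟨j, hjS⟩} : Set (S : Subgroup G))) = 4 := by
    rw [← K1.card_four hp, ← hC, ← card_map_of_injective (S : Subgroup G).subtype_injective]
    congr 2
    ext y
    simp only [mem_map, mem_inf, mem_centralizer_singleton_iff]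
    exact ⟨fun ⟨w, h1, h2⟩ => h2 ▸ ⟨w.2, congrArg Subtype.val h1⟩,
      fun ⟨h1, h2⟩ => ⟨⟨y, h1⟩, Subtype.ext h2, rfl⟩⟩
  rcases S3224.result S.isPGroup' ⟨j, hjS⟩ (by rw [← orderOf_coe]; exact h.ord) hc4 with
    ⟨n, ⟨e⟩⟩ | hq | hc
  · refine fin ⟨S, n, ?_, ⟨e⟩⟩
    have h1 := card_le_card_group (centralizer ({⟨j, hjS⟩} : Set (S : Subgroup G)))
    rw [hc4, Nat.card_congr e.toEquiv, DihedralGroup.nat_card] at h1
    omega
  · exact h.res_qd hO hns h4 hjS hq
  · refine fin (h.dihSyl ?_ hxS hxA hjS)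
    rw [← eq_of_le_of_card_ge hS (by rw [hc, K1.card_four hp])]
    exact four_le (mem_centralizer_singleton_iff.2 rfl) hx

theorem res (hns : ¬ Group.IsSolvable G) : Res G := by
  refine Res.of_quot odd_card_oddCore ((h.quot _ odd_card_oddCore).res_core
    pPrimeCore_quotient_pPrimeCore fun hs => hns ?_)
  have := isSolvable_of_odd (odd_card_oddCore (G := G))
  exact Group.isSolvable_of_ker_le_range (oddCore G).subtype (QuotientGroup.mk' (oddCore G))
    (by simp)

end Uq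

end Cfsg.Agent.FG.DG
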