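import Mathlib
import Cfsg.Agent.Ch.MultiplierCrit

/-! The binary tetrahedral group in `SL₂(F)` and its lifts through coprime extensions. -/

set_option autoImplicit false

namespace Cfsg.Agent.FG.Fix6

open Subgroup Matrix

/-- Integer quaternions. -/
abbrev Q4 := ℤ × ℤ × ℤ × ℤ

/-- Quaternion product. -/
def qm (p q : Q4) : Q4 :=
  (p.1 * q.1 - p.2.1 * q.2.1 - p.2.2.1 * q.2.2.1 - p.2.2.2 * q.2.2.2,
   p.1 * q.2.1 + p.2.1 * q.1 + p.2.2.1 * q.2.2.2 - p.2.2.2 * q.2.2.1,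
   p.1 * q.2.2.1 - p.2.1 * q.2.2.2 + p.2.2.1 * q.1 + p.2.2.2 * q.2.1,
   p.1 * q.2.2.2 + p.2.1 * q.2.2.1 - p.2.2.1 * q.2.1 + p.2.2.2 * q.1)

/-- Twice the Hurwitz units. -/
def hur : List Q4 :=
  [(2, 0, 0, 0), (-2, 0, 0, 0), (0, 2, 0, 0), (0, -2, 0, 0), (0, 0, 2, 0), (0, 0, -2, 0),
   (0, 0, 0, 2), (0, 0, 0, -2), (1, 1, 1, 1), (1, 1, 1, -1), (1, 1, -1, 1), (1, 1, -1, -1),
   (1, -1, 1, 1), (1, -1, 1, -1), (1, -1, -1, 1), (1, -1, -1, -1), (-1, 1, 1, 1), (-1, 1, 1, -1),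
   (-1, 1, -1, 1), (-1, 1, -1, -1), (-1, -1, 1, 1), (-1, -1, 1, -1), (-1, -1, -1, 1),
   (-1, -1, -1, -1)]

/-- Half the product. -/
def qh (p q : Q4) : Q4 :=
  ((qm p q).1 / 2, (qm p q).2.1 / 2, (qm p q).2.2.1 / 2, (qm p q).2.2.2 / 2)

theorem hur_mul : ∀ p ∈ hur, ∀ q ∈ hur, qh p q ∈ hur ∧ qm p q = 2 • qh p q := by decide +kernel

theorem hur_norm : ∀ q ∈ hur, q.1 ^ 2 + q.2.1 ^ 2 + q.2.2.1 ^ 2 + q.2.2.2 ^ 2 = 4 := by
  decide +kernel

theorem hur_pow : ∀ q ∈ hur, (fun p => qh p q)^[12] (2, 0, 0, 0) = (2, 0, 0, 0) := by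
  decide +kernel

variable {F : Type*} [Field F] (a b : F)

/-- The matrix of a quaternion. -/
def qmat (q : Q4) : Matrix (Fin 2) (Fin 2) F :=
  !![q.1 + a * q.2.1 - b * q.2.2.2, b * q.2.1 + q.2.2.1 + a * q.2.2.2;
     b * q.2.1 - q.2.2.1 + a * q.2.2.2, q.1 - a * q.2.1 + b * q.2.2.2]

variable {a b}

theorem qmat_mul (hab : a ^ 2 + b ^ 2 = -1) (p q : Q4) :
    qmat a b p * qmat a b q = qmat a b (qm p q) := by
  ext i j
  fin_cases i <;> fin_cases j <;> simp [qmat, qm, Matrix.mul_apply, Fin.sum_univ_two]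
  · linear_combination ((p.2.1 : F) * q.2.1 + p.2.2.2 * q.2.2.2) * hab
  · linear_combination ((p.2.2.2 : F) * q.2.1 - p.2.1 * q.2.2.2) * (-hab)
  · linear_combination ((p.2.2.2 : F) * q.2.1 - p.2.1 * q.2.2.2) * hab
  · linear_combination ((p.2.1 : F) * q.2.1 + p.2.2.2 * q.2.2.2) * hab

theorem qmat_two_smul (q : Q4) : qmat a b (2 • q) = (2 : F) • qmat a b q := by
  ext i j
  fin_cases i <;> fin_cases j <;> simp [qmat] <;> ring

theorem det_qmat (hab : a ^ 2 + b ^ 2 = -1) (q : Q4) :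
    (qmat a b q).det = ((q.1 ^ 2 + q.2.1 ^ 2 + q.2.2.1 ^ 2 + q.2.2.2 ^ 2 : ℤ) : F) := by
  simp only [qmat, Matrix.det_fin_two_of]
  push_cast
  linear_combination (-(q.2.1 : F) ^ 2 - (q.2.2.2 : F) ^ 2) * hab

/-- The element of `SL₂(F)` attached to a Hurwitz unit. -/
def hel (hab : a ^ 2 + b ^ 2 = -1) (h2 : (2 : F) ≠ 0) (q : Q4) (hq : q ∈ hur) :
    SpecialLinearGroup (Fin 2) F :=
  ⟨(2 : F)⁻¹ • qmat a b q, by
    rw [Matrix.det_smul, det_qmat hab, hur_norm q hq, Fintype.card_fin]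
    field_simp; norm_num⟩

theorem hel_mul (hab : a ^ 2 + b ^ 2 = -1) (h2 : (2 : F) ≠ 0) {p q : Q4} (hp : p ∈ hur)
    (hq : q ∈ hur) : hel hab h2 p hp * hel hab h2 q hq = hel hab h2 (qh p q) (hur_mul p hp q hq).1 := by
  apply Subtype.ext
  change ((2 : F)⁻¹ • qmat a b p) * ((2 : F)⁻¹ • qmat a b q) = (2 : F)⁻¹ • qmat a b (qh p q)
  rw [Matrix.smul_mul, Matrix.mul_smul, qmat_mul hab, (hur_mul p hp q hq).2, qmat_two_smul,
    inv_smul_smul₀ h2]

theorem hel_congr (hab : a ^ 2 + b ^ 2 = -1) (h2 : (2 : F) ≠ 0) {p q : Q4} (hp : p ∈ hur)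
    (hq : q ∈ hur) (e : p = q) : hel hab h2 p hp = hel hab h2 q hq := by subst e; rfl

theorem hel_one (hab : a ^ 2 + b ^ 2 = -1) (h2 : (2 : F) ≠ 0) (h : (2, 0, 0, 0) ∈ hur) :
    hel hab h2 (2, 0, 0, 0) h = 1 := by
  apply Subtype.ext
  ext i j
  fin_cases i <;> fin_cases j <;> simp [hel, qmat, h2]

theorem hel_pow (hab : a ^ 2 + b ^ 2 = -1) (h2 : (2 : F) ≠ 0) {q : Q4} (hq : q ∈ hur) (n : ℕ) :
    ∃ h : (fun p => qh p q)^[n] (2, 0, 0, 0) ∈ hur, hel hab h2 q hq ^ n = hel hab h2 _ h := by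
  induction n with
  | zero => exact ⟨show (2, 0, 0, 0) ∈ hur by decide, by rw [pow_zero]; exact (hel_one hab h2 _).symm⟩
  | succ n ih =>
    obtain ⟨h, e⟩ := ih
    rw [Function.iterate_succ_apply']
    exact ⟨(hur_mul _ h q hq).1, by rw [pow_succ, e, hel_mul]⟩

theorem hel_pow_twelve (hab : a ^ 2 + b ^ 2 = -1) (h2 : (2 : F) ≠ 0) {q : Q4} (hq : q ∈ hur) :
    hel hab h2 q hq ^ 12 = 1 := by
  obtain ⟨h, e⟩ := hel_pow hab h2 hq 12
  rw [e, hel_congr hab h2 h (by decide) (hur_pow q hq), hel_one]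

/-- The binary tetrahedral group. -/
def hurS (hab : a ^ 2 + b ^ 2 = -1) (h2 : (2 : F) ≠ 0) : Subgroup (SpecialLinearGroup (Fin 2) F) where
  carrier := {g | ∃ q hq, g = hel hab h2 q hq}
  mul_mem' := by
    rintro _ _ ⟨p, hp, rfl⟩ ⟨q, hq, rfl⟩
    exact ⟨_, _, hel_mul hab h2 hp hq⟩
  one_mem' := ⟨_, by decide, (hel_one hab h2 (by decide)).symm⟩
  inv_mem' := by
    rintro _ ⟨q, hq, rfl⟩
    obtain ⟨h, e⟩ := hel_pow hab h2 hq 11
    refine ⟨_, h, ?_⟩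
    rw [← e]
    exact inv_eq_of_mul_eq_one_right (by rw [← pow_succ', hel_pow_twelve])

theorem exists_section {E S : Type*} [Group E] [Group S] [Finite E] (π : E →* S)
    (hπ : Function.Surjective π) (hc : (Nat.card π.ker).Coprime (Nat.card S)) :
    ∃ σ : S →* E, ∀ s, π (σ s) = s := by
  have hi : π.ker.index = Nat.card S := by
    rw [index_ker, MonoidHom.range_eq_top.2 hπ, card_top]
  obtain ⟨C, hC⟩ := exists_right_complement'_of_coprime (N := π.ker) (hi ▸ hc)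
  have hb : Function.Bijective (π.comp C.subtype) := by
    constructor
    · rw [← MonoidHom.ker_eq_bot_iff, eq_bot_iff]
      intro c hc'
      have : (c : E) ∈ π.ker ⊓ C := Subgroup.mem_inf.2 ⟨hc', c.2⟩
      rw [hC.disjoint.eq_bot] at this
      exact Subtype.ext this
    · intro s
      obtain ⟨e, rfl⟩ := hπ s
      obtain ⟨⟨n, c⟩, h⟩ := hC.2 e
      refine ⟨c, ?_⟩
      simp only at h
      rw [← h, map_mul, show π n = 1 from n.2, one_mul]; rfl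
  let e := MulEquiv.ofBijective _ hb
  exact ⟨C.subtype.comp e.symm.toMonoidHom, fun s => e.apply_symm_apply s⟩

theorem exists_tetra {Y : Type*} [Group Y] [Finite Y] [Finite F] (h2 : (2 : F) ≠ 0)
    (hab : a ^ 2 + b ^ 2 = -1) (π : Y →* SpecialLinearGroup (Fin 2) F) (hπ : Function.Surjective π)
    (hk2 : ¬ 2 ∣ Nat.card π.ker) (hk3 : ¬ 3 ∣ Nat.card π.ker) :
    ∃ i j x : Y, x ^ 3 = 1 ∧ i ^ 4 = 1 ∧ x * i * x⁻¹ = j ∧ x * j * x⁻¹ = i * j ∧
      π i ∉ center (SpecialLinearGroup (Fin 2) F) := by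
  have hc : (Nat.card (Ch.resExt π (hurS hab h2)).ker).Coprime (Nat.card (hurS hab h2)) := by
    rw [Ch.card_ker_resExt]
    refine Nat.coprime_of_dvd fun p hp h1 h3 => ?_
    have := Fact.mk hp
    obtain ⟨g, hg⟩ := exists_prime_orderOf_dvd_card' p h3
    have h12 : g ^ 12 = 1 := by
      obtain ⟨_, q, hq, rfl⟩ := g
      exact Subtype.ext (hel_pow_twelve hab h2 hq)
    have h4 : p ∣ 2 ^ 2 * 3 := hg ▸ orderOf_dvd_of_pow_eq_one h12
    rcases (Nat.Prime.dvd_mul hp).1 h4 with h | h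
    · rw [(Nat.prime_dvd_prime_iff_eq hp Nat.prime_two).1 (hp.dvd_of_dvd_pow h)] at h1
      exact hk2 h1
    · rw [(Nat.prime_dvd_prime_iff_eq hp Nat.prime_three).1 h] at h1
      exact hk3 h1
  obtain ⟨σ, hσ⟩ := exists_section _ (Ch.resExt_surjective hπ _) hc
  let τ : hurS hab h2 →* Y := (Subgroup.subtype _).comp σ
  let e : ∀ q ∈ hur, hurS hab h2 := fun q hq => ⟨hel hab h2 q hq, q, hq, rfl⟩
  have em : ∀ p hp q hq r hr, qh p q = r → τ (e p hp) * τ (e q hq) = τ (e r hr) := by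
    intro p hp q hq r hr h
    rw [← map_mul]
    congr 1
    exact Subtype.ext ((hel_mul hab h2 hp hq).trans (hel_congr hab h2 _ hr h))
  have e1 : τ (e (2, 0, 0, 0) (by decide)) = 1 := by
    rw [← map_one τ]; congr 1; exact Subtype.ext (hel_one hab h2 (by decide))
  refine ⟨τ (e (0, 2, 0, 0) (by decide)), τ (e (0, 0, 2, 0) (by decide)),
    τ (e (-1, -1, -1, -1) (by decide)), ?_, ?_, ?_, ?_, ?_⟩
  · rw [pow_three, em _ _ _ _ (-1, 1, 1, 1) (by decide) (by decide),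
      em _ _ _ _ (2, 0, 0, 0) (by decide) (by decide), e1]
  · rw [show (4 : ℕ) = 2 * 2 from rfl, pow_mul, pow_two, pow_two,
      em _ _ _ _ (-2, 0, 0, 0) (by decide) (by decide),
      em _ _ _ _ (2, 0, 0, 0) (by decide) (by decide), e1]
  · rw [mul_inv_eq_iff_eq_mul, em _ _ _ _ (1, -1, -1, 1) (by decide) (by decide),
      em _ _ _ _ (1, -1, -1, 1) (by decide) (by decide)]
  · rw [mul_inv_eq_iff_eq_mul, em _ _ _ _ (1, 1, -1, -1) (by decide) (by decide),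
      em _ _ _ _ (0, 0, 0, 2) (by decide) (by decide),
      em _ _ _ _ (1, 1, -1, -1) (by decide) (by decide)]
  · intro hz
    have hπτ : ∀ s, π (τ s) = s := fun s => congrArg Subtype.val (hσ s)
    rw [hπτ] at hz
    have h := mem_center_iff.1 hz (hel hab h2 (0, 0, 2, 0) (by decide))
    simp only [e] at h
    rw [hel_mul, hel_mul] at h
    have h' := congrArg Subtype.val h
    have e2 : qh (0, 0, 2, 0) (0, 2, 0, 0) = (0, 0, 0, -2) := by decide
    have e3 : qh (0, 2, 0, 0) (0, 0, 2, 0) = (0, 0, 0, 2) := by decide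
    simp only [hel, e2, e3] at h'
    have h00 := congrFun (congrFun h' 0) 0
    have h01 := congrFun (congrFun h' 0) 1
    simp [qmat] at h00 h01
    rw [mul_comm _ 2, inv_mul_cancel_left₀ h2] at h00 h01
    have hb : b = 0 := by
      have : 2 * b = 0 := by linear_combination h00
      simpa [h2] using this
    have ha : a = 0 := by
      have : 2 * a = 0 := by linear_combination -h01
      simpa [h2] using this
    rw [ha, hb] at hab
    simp at hab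

end Cfsg.Agent.FG.Fix6
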