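import Mathlib
import Cfsg.Prelude.Def_RootSubgroups
import Cfsg.Agent.FG.Fix6Quat
import Cfsg.Agent.FG.Fix6Hur
import Cfsg.Agent.S3099
import Cfsg.Agent.Ch.MultSL2
import Cfsg.Agent.Cl.LinearBlock
import Cfsg.Agent.GT.Quasisimple
import Cfsg.Agent.GT.PPrimeCore
import Cfsg.Agent.Perm.LinReg

/-! A group without the small configurations and with large non-solvable part contains `SL₂(r)`. -/

set_option autoImplicit false

namespace Cfsg.Agent.FG.Fix6

open Subgroup
open Matrix (SpecialLinearGroup)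
open scoped commutatorElement

theorem Good.not_dvd_ker {Y Q : Type*} [Group Y] [Finite Y] [Group Q] [Group.IsPerfect Q]
    (h : Good Y) (π : Y →* Q) (hπ : Function.Surjective π)
    (hmin : ∀ Z : Subgroup Y, Z.map π = ⊤ → Z = ⊤) : ¬ 3 ∣ Nat.card π.ker := by
  intro h3
  have hY : commutator Y = ⊤ := hmin _ (by
    rw [commutator_def, map_commutator, ← MonoidHom.range_eq_map, MonoidHom.range_eq_top.2 hπ,
      ← commutator_def]
    exact Group.isPerfect_def.1 inferInstance)
  obtain ⟨g, hg⟩ := exists_prime_orderOf_dvd_card' 3 h3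
  have hgP : IsPGroup 3 (zpowers g) := IsPGroup.of_card (n := 1) (by rw [Nat.card_zpowers, hg, pow_one])
  obtain ⟨P, hP⟩ := hgP.exists_le_sylow
  set P₀ : Subgroup Y := (P : Subgroup π.ker).map π.ker.subtype with hP₀
  have hnorm : P₀.Normal := by
    rw [← normalizer_eq_top_iff]
    apply hmin
    have := congrArg (Subgroup.map π) (P.normalizer_sup_eq_top)
    rwa [Subgroup.map_sup, (Subgroup.map_eq_bot_iff _).2 le_rfl, sup_bot_eq, ← MonoidHom.range_eq_map,
      MonoidHom.range_eq_top.2 hπ] at this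
  have hc : IsCyclic P₀ := h.isCyclic (Or.inl rfl) (P.isPGroup'.map _)
  have hgP₀ : (g : Y) ∈ P₀ := ⟨g, hP (mem_zpowers g), rfl⟩
  have hcent : ∀ y : Y, y * g * y⁻¹ = g := by
    intro y
    let _ := (hc.mulAutMulEquiv _).toMonoidHom.commGroupOfInjective (hc.mulAutMulEquiv _).injective
    have h1 := Abelianization.commutator_subset_ker (MulAut.conjNormal : Y →* MulAut P₀)
      (hY ▸ mem_top y)
    have h2 := congrArg (fun f : MulAut P₀ => (f ⟨g, hgP₀⟩ : Y)) h1
    simpa using h2
  obtain ⟨S⟩ : Nonempty (Sylow 3 Y) := inferInstance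
  have hS : IsCyclic S := h.isCyclic (Or.inl rfl) S.isPGroup'
  let _ : CommGroup S := IsCyclic.commGroup
  have key : ∀ (k : ℕ) (g₀ : Y), g₀⁻¹ * (g : Y) ^ k * g₀ ∈ (S : Subgroup Y) →
      g₀⁻¹ * (g : Y) ^ k * g₀ = (g : Y) ^ k := fun k g₀ _ => by
    have := congrArg (· ^ k) (hcent g₀⁻¹)
    simp only [conj_pow] at this
    rwa [inv_inv] at this
  have h1 := MonoidHom.transfer_eq_pow (MonoidHom.id S) (g : Y) key
  have h2 := Abelianization.commutator_subset_ker (MonoidHom.transfer (MonoidHom.id S))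
    (hY ▸ mem_top (g : Y))
  rw [MonoidHom.mem_ker, h1] at h2
  have h4 : (g : Y) ^ (S : Subgroup Y).index = 1 := congrArg Subtype.val h2
  have h5 := orderOf_dvd_of_pow_eq_one h4
  rw [Subgroup.orderOf_coe, hg] at h5
  exact S.not_dvd_index h5

theorem Good.exists_tetra {D : Type*} [Group D] [Finite D] [Group.IsPerfect D] (h : Good D)
    {F : Type} [Field F] [Finite F] (hF : Odd (Nat.card F))
    (π : D →* SpecialLinearGroup (Fin 2) F) (hπ : Function.Surjective π)
    (hk : Odd (Nat.card π.ker)) :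
    ∃ i j x : D, x ^ 3 = 1 ∧ i ^ 4 = 1 ∧ x * i * x⁻¹ = j ∧ x * j * x⁻¹ = i * j ∧
      π i ∉ center (SpecialLinearGroup (Fin 2) F) := by
  have : Group.IsPerfect (SpecialLinearGroup (Fin 2) F) := Group.IsPerfect.ofSurjective hπ
  obtain ⟨Y, hY, hmin⟩ := (wellFounded_lt (α := Subgroup D)).has_min {Y | Y.map π = ⊤}
    ⟨⊤, by rw [Set.mem_ofPred_eq, ← MonoidHom.range_eq_map, MonoidHom.range_eq_top.2 hπ]⟩
  have hπY : Function.Surjective (π.comp Y.subtype) := by
    rw [← MonoidHom.range_eq_top, MonoidHom.range_comp, range_subtype]; exact hY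
  have hk3 := (h.of_injective Y.subtype Y.subtype_injective).not_dvd_ker (π.comp Y.subtype) hπY
    (fun Z hZ => by
      by_contra hne
      refine hmin (Z.map Y.subtype) (by rw [Set.mem_ofPred_eq, Subgroup.map_map, hZ]) ?_
      refine lt_of_le_of_ne (map_subtype_le Z) fun e => hne ?_
      apply Subgroup.map_injective Y.subtype_injective
      rw [e, ← MonoidHom.range_eq_map, range_subtype])
  have hk2 : ¬ 2 ∣ Nat.card (π.comp Y.subtype).ker := by
    intro h2
    have : Nat.card (π.comp Y.subtype).ker ∣ Nat.card π.ker := by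
      rw [← MonoidHom.comap_ker]
      exact card_comap_dvd_of_injective _ _ Y.subtype_injective
    exact (Nat.not_even_iff_odd.2 hk) (even_iff_two_dvd.2 (h2.trans this))
  have := Fintype.ofFinite F
  obtain ⟨p, hp⟩ := CharP.exists F
  have hpp := CharP.char_is_prime F p
  have : NeZero p := ⟨hpp.ne_zero⟩
  obtain ⟨a, b, hab⟩ := CharP.sq_add_sq F p (-1)
  have h2 : (2 : F) ≠ 0 := by
    intro e
    have : ringChar F = 2 := CharP.ringChar_of_prime_eq_zero Nat.prime_two (by exact_mod_cast e)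
    have := FiniteField.even_card_of_char_two this
    rw [Nat.card_eq_fintype_card, Nat.odd_iff] at hF
    omega
  obtain ⟨i, j, x, hx, hi, hij, hjk, hc⟩ := Fix6.exists_tetra h2 (a := (a : F)) (b := (b : F))
    (by rw [hab]; simp) (π.comp Y.subtype) hπY hk2 hk3
  exact ⟨i, j, x, congrArg Subtype.val hx, congrArg Subtype.val hi, congrArg Subtype.val hij,
    congrArg Subtype.val hjk, hc⟩

theorem Good.injective {D : Type*} [Group D] [Finite D] [Group.IsPerfect D] (h : Good D)
    {F : Type} [Field F] [Finite F] (hF : Odd (Nat.card F)) (h3 : 3 < Nat.card F)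
    (h9 : Nat.card F ≠ 9) (π : D →* SpecialLinearGroup (Fin 2) F) (hπ : Function.Surjective π)
    (hk : Odd (Nat.card π.ker)) : Function.Injective π := by
  have hq := Cl.sl_isQuasisimple (ι := Fin 2) (F := F) (Or.inr (Ch.exists_sq_ne_one_of_card h3))
  obtain ⟨i, j, x, hx, hi, hij, hjk, hc⟩ := h.exists_tetra hF π hπ hk
  have hcent := h.cent hx hi hij hjk π.ker inferInstance hk
  set C := centralizer (π.ker : Set D) with hC
  have hiC : i ∈ C := fun n hn => by
    have := hcent n hn
    rw [mul_inv_eq_iff_eq_mul] at this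
    exact this.symm
  have hCn : (C.map π).Normal := Subgroup.Normal.map inferInstance π hπ
  have hCtop : C.map π = ⊤ := (hq.normal_eq_top_or_le_center _).resolve_right fun hle =>
    hc (hle ⟨i, hiC, rfl⟩)
  have hC' : C = ⊤ := by
    have hs : Group.IsSolvable π.ker := S0205.result hk
    have hsurj : Function.Surjective ((QuotientGroup.mk' C).comp π.ker.subtype) := by
      intro q
      obtain ⟨d, rfl⟩ := QuotientGroup.mk'_surjective C q
      obtain ⟨c, hc, e⟩ : π d ∈ C.map π := hCtop ▸ mem_top _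
      refine ⟨⟨d * c⁻¹, by rw [MonoidHom.mem_ker, map_mul, map_inv, e, mul_inv_cancel]⟩, ?_⟩
      simp only [MonoidHom.comp_apply, subtype_apply, map_mul, map_inv]
      rw [show QuotientGroup.mk' C c = 1 from (QuotientGroup.eq_one_iff c).2 hc, inv_one, mul_one]
    have h1 : Group.IsSolvable (D ⧸ C) := Group.isSolvable_of_surjective hsurj
    have h2 : Group.IsPerfect (D ⧸ C) := Group.IsPerfect.ofSurjective (QuotientGroup.mk'_surjective C)
    have h4 : Subsingleton (D ⧸ C) := by
      by_contra hn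
      rw [not_subsingleton_iff_nontrivial] at hn
      exact Group.IsPerfect.not_isSolvable (G := D ⧸ C) h1
    exact QuotientGroup.subgroup_eq_top_of_subsingleton C h4
  rw [← MonoidHom.ker_eq_bot_iff]
  refine Ch.ker_eq_bot_of_stem (Ch.hasCyclicSchurMultiplier_one_iff_card.2
    (Ch.card_mult_sl2 (fun e => by rw [e] at hF; exact absurd hF (by decide)) h9)) π ⟨hπ, ?_, ?_⟩
  · intro n hn
    rw [mem_center_iff]
    intro g
    exact ((hC' ▸ mem_top g : g ∈ C) n hn).symm
  · rw [Group.isPerfect_def.1 inferInstance]; exact le_top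

theorem Good.card_eq {D : Type*} [Group D] [Finite D] (h : Good D) {F : Type} [Field F] [Finite F]
    (π : D →* SpecialLinearGroup (Fin 2) F) (hπ : Function.Surjective π) {s : ℕ} (hs : s = 3 ∨ s = 5)
    [CharP F s] : Nat.card F ≤ s := by
  have hp : Fact s.Prime := ⟨by rcases hs with rfl | rfl <;> norm_num⟩
  have hpow : ∀ t : F, GT.slUp t ^ s = 1 := fun t => by
    rw [GT.slUp_pow, CharP.cast_eq_zero, zero_mul, GT.slUp_zero]
  have ho : orderOf (GT.slUp (1 : F)) = s :=
    orderOf_eq_prime (hpow 1) (by rw [Ne, GT.slUp_eq_one_iff]; exact one_ne_zero)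
  have hm : ∀ t : F, GT.slUp t ∈ zpowers (GT.slUp (1 : F)) := fun t =>
    h.quot π hπ hs ho (hpow t) (by rw [Commute, SemiconjBy, ← GT.slUp_add, ← GT.slUp_add, add_comm])
  rw [← ho, ← Nat.card_zpowers]
  exact Nat.card_le_card_of_injective (fun t => (⟨_, hm t⟩ : zpowers (GT.slUp (1 : F))))
    fun s t e => GT.slUp_injective (congrArg Subtype.val e)

theorem Good.not_alt {D : Type*} [Group D] [Finite D] (h : Good D)
    (π : D →* alternatingGroup (Fin 7)) (hπ : Function.Surjective π) : False := by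
  let a : alternatingGroup (Fin 7) := ⟨c[0, 1, 2], Equiv.Perm.mem_alternatingGroup.2 (by decide)⟩
  let b : alternatingGroup (Fin 7) := ⟨c[3, 4, 5], Equiv.Perm.mem_alternatingGroup.2 (by decide)⟩
  have := Fact.mk Nat.prime_three
  have ho : orderOf a = 3 := orderOf_eq_prime (by decide) (by decide)
  have := h.quot π hπ (Or.inl rfl) (b := b) ho (by decide) (by change a * b = b * a; decide)
  rw [mem_zpowers_iff_mem_range_orderOf, ho] at this
  revert this
  decide

theorem exists_residual (H : Type*) [Group H] [Finite H] :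
    ∃ D : Subgroup H, ∃ _ : D.Normal, Group.IsSolvable (H ⧸ D) ∧ ⁅D, D⁆ = D := by
  obtain ⟨D, ⟨h1, h2⟩, h3⟩ := (wellFounded_lt (α := Subgroup H)).has_min
    {D | ∃ _ : D.Normal, Group.IsSolvable (H ⧸ D)} ⟨⊤, inferInstance, by
      have := QuotientGroup.subsingleton_quotient_top (G := H)
      infer_instance⟩
  refine ⟨D, h1, h2, by_contra fun hne => h3 ⁅D, D⁆ ⟨inferInstance, ?_⟩
    (lt_of_le_of_ne (commutator_le_right D D) hne)⟩
  obtain ⟨n, hn⟩ := h2
  refine ⟨n + 1, ?_⟩
  have e1 := map_derivedSeries_eq (QuotientGroup.mk'_surjective D) n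
  have e2 := map_derivedSeries_eq (QuotientGroup.mk'_surjective ⁅D, D⁆) (n + 1)
  rw [hn, Subgroup.map_eq_bot_iff, QuotientGroup.ker_mk'] at e1
  rw [← e2, Subgroup.map_eq_bot_iff, QuotientGroup.ker_mk', derivedSeries_succ]
  exact commutator_mono e1 e1

theorem slDiag_pow_three {F : Type*} [Field F] {v : F} (hv : v ≠ 0) (h : v ^ 3 = 1) :
    Ch.slDiag hv ^ 3 = 1 := by
  rw [pow_three]
  ext i j
  change (!![v, 0; 0, v⁻¹] * (!![v, 0; 0, v⁻¹] * !![v, 0; 0, v⁻¹]) : Matrix (Fin 2) (Fin 2) F) i j =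
    (1 : Matrix (Fin 2) (Fin 2) F) i j
  fin_cases i <;> fin_cases j <;> simp [← pow_three, h]

theorem Good.exists_sl {H : Type*} [Group H] [Finite H] (h : Good H)
    (hR : 120 < (Cfsg.solvableRadical H).index) :
    ∃ r : ℕ, ∃ _ : Fact r.Prime, 11 ≤ r ∧ r % 3 = 2 ∧
      ∃ f : SpecialLinearGroup (Fin 2) (ZMod r) →* H, Function.Injective f := by
  obtain ⟨D, hDn, hDs, hDp⟩ := exists_residual H
  have hsol : ∀ C : Subgroup H, C.Normal → Group.IsSolvable ↥(C ⊓ D) → 120 < C.index := by
    intro C hC hs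
    have : Group.IsSolvable C := by
      refine Group.isSolvable_of_ker_le_range (Subgroup.inclusion (inf_le_left : C ⊓ D ≤ C))
        ((QuotientGroup.mk' D).comp C.subtype) fun c hc => ?_
      exact ⟨⟨c, Subgroup.mem_inf.2 ⟨c.2, (QuotientGroup.eq_one_iff _).1 hc⟩⟩, rfl⟩
    have hle : C ≤ Cfsg.solvableRadical H := le_sSup ⟨hC, this⟩
    exact hR.trans_le (Nat.le_of_dvd (Nat.pos_of_ne_zero C.index_ne_zero_of_finite)
      (index_dvd_of_le hle))
  have hD := h.of_injective D.subtype D.subtype_injective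
  have hP : Group.IsPerfect D := Subgroup.isPerfect_iff.2 hDp
  have hev : Even (Nat.card D) := by
    by_contra hodd
    have := hsol ⊤ inferInstance (by
      rw [top_inf_eq]; exact S0205.result (Nat.not_even_iff_odd.1 hodd))
    simp at this
  rcases S3099.result hP (hD.pRank (Or.inl rfl)) hev with ⟨F, _, _, hF, h3, ⟨e⟩⟩ | ⟨-, ⟨e⟩, -⟩
  swap
  · exact (hD.not_alt ((e.toMonoidHom.comp (QuotientGroup.mk' _)).comp (QuotientGroup.mk' _))
      ((e.surjective.comp (QuotientGroup.mk'_surjective _)).comp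
        (QuotientGroup.mk'_surjective _))).elim
  rw [← Nat.card_eq_fintype_card] at hF h3
  let π := e.toMonoidHom.comp (QuotientGroup.mk' (oddCore D))
  have hπ : Function.Surjective π := e.surjective.comp (QuotientGroup.mk'_surjective _)
  have hker : π.ker = oddCore D := by
    ext d
    simp [π]
  obtain ⟨p, hp⟩ := CharP.exists F
  have hpp := Fact.mk (CharP.char_is_prime F p)
  obtain ⟨n, -, hn⟩ := FiniteField.card F p
  rw [← Nat.card_eq_fintype_card] at hn
  have hp3 : p ≠ 3 := by
    rintro rfl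
    have := hD.card_eq π hπ (Or.inl rfl)
    omega
  have hp2 : p ≠ 2 := by
    rintro rfl
    rw [hn] at hF
    exact absurd (Nat.odd_pow_iff n.ne_zero |>.1 hF) (by decide)
  have h9 : Nat.card F ≠ 9 := by
    intro e9
    have : p ∣ 3 ^ 2 := by
      rw [show 3 ^ 2 = 9 from rfl, ← e9, hn]; exact dvd_pow_self p n.ne_zero
    exact hp3 ((Nat.prime_dvd_prime_iff_eq hpp.1 Nat.prime_three).1 (hpp.1.dvd_of_dvd_pow this))
  have hinj := hD.injective hF h3 h9 π hπ (hker ▸ GT.odd_card_oddCore)
  let ε := MulEquiv.ofBijective π ⟨hinj, hπ⟩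
  have hφ : Function.Injective
      (SpecialLinearGroup.map (n := Fin 2) (ZMod.castHom (dvd_refl p) F)) := by
    intro A B hAB
    ext i j
    have := congrArg (fun M : SpecialLinearGroup (Fin 2) F => M i j) hAB
    exact (ZMod.castHom (dvd_refl p) F).injective (by simpa using this)
  have hp5 : p ≠ 5 := by
    rintro rfl
    have h5 := hD.card_eq π hπ (Or.inr rfl)
    have hc : Fintype.card (ZMod 5) = Fintype.card F := by
      rw [ZMod.card, ← Nat.card_eq_fintype_card]
      have := Nat.le_of_dvd (by omega) (hn ▸ dvd_pow_self 5 n.ne_zero : 5 ∣ Nat.card F)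
      omega
    have hb : Function.Bijective (ZMod.castHom (dvd_refl 5) F) :=
      (Fintype.bijective_iff_injective_and_card _).2 ⟨(ZMod.castHom (dvd_refl 5) F).injective, hc⟩
    have hsurj : Function.Surjective
        (SpecialLinearGroup.map (n := Fin 2) (ZMod.castHom (dvd_refl 5) F)) := by
      intro B
      let ψ := (RingEquiv.ofBijective _ hb).symm
      refine ⟨SpecialLinearGroup.map (ψ : F →+* ZMod 5) B, ?_⟩
      ext i j
      exact (RingEquiv.ofBijective _ hb).apply_symm_apply (B i j)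
    have hdvd := Perm.index_centralizer_dvd_of_sl
      (ε.trans (MulEquiv.ofBijective _ ⟨hφ, hsurj⟩).symm)
    have := hsol (centralizer (D : Set H)) inferInstance (by
      refine Group.isSolvable_of_comm fun a b => Subtype.ext ?_
      exact ((mem_inf.1 b.2).1 _ (mem_inf.1 a.2).2))
    have := Nat.le_of_dvd (by norm_num) hdvd
    omega
  let f := (D.subtype.comp ε.symm.toMonoidHom).comp
    (SpecialLinearGroup.map (n := Fin 2) (ZMod.castHom (dvd_refl p) F))
  have hf : Function.Injective f := (D.subtype_injective.comp ε.symm.injective).comp hφ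
  have hmod : p % 3 = 2 := by
    by_contra hne
    have h1 : 3 ∣ p - 1 := by
      have : ¬ 3 ∣ p := fun h' => hp3 ((Nat.prime_dvd_prime_iff_eq Nat.prime_three hpp.1).1 h').symm
      have := hpp.1.two_le
      omega
    have := Fact.mk Nat.prime_three
    obtain ⟨w, hw⟩ := exists_prime_orderOf_dvd_card' (G := (ZMod p)ˣ) 3
      (by rwa [Nat.card_eq_fintype_card, ZMod.card_units])
    have hw3 : (w : ZMod p) ^ 3 = 1 := by
      rw [← Units.val_pow_eq_pow_val, ← hw, pow_orderOf_eq_one, Units.val_one]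
    have h4 := (h.of_injective f hf).p3 (Ch.slDiag w.ne_zero) (GT.slUp 1) (slDiag_pow_three _ hw3)
      (by rw [Ch.slDiag_conj, Commute, SemiconjBy, ← GT.slUp_add, ← GT.slUp_add, add_comm])
    rw [Ch.slDiag_conj, GT.slUp_injective.eq_iff, mul_one] at h4
    have h5 : w ^ 2 = 1 := Units.ext (by simpa using h4)
    have := orderOf_dvd_of_pow_eq_one h5
    rw [hw] at this
    omega
  refine ⟨p, hpp, ?_, hmod, f, hf⟩
  by_contra hlt
  have h8 : p ≠ 8 := by rintro rfl; exact absurd hpp.1 (by decide)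
  omega

end Cfsg.Agent.FG.Fix6
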