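import Mathlib

/-! Normal bases for finite groups acting on commutative rings with trivial inertia. -/

set_option autoImplicit false

open scoped Pointwise

namespace Cfsg.Agent.FG.Free

theorem nb_field {K G : Type*} [Field K] [Group G] [Fintype G] [DecidableEq G]
    [MulSemiringAction G K] [FaithfulSMul G K] :
    ∃ x y : K, ∀ g : G, ∑ s : G, s • (y * g • x) = if g = 1 then 1 else 0 := by
  classical
  let F := FixedPoints.subfield G K
  let e := FixedPoints.toAlgAutMulEquiv G K
  have he : ∀ (g : G) (x : K), e g x = g • x := fun _ _ => rfl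
  let b := IsGalois.normalBasis F K
  let d := (Algebra.traceForm F K).dualBasis (traceForm_nondegenerate F K) b
  refine ⟨b 1, d 1, fun g => ?_⟩
  have h1 : g • b 1 = b (e g) := (IsGalois.normalBasis_apply (e g)).symm
  have h2 := LinearMap.BilinForm.apply_dualBasis_left (traceForm_nondegenerate F K) b 1 (e g)
  have h3 := trace_eq_sum_automorphisms (K := F) (d 1 * b (e g))
  rw [← Algebra.traceForm_apply, h2, ← Equiv.sum_comp e.toEquiv] at h3
  rw [h1]
  refine h3.symm.trans ?_
  simp only [EmbeddingLike.map_eq_one_iff]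
  split_ifs <;> simp

theorem nb_ring {R H : Type*} [CommRing R] [Group H] [Fintype H] [DecidableEq H]
    [MulSemiringAction H R] (m : Ideal R) [hm : m.IsMaximal]
    (hJ : ∀ r : R, (∀ h : H, h • r ∈ m) → r = 0) (hI : ∀ h : H, (∀ r, h • r - r ∈ m) → h = 1) :
    ∃ x y : R, (∀ g : H, ∑ s : H, s • (y * g • x) = if g = 1 then 1 else 0) ∧
      ∀ g : H, ∑ s : H, s • x * (g * s) • y = if g = 1 then 1 else 0 := by
  classical
  let D := MulAction.stabilizer H m
  let _ : Field (R ⧸ m) := Ideal.Quotient.field m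
  let _ : MulSemiringAction D (R ⧸ m) :=
    MulSemiringAction.compHom (R ⧸ m) (Ideal.Quotient.stabilizerHom m (m.under ℤ) H)
  have hs : ∀ (s : D) (r : R), s • Ideal.Quotient.mk m r = Ideal.Quotient.mk m ((s : H) • r) :=
    fun _ _ => rfl
  have : FaithfulSMul D (R ⧸ m) := ⟨fun {s t} h => by
    have : (t⁻¹ * s : D) = 1 := Subtype.ext (hI _ fun r => by
      rw [← Ideal.Quotient.eq, ← hs, mul_smul, h, inv_smul_smul])
    exact (inv_mul_eq_one.1 this).symm⟩
  obtain ⟨x₀, y₀, hxy⟩ := nb_field (K := R ⧸ m) (G := D)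
  obtain ⟨x₀, rfl⟩ := Ideal.Quotient.mk_surjective x₀
  obtain ⟨y₀, rfl⟩ := Ideal.Quotient.mk_surjective y₀
  have ha : ∀ g : H, ∃ a : R, Ideal.Quotient.mk m a = 1 ∧ (g ∉ D → g • a ∈ m) := fun g => by
    by_cases hg : g ∈ D
    · exact ⟨1, map_one _, fun h => absurd hg h⟩
    have h1 : (g⁻¹ • m).IsMaximal := by
      rw [Ideal.pointwise_smul_eq_comap]
      exact Ideal.comap_isMaximal_of_equiv _
    have h2 : g⁻¹ • m ≠ m := fun h => hg (D.inv_mem_iff.1 h)
    obtain ⟨a, ha, b, hb, e⟩ := Submodule.mem_sup.1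
      ((h1.coprime_of_ne hm h2).ge (Submodule.mem_top (x := 1)))
    refine ⟨a, ?_, fun _ => Ideal.mem_inv_pointwise_smul_iff.1 ha⟩
    rw [← map_one (Ideal.Quotient.mk m), ← e, map_add, Ideal.Quotient.eq_zero_iff_mem.2 hb,
      add_zero]
  choose a ha1 ha2 using ha
  let ε := ∏ g, a g
  have e1 : Ideal.Quotient.mk m ε = 1 := by simp [ε, ha1]
  have e2 : ∀ g ∉ D, ∀ r, Ideal.Quotient.mk m (g • (ε * r)) = 0 := fun g hg r => by
    rw [Ideal.Quotient.eq_zero_iff_mem, smul_mul', Finset.smul_prod']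
    exact m.mul_mem_right _ (Ideal.prod_mem m (Finset.mem_univ g) (ha2 g hg))
  have key : ∀ g : H, ∑ s : H, s • (ε * y₀ * g • (ε * x₀)) = if g = 1 then 1 else 0 := fun g => by
    rw [← sub_eq_zero]
    refine hJ _ fun h => ?_
    have : h • ∑ s : H, s • (ε * y₀ * g • (ε * x₀)) = ∑ s : H, s • (ε * y₀ * g • (ε * x₀)) := by
      rw [Finset.smul_sum]
      exact Fintype.sum_equiv (Equiv.mulLeft h) _ _ fun s => by simp [mul_smul]
    rw [smul_sub, this, show h • (if g = 1 then (1 : R) else 0) = if g = 1 then 1 else 0 by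
      split_ifs <;> simp, ← Ideal.Quotient.eq, map_sum,
      ← Finset.sum_subset (Finset.filter_subset (· ∈ D) Finset.univ) (fun s _ hs => by
        rw [mul_assoc]; exact e2 s (by simpa using hs) _),
      Finset.sum_subtype (p := (· ∈ D)) (F := inferInstance) _ (by simp)]
    by_cases hg : g ∈ D
    · have := hxy ⟨g, hg⟩
      simp only [← hs, map_mul, e1, one_mul]
      rw [show Ideal.Quotient.mk m (g • (ε * x₀)) = _ from (hs ⟨g, hg⟩ _).symm, map_mul, e1,
        one_mul, this]
      simp only [Subtype.ext_iff, OneMemClass.coe_one]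
      split_ifs <;> simp
    · rw [if_neg (fun e : g = 1 => hg (e ▸ D.one_mem)), map_zero]
      exact Finset.sum_eq_zero fun s _ => by rw [← hs, map_mul, e2 g hg, mul_zero, smul_zero]
  refine ⟨ε * x₀, ε * y₀, key, fun g => ?_⟩
  let X : Matrix H H R := Matrix.of fun s t => (s * t) • (ε * x₀)
  let Y : Matrix H H R := Matrix.of fun s t => (t * s) • (ε * y₀)
  have : Y * X = 1 := by
    ext s t
    rw [Matrix.mul_apply, Matrix.one_apply, ← if_congr (inv_mul_eq_one (a := s) (b := t)) rfl rfl,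
      ← key]
    exact Fintype.sum_equiv (Equiv.mulRight s) _ _ fun u => by
      simp [X, Y, smul_mul', smul_smul]
  have : (X * Y) 1 g = (1 : Matrix H H R) 1 g := by rw [mul_eq_one_comm.1 this]
  rw [Matrix.mul_apply, Matrix.one_apply] at this
  simpa [X, Y, eq_comm] using this

end Cfsg.Agent.FG.Free
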