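import Mathlib
import Cfsg.Agent.FG.FreeA

/-! A module without fixed points for a soluble group of invertible order is free over a group
acting fixed-point-freely on it. -/

set_option autoImplicit false

open Module

namespace Cfsg.Agent.FG.Free

universe u v

variable {k H : Type*} [Field k] [Group H] [Fintype H]

section

variable {V : Type*} [AddCommGroup V] [Module k V]

/-- The module is free over `H`. -/
def Fr (τ : Representation k H V) : Prop :=
  ∃ W : Submodule k V, (∀ v, ∃ w : H → V, (∀ h, w h ∈ W) ∧ v = ∑ h, τ h (w h)) ∧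
    ∀ w : H → V, (∀ h, w h ∈ W) → ∑ h, τ h (w h) = 0 → ∀ h, w h = 0

theorem Fr.isInternal [DecidableEq H] {τ : Representation k H V} (h : Fr τ) :
    ∃ W : Submodule k V, DirectSum.IsInternal fun g : H => W.map (τ g) := by
  obtain ⟨W, h1, h2⟩ := h
  refine ⟨W, DirectSum.isInternal_submodule_of_iSupIndep_of_iSup_eq_top ?_ ?_⟩
  · rw [iSupIndep_iff_finsetSum_eq_zero_imp_eq_zero]
    intro s v hv h0 g hg
    choose! w hw e using hv
    have := h2 (fun g => if g ∈ s then w g else 0)
      (fun g => by split_ifs with h; exacts [hw g h, W.zero_mem]) (by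
        rw [← Finset.sum_subset (Finset.subset_univ s) fun g _ hg => by simp [hg]]
        exact (Finset.sum_congr rfl fun g hg => by rw [if_pos hg, e g hg]).trans h0) g
    rw [if_pos hg] at this
    rw [← e g hg, this, map_zero]
  · refine eq_top_iff.2 fun v _ => ?_
    obtain ⟨w, hw, rfl⟩ := h1 v
    exact Submodule.sum_mem _ fun g _ =>
      Submodule.mem_iSup_of_mem g (Submodule.mem_map_of_mem (hw g))

theorem Fr.ext {τ : Representation k H V} {U : Submodule k V} (hU : ∀ g, U ≤ U.comap (τ g))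
    (h : Fr (τ.subrepresentation U hU)) (h' : Fr (τ.quotient U hU)) : Fr τ := by
  obtain ⟨W, h1, h2⟩ := h
  obtain ⟨W', h3, h4⟩ := h'
  obtain ⟨s, hs⟩ := U.mkQ.exists_rightInverse_of_surjective U.range_mkQ
  have hs' : ∀ x, U.mkQ (s x) = x := fun x => LinearMap.congr_fun hs x
  have q : ∀ g x, U.mkQ (τ g x) = τ.quotient U hU g (U.mkQ x) := fun _ _ => rfl
  have r : ∀ g (x : U), ((τ.subrepresentation U hU g x : U) : V) = τ g x := fun _ _ => rfl
  refine ⟨W.map U.subtype ⊔ W'.map s, fun v => ?_, fun w hw h0 => ?_⟩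
  · obtain ⟨w', a1, a2⟩ := h3 (U.mkQ v)
    have : v - ∑ g, τ g (s (w' g)) ∈ U := by
      rw [← Submodule.Quotient.mk_eq_zero, ← U.mkQ_apply, map_sub, a2, map_sum]
      simp only [q, hs', sub_self]
    obtain ⟨w, b1, b2⟩ := h1 ⟨_, this⟩
    refine ⟨fun g => w g + s (w' g), fun g => Submodule.add_mem_sup
      (Submodule.mem_map_of_mem (b1 g)) (Submodule.mem_map_of_mem (a1 g)), ?_⟩
    have := congrArg Subtype.val b2
    simp only [Submodule.coe_sum, r] at this
    simp only [map_add, Finset.sum_add_distrib, ← this, sub_add_cancel]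
  · have : ∀ g, ∃ a ∈ W, ∃ b ∈ W', w g = a + s b := fun g => by
      obtain ⟨_, ⟨a, ha, rfl⟩, _, ⟨b, hb, rfl⟩, e⟩ := Submodule.mem_sup.1 (hw g)
      exact ⟨a, ha, b, hb, e.symm⟩
    choose a ha b hb e using this
    have z : ∀ x : U, U.mkQ x = 0 := fun x => (Submodule.Quotient.mk_eq_zero U).2 x.2
    have b0 := h4 b hb (by
      have := congrArg U.mkQ h0
      simpa only [map_sum, q, e, map_add, z, hs', zero_add, map_zero] using this)
    have a0 := h2 a ha (Subtype.ext (by
      simpa only [Submodule.coe_sum, r, e, b0, map_zero, add_zero, Submodule.coe_zero] using h0))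
    intro g
    rw [e, a0, b0, map_zero, Submodule.coe_zero, add_zero]

theorem fr_of_proj [DecidableEq H] {τ : Representation k H V} (p : Module.End k V)
    (h1 : ∑ h, τ h * p * τ h⁻¹ = 1) (h2 : ∀ g, p * τ g * p = if g = 1 then p else 0) : Fr τ := by
  refine ⟨LinearMap.range p, fun v => ⟨fun h => p (τ h⁻¹ v), fun h => ⟨_, rfl⟩, ?_⟩,
    fun w hw h0 g => ?_⟩
  · simpa [LinearMap.sum_apply] using (LinearMap.congr_fun h1 v).symm
  · choose u hu using hw
    have := congrArg (p * τ g⁻¹) h0
    rw [map_sum, map_zero, Finset.sum_eq_single g] at this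
    · have e := LinearMap.congr_fun (h2 (g⁻¹ * g)) (u g)
      rw [if_pos (inv_mul_cancel g), map_mul] at e
      rw [← hu, ← e, ← this, ← hu]
      rfl
    · intro h _ hh
      have e := LinearMap.congr_fun (h2 (g⁻¹ * h)) (u h)
      rw [if_neg (fun e => hh (inv_mul_eq_one.1 e).symm), map_mul] at e
      rw [← hu]
      exact e
    · simp

theorem core_ring [FiniteDimensional k V] [Nontrivial V] {Z R : Type*} [Group Z] [Fintype Z]
    [CommRing R] [Algebra k R] [MulSemiringAction H R] (ι : R →ₐ[k] Module.End k V)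
    (hι : Function.Injective ι) (a : H → Z →* Z) (ζ : Z →* R) (τ : Representation k H V)
    (mv : ∀ h r, τ h * ι r = ι (h • r) * τ h) (hc : ∀ h z, h • ζ z = ζ (a h z))
    (fpf : ∀ h, h ≠ 1 → ∀ z, a h z = z → z = 1)
    (hZ : (Fintype.card Z : k) ≠ 0) (h0 : ∑ z, ζ z = 0)
    (irr : ∀ U : Submodule k V, (∀ r, U ≤ U.comap (ι r)) → (∀ h, U ≤ U.comap (τ h)) →
      U = ⊥ ∨ U = ⊤) : Fr τ := by
  classical
  have : Nontrivial R := ι.toRingHom.domain_nontrivial
  obtain ⟨m, hm⟩ := Ideal.exists_maximal R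
  have hJ : ∀ r : R, (∀ h : H, h • r ∈ m) → r = 0 := by
    let _ : Module R V := Module.compHom V ι.toRingHom
    have hs : ∀ (r : R) (v : V), r • v = ι r v := fun _ _ => rfl
    have : IsScalarTower k R V := ⟨fun c r v => by rw [hs, hs, map_smul]; rfl⟩
    obtain ⟨J, hJ⟩ : ∃ J : Ideal R, ∀ r, r ∈ J ↔ ∀ h : H, h • r ∈ m :=
      ⟨⨅ h : H, m.comap (MulSemiringAction.toRingHom H R h), fun r => by simp⟩
    obtain ⟨U, hU'⟩ : ∃ U : Submodule k V, ∀ v, v ∈ U ↔ v ∈ J • (⊤ : Submodule R V) :=
      ⟨(J • (⊤ : Submodule R V)).restrictScalars k, fun v => Submodule.restrictScalars_mem ..⟩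
    have i1 : ∀ r, U ≤ U.comap (ι r) := fun r v hv => by
      rw [Submodule.mem_comap, hU', ← hs]
      exact Submodule.smul_mem _ r ((hU' v).1 hv)
    have i2 : ∀ h, U ≤ U.comap (τ h) := fun h v hv => by
      rw [Submodule.mem_comap]
      refine Submodule.smul_induction_on (p := fun v => τ h v ∈ U) ((hU' v).1 hv)
        (fun j hj v _ => ?_) fun x y hx hy => by rw [map_add]; exact U.add_mem hx hy
      have : τ h (j • v) = (h • j) • τ h v := LinearMap.congr_fun (mv h j) v
      rw [this, hU']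
      exact Submodule.smul_mem_smul ((hJ _).2 fun g => by rw [smul_smul]; exact (hJ _).1 hj _)
        Submodule.mem_top
    intro r hr
    rcases irr U i1 i2 with hU | hU
    · refine hι (LinearMap.ext fun v => ?_)
      have : r • v ∈ U := (hU' _).2 (Submodule.smul_mem_smul ((hJ r).2 hr) Submodule.mem_top)
      rw [hU] at this
      rw [map_zero]
      exact this
    · have : Module.Finite R V := Module.Finite.of_restrictScalars_finite k R V
      obtain ⟨s, h1, h2⟩ := Submodule.exists_sub_one_mem_and_smul_eq_zero_of_fg_of_le_smul J ⊤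
        Module.Finite.fg_top fun v _ => (hU' v).1 (hU ▸ Submodule.mem_top)
      have : s = 0 := hι (LinearMap.ext fun v => by rw [map_zero]; exact h2 v Submodule.mem_top)
      rw [this, zero_sub, neg_mem_iff] at h1
      exact absurd ((Ideal.eq_top_iff_one m).2 (by simpa using (hJ 1).1 h1 1)) hm.ne_top
  have hI : ∀ h : H, (∀ r : R, h • r - r ∈ m) → h = 1 := fun h hh => by
    by_contra hne
    have e1 : ∀ z, Ideal.Quotient.mk m (ζ z) = 1 := fun z => by
      obtain ⟨y, rfl⟩ := MonoidHom.FixedPointFree.commutatorMap_surjective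
        (φ := a h) (fun z hz => fpf h hne z hz) z
      have e := Ideal.Quotient.eq.2 (hh (ζ y))
      rw [MonoidHom.commutatorMap_apply, div_eq_mul_inv, map_mul, map_mul, ← e, hc, ← map_mul,
        ← map_mul, mul_inv_cancel, map_one, map_one]
    have e3 := congrArg (Ideal.Quotient.mk m) h0
    simp only [map_sum, e1, Finset.sum_const, Finset.card_univ, nsmul_eq_mul, mul_one] at e3
    rw [← map_natCast (Ideal.Quotient.mk m), map_zero, Ideal.Quotient.eq_zero_iff_mem,
      ← map_natCast (algebraMap k R)] at e3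
    exact hm.ne_top (m.eq_top_of_isUnit_mem e3 ((Ne.isUnit hZ).map _))
  obtain ⟨x, y, h1, h2⟩ := nb_ring m hJ hI
  have ts : ∀ g, τ g * ∑ s, τ s = ∑ s, τ s := fun g => by
    rw [Finset.mul_sum]
    exact Fintype.sum_equiv (Equiv.mulLeft g) _ _ fun s => by simp
  refine fr_of_proj (ι x * (∑ s, τ s) * ι y) ?_ fun g => ?_
  · have : ∀ h, τ h * (ι x * (∑ s, τ s) * ι y) * τ h⁻¹ = ∑ g, ι (h • x * (g * h) • y) * τ g :=
      fun h => by
        rw [← mul_assoc, ← mul_assoc, mv, mul_assoc _ (τ h), ts]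
        simp only [Finset.mul_sum, Finset.sum_mul]
        exact Fintype.sum_equiv (Equiv.mulRight h⁻¹) _ _ fun s => by
          simp only [Equiv.coe_mulRight, inv_mul_cancel, mul_one, map_mul, mul_assoc]
          rw [← mul_assoc (τ s), mv, mul_assoc]
    simp only [this]
    rw [Finset.sum_comm]
    simp only [← Finset.sum_mul, ← map_sum, h2]
    rw [Finset.sum_eq_single 1] <;> simp +contextual
  · have : (∑ s, τ s) * ι (y * g • x) * ∑ s, τ s = ι (∑ s : H, s • (y * g • x)) * ∑ s, τ s := by
      rw [map_sum, Finset.sum_mul, Finset.sum_mul, Finset.sum_mul]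
      exact Finset.sum_congr rfl fun s _ => by rw [mv, mul_assoc, ts]
    calc _ = ι x * ((∑ s, τ s) * ι (y * g • x) * (τ g * ∑ s, τ s)) * ι y := by
          simp only [mul_assoc, map_mul]
          rw [← mul_assoc (τ g) (ι x), mv, mul_assoc]
      _ = _ := by
          rw [ts, this, h1]
          split_ifs <;> simp

theorem core [FiniteDimensional k V] [Nontrivial V] {Z : Type*} [Group Z] [Fintype Z]
    (a : H → Z →* Z) (σ : Representation k Z V) (τ : Representation k H V)
    (hc : ∀ h z, τ h * σ z = σ (a h z) * τ h) (fpf : ∀ h, h ≠ 1 → ∀ z, a h z = z → z = 1)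
    (hZ : (Fintype.card Z : k) ≠ 0) (h0 : ∑ z, σ z = 0) (hcomm : ∀ y z, σ y * σ z = σ z * σ y)
    (irr : ∀ U : Submodule k V, (∀ z, U ≤ U.comap (σ z)) → (∀ h, U ≤ U.comap (τ h)) →
      U = ⊥ ∨ U = ⊤) : Fr τ := by
  let R := Algebra.adjoin k (Set.range σ)
  have : IsMulCommutative R := Algebra.isMulCommutative_adjoin k (by
    rintro _ ⟨y, rfl⟩ _ ⟨z, rfl⟩; exact hcomm y z)
  have t1 : ∀ h, τ h⁻¹ * τ h = 1 := fun h => by rw [← map_mul, inv_mul_cancel, map_one]
  have t2 : ∀ h, τ h * τ h⁻¹ = 1 := fun h => by rw [← map_mul, mul_inv_cancel, map_one]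
  have hc' : ∀ h z, τ h * σ z * τ h⁻¹ = σ (a h z) := fun h z => by rw [hc, mul_assoc, t2, mul_one]
  have cm : ∀ h (x y : Module.End k V), τ h * (x * y) * τ h⁻¹ =
      τ h * x * τ h⁻¹ * (τ h * y * τ h⁻¹) := fun h x y => by
    simp only [mul_assoc]
    rw [← mul_assoc (τ h⁻¹) (τ h), t1, one_mul]
  have hR : ∀ h, ∀ r ∈ R, τ h * r * τ h⁻¹ ∈ R := fun h r hr => by
    induction hr using Algebra.adjoin_induction with
    | mem x hx => obtain ⟨z, rfl⟩ := hx; rw [hc']; exact Algebra.subset_adjoin ⟨_, rfl⟩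
    | algebraMap c =>
      rw [← Algebra.commutes, mul_assoc, t2, mul_one]; exact R.algebraMap_mem c
    | add x y _ _ hx hy => rw [mul_add, add_mul]; exact R.add_mem hx hy
    | mul x y _ _ hx hy => rw [cm]; exact R.mul_mem hx hy
  let _ : CommRing R := { (inferInstance : Ring R) with mul_comm := mul_comm' }
  let _ : MulSemiringAction H R :=
    { smul := fun h r => ⟨τ h * r * τ h⁻¹, hR h r r.2⟩
      one_smul := fun r => Subtype.ext (by change τ 1 * r * τ 1⁻¹ = r; simp)
      mul_smul := fun g h r => Subtype.ext (by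
        change τ (g * h) * r * τ (g * h)⁻¹ = τ g * (τ h * r * τ h⁻¹) * τ g⁻¹
        simp only [mul_inv_rev, map_mul, mul_assoc])
      smul_zero := fun h => Subtype.ext (by change τ h * 0 * τ h⁻¹ = 0; simp)
      smul_add := fun h r s => Subtype.ext (by
        change τ h * (r + s) * τ h⁻¹ = τ h * r * τ h⁻¹ + τ h * s * τ h⁻¹
        rw [mul_add, add_mul])
      smul_one := fun h => Subtype.ext (by change τ h * 1 * τ h⁻¹ = 1; rw [mul_one, t2])
      smul_mul := fun h r s => Subtype.ext (cm h r s) }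
  let ζ : Z →* R := σ.codRestrict R fun z => Algebra.subset_adjoin ⟨z, rfl⟩
  exact core_ring R.val Subtype.val_injective a ζ τ (fun h r => by
      change τ h * r = τ h * r * τ h⁻¹ * τ h
      rw [mul_assoc, t1, mul_one]) (fun h z => Subtype.ext (hc' h z)) fpf hZ
    (Subtype.ext (by simpa [ζ] using h0)) fun U h1 h2 => irr U (fun z => h1 (ζ z)) h2

end

theorem main (n : ℕ) : ∀ (Z : Type u) [Group Z] [Fintype Z] [Group.IsSolvable Z]
    (a : H → Z →* Z), Fintype.card Z = n → (∀ h, Function.Injective (a h)) →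
    (∀ h, h ≠ 1 → ∀ z, a h z = z → z = 1) → (Fintype.card Z : k) ≠ 0 →
    ∀ (d : ℕ) (V : Type v) [AddCommGroup V] [Module k V]
    [FiniteDimensional k V] (σ : Representation k Z V) (τ : Representation k H V),
    finrank k V = d → (∀ h z, τ h * σ z = σ (a h z) * τ h) → (∀ v, (∀ z, σ z v = v) → v = 0) →
    Fr τ := by
  induction n using Nat.strong_induction_on with
  | _ n ihn =>
  intro Z _ _ _ a hn hi fpf hZ d
  induction d using Nat.strong_induction_on with
  | _ d ihd =>
  intro V _ _ _ σ τ hd hc hfix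
  classical
  rcases subsingleton_or_nontrivial V with hV | hV
  · exact ⟨⊥, fun v => ⟨0, fun _ => Submodule.zero_mem _, Subsingleton.elim _ _⟩,
      fun w hw _ h => hw h⟩
  have h0 : ∑ z, σ z = 0 := LinearMap.ext fun v => hfix _ fun y => by
    simp only [LinearMap.sum_apply, map_sum]
    exact Fintype.sum_equiv (Equiv.mulLeft y) _ _ fun z => by simp
  by_cases irr : ∀ U : Submodule k V, (∀ z, U ≤ U.comap (σ z)) → (∀ h, U ≤ U.comap (τ h)) →
      U = ⊥ ∨ U = ⊤
  swap
  · push Not at irr
    obtain ⟨U, h1, h2, h3, h4⟩ := irr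
    have e := U.finrank_quotient_add_finrank
    have l1 := Submodule.finrank_lt h4
    have l2 : finrank k U ≠ 0 := fun h => h3 (Submodule.finrank_eq_zero.1 h)
    refine Fr.ext h2 (ihd _ (hd ▸ l1) U (σ.subrepresentation U h1) _ rfl
      (fun h z => LinearMap.ext fun v => Subtype.ext (LinearMap.congr_fun (hc h z) v))
      fun v hv => Subtype.ext (hfix _ fun z => congrArg Subtype.val (hv z)))
      (ihd _ (by omega) (V ⧸ U) (σ.quotient U h1) _ rfl
        (fun h z => Submodule.linearMap_qext _ (LinearMap.ext fun v =>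
          congrArg U.mkQ (LinearMap.congr_fun (hc h z) v))) fun v hv => ?_)
    obtain ⟨v, rfl⟩ := U.mkQ_surjective v
    have := congrArg U.mkQ (LinearMap.congr_fun h0 v)
    have hv' : ∀ z, U.mkQ (σ z v) = U.mkQ v := hv
    rw [LinearMap.sum_apply, map_sum, Finset.sum_congr rfl fun z _ => hv' z, Finset.sum_const,
      Finset.card_univ, ← Nat.cast_smul_eq_nsmul k, LinearMap.zero_apply, map_zero,
      smul_eq_zero] at this
    exact this.resolve_left hZ
  have hZ1 : Nontrivial Z := by
    by_contra h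
    rw [not_nontrivial_iff_subsingleton] at h
    obtain ⟨v, hv⟩ := exists_ne (0 : V)
    exact hv (hfix v fun z => by rw [Subsingleton.elim z 1, map_one, Module.End.one_apply])
  let Z' := commutator Z
  have ha : ∀ h, ∀ z ∈ Z', a h z ∈ Z' := fun h z hz => by
    have : Z'.map (a h) ≤ Z' := by
      simp only [Z', commutator_def]
      rw [Subgroup.map_commutator]; exact Subgroup.commutator_mono le_top le_top
    exact this ⟨z, hz, rfl⟩
  let a' : H → Z' →* Z' := fun h => ((a h).comp Z'.subtype).codRestrict Z' fun z => ha h z z.2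
  have fpf' : ∀ h, h ≠ 1 → ∀ z, a' h z = z → z = 1 := fun h hh z hz =>
    Subtype.ext (fpf h hh z (congrArg Subtype.val hz))
  have inj : ∀ h, Function.Injective (a' h) := fun h x y e =>
    Subtype.ext (hi h (congrArg Subtype.val e))
  let U : Submodule k V := ⨅ z : Z', LinearMap.ker (σ z - 1)
  have hU : ∀ v, v ∈ U ↔ ∀ z : Z', σ z v = v := fun v => by simp [U, sub_eq_zero]
  rcases irr U (fun y v hv => (hU _).2 fun z => by
      have := (hU _).1 hv ⟨y⁻¹ * z * y, Subgroup.Normal.conj_mem' inferInstance _ z.2 y⟩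
      conv_rhs => rw [← this]
      simp only [← Module.End.mul_apply, ← map_mul, mul_assoc, mul_inv_cancel_left])
    (fun h v hv => (hU _).2 fun z => by
      obtain ⟨y, rfl⟩ := Finite.surjective_of_injective (inj h) z
      have := LinearMap.congr_fun (hc h y) v
      rw [Module.End.mul_apply, (hU _).1 hv] at this
      exact this.symm) with h | h
  · have lt : Fintype.card Z' < n := by
      obtain ⟨z, -, hz⟩ := SetLike.exists_of_lt (Group.IsSolvable.commutator_lt_top_of_nontrivial Z)
      exact hn ▸ Fintype.card_subtype_lt hz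
    refine ihn _ lt Z' a' rfl inj fpf' (fun e => hZ ?_) _ V (σ.comp Z'.subtype) τ rfl
      (fun h z => hc h z) fun v hv => (Submodule.mem_bot k).1 (h ▸ (hU v).2 hv)
    obtain ⟨c, hc⟩ := Z'.card_subgroup_dvd_card
    rw [Nat.card_eq_fintype_card, Nat.card_eq_fintype_card] at hc
    rw [hc, Nat.cast_mul, e, zero_mul]
  · refine core a σ τ hc fpf hZ h0 (fun y z => LinearMap.ext fun v => ?_) irr
    have := (hU (σ (z * y) v)).1 (h ▸ Submodule.mem_top)
      ⟨y * z * y⁻¹ * z⁻¹,
        Subgroup.commutator_mem_commutator (Subgroup.mem_top y) (Subgroup.mem_top z)⟩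
    rw [← map_mul, ← map_mul, ← this, ← Module.End.mul_apply, ← map_mul]
    congr 2
    group

end Cfsg.Agent.FG.Free
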