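import Mathlib
import Cfsg.Agent.S0205
import Cfsg.Agent.GT.Hall

/-!
Consequences of the odd order theorem: of two groups of coprime orders one is solvable, and the
Hall theorems hold in every `π`-separable group.
-/

open scoped Pointwise

namespace Cfsg.Agent.FG

open Cfsg.Agent.GT

theorem ft_solvable_or_of_coprime {A K : Type*} [Group A] [Group K] [Finite A] [Finite K]
    (h : (Nat.card A).Coprime (Nat.card K)) : Group.IsSolvable A ∨ Group.IsSolvable K := by
  rcases Nat.even_or_odd (Nat.card A) with hA | hA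
  · right
    apply Cfsg.Agent.S0205.result
    rw [← Nat.coprime_two_left]
    exact Nat.Coprime.coprime_dvd_left hA.two_dvd h
  · exact Or.inl (Cfsg.Agent.S0205.result hA)

theorem ft_solvable_of_not_two_dvd {A : Type*} [Group A] [Finite A] (h : ¬ 2 ∣ Nat.card A) :
    Group.IsSolvable A :=
  Cfsg.Agent.S0205.result (by rwa [← Nat.not_even_iff_odd, even_iff_two_dvd])

variable {G : Type*} [Group G] [Finite G] {π : Set ℕ}

theorem ft_solvable_of_isPiNum {A : Type*} [Group A] [Finite A] (h2 : 2 ∉ π)
    (h : IsPiNum π (Nat.card A)) : Group.IsSolvable A :=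
  ft_solvable_of_not_two_dvd fun hd => h2 (h 2 Nat.prime_two hd)

theorem ft_piComplSolvable (h2 : 2 ∈ π) : PiComplSolvable π G := by
  intro N M _ _ h
  apply ft_solvable_of_isPiNum (π := πᶜ) (by simpa using h2)
  rwa [card_map_mk'_eq_relIndex]

theorem ft_piComplSolvable_or {K : Subgroup G} (hK : IsPiNum π (Nat.card K)) :
    PiComplSolvable π G ∨ Group.IsSolvable K := by
  by_cases h2 : 2 ∈ π
  · exact Or.inl (ft_piComplSolvable h2)
  · exact Or.inr (ft_solvable_of_isPiNum h2 hK)

theorem ft_hall_exists_conj_le (h : IsPiSeparable π G) {H K : Subgroup G} (hH : IsPiHall π H)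
    (hK : IsPiNum π (Nat.card K)) : ∃ g : G, MulAut.conj g • K ≤ H :=
  h.exists_conj_le hH hK ((ft_piComplSolvable_or hK).imp_right Or.inr)

theorem ft_hall_exists_conj_eq (h : IsPiSeparable π G) {H K : Subgroup G} (hH : IsPiHall π H)
    (hK : IsPiHall π K) : ∃ g : G, MulAut.conj g • H = K :=
  h.exists_conj_eq hH hK ((ft_piComplSolvable_or hK.card).imp_right Or.inr)

theorem ft_exists_isPiHall_ge (h : IsPiSeparable π G) {K : Subgroup G}
    (hK : IsPiNum π (Nat.card K)) : ∃ H : Subgroup G, IsPiHall π H ∧ K ≤ H :=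
  h.exists_isPiHall_ge hK (ft_piComplSolvable_or hK)

/-- Schur–Zassenhaus conjugacy without a solvability hypothesis. -/
theorem ft_schurZassenhaus_conj (N : Subgroup G) [N.Normal] (hN : (Nat.card N).Coprime N.index)
    (H K : Subgroup G) (hH : N.IsComplement' H) (hK : N.IsComplement' K) :
    ∃ g ∈ N, MulAut.conj g • H = K :=
  schurZassenhaus_conj N hN (ft_solvable_or_of_coprime hN) H K hH hK

end Cfsg.Agent.FG
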