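import Cfsg.Agent.GT.Zipper
import Cfsg.Agent.GT.Conj

/-!
The generalized zipper lemma (Guralnick–Tracey): if `A` has normal closure `G` and all proper
subgroups generated by their own conjugates of `A` lie in one maximal subgroup `M`, then `M` is
the only maximal subgroup containing `A`.
-/

namespace Cfsg.Agent.FG.GZ

open Subgroup Cfsg.Agent.GT

local notation:75 H " ^ᶜ " g:76 => Subgroup.map (MulEquiv.toMonoidHom (MulAut.conj g)) H

variable {G : Type*} [Group G]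

/-- `H` is generated by its own conjugates of `A`. -/
def GenBy (A H : Subgroup G) : Prop :=
  ∀ N : Subgroup G, A ≤ N → H ≤ normalizer (N : Set G) → H ≤ N

theorem genBy_iff {A H : Subgroup G} (h : A ≤ H) :
    GenBy A H ↔ normalClosure ((A.subgroupOf H : Subgroup H) : Set H) = ⊤ := by
  constructor
  · intro hg
    have h1 := hg ((normalClosure ((A.subgroupOf H : Subgroup H) : Set H)).map H.subtype) ?_ ?_
    · rw [eq_top_iff]
      intro x _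
      obtain ⟨y, hy, hxy⟩ := h1 x.2
      rwa [← Subtype.ext hxy]
    · intro a ha
      exact ⟨⟨a, h ha⟩, subset_normalClosure (by simpa [mem_subgroupOf] using ha), rfl⟩
    · exact (normal_iff_le_normalizer_map_subtype _).mp inferInstance
  · intro hg N hAN hn x hx
    haveI : (N.subgroupOf H).Normal := normal_subgroupOf_of_le_normalizer hn
    have : normalClosure ((A.subgroupOf H : Subgroup H) : Set H) ≤ N.subgroupOf H :=
      normalClosure_le_normal fun a ha => hAN ha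
    rw [hg] at this
    exact this (mem_top (⟨x, hx⟩ : H))

theorem GenBy.mono {A B H : Subgroup G} (h : GenBy A H) (hAB : A ≤ B) : GenBy B H :=
  fun N hN hn => h N (hAB.trans hN) hn

theorem GenBy.trans {A B H : Subgroup G} (h : GenBy A B) (hBH : B ≤ H) (h' : GenBy B H) :
    GenBy A H :=
  fun N hN hn => h' N (h N hN (hBH.trans hn)) hn

theorem GenBy.eq_of_subnormalIn {A H : Subgroup G} (h : GenBy A H) (hs : SubnormalIn A H) :
    A = H := by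
  by_contra hne
  obtain ⟨N, hAN, hlt, hn⟩ := hs.exists_lt_normal hne
  exact hlt.not_ge (h N hAN.le hn)

theorem GenBy.map_conj_top {A : Subgroup G} (h : GenBy A ⊤) (g : G) : GenBy (A ^ᶜ g) ⊤ := by
  intro N hN hn
  refine h N ?_ hn
  rw [map_conj_le_iff, map_conj_eq_of_mem_norm (hn (mem_top _))] at hN
  exact hN

/-- The subnormal closure. -/
theorem exists_subnormal_closure [Finite G] {A K : Subgroup G} (h : A ≤ K) :
    ∃ F : Subgroup G, A ≤ F ∧ SubnormalIn F K ∧ GenBy A F := by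
  obtain ⟨F, ⟨hAF, hF⟩, hmin⟩ := WellFounded.has_min (wellFounded_lt (α := Subgroup G))
    {F | A ≤ F ∧ SubnormalIn F K} ⟨K, h, SubnormalIn.refl K⟩
  refine ⟨F, hAF, hF, fun N hAN hn => ?_⟩
  by_contra hle
  refine hmin (N ⊓ F) ⟨le_inf hAN hAF, SubnormalIn.step inf_le_right ?_ hF⟩ ?_
  · exact (le_inf hn le_normalizer).trans inf_normalizer_le_normalizer_inf
  · exact lt_of_le_of_ne inf_le_right fun he => hle (inf_eq_right.mp he)

/-- `A` is subnormal in every proper overgroup not contained in `M`. -/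
def SubOff (A M : Subgroup G) : Prop :=
  ∀ K : Subgroup G, K ≠ ⊤ → A ≤ K → ¬ K ≤ M → SubnormalIn A K

theorem SubOff.map_conj {A M : Subgroup G} (h : SubOff A M) (g : G) :
    SubOff (A ^ᶜ g) (M ^ᶜ g) := by
  intro K hK hAK hKM
  have := (h (K ^ᶜ g⁻¹) (by rwa [Ne, map_conj_eq_top_iff]) (map_conj_le_iff.mp hAK)
    (by rwa [← le_map_conj_iff])).map (MulAut.conj g).toMonoidHom
  rwa [map_conj_map_conj_inv] at this

theorem core [Finite G] {A M : Subgroup G} (hA : GenBy A ⊤) (hM : IsCoatom M) (hAM : A ≤ M)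
    (hP : SubOff A M) (hns : ¬ SubnormalIn A M)
    (IH : ∀ T M' : Subgroup G, Nat.card A < Nat.card T → GenBy T ⊤ → IsCoatom M' → T ≤ M' →
      SubOff T M' → ∀ L, IsCoatom L → T ≤ L → L = M') :
    ∀ L, IsCoatom L → A ≤ L → L = M := by
  classical
  intro L₀ hL₀ hAL₀
  by_contra hne₀
  let Q : Subgroup G → Subgroup G → Prop := fun C M' => ∃ g, C = A ^ᶜ g ∧ M' = M ^ᶜ g
  have Qco : ∀ {C M'}, Q C M' → IsCoatom M' := by
    rintro _ _ ⟨g, rfl, rfl⟩; exact isCoatom_map_conj hM g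
  have Qle : ∀ {C M'}, Q C M' → C ≤ M' := by
    rintro _ _ ⟨g, rfl, rfl⟩; exact map_mono hAM
  have QP : ∀ {C M'}, Q C M' → SubOff C M' := by
    rintro _ _ ⟨g, rfl, rfl⟩; exact hP.map_conj g
  have Qns : ∀ {C M'}, Q C M' → ¬ SubnormalIn C M' := by
    rintro _ _ ⟨g, rfl, rfl⟩ h
    exact hns ((subnormalIn_map_iff_of_injective (MulAut.conj g).injective).mp h)
  have Qcard : ∀ {C M'}, Q C M' → Nat.card C = Nat.card A := by
    rintro _ _ ⟨g, rfl, rfl⟩; exact card_map_conj A g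
  have Qgen : ∀ {C M'}, Q C M' → GenBy C ⊤ := by
    rintro _ _ ⟨g, rfl, rfl⟩; exact hA.map_conj_top g
  have Qconj : ∀ {C M'}, Q C M' → ∀ x, Q (C ^ᶜ x) (M' ^ᶜ x) := by
    rintro _ _ ⟨g, rfl, rfl⟩ x
    exact ⟨x * g, map_conj_map_conj _ _ _, map_conj_map_conj _ _ _⟩
  have Qsub : ∀ {C M' L}, Q C M' → IsCoatom L → C ≤ L → L ≠ M' → SubnormalIn C L := by
    intro C M' L h hL hCL hne
    exact QP h L hL.1 hCL fun hle => hne ((hL.le_iff_eq (Qco h).1).mp hle).symm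
  have Quniq : ∀ {C M' M''}, Q C M' → Q C M'' → M'' = M' := by
    intro C M' M'' h h'
    by_contra hne
    exact Qns h' (Qsub h (Qco h') (Qle h') hne)
  have Nproper : ∀ {C M' T}, Q C M' → C ≤ T → T ≠ ⊤ → normalizer (T : Set G) ≠ ⊤ := by
    intro C M' T h hCT hT hn
    exact hT (top_le_iff.mp (Qgen h T hCT hn.ge))
  have Qnorm : ∀ {C M'}, Q C M' → normalizer (C : Set G) ≤ M' := by
    intro C M' h n hn
    have h1 := Qconj h n
    rw [map_conj_eq_of_mem_norm hn] at h1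
    have h2 := map_conj_eq_self_iff.mp (Quniq h h1)
    rwa [((Qco h).le_iff_eq (Nproper h (Qle h) (Qco h).1)).mp le_normalizer] at h2
  -- the key consequence of the inductive hypothesis
  have key : ∀ (X : Set (Subgroup G)) (C D M₁ M₂ M' : Subgroup G), C ∈ X → D ∈ X → C ≠ D →
      Q C M₁ → Q D M₂ → (∀ E ∈ X, ∃ N, Q E N ∧ (sSup X ≤ N → N = M')) → IsCoatom M' →
      sSup X ≤ M' → ∀ L, IsCoatom L → sSup X ≤ L → L = M' := by
    intro X C D M₁ M₂ M' hC hD hCD h₁ h₂ hX hM' hXM'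
    refine IH _ M' ?_ ((Qgen h₁).mono (le_sSup hC)) hM' hXM' ?_
    · rw [← Qcard h₁]
      refine card_lt_of_lt (lt_of_le_of_ne (le_sSup hC) fun he => hCD ?_)
      exact (eq_of_le_of_card_ge (he ▸ le_sSup hD) (by rw [Qcard h₁, Qcard h₂])).symm
    · intro K hK hXK hKM
      refine SubnormalIn.sSup fun E hE => ?_
      obtain ⟨N, hN, hN'⟩ := hX E hE
      exact QP hN K hK ((le_sSup hE).trans hXK) fun h => hKM (hN' (hXK.trans h) ▸ h)
  have key2 : ∀ {C D M₁ M₂ L}, Q C M₁ → Q D M₂ → C ≠ D → D ≤ M₁ → (C ≤ M₂ → M₂ = M₁) →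
      IsCoatom L → C ≤ L → D ≤ L → L = M₁ := by
    intro C D M₁ M₂ L h₁ h₂ hCD hD hC hL hCL hDL
    refine key {C, D} C D M₁ M₂ M₁ (by simp) (by simp) hCD h₁ h₂ ?_ (Qco h₁)
      (by rw [sSup_pair]; exact sup_le (Qle h₁) hD) L hL (by rw [sSup_pair]; exact sup_le hCL hDL)
    rintro E (rfl | rfl)
    · exact ⟨M₁, h₁, fun _ => rfl⟩
    · exact ⟨M₂, h₂, fun h => hC ((le_sSup (by simp)).trans h)⟩
  -- a maximal subgroup generated by conjugates lying in two maximal subgroups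
  let X : Subgroup G → Set (Subgroup G) := fun T => {C | (∃ N, Q C N) ∧ C ≤ T}
  let good : Subgroup G → Prop := fun T => (X T).Nonempty ∧ T ≤ sSup (X T) ∧
    ∃ L L', IsCoatom L ∧ IsCoatom L' ∧ L ≠ L' ∧ T ≤ L ∧ T ≤ L'
  have QA : Q A M := ⟨1, (map_conj_one A).symm, (map_conj_one M).symm⟩
  obtain ⟨T, ⟨⟨C₀, ⟨M₀, hC₀⟩, hC₀T⟩, hTX, L, L', hL, hL', hLL', hTL, hTL'⟩, hmax⟩ :=
    WellFounded.has_min (wellFounded_gt (α := Subgroup G)) {T | good T}
      ⟨A, ⟨A, ⟨M, QA⟩, le_rfl⟩, le_sSup ⟨⟨M, QA⟩, le_rfl⟩, L₀, M, hL₀, hM, hne₀, hAL₀, hAM⟩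
  have hT : sSup (X T) = T := le_antisymm (sSup_le fun C h => h.2) hTX
  have hTtop : T ≠ ⊤ := fun h => hL.1 (top_le_iff.mp (h ▸ hTL))
  have hbig : ∀ {D N K K'}, Q D N → ¬ D ≤ T → IsCoatom K → IsCoatom K' → T ≤ K → T ≤ K' →
      D ≤ K → D ≤ K' → K = K' := by
    intro D N K K' hD hDT hK hK' h1 h2 h3 h4
    by_contra hne
    refine hmax (T ⊔ D) ⟨⟨C₀, ⟨M₀, hC₀⟩, hC₀T.trans le_sup_left⟩, ?_, K, K', hK, hK', hne,
      sup_le h1 h3, sup_le h2 h4⟩ (left_lt_sup.mpr hDT)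
    exact sup_le (hTX.trans (sSup_le_sSup fun C h => ⟨h.1, h.2.trans le_sup_left⟩))
      (le_sSup ⟨⟨N, hD⟩, le_sup_right⟩)
  -- conjugates subnormal in a maximal subgroup
  have hstep : ∀ (K : Subgroup G) (S₀ : Set (Subgroup G)),
      (∀ E ∈ S₀, (∃ N, Q E N) ∧ SubnormalIn E K) →
      ¬ K ≤ normalizer ((sSup S₀ : Subgroup G) : Set G) →
      ∃ D N, Q D N ∧ SubnormalIn D K ∧ D ∉ S₀ ∧
        D ≤ normalizer ((sSup S₀ : Subgroup G) : Set G) := by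
    intro K S₀ hS₀ hK
    have hconj : ∀ U ∈ {E : Subgroup G | (∃ N, Q E N) ∧ SubnormalIn E K}, ∀ g ∈ K,
        U ^ᶜ g ∈ {E : Subgroup G | (∃ N, Q E N) ∧ SubnormalIn E K} := by
      rintro U ⟨⟨N, hN⟩, hU⟩ g hg
      exact ⟨⟨_, Qconj hN g⟩, hU.map_conj (le_normalizer hg)⟩
    obtain ⟨D, ⟨⟨N, hN⟩, hD⟩, h1, h2⟩ := exists_mem_le_normalizer_sSup (L := K) (S₀ := S₀)
      (fun U hU => hU.2) hconj (ssubset_of_subset_of_ne hS₀ (by
        rintro rfl
        exact hK (le_normalizer_sSup_of_conj_closed fun g hg U hU => hconj U hU g hg)))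
    exact ⟨D, N, hN, hD, h1, h2⟩
  -- Step 1: `T` contains two conjugates
  obtain ⟨D₀, ⟨⟨N₀, hD₀⟩, hD₀T⟩, hCD₀⟩ : ∃ D ∈ X T, C₀ ≠ D := by
    by_contra hcon
    push Not at hcon
    have hTC : T = C₀ := le_antisymm (hTX.trans (sSup_le fun D hD => (hcon D hD).ge)) hC₀T
    subst hTC
    obtain ⟨K, hK, hTK, hKM⟩ : ∃ K, IsCoatom K ∧ T ≤ K ∧ K ≠ M₀ := by
      by_cases h : L = M₀
      · exact ⟨L', hL', hTL', fun h' => hLL' (h.trans h'.symm)⟩
      · exact ⟨L, hL, hTL, h⟩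
    obtain ⟨D, N, hN, hD, h1, h2⟩ := hstep K {T} (by
      rintro _ rfl
      exact ⟨⟨_, hC₀⟩, Qsub hC₀ hK hTK hKM⟩) (by
      rw [sSup_singleton]
      exact fun h => hKM ((hK.le_iff_eq (Qco hC₀).1).mp (h.trans (Qnorm hC₀))).symm)
    rw [sSup_singleton] at h2
    refine hKM (hbig hN (fun h => h1 ?_) hK (Qco hC₀) hTK (Qle hC₀) hD.le (h2.trans (Qnorm hC₀)))
    exact eq_of_le_of_card_ge h (by rw [Qcard hN, Qcard hC₀])
  -- Step 2: two conjugates whose special maximal subgroups contain `T`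
  obtain ⟨C₁, M₁, C₂, M₂, h₁, h₂, hC₁, hC₂, hM₁, hM₂, h12⟩ : ∃ C₁ M₁ C₂ M₂, Q C₁ M₁ ∧ Q C₂ M₂ ∧
      C₁ ≤ T ∧ C₂ ≤ T ∧ T ≤ M₁ ∧ T ≤ M₂ ∧ M₁ ≠ M₂ := by
    by_contra hcon
    push Not at hcon
    obtain ⟨M', hM', hTM', hall⟩ : ∃ M', IsCoatom M' ∧ T ≤ M' ∧
        ∀ C N, Q C N → C ≤ T → T ≤ N → N = M' := by
      by_cases h : ∃ C N, Q C N ∧ C ≤ T ∧ T ≤ N
      · obtain ⟨C, N, h1, h2, h3⟩ := h
        exact ⟨N, Qco h1, h3, fun C' N' h1' h2' h3' => hcon _ _ _ _ h1' h1 h2' h2 h3' h3⟩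
      · exact ⟨L, hL, hTL, fun C N h1 h2 h3 => (h ⟨C, N, h1, h2, h3⟩).elim⟩
    have := key (X T) C₀ D₀ M₀ N₀ M' ⟨⟨_, hC₀⟩, hC₀T⟩ ⟨⟨_, hD₀⟩, hD₀T⟩ hCD₀ hC₀ hD₀
      (fun E hE => by
        obtain ⟨⟨N, hN⟩, hET⟩ := hE
        exact ⟨N, hN, fun h => hall E N hN hET (hT ▸ h)⟩) hM' (hT.le.trans hTM')
    rw [hT] at this
    exact hLL' ((this L hL hTL).trans (this L' hL' hTL').symm)
  -- Step 3
  have step3 : ∀ {C₁ M₁ C₂ M₂}, Q C₁ M₁ → Q C₂ M₂ → C₁ ≤ T → C₂ ≤ T → T ≤ M₁ → T ≤ M₂ →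
      M₁ ≠ M₂ → normalizer (T : Set G) ≤ M₁ ∧
        ∃ D N, Q D N ∧ ¬ D ≤ T ∧ D ≤ normalizer (T : Set G) := by
    intro C₁ M₁ C₂ M₂ h₁ h₂ hC₁ hC₂ hM₁ hM₂ h12
    have ha : ∀ {E N}, Q E N → E ≤ T → E ≠ C₁ → M₁ ≠ N := by
      rintro E N hE hET hne rfl
      exact h12 (key2 h₁ hE hne.symm (Qle hE) (fun _ => rfl) (Qco h₂) (hC₁.trans hM₂)
        (hET.trans hM₂)).symm
    have hC12 : C₂ ≠ C₁ := by
      rintro rfl
      exact h12 (Quniq h₂ h₁)
    let X₁ : Set (Subgroup G) := X T \ {C₁}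
    have hX₁T : sSup X₁ ≤ T := sSup_le fun E hE => hE.1.2
    have hT₁ : T = C₁ ⊔ sSup X₁ := by
      refine le_antisymm (hTX.trans (sSup_le fun E hE => ?_)) (sup_le hC₁ hX₁T)
      by_cases h : E = C₁
      · exact h ▸ le_sup_left
      · exact (le_sSup (show E ∈ X₁ from ⟨hE, h⟩)).trans le_sup_right
    have hc : M₁ ⊓ normalizer ((sSup X₁ : Subgroup G) : Set G) ≤ normalizer (C₁ : Set G) := by
      rintro m ⟨hm1, hm2⟩
      have hQ2 := Qconj h₂ m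
      have hQ1 := Qconj h₁ m
      rw [map_conj_eq_of_mem hm1] at hQ1
      have hne : M₂ ^ᶜ m ≠ M₁ := by
        intro h
        rw [← map_conj_eq_of_mem hm1, map_conj_inj] at h
        exact h12 h.symm
      have h3 : C₂ ^ᶜ m ≤ T :=
        (map_conj_le_of_mem_normalizer (le_sSup (show C₂ ∈ X₁ from ⟨⟨⟨_, h₂⟩, hC₂⟩, hC12⟩))
          hm2).trans hX₁T
      have h4 : C₁ ≤ M₂ ^ᶜ m := by
        by_contra h4
        refine h12 (key2 h₁ hQ2 ?_ (h3.trans hM₁) (fun h => (h4 h).elim) (Qco h₂)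
          (hC₁.trans hM₂) (h3.trans hM₂)).symm
        intro h
        exact h4 (h ▸ Qle hQ2)
      by_contra hm
      refine hne (key2 h₁ hQ1 (fun h => hm (map_conj_eq_self_iff.mp h.symm)) (Qle hQ1)
        (fun _ => rfl) (Qco hQ2) h4 (map_mono (hC₁.trans hM₂)))
    obtain ⟨D, N, hN, hD, h1, h2⟩ := hstep M₁ X₁ (by
      rintro E ⟨⟨⟨N, hN⟩, hET⟩, hne⟩
      exact ⟨⟨N, hN⟩, Qsub hN (Qco h₁) (hET.trans hM₁) (ha hN hET hne)⟩) (fun h =>
      Qns h₁ (SubnormalIn.of_le_normalizer (Qle h₁) ((le_inf le_rfl h).trans hc)))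
    have hDT : ¬ D ≤ T := by
      intro h
      refine h1 ⟨⟨⟨N, hN⟩, h⟩, ?_⟩
      rintro rfl
      exact Qns h₁ hD
    have hDN : D ≤ normalizer (T : Set G) := by
      rw [hT₁]
      exact (le_inf ((le_inf hD.le h2).trans hc) h2).trans
        (normalizer_inf_normalizer_le_normalizer_sup _ _)
    refine ⟨?_, D, N, hN, hDT, hDN⟩
    obtain ⟨K, hK, hNK⟩ := (eq_top_or_exists_le_coatom _).resolve_left (Nproper h₁ hC₁ hTtop)
    rw [← hbig hN hDT hK (Qco h₁) (le_normalizer.trans hNK) hM₁ (hDN.trans hNK) hD.le]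
    exact hNK
  obtain ⟨hn₁, D, N, hN, hDT, hDN⟩ := step3 h₁ h₂ hC₁ hC₂ hM₁ hM₂ h12
  obtain ⟨hn₂, -⟩ := step3 h₂ h₁ hC₂ hC₁ hM₂ hM₁ h12.symm
  exact h12 (hbig hN hDT (Qco h₁) (Qco h₂) hM₁ hM₂ (hDN.trans hn₁) (hDN.trans hn₂))

/-- The generalized zipper lemma. -/
theorem gen_zipper [Finite G] {A M : Subgroup G} (hA : GenBy A ⊤) (hM : IsCoatom M)
    (hAM : A ≤ M) (h : ∀ H, A ≤ H → H ≠ ⊤ → GenBy A H → H ≤ M) :
    ∀ L, IsCoatom L → A ≤ L → L = M := by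
  induction hn : A.index using Nat.strong_induction_on generalizing A M with
  | h n ih =>
  have IH : ∀ T M' : Subgroup G, Nat.card A < Nat.card T → GenBy T ⊤ → IsCoatom M' → T ≤ M' →
      (∀ H, T ≤ H → H ≠ ⊤ → GenBy T H → H ≤ M') → ∀ L, IsCoatom L → T ≤ L → L = M' := by
    intro T M' hlt h1 h2 h3 h4
    refine ih T.index ?_ h1 h2 h3 h4 rfl
    rw [← hn]
    have e1 := A.card_mul_index
    have e2 := T.card_mul_index
    have e3 : 0 < T.index := Nat.pos_of_ne_zero index_ne_zero_of_finite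
    by_contra hle
    push Not at hle
    nlinarith
  have hP : SubOff A M := by
    intro K hK hAK hKM
    obtain ⟨F, hAF, hFK, hF⟩ := exists_subnormal_closure hAK
    rcases hAF.eq_or_lt with rfl | hlt
    · exact hFK
    obtain ⟨L, hL, hKL⟩ := (eq_top_or_exists_le_coatom K).resolve_left hK
    have hFtop : F ≠ ⊤ := fun h => hK (top_le_iff.mp (h ▸ hFK.le))
    have := IH F M (card_lt_of_lt hlt) (hA.mono hAF) hM (h F hAF hFtop hF)
      (fun H h1 h2 h3 => h H (hAF.trans h1) h2 (hF.trans h1 h3)) L hL (hFK.le.trans hKL)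
    exact (hKM (this ▸ hKL)).elim
  by_cases hs : SubnormalIn A M
  · obtain ⟨M', hM', -, hall⟩ := zipper_coatom (A := A) (fun H hAH hH => by
      by_cases hHM : H ≤ M
      · exact hs.mono hAH hHM
      · exact hP H hH hAH hHM) (fun hsn => hM.1 (top_le_iff.mp
        ((hA.eq_of_subnormalIn (subnormalIn_top_iff.mpr hsn)) ▸ hAM)))
    intro L hL hAL
    exact ((hL.le_iff_eq hM'.1).mp (hall L hAL hL.1)).symm.trans
      ((hM.le_iff_eq hM'.1).mp (hall M hAM hM.1))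
  · refine core hA hM hAM hP hs fun T M' h1 h2 h3 h4 h5 => IH T M' h1 h2 h3 h4 ?_
    intro H hTH hH hg
    by_contra hHM
    exact hHM (hg.eq_of_subnormalIn (h5 H hH hTH hHM) ▸ h4)

end Cfsg.Agent.FG.GZ
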