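import Cfsg.Agent.GT.ElemAbRep
import Cfsg.Agent.GT.Conj

/-!
Irreducible action of a single automorphism: dimension bound.
-/

namespace Cfsg.Agent.FG.H92

open Subgroup Polynomial Cfsg.Agent.GT

theorem exists_irreducible_aeval_eq_zero {k V : Type*} [Field k] [AddCommGroup V] [Module k V]
    [Nontrivial V] (T : Module.End k V)
    (hT : ∀ W : Submodule k V, W ≤ W.comap T → W = ⊥ ∨ W = ⊤) {P : k[X]} (hP0 : P ≠ 0)
    (hP : aeval T P = 0) : ∃ f : k[X], Irreducible f ∧ f ∣ P ∧ aeval T f = 0 := by
  induction P using WfDvdMonoid.induction_on_irreducible with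
  | zero => exact (hP0 rfl).elim
  | unit u hu => exact ((hu.map (aeval T)).ne_zero hP).elim
  | mul a i ha hi ih =>
    rcases hT (LinearMap.ker (aeval T i)) (by
      intro v hv
      have h1 : aeval T i * T = T * aeval T i := by
        simpa using ((commute_X i).map (aeval T)).eq.symm
      rw [Submodule.mem_comap, LinearMap.mem_ker, ← Module.End.mul_apply, h1,
        Module.End.mul_apply, LinearMap.mem_ker.mp hv, map_zero]) with h | h
    · rw [map_mul] at hP
      have : aeval T a = 0 := by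
        ext v
        have h1 : aeval T a v ∈ LinearMap.ker (aeval T i) := by
          rw [LinearMap.mem_ker, ← Module.End.mul_apply, hP]; rfl
        rw [h] at h1
        simpa using h1
      obtain ⟨f, hf, hfa, hf0⟩ := ih ha this
      exact ⟨f, hf, hfa.mul_left _, hf0⟩
    · exact ⟨i, hi, dvd_mul_right _ _, LinearMap.ker_eq_top.mp h⟩

theorem finrank_le_natDegree {k V : Type*} [Field k] [AddCommGroup V] [Module k V]
    (T : Module.End k V) (hT : ∀ W : Submodule k V, W ≤ W.comap T → W = ⊥ ∨ W = ⊤) {f : k[X]}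
    (hf0 : f ≠ 0) (hf : aeval T f = 0) : Module.finrank k V ≤ f.natDegree := by
  rcases subsingleton_or_nontrivial V with h | h
  · rw [Module.finrank_zero_of_subsingleton]; exact Nat.zero_le _
  obtain ⟨v, hv⟩ := exists_ne (0 : V)
  let φ : k[X] →ₗ[k] V := (LinearMap.applyₗ v) ∘ₗ (aeval T).toLinearMap
  have hφ : ∀ g, φ g = aeval T g v := fun g => rfl
  have h1 : LinearMap.range φ = ⊤ := by
    refine (hT _ ?_).resolve_left fun h => hv ?_
    · rintro _ ⟨g, rfl⟩
      exact ⟨X * g, by simp [hφ]⟩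
    · have : v ∈ LinearMap.range φ := ⟨1, by simp [hφ]⟩
      rwa [h] at this
  have h2 : Submodule.span k (Set.range fun i : Fin f.natDegree => (T ^ (i : ℕ)) v) = ⊤ := by
    rw [eq_top_iff, ← h1]
    rintro _ ⟨g, rfl⟩
    have h3 : aeval T g = aeval T (g % f) := by
      conv_lhs => rw [← EuclideanDomain.div_add_mod g f]
      simp [hf]
    rw [hφ, h3]
    by_cases h4 : g % f = 0
    · simp [h4]
    have h5 : (g % f).natDegree < f.natDegree :=
      natDegree_lt_natDegree h4 (EuclideanDomain.mod_lt g hf0)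
    rw [aeval_eq_sum_range' h5, LinearMap.sum_apply]
    refine Submodule.sum_mem _ fun i hi => ?_
    rw [LinearMap.smul_apply]
    exact Submodule.smul_mem _ _ (Submodule.subset_span ⟨⟨i, Finset.mem_range.mp hi⟩, rfl⟩)
  have h6 := finrank_range_le_card (R := k) fun i : Fin f.natDegree => (T ^ (i : ℕ)) v
  rwa [Set.finrank, h2, finrank_top, Fintype.card_fin] at h6

/-- If `T` acts irreducibly on `V` over a finite field `k` and `T ^ |k| ^ e = T` then
`dim V ≤ e`. -/
theorem finrank_le_of_pow_eq {k V : Type*} [Field k] [Finite k] [AddCommGroup V] [Module k V]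
    (T : Module.End k V) (hT : ∀ W : Submodule k V, W ≤ W.comap T → W = ⊥ ∨ W = ⊤) {e : ℕ}
    (he : e ≠ 0) (h : T ^ Nat.card k ^ e = T) : Module.finrank k V ≤ e := by
  rcases subsingleton_or_nontrivial V with hV | hV
  · rw [Module.finrank_zero_of_subsingleton]; exact Nat.zero_le _
  obtain ⟨f, hf, hfP, hf0⟩ := exists_irreducible_aeval_eq_zero T hT
    (P := X ^ Nat.card k ^ e - X) (FiniteField.X_pow_card_pow_sub_X_ne_zero _ he Finite.one_lt_card)
    (by simp [h])
  exact (finrank_le_natDegree T hT hf.ne_zero hf0).trans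
    (Nat.le_of_dvd (Nat.pos_of_ne_zero he) (hf.natDegree_dvd_of_dvd_X_pow_card_pow_sub_X hfP))

/-- An element `x` with `x ^ q ^ e = x` acting irreducibly on an elementary abelian `q`-group `A`
forces `|A| ≤ q ^ e`. -/
theorem card_le_of_irreducible {G : Type*} [Group G] [Finite G] {q : ℕ} (hq : q.Prime)
    {A : Subgroup G} (hA : IsElementaryAbelian q A) {x : G} (hx : x ∈ normalizer (A : Set G))
    (hmin : ∀ B ≤ A, x ∈ normalizer (B : Set G) → B = ⊥ ∨ B = A) {e : ℕ} (he : e ≠ 0)
    (h : x ^ q ^ e = x) : Nat.card A ≤ q ^ e := by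
  haveI := Fact.mk hq
  have hH : zpowers x ≤ normalizer (A : Set G) := zpowers_le.mpr hx
  let x' : zpowers x := ⟨x, mem_zpowers x⟩
  have h1 := finrank_le_of_pow_eq (eaRep hA hH x') (by
    intro W hW
    have h2 : x ∈ normalizer (EAV.grp W : Set G) := by
      apply mem_normalizer_of_map_conj_le
      rw [map_conj_le_iff_forall]
      intro y hy
      obtain ⟨w, hw, rfl⟩ := EAV.mem_grp.mp hy
      exact EAV.mem_grp.mpr ⟨_, hW hw, val_eaRep x' w⟩
    rcases hmin _ (EAV.grp_le W) h2 with h3 | h3
    · exact Or.inl (EAV.grp_injective (h3.trans EAV.grp_bot.symm))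
    · exact Or.inr (EAV.grp_injective (h3.trans EAV.grp_top.symm))) he (by
    rw [← map_pow, Nat.card_zmod]
    congr 1
    exact Subtype.ext h)
  rw [← EAV.card_eq (hV := hA), Module.natCard_eq_pow_finrank (K := ZMod q), Nat.card_zmod]
  exact Nat.pow_le_pow_right hq.pos h1

end Cfsg.Agent.FG.H92
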