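import Mathlib
import Cfsg.Agent.FG.H93Lie13
import Cfsg.Agent.FG.H98Maz
import Cfsg.Agent.GT.Fitting
import Cfsg.Agent.GT.FrobeniusComplement

/-!
Solvable groups whose element orders are those of `L₃(3)` have a nontrivial normal `13`-subgroup.
-/

set_option autoImplicit false

namespace Cfsg.Agent.FG.H93.Cr

open Cfsg.Agent.GT Subgroup
open scoped commutatorElement Pointwise

universe u

/-- all element orders lie in `{1, 2, 3, 4, 6, 8, 13}` -/
def Sp (G : Type*) [Group G] : Prop :=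
  ∀ g : G, orderOf g = 1 ∨ orderOf g = 2 ∨ orderOf g = 3 ∨ orderOf g = 4 ∨ orderOf g = 6 ∨
    orderOf g = 8 ∨ orderOf g = 13

variable {G : Type u} [Group G]

theorem Sp.mul (h : Sp G) {a b : G} (hc : Commute a b) (hco : (orderOf a).Coprime (orderOf b)) :
    orderOf a * orderOf b = 1 ∨ orderOf a * orderOf b = 2 ∨ orderOf a * orderOf b = 3 ∨
    orderOf a * orderOf b = 4 ∨ orderOf a * orderOf b = 6 ∨ orderOf a * orderOf b = 8 ∨
    orderOf a * orderOf b = 13 := by
  rw [← hc.orderOf_mul_eq_mul_orderOf_of_coprime hco]; exact h _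

theorem Sp.eq_one_or (h : Sp G) {f c : G} (hf : orderOf f = 13) (hc : Commute c f) :
    c = 1 ∨ orderOf c = 13 := by
  by_contra hn
  push Not at hn
  have h1 : orderOf c ≠ 1 := fun e => hn.1 (orderOf_eq_one_iff.1 e)
  have h2 := h c
  have h3 := h.mul hc (by
    rw [hf]; rcases h2 with e | e | e | e | e | e | e <;>
      first | exact absurd e hn.2 | (rw [e]; norm_num))
  rw [hf] at h3
  omega

theorem Sp.eq_one (h : Sp G) {f c : G} (hf : orderOf f = 13) (hc : Commute c f) {k : ℕ}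
    (hk : c ^ k = 1) (hk' : ¬ 13 ∣ k) : c = 1 := by
  rcases h.eq_one_or hf hc with e | e
  · exact e
  · exact absurd (e ▸ orderOf_dvd_of_pow_eq_one hk) hk'

theorem Sp.sq_eq_one (h : Sp G) {x c : G} (hx : orderOf x = 3) (hc : Commute c x) {k : ℕ}
    (hk : c ^ k = 1) (hk' : ¬ 3 ∣ k) : c ^ 2 = 1 := by
  have h1 : ¬ 3 ∣ orderOf c := fun e => hk' (e.trans (orderOf_dvd_of_pow_eq_one hk))
  have h3 := h.mul hc (by
    rw [hx]; exact ((Nat.Prime.coprime_iff_not_dvd Nat.prime_three).2 h1).symm)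
  rw [hx] at h3
  rw [← orderOf_dvd_iff_pow_eq_one]
  have : orderOf c = 1 ∨ orderOf c = 2 := by omega
  rcases this with e | e <;> simp [e]

theorem Sp.prime (h : Sp G) [Finite G] {p : ℕ} (hp : p.Prime) (hd : p ∣ Nat.card G) :
    p = 2 ∨ p = 3 ∨ p = 13 := by
  haveI := Fact.mk hp
  obtain ⟨g, hg⟩ := exists_prime_orderOf_dvd_card' p hd
  have := h g
  rw [hg] at this
  rcases this with e | e | e | e | e | e | e <;> subst e <;>
    first | exact absurd hp (by decide) | simp

theorem Sp.subgroup (h : Sp G) (H : Subgroup G) : Sp H := fun g => by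
  rw [← Subgroup.orderOf_coe]; exact h g

/-- the configuration of a `2`-Frobenius group with middle layer of order `13` -/
structure TF (N : Subgroup G) (f : G) : Prop where
  sp : Sp G
  ord : orderOf f = 13
  cop : (Nat.card N).Coprime 13
  ne : N ≠ ⊥
  dec : ∀ g : G, ∃ n ∈ N, ∃ h ∈ normalizer (zpowers f : Set G), g = n * h

variable [Finite G] {N : Subgroup G} {f : G}

theorem TF.not_dvd (t : TF N f) : ¬ 13 ∣ Nat.card N := fun h => by
  have := Nat.eq_one_of_dvd_coprimes t.cop h dvd_rfl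
  omega

theorem TF.fpf (t : TF N f) {n : G} (hn : n ∈ N) {k : G} (hk : orderOf k = 13)
    (hc : Commute n k) : n = 1 :=
  t.sp.eq_one hk hc (k := Nat.card N)
    (congrArg Subtype.val (pow_card_eq_one' (G := N) (x := ⟨n, hn⟩))) t.not_dvd

theorem TF.ord_of_mem (t : TF N f) {k : G} (hk : k ∈ zpowers f) (h1 : k ≠ 1) :
    orderOf k = 13 := by
  have := orderOf_dvd_of_mem_zpowers hk
  rw [t.ord] at this
  rcases (Nat.dvd_prime (by norm_num)).1 this with e | e
  · exact absurd (orderOf_eq_one_iff.1 e) h1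
  · exact e

theorem TF.eq_one (t : TF N f) {k : G} (hk : k ∈ zpowers f) (hN : k ∈ N) : k = 1 := by
  by_contra h1
  exact h1 (t.fpf hN (t.ord_of_mem hk h1) (Commute.refl k))

theorem TF.commute (t : TF N f) [N.Normal] {h k : G} (hh : h ∈ normalizer (zpowers f : Set G))
    (hk : k ∈ zpowers f) (hc : k * h * k⁻¹ * h⁻¹ ∈ N) : Commute h k := by
  have h1 : k * h * k⁻¹ * h⁻¹ ∈ zpowers f := by
    have := (mem_normalizer_iff.1 hh k⁻¹).1 (inv_mem hk)
    simpa [mul_assoc] using mul_mem hk this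
  have := t.eq_one h1 hc
  rw [mul_inv_eq_one, mul_inv_eq_iff_eq_mul] at this
  exact this.symm

theorem TF.eq_one_of_norm (t : TF N f) [hN : N.Normal] {h : G}
    (hh : h ∈ normalizer (zpowers f : Set G)) (hn : h ∈ N) : h = 1 :=
  t.fpf hn t.ord (t.commute hh (mem_zpowers f) (mul_mem (hN.conj_mem h hn f) (inv_mem hn)))

theorem TF.nilp (t : TF N f) [N.Normal] : Group.IsNilpotent N :=
  Frob.isNilpotent_of_fpf (φ := MulAut.conjNormal (H := N) f)
    (fun n hn => Subtype.ext (t.fpf n.2 t.ord (by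
      have := congrArg Subtype.val hn
      simp only [MulAut.conjNormal_apply] at this
      exact (mul_inv_eq_iff_eq_mul.1 this).symm)))
    (by norm_num : (13 : ℕ).Prime) (by rw [← map_pow, ← t.ord, pow_orderOf_eq_one, map_one])

theorem TF.maz (t : TF N f) [N.Normal] (D : Subgroup G) [D.Normal] (hD : D ≤ N) (h0 : D ≠ ⊥)
    {h : G} (hh : h ∈ normalizer (zpowers f : Set G)) (h13 : orderOf h ≠ 13) :
    ∃ p, p.Prime ∧ p ∣ Nat.card D ∧ ∃ g : G, orderOf g = p * orderOf h := by
  have ho : orderOf (QuotientGroup.mk' D h) = orderOf h := by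
    refine Nat.dvd_antisymm (orderOf_map_dvd _ _) (orderOf_dvd_of_pow_eq_one ?_)
    refine t.eq_one_of_norm (pow_mem hh _) (hD ?_)
    rw [← QuotientGroup.eq_one_iff, ← QuotientGroup.mk'_apply, map_pow, pow_orderOf_eq_one]
  rw [← ho]
  refine H98.exists_orderOf_mul D ((zpowers f).map (QuotientGroup.mk' D))
    (le_normalizer_map _ (mem_map_of_mem _ hh)) ?_ ?_ ?_ ?_
  · rintro j hj0 hj _ ⟨k, hk, rfl⟩ hc
    by_contra hk1
    have hk1' : k ≠ 1 := fun e => hk1 (by rw [e, map_one])
    have h1 : Commute (h ^ j) k := t.commute (pow_mem hh j) hk (hD (by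
      rw [← QuotientGroup.eq_one_iff, ← QuotientGroup.mk'_apply, map_mul, map_mul, map_mul,
        map_inv, map_inv, map_pow, hc]; group))
    have h2 := t.sp.eq_one (t.ord_of_mem hk hk1') h1 (k := orderOf h)
      (by rw [← pow_mul, mul_comm, pow_mul, pow_orderOf_eq_one, one_pow])
      (by have := t.sp h; omega)
    rw [ho] at hj
    exact pow_ne_one_of_lt_orderOf hj0.ne' hj h2
  · rw [MonoidHom.map_zpowers]; exact isSolvable_of_comm fun a b => mul_comm' a b
  · refine Nat.Coprime.coprime_dvd_left (card_map_dvd _ _) ?_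
    rw [Nat.card_zpowers, t.ord]
    exact (Nat.Coprime.coprime_dvd_left (card_dvd_of_le hD) t.cop).symm
  · intro hle
    obtain ⟨c, hc, e⟩ := hle (mem_map_of_mem _ (mem_zpowers f))
    have hd : c⁻¹ * f ∈ D := QuotientGroup.eq.1 e
    have h1 : c⁻¹ * f = 1 := t.fpf (hD hd) t.ord (by
      have h2 : (c⁻¹ * f) * c = c * (c⁻¹ * f) := hc _ hd
      have h3 : Commute (c⁻¹ * f) (c * (c⁻¹ * f)) := Commute.mul_right h2 (Commute.refl _)
      rwa [mul_inv_cancel_left] at h3)
    have h2 : c = f := inv_mul_eq_one.1 h1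
    exact h0 (eq_bot_iff.2 fun d hd => t.fpf (hD hd) t.ord (h2 ▸ hc d hd))

theorem TF.pow_mem (t : TF N f) [N.Normal] (g : G) {k : ℕ}
    (hk : ∀ h ∈ normalizer (zpowers f : Set G), h ^ k = 1) : g ^ k ∈ N := by
  obtain ⟨n, hn, h, hh, rfl⟩ := t.dec g
  rw [← QuotientGroup.eq_one_iff, QuotientGroup.mk_pow, QuotientGroup.mk_mul,
    (QuotientGroup.eq_one_iff n).2 hn, one_mul, ← QuotientGroup.mk_pow, hk h hh]
  rfl

theorem TF.two (t : TF N f) [N.Normal] {y : G} (hy : orderOf y = 8) : IsPGroup 2 N := by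
  haveI := t.nilp
  haveI := Fact.mk Nat.prime_three
  have h3 : ¬ 3 ∣ Nat.card N := by
    intro h3
    obtain ⟨⟨x, hxN⟩, hx⟩ := exists_prime_orderOf_dvd_card' 3 h3
    rw [← orderOf_coe] at hx
    simp only at hx
    haveI := pCoreOf_normal (p := 3) N
    have hxD : x ∈ pCoreOf 3 N := le_pCoreOf_of_isNilpotent (H := N) (zpowers_le.2 hxN)
      (IsPGroup.of_card (n := 1) (by rw [Nat.card_zpowers, hx, pow_one])) (mem_zpowers x)
    have h0 : pCoreOf 3 N ≠ ⊥ := fun e => by
      rw [e, mem_bot] at hxD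
      rw [hxD, orderOf_one] at hx; omega
    have h26 : y ^ 26 ∈ N := t.pow_mem y fun h hh => by
      rw [← orderOf_dvd_iff_pow_eq_one]
      by_cases h13 : orderOf h = 13
      · rw [h13]; norm_num
      obtain ⟨p, hp, hd, g, hg⟩ := t.maz _ (pCoreOf_le N) h0 hh h13
      obtain ⟨k, hk⟩ := IsPGroup.iff_card.1 (isPGroup_pCoreOf 3 N)
      rw [hk] at hd
      have hp3 : p = 3 := (Nat.prime_dvd_prime_iff_eq hp Nat.prime_three).1 (hp.dvd_of_dvd_pow hd)
      subst hp3
      have := t.sp g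
      have : orderOf h = 1 ∨ orderOf h = 2 := by omega
      rcases this with e | e <;> rw [e] <;> norm_num
    have ho : orderOf (y ^ 26) = 4 := by rw [orderOf_pow, hy]; norm_num
    have := t.sp.mul (commute_of_coprime_of_isNilpotent h26 hxN (by rw [ho, hx]; norm_num))
      (by rw [ho, hx]; norm_num)
    rw [ho, hx] at this
    omega
  haveI := Fact.mk Nat.prime_two
  refine IsPGroup.iff_card.2 ⟨_, Nat.eq_prime_pow_of_unique_prime_dvd Nat.card_pos.ne' ?_⟩
  intro p hp hd
  rcases t.sp.prime hp (hd.trans (card_subgroup_dvd_card N)) with e | e | e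
  · exact e
  · exact absurd (e ▸ hd) h3
  · exact absurd (e ▸ hd) t.not_dvd

theorem TF.false (t : TF N f) [N.Normal] {y x : G} (hy : orderOf y = 8) (hx : orderOf x = 3) :
    False := by
  haveI := Fact.mk Nat.prime_two
  have h2 := t.two hy
  obtain ⟨k, hk⟩ := IsPGroup.iff_card.1 h2
  have hm : ∀ h ∈ normalizer (zpowers f : Set G), orderOf h = 1 ∨ orderOf h = 2 ∨ orderOf h = 3 ∨
      orderOf h = 4 ∨ orderOf h = 13 := by
    intro h hh
    by_cases h13 : orderOf h = 13
    · omega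
    obtain ⟨p, hp, hd, g, hg⟩ := t.maz N le_rfl t.ne hh h13
    rw [hk] at hd
    have hp2 : p = 2 := (Nat.prime_dvd_prime_iff_eq hp Nat.prime_two).1 (hp.dvd_of_dvd_pow hd)
    subst hp2
    have := t.sp g
    omega
  obtain ⟨h, hh, h3⟩ : ∃ h ∈ normalizer (zpowers f : Set G), orderOf h = 3 := by
    by_contra hn
    push Not at hn
    have h1 : x ^ 52 ∈ N := t.pow_mem x fun h hh => by
      rw [← orderOf_dvd_iff_pow_eq_one]
      have := hn h hh
      rcases hm h hh with e | e | e | e | e <;> first | exact absurd e this | (rw [e]; norm_num)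
    have ho : orderOf (x ^ 52) = 3 := by rw [orderOf_pow, hx]; norm_num
    have := orderOf_dvd_natCard (⟨_, h1⟩ : N)
    rw [← orderOf_coe, hk] at this
    simp only [ho] at this
    have := Nat.prime_three.dvd_of_dvd_pow this
    omega
  let ρ := (zpowers f).normalizerMonoidHom
  have hρ : ∀ a : normalizer (zpowers f : Set G), ρ a = 1 → Commute (a : G) f := by
    intro a ha
    have := congrArg Subtype.val (DFunLike.congr_fun ha ⟨f, mem_zpowers f⟩)
    exact mul_inv_eq_iff_eq_mul.1 this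
  have hcomm : ∀ a b : MulAut (zpowers f), Commute a b := fun a b => by
    have e := IsCyclic.mulAutMulEquiv (zpowers f)
    exact e.injective (by rw [map_mul, map_mul, mul_comm])
  have hρ3 : ρ ⟨h, hh⟩ ≠ 1 := fun e => by
    have := t.sp.eq_one t.ord (hρ _ e) (k := 3) (h3 ▸ pow_orderOf_eq_one h) (by norm_num)
    simp only at this
    rw [this, orderOf_one] at h3; omega
  have hρ3' : ρ ⟨h, hh⟩ ^ 3 = 1 := by
    rw [← map_pow, show (⟨h, hh⟩ : normalizer (zpowers f : Set G)) ^ 3 = 1 from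
      Subtype.ext (h3 ▸ pow_orderOf_eq_one h), map_one]
  have h39 : ∀ s ∈ normalizer (zpowers f : Set G), s ^ 39 = 1 := by
    intro s hs
    by_contra hn
    have hs4 : s ^ 4 = 1 := by
      rw [← orderOf_dvd_iff_pow_eq_one] at hn ⊢
      rcases hm s hs with e | e | e | e | e <;> rw [e] at hn ⊢ <;>
        first | (norm_num; done) | (norm_num at hn)
    have hρ4 : ρ ⟨s, hs⟩ ^ 4 = 1 := by
      rw [← map_pow, show (⟨s, hs⟩ : normalizer (zpowers f : Set G)) ^ 4 = 1 from
        Subtype.ext hs4, map_one]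
    have hρs : ρ ⟨s, hs⟩ ≠ 1 := fun e => hn (by
      have := t.sp.eq_one t.ord (hρ _ e) hs4 (by norm_num)
      simp only at this
      rw [this, one_pow])
    have key : ∀ m : ℕ, (s * h) ^ m = 1 → ρ ⟨s, hs⟩ ^ m * ρ ⟨h, hh⟩ ^ m = 1 := by
      intro m hm
      rw [← (hcomm _ _).mul_pow, ← map_mul, ← map_pow,
        show ((⟨s, hs⟩ : normalizer (zpowers f : Set G)) * ⟨h, hh⟩) ^ m = 1 from Subtype.ext hm,
        map_one]
    set a := ρ ⟨s, hs⟩
    set b := ρ ⟨h, hh⟩
    have h5 : (s * h) ^ 4 = 1 ∨ (s * h) ^ 3 = 1 ∨ (s * h) ^ 13 = 1 := by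
      simp only [← orderOf_dvd_iff_pow_eq_one]
      rcases hm _ (mul_mem hs hh) with e | e | e | e | e <;> rw [e] <;> norm_num
    rcases h5 with e | e | e
    · have := key _ e
      rw [hρ4, one_mul, pow_succ, hρ3', one_mul] at this
      exact hρ3 this
    · have := key _ e
      rw [hρ3', mul_one] at this
      rw [pow_succ, this, one_mul] at hρ4
      exact hρs hρ4
    · have h6 := key _ e
      rw [← (hcomm a b).mul_pow] at h6
      have h7 : (a * b) ^ 52 = 1 := by rw [show 52 = 13 * 4 from rfl, pow_mul, h6, one_pow]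
      rw [(hcomm a b).mul_pow, show a ^ 52 = (a ^ 4) ^ 13 by rw [← pow_mul], hρ4, one_pow, one_mul,
        show b ^ 52 = (b ^ 3) ^ 17 * b by rw [← pow_mul, ← pow_succ], hρ3', one_pow, one_mul] at h7
      exact hρ3 h7
  have hyN : y ^ 39 ∈ N := t.pow_mem y h39
  have hf13 : f ^ 13 = 1 := t.ord ▸ pow_orderOf_eq_one f
  have main : ∀ h : G, orderOf h = 3 → f * h = h * f ^ 3 → False := by
    intro h h3 e
    have := L13.pow_four h2 (MulAut.conjNormal f) (MulAut.conjNormal h)
      (by rw [← map_pow, hf13, map_one]) (by rw [← map_pow, ← h3, pow_orderOf_eq_one, map_one])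
      (by rw [← map_pow, ← map_mul, ← map_mul, e])
      (fun n hn => Subtype.ext (t.fpf n.2 t.ord (by
        have := congrArg Subtype.val hn
        simp only [MulAut.conjNormal_apply] at this
        exact (mul_inv_eq_iff_eq_mul.1 this).symm)))
      (fun n hn => Subtype.ext (t.sp.sq_eq_one h3 (k := 2 ^ k) (by
        have := congrArg Subtype.val hn
        simp only [MulAut.conjNormal_apply] at this
        exact (mul_inv_eq_iff_eq_mul.1 this).symm)
        (by rw [← hk]; exact congrArg Subtype.val (pow_card_eq_one' (x := n)))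
        (fun h => by have := Nat.prime_three.dvd_of_dvd_pow h; omega))) ⟨_, hyN⟩
    have h4 : (y ^ 39) ^ 4 = 1 := congrArg Subtype.val this
    rw [← pow_mul, ← orderOf_dvd_iff_pow_eq_one, hy] at h4
    omega
  obtain ⟨r, hr⟩ := mem_powers_iff_mem_zpowers.2 ((mem_normalizer_iff.1 hh f).1 (mem_zpowers f))
  simp only at hr
  have hc : ∀ m : ℕ, h * f ^ m * h⁻¹ = f ^ (r * m) := fun m => by rw [pow_mul, hr, conj_pow]
  have h33 : h ^ 3 = 1 := h3 ▸ pow_orderOf_eq_one h
  have hr3 : f ^ (r * (r * r)) = f ^ 1 := by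
    rw [← hc, ← hc, hr]
    have : h * (h * (h * f * h⁻¹) * h⁻¹) * h⁻¹ = h ^ 3 * f * (h ^ 3)⁻¹ := by
      simp only [pow_succ, pow_zero, one_mul, mul_inv_rev, mul_assoc]
    rw [this, h33]; simp
  rw [pow_eq_pow_iff_modEq, t.ord] at hr3
  have hr' : f ^ (r % 13) = h * f * h⁻¹ := by rw [← hr, ← t.ord, pow_mod_orderOf]
  have hrr : r % 13 = 1 ∨ r % 13 = 3 ∨ r % 13 = 9 := by
    unfold Nat.ModEq at hr3
    rw [Nat.mul_mod, Nat.mul_mod r r] at hr3
    have : r % 13 < 13 := Nat.mod_lt _ (by norm_num)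
    generalize r % 13 = s at *
    interval_cases s <;> simp_all
  rcases hrr with e | e | e <;> rw [e] at hr'
  · have := t.sp.eq_one t.ord (c := h) (by
      rw [pow_one] at hr'; exact mul_inv_eq_iff_eq_mul.1 hr'.symm) h33 (by norm_num)
    rw [this, orderOf_one] at h3; omega
  · exact main h⁻¹ (by rw [orderOf_inv, h3]) (by rw [hr']; group)
  · refine main h h3 ?_
    have : h * f ^ 3 * h⁻¹ = f := by
      rw [← conj_pow, ← hr', ← pow_mul, show 9 * 3 = 13 * 2 + 1 from rfl, pow_succ, pow_mul, hf13,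
        one_pow, one_mul]
    rw [← mul_inv_eq_iff_eq_mul.1 this]

theorem pCore_ne_bot [Group.IsSolvable G] (h : Sp G) {f y x : G} (hf : orderOf f = 13)
    (hy : orderOf y = 8) (hx : orderOf x = 3) : pCore 13 G ≠ ⊥ := by
  intro h0
  haveI : Fact (Nat.Prime 13) := ⟨by norm_num⟩
  set N := pPrimeCore 13 G
  have hcop : (Nat.card N).Coprime 13 := coprime_card_pPrimeCore 13
  have hf1 : f ≠ 1 := fun e => by rw [e, orderOf_one] at hf; omega
  have hN0 : N ≠ ⊥ := fun e => by
    have := centralizer_pCore_le (G := G) (by norm_num) e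
    rw [h0] at this
    exact hf1 (mem_bot.1 (this (by simp [mem_centralizer_iff])))
  have hPf : IsPGroup 13 (zpowers f) :=
    IsPGroup.of_card (n := 1) (by rw [Nat.card_zpowers, hf, pow_one])
  obtain ⟨P, hP⟩ := hPf.exists_le_sylow
  have hP13 : ∀ a ∈ (P : Subgroup G), a ≠ 1 → orderOf a = 13 := by
    intro a ha h1
    obtain ⟨k, hk⟩ := P.2 ⟨a, ha⟩
    have h2 : orderOf a ∣ 13 ^ k := orderOf_dvd_of_pow_eq_one (congrArg Subtype.val hk)
    obtain ⟨j, -, hj⟩ := (Nat.dvd_prime_pow (by norm_num)).1 h2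
    have h3 := h a
    have h4 : orderOf a ≠ 1 := fun e => h1 (orderOf_eq_one_iff.1 e)
    rcases j with _ | j
    · omega
    · have : 13 ∣ orderOf a := hj ▸ dvd_pow_self 13 (Nat.succ_ne_zero j)
      omega
  have hfpf : Frob.HasFpfAction (P : Subgroup G) := Frob.hasFpfAction_of_fpf hN0
    (le_normalizer_of_normal) fun a ha h1 => eq_bot_iff.2 fun n hn =>
      h.eq_one (hP13 a ha h1) (mem_centralizer_singleton_iff.1 hn.2) (k := Nat.card N)
        (congrArg Subtype.val (pow_card_eq_one' (G := N) (x := ⟨n, hn.1⟩)))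
        (fun h => by have := Nat.eq_one_of_dvd_coprimes hcop h dvd_rfl; omega)
  have hcyc : IsCyclic (P : Subgroup G) := by
    rcases hfpf.isCyclic_or_quaternion P.2 with h1 | ⟨h1, -⟩
    · exact h1
    · omega
  have hPe : (P : Subgroup G) = zpowers f := by
    refine (eq_of_le_of_card_ge hP ?_).symm
    obtain ⟨g, hg⟩ := hcyc.exists_ofOrder_eq_natCard
    rw [← hg, Nat.card_zpowers, hf, ← orderOf_coe]
    have := h (g : G)
    omega
  have hnt : Nontrivial (G ⧸ N) := by
    refine ⟨⟨(f : G ⧸ N), 1, fun e => ?_⟩⟩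
    have := orderOf_dvd_natCard (⟨f, (QuotientGroup.eq_one_iff f).1 e⟩ : N)
    rw [← orderOf_coe] at this
    simp only [hf] at this
    have := Nat.eq_one_of_dvd_coprimes hcop this dvd_rfl
    omega
  have hM0 : pCore 13 (G ⧸ N) ≠ ⊥ := fun e => by
    have := centralizer_pCore_le (G := G ⧸ N) (by norm_num) pPrimeCore_quotient_pPrimeCore
    rw [e] at this
    obtain ⟨a, ha⟩ := exists_ne (1 : G ⧸ N)
    exact ha (mem_bot.1 (this (by simp [mem_centralizer_iff])))
  have hM : pCore 13 (G ⧸ N) = (zpowers f).map (QuotientGroup.mk' N) := by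
    have h1 := pCore_le_sylow (P.mapSurjective (QuotientGroup.mk'_surjective N))
    rw [Sylow.coe_mapSurjective, hPe] at h1
    refine eq_of_le_of_card_ge h1 ?_
    have h2 := card_map_dvd (zpowers f) (QuotientGroup.mk' N)
    rw [Nat.card_zpowers, hf] at h2
    obtain ⟨k, hk⟩ := IsPGroup.iff_card.1 (isPGroup_pCore (G := G ⧸ N) 13)
    rcases k with _ | k
    · exact absurd (card_eq_one.1 hk) hM0
    · rw [hk]
      exact (Nat.le_of_dvd (by norm_num) h2).trans
        (Nat.le_of_dvd (by positivity) (dvd_pow_self 13 (Nat.succ_ne_zero k)))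
  haveI : (zpowers f ⊔ N).Normal := by
    have : ((pCore 13 (G ⧸ N)).comap (QuotientGroup.mk' N)).Normal := inferInstance
    rwa [hM, comap_map_eq, QuotientGroup.ker_mk'] at this
  have htop := Sylow.normalizer_sup_eq_top' (N := zpowers f ⊔ N) P (hPe ▸ le_sup_left)
  change normalizer ((P : Subgroup G) : Set G) ⊔ _ = ⊤ at htop
  rw [hPe, ← sup_assoc, sup_eq_left.2 le_normalizer, sup_comm] at htop
  refine TF.false (N := N) (f := f) ⟨h, hf, hcop, hN0, fun g => ?_⟩ hy hx
  obtain ⟨n, hn, k, hk, e⟩ := mem_sup_of_normal_left.1 (htop ▸ mem_top g)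
  exact ⟨n, hn, k, hk, e.symm⟩

end Cfsg.Agent.FG.H93.Cr
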