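import Mathlib
import Cfsg.Agent.GT.PGroupElemAb

/-!
# Fixed-point-free automorphisms of prime order of elementary abelian groups, as `F_p[X]`-modules
-/

set_option autoImplicit false

namespace Cfsg.Agent.FG.H93

open Polynomial Cfsg.Agent.GT

section Lin

variable {F V : Type*} [Field F] [AddCommGroup V] [Module F V]

theorem exists_linearEquiv_apply_eq {K W W' : Type*} [Field K] [AddCommGroup W] [Module K W]
    [AddCommGroup W'] [Module K W'] (e : W ≃ₗ[K] W') {v : W} {v' : W'} (hv : v ≠ 0)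
    (hv' : v' ≠ 0) : ∃ g : W ≃ₗ[K] W', g v = v' := by
  have h0 : e v ≠ 0 := by simpa using hv
  obtain ⟨g, hg⟩ := Submodule.exists_linearEquiv_restrict_eq
    ((LinearEquiv.toSpanNonzeroSingleton K W' _ h0).symm.trans
      (LinearEquiv.toSpanNonzeroSingleton K W' _ hv'))
  refine ⟨e.trans g, ?_⟩
  have h1 := hg ⟨e v, Submodule.mem_span_singleton_self _⟩
  rw [LinearEquiv.trans_apply, ← LinearEquiv.toSpanNonzeroSingleton_one K W' _ h0,
    LinearEquiv.symm_apply_apply, LinearEquiv.toSpanNonzeroSingleton_one,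
    LinearEquiv.toSpanNonzeroSingleton_one] at h1
  exact h1.symm

/-- Two endomorphisms killed by the same irreducible polynomial are similar, by a similarity
moving a given nonzero vector to another. -/
theorem exists_intertwine_of_irreducible [Finite V] {f : F[X]} (hf : Irreducible f)
    {T T' : Module.End F V} (hT : aeval T f = 0) (hT' : aeval T' f = 0) {v v' : V} (hv : v ≠ 0)
    (hv' : v' ≠ 0) : ∃ S : V ≃+ V, S v = v' ∧ ∀ u, S (T u) = T' (S u) := by
  have tors : ∀ U : Module.End F V, aeval U f = 0 → Module.IsTorsionBy F[X] (Module.AEval' U) f :=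
    fun U hU x => by
      obtain ⟨x, rfl⟩ := (Module.AEval'.of U).surjective x
      rw [← Module.AEval.of_aeval_smul, hU, zero_smul, map_zero]
  have hmax : (Ideal.span {f}).IsMaximal := PrincipalIdealRing.isMaximal_of_irreducible hf
  let _ := Ideal.Quotient.field (Ideal.span {f})
  let _ := (tors T hT).module
  let _ := (tors T' hT').module
  have : Finite (Module.AEval' T) := Finite.of_equiv V (Module.AEval'.of T).toEquiv
  have : Finite (Module.AEval' T') := Finite.of_equiv V (Module.AEval'.of T').toEquiv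
  have hv0 : Module.AEval'.of T v ≠ 0 := by simpa using hv
  have : Finite (F[X] ⧸ Ideal.span {f}) :=
    Finite.of_injective (fun c => c • Module.AEval'.of T v) (smul_left_injective _ hv0)
  have h1 : Module.finrank (F[X] ⧸ Ideal.span {f}) (Module.AEval' T) =
      Module.finrank (F[X] ⧸ Ideal.span {f}) (Module.AEval' T') := by
    refine Nat.pow_right_injective (Finite.one_lt_card (α := F[X] ⧸ Ideal.span {f})) ?_
    simp only [← Module.natCard_eq_pow_finrank]
    exact Nat.card_congr ((Module.AEval'.of T).symm.trans (Module.AEval'.of T')).toEquiv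
  obtain ⟨g, hg⟩ := exists_linearEquiv_apply_eq (LinearEquiv.ofFinrankEq _ _ h1) hv0
    (v' := Module.AEval'.of T' v') (by simpa using hv')
  refine ⟨((Module.AEval'.of T).toAddEquiv.trans g.toAddEquiv).trans
    (Module.AEval'.of T').symm.toAddEquiv, ?_, fun u => ?_⟩
  · change (Module.AEval'.of T').symm (g (Module.AEval'.of T v)) = v'
    rw [hg, LinearEquiv.symm_apply_apply]
  · change (Module.AEval'.of T').symm (g (Module.AEval'.of T (T u))) =
      T' ((Module.AEval'.of T').symm (g (Module.AEval'.of T u)))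
    rw [← Module.AEval'.X_smul_of, ← Module.AEval'.of_symm_X_smul]
    exact congrArg _ (g.map_smul (Ideal.Quotient.mk (Ideal.span {f}) X) (Module.AEval'.of T u))

theorem aeval_intertwine {S T U : Module.End F V} (h : S * T = U * S) (g : F[X]) :
    S * aeval T g = aeval U g * S := by
  induction g using Polynomial.induction_on' with
  | add a b ha hb => rw [map_add, map_add, mul_add, add_mul, ha, hb]
  | monomial n a =>
    rw [aeval_monomial, aeval_monomial, ← mul_assoc, ← Algebra.commutes, mul_assoc, mul_assoc,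
      (SemiconjBy.pow_right h n).eq]

/-- If the normalizer of `⟨T⟩` is transitive on nonzero vectors, every polynomial in `T` is zero
or injective. -/
theorem aeval_eq_zero_of_transitive [Finite V] {T : Module.End F V}
    (h : ∀ v w : V, v ≠ 0 → w ≠ 0 → ∃ (S : Module.End F V) (k : ℕ), Function.Injective S ∧
      S v = w ∧ S * T = T ^ k * S) {g : F[X]} {v : V} (hv : v ≠ 0) (hg : aeval T g v = 0) :
    aeval T g = 0 := by
  let W : V → Set V := fun u => Set.range fun a : F[X] => aeval T a u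
  have hle : ∀ u w, u ≠ 0 → w ≠ 0 → (W u).ncard ≤ (W w).ncard := by
    intro u w hu hw
    obtain ⟨S, k, hS, h1, h2⟩ := h u w hu hw
    refine Set.ncard_le_ncard_of_injOn S ?_ hS.injOn
    rintro _ ⟨a, rfl⟩
    refine ⟨a.comp (X ^ k), ?_⟩
    simp only [aeval_comp, map_pow, aeval_X]
    rw [← h1, ← Module.End.mul_apply, ← aeval_intertwine h2, Module.End.mul_apply]
  have heq : ∀ u w, u ≠ 0 → u ∈ W w → W u = W w := by
    rintro _ w hu ⟨a, rfl⟩
    refine Set.eq_of_subset_of_ncard_le ?_ (hle _ _ (fun h0 => hu (by simp [h0])) hu)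
    rintro _ ⟨b, rfl⟩
    exact ⟨b * a, by simp⟩
  have hself : ∀ u, u ∈ W u := fun u => ⟨1, by simp⟩
  ext w
  by_contra hw
  have h1 : W (aeval T g w) = W (v + w) := heq _ _ hw ⟨g, by simp [hg]⟩
  have h2 : W (aeval T g w) = W w := heq _ _ hw ⟨g, rfl⟩
  obtain ⟨a, ha⟩ : v + w ∈ W w := h2 ▸ h1 ▸ hself _
  have h3 : W v = W w := heq _ _ hv ⟨a - 1, by simp only at ha; simp [ha]⟩
  obtain ⟨b, hb⟩ : w ∈ W v := h3 ▸ hself _
  refine hw ?_
  simp only at hb
  rw [← hb, ← Module.End.mul_apply, ← map_mul, mul_comm, map_mul, Module.End.mul_apply, hg]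
  simp

theorem aeval_cyclotomic_eq_zero {T : Module.End F V} {q : ℕ} [Fact q.Prime] (hq : T ^ q = 1)
    (hfpf : ∀ v, T v = v → v = 0) : aeval T (cyclotomic q F) = 0 := by
  ext v
  refine hfpf _ (sub_eq_zero.mp ?_)
  have h : (T - 1) * aeval T (cyclotomic q F) = 0 := by
    rw [cyclotomic_prime, map_sum]
    simp only [map_pow, aeval_X]
    rw [mul_geom_sum, hq, sub_self]
  exact LinearMap.congr_fun h v

theorem orderOf_eq_of_transitive {p q : ℕ} [Fact p.Prime] [Fact q.Prime] (hpq : p ≠ q)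
    {V : Type*} [AddCommGroup V] [Module (ZMod p) V] [Finite V] [Nontrivial V]
    {T : Module.End (ZMod p) V} (hq : T ^ q = 1) (hfpf : ∀ v, T v = v → v = 0)
    (h : ∀ v w : V, v ≠ 0 → w ≠ 0 → ∃ (S : Module.End (ZMod p) V) (k : ℕ),
      Function.Injective S ∧ S v = w ∧ S * T = T ^ k * S)
    (h' : ∀ k, 0 < k → k < q → ∃ S : Module.End (ZMod p) V, Function.Surjective S ∧
      S * T = T ^ k * S) : orderOf (p : ZMod q) = q - 1 := by
  classical
  have hp : p.Prime := Fact.out
  have hqp : q.Prime := Fact.out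
  have hcop : p.Coprime q := (Nat.coprime_primes hp hqp).mpr hpq
  have : NeZero (q : ZMod p) := ⟨fun h0 => hpq ((Nat.prime_dvd_prime_iff_eq hp hqp).mp
    ((ZMod.natCast_eq_zero_iff q p).mp h0))⟩
  have hunit : ∀ g : (ZMod p)[X], IsUnit g → aeval T g ≠ 0 := fun g hg =>
    (hg.map (aeval T)).ne_zero
  have key : ∀ g : (ZMod p)[X], g ≠ 0 → aeval T g = 0 →
      ∃ f, Irreducible f ∧ f ∣ g ∧ aeval T f = 0 := by
    intro g
    induction g using WfDvdMonoid.induction_on_irreducible with
    | zero => exact fun h0 => absurd rfl h0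
    | unit u hu => exact fun _ h0 => absurd h0 (hunit u hu)
    | mul a i ha hi ih =>
      intro _ h0
      by_cases h1 : aeval T a = 0
      · obtain ⟨f, h2, h3, h4⟩ := ih ha h1
        exact ⟨f, h2, h3.mul_left i, h4⟩
      · obtain ⟨v, hv⟩ := DFunLike.ne_iff.mp h1
        exact ⟨i, hi, Dvd.intro a rfl, aeval_eq_zero_of_transitive h hv (by
          rw [← Module.End.mul_apply, ← map_mul, h0]; rfl)⟩
  obtain ⟨f, hf, hfd, hfT⟩ := key _ (cyclotomic_ne_zero q _) (aeval_cyclotomic_eq_zero hq hfpf)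
  have hdvd : ∀ g, aeval T g = 0 → f ∣ g := fun g hg => by
    by_contra hn
    obtain ⟨a, b, hab⟩ := (hf.coprime_iff_not_dvd).mpr hn
    have := congrArg (aeval T) hab
    rw [map_add, map_mul, map_mul, hfT, hg, mul_zero, mul_zero, add_zero, map_one] at this
    exact zero_ne_one this
  have hdeg := natDegree_of_dvd_cyclotomic_of_irreducible (p := p) (f := 1) (by simp) hcop hfd hf
  have : Fact (Irreducible f) := ⟨hf⟩
  have : NeZero (q : AdjoinRoot f) := NeZero.of_injective (algebraMap (ZMod p) _).injective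
  have hroot : ∀ g, f ∣ g → aeval (AdjoinRoot.root f) g = 0 := fun g hg => by
    rw [AdjoinRoot.aeval_eq, AdjoinRoot.mk_eq_zero]; exact hg
  have hζ : IsPrimitiveRoot (AdjoinRoot.root f) q := by
    rw [← isRoot_cyclotomic_iff, ← map_cyclotomic q (algebraMap (ZMod p) _), IsRoot.def,
      eval_map_algebraMap]
    exact hroot _ hfd
  have h1 : q - 1 ≤ f.natDegree := by
    rw [← Nat.totient_prime hqp, ← hζ.card_primitiveRoots,
      ← natDegree_map (algebraMap (ZMod p) (AdjoinRoot f))]
    refine card_le_degree_of_subset_roots fun μ hμ => ?_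
    have hμ' := (mem_primitiveRoots hqp.pos).mp hμ
    obtain ⟨k, hk, rfl⟩ := hζ.eq_pow_of_pow_eq_one hμ'.pow_eq_one
    obtain ⟨S, hS, hST⟩ := h' k (Nat.pos_of_ne_zero fun h0 => hμ'.ne_one hqp.one_lt
      (by rw [h0, pow_zero])) hk
    rw [mem_roots (map_ne_zero hf.ne_zero), IsRoot.def, eval_map_algebraMap]
    have h2 := hroot _ (hdvd (f.comp (X ^ k)) (by
      rw [aeval_comp, map_pow, aeval_X]
      ext w
      obtain ⟨w, rfl⟩ := hS w
      rw [← Module.End.mul_apply, ← aeval_intertwine hST, hfT, mul_zero]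
      rfl))
    rwa [aeval_comp, map_pow, aeval_X] at h2
  have h2 : orderOf (p : ZMod q) = f.natDegree := by
    rw [hdeg, ← orderOf_units, ZMod.coe_unitOfCoprime, pow_one]
  refine le_antisymm (Nat.le_of_dvd (Nat.sub_pos_of_lt hqp.one_lt) (ZMod.orderOf_dvd_card_sub_one
    fun h0 => ?_)) (h2 ▸ h1)
  exact hpq ((Nat.prime_dvd_prime_iff_eq hqp hp).mp ((ZMod.natCast_eq_zero_iff p q).mp h0)).symm

end Lin

section Grp

variable {P : Type*} [Group P] {p : ℕ} {V : Type*} [AddCommGroup V] [Module (ZMod p) V]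

/-- The linear map of an automorphism of an elementary abelian group. -/
def linOf (e : P ≃* Multiplicative V) : MulAut P →* Module.End (ZMod p) V where
  toFun s := AddMonoidHom.toZModLinearMap p (MonoidHom.toAdditiveRight
    ((e.symm.trans s).trans e).toMonoidHom)
  map_one' := LinearMap.ext fun v =>
    congrArg Multiplicative.toAdd (e.apply_symm_apply (Multiplicative.ofAdd v))
  map_mul' s t := LinearMap.ext fun v => congrArg (fun x => (e (s x)).toAdd)
    (e.symm_apply_apply (t (e.symm (Multiplicative.ofAdd v)))).symm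

theorem linOf_apply (e : P ≃* Multiplicative V) (s : MulAut P) (u : P) :
    linOf (p := p) e s (e u).toAdd = (e (s u)).toAdd :=
  congrArg (fun x => (e (s x)).toAdd) (e.symm_apply_apply u)

theorem exists_toAdd (e : P ≃* Multiplicative V) (v : V) : ∃ u, (e u).toAdd = v :=
  ⟨e.symm (Multiplicative.ofAdd v), by simp⟩

theorem linOf_fpf (e : P ≃* Multiplicative V) {t : MulAut P} (h : ∀ u, t u = u → u = 1) (v : V)
    (hv : linOf (p := p) e t v = v) : v = 0 := by
  obtain ⟨u, rfl⟩ := exists_toAdd e v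
  rw [linOf_apply] at hv
  rw [h u (e.injective (Multiplicative.toAdd.injective hv)), map_one, toAdd_one]

theorem linOf_bijective (e : P ≃* Multiplicative V) (s : MulAut P) :
    Function.Bijective (linOf (p := p) e s) :=
  (Module.End.isUnit_iff _).mp ((Group.isUnit s).map (linOf e))

variable [Finite P] [Fact p.Prime] {q : ℕ} [Fact q.Prime]

theorem exists_mulAut_intertwine (hc : IsMulCommutative P) (hexp : ∀ x : P, x ^ p = 1)
    (hpq : p ≠ q) (ho : orderOf (p : ZMod q) = q - 1) {t t' : MulAut P} (ht : t ^ q = 1)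
    (ht' : t' ^ q = 1) (h : ∀ u, t u = u → u = 1) (h' : ∀ u, t' u = u → u = 1) {v v' : P}
    (hv : v ≠ 1) (hv' : v' ≠ 1) : ∃ s : MulAut P, s v = v' ∧ s * t = t' * s := by
  have hp : p.Prime := Fact.out
  have hq : q.Prime := Fact.out
  obtain ⟨n, hn⟩ := (IsPGroup.iff_card (p := p) (G := P)).mp fun g => ⟨1, by rw [pow_one, hexp]⟩
  obtain ⟨e⟩ := PG.nonempty_mulEquiv_pi_zmod hc hexp hn
  have hirr : Irreducible (cyclotomic q (ZMod p)) :=
    ZMod.irreducible_of_dvd_cyclotomic_of_natDegree
      (fun h0 => hpq ((Nat.prime_dvd_prime_iff_eq hp hq).mp h0)) dvd_rfl (by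
      rw [natDegree_cyclotomic, Nat.totient_prime hq, ← orderOf_units, ZMod.coe_unitOfCoprime, ho])
  obtain ⟨S, h1, h2⟩ := exists_intertwine_of_irreducible hirr
    (aeval_cyclotomic_eq_zero (T := linOf e t) (by rw [← map_pow, ht, map_one]) (linOf_fpf e h))
    (aeval_cyclotomic_eq_zero (T := linOf e t') (by rw [← map_pow, ht', map_one]) (linOf_fpf e h'))
    (v := (e v).toAdd) (v' := (e v').toAdd) (by simpa using hv) (by simpa using hv')
  refine ⟨(e.trans (AddEquiv.toMultiplicative S)).trans e.symm, ?_, MulEquiv.ext fun u => ?_⟩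
  · change e.symm (Multiplicative.ofAdd (S (e v).toAdd)) = v'
    rw [h1]; simp
  · change e.symm (Multiplicative.ofAdd (S (e (t u)).toAdd)) =
      t' (e.symm (Multiplicative.ofAdd (S (e u).toAdd)))
    rw [← linOf_apply (p := p), h2]
    obtain ⟨w, hw⟩ := exists_toAdd e (S (e u).toAdd)
    rw [← hw, linOf_apply]
    simp

theorem orderOf_eq_of_mulAut_transitive [Nontrivial P] (hc : IsMulCommutative P)
    (hexp : ∀ x : P, x ^ p = 1) (hpq : p ≠ q) {t : MulAut P} (ht : t ^ q = 1)
    (h : ∀ u, t u = u → u = 1)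
    (h1 : ∀ v w : P, v ≠ 1 → w ≠ 1 → ∃ (s : MulAut P) (k : ℕ), s v = w ∧ s * t = t ^ k * s)
    (h2 : ∀ k, 0 < k → k < q → ∃ s : MulAut P, s * t = t ^ k * s) :
    orderOf (p : ZMod q) = q - 1 := by
  obtain ⟨n, hn⟩ := (IsPGroup.iff_card (p := p) (G := P)).mp fun g => ⟨1, by rw [pow_one, hexp]⟩
  obtain ⟨e⟩ := PG.nonempty_mulEquiv_pi_zmod hc hexp hn
  have : Nontrivial (Fin n → ZMod p) := (e.toEquiv.trans Multiplicative.toAdd).symm.nontrivial
  refine orderOf_eq_of_transitive hpq (T := linOf e t) (by rw [← map_pow, ht, map_one])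
    (linOf_fpf e h) (fun v w hv hw => ?_) fun k hk hk' => ?_
  · obtain ⟨v, rfl⟩ := exists_toAdd e v
    obtain ⟨w, rfl⟩ := exists_toAdd e w
    obtain ⟨s, k, h3, h4⟩ := h1 v w (by simpa using hv) (by simpa using hw)
    exact ⟨linOf e s, k, (linOf_bijective e s).1, by rw [linOf_apply, h3],
      by rw [← map_pow, ← map_mul, h4, map_mul]⟩
  · obtain ⟨s, h4⟩ := h2 k hk hk'
    exact ⟨linOf e s, (linOf_bijective e s).2, by rw [← map_pow, ← map_mul, h4, map_mul]⟩

end Grp

end Cfsg.Agent.FG.H93
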