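import Mathlib
import Cfsg.Agent.FG.H93CritB
import Cfsg.Agent.FG.H93CycMod
import Cfsg.Agent.GT.Hall

/-!
The Frobenius complement of order `48` with element orders `1, 2, 3, 4, 6, 8` and its
four-dimensional modules over `𝔽₁₃`.
-/

set_option autoImplicit false

namespace Cfsg.Agent.FG.H93.Cr

open Cfsg.Agent.GT Subgroup
open scoped commutatorElement Pointwise

universe u

theorem five_five : (5 : ZMod 13) * -5 = 1 ∧ (-5 : ZMod 13) * 5 = 1 ∧ (5 : ZMod 13) * 5 = -1 := by
  decide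

theorem lin_bound {A : Type*} [AddCommGroup A] [Module (ZMod 13) A] [Nontrivial A]
    (X Y : Module.End (ZMod 13) A) (hX : ∀ v, X (X v) = -v - X v)
    (hY : ∀ v, Y (Y (Y (Y v))) = -v) (hXY : ∀ v, Y (X (Y v)) = v + X v) :
    ∃ W : Submodule (ZMod 13) A, W ≠ ⊥ ∧ Nat.card W ≤ 13 ^ 4 ∧ (∀ w ∈ W, X w ∈ W) ∧
      ∀ w ∈ W, Y w ∈ W := by
  obtain ⟨v, c, d, hv, hcd, hc⟩ : ∃ (v : A) (c d : ZMod 13), v ≠ 0 ∧ d * c = 1 ∧
      Y (Y v) = c • v := by
    obtain ⟨u, hu⟩ := exists_ne (0 : A)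
    by_cases h : Y (Y u) + (5 : ZMod 13) • u = 0
    · exact ⟨u, -5, 5, hu, five_five.1, by rw [neg_smul]; exact eq_neg_of_add_eq_zero_left h⟩
    · refine ⟨_, 5, -5, h, five_five.2.1, ?_⟩
      rw [map_add, map_add, hY, map_smul, map_smul, smul_add, smul_smul,
        five_five.2.2, neg_smul, one_smul, add_comm]
  let b : Fin 4 → A := ![v, Y v, X v, X (Y v)]
  let W := Submodule.span (ZMod 13) (Set.range b)
  have m0 : v ∈ W := Submodule.subset_span ⟨0, rfl⟩
  have m1 : Y v ∈ W := Submodule.subset_span ⟨1, rfl⟩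
  have m2 : X v ∈ W := Submodule.subset_span ⟨2, rfl⟩
  have m3 : X (Y v) ∈ W := Submodule.subset_span ⟨3, rfl⟩
  refine ⟨W, fun e => hv (by rw [e] at m0; exact m0), ?_, ?_, ?_⟩
  · have hs : Function.Surjective (fun a : Fin 4 → ZMod 13 =>
        (⟨∑ i, a i • b i, Submodule.sum_mem _ fun i _ => Submodule.smul_mem _ _
          (Submodule.subset_span ⟨i, rfl⟩)⟩ : W)) := by
      rintro ⟨w, hw⟩
      obtain ⟨a, ha⟩ := (Submodule.mem_span_range_iff_exists_fun _).1 hw
      exact ⟨a, Subtype.ext ha⟩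
    have := Nat.card_le_card_of_surjective _ hs
    simpa using this
  · have : W ≤ W.comap X := Submodule.span_le.2 (by
      rintro _ ⟨i, rfl⟩
      fin_cases i
      · exact m2
      · exact m3
      · show X (X v) ∈ W
        rw [hX]; exact sub_mem (neg_mem m0) m2
      · show X (X (Y v)) ∈ W
        rw [hX]; exact sub_mem (neg_mem m1) m3)
    exact this
  · have : W ≤ W.comap Y := Submodule.span_le.2 (by
      rintro _ ⟨i, rfl⟩
      fin_cases i
      · exact m1
      · show Y (Y v) ∈ W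
        rw [hc]; exact W.smul_mem _ m0
      · show Y (X v) ∈ W
        have : v = d • Y (Y v) := by rw [hc, smul_smul, hcd, one_smul]
        rw [this, map_smul, map_smul, hXY]
        exact W.smul_mem _ (add_mem m1 m3)
      · show Y (X (Y v)) ∈ W
        rw [hXY]; exact add_mem m0 m2)
    exact this

theorem sign_of_order_four : ∀ σ : Equiv.Perm (Fin 4), σ ^ 4 = 1 → σ ^ 2 ≠ 1 →
    Equiv.Perm.sign σ ≠ 1 := by decide +kernel

variable {H : Type u} [Group H] [Finite H]

theorem quot_S4 (hs : Sp H) (hfp : Frob.HasFpfAction H) (h13 : ¬ 13 ∣ Nat.card H) {y x : H}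
    (hy : orderOf y = 8) (hx : orderOf x = 3) :
    ∃ z : H, orderOf z = 2 ∧ (∀ t : H, t ^ 2 = 1 → t = 1 ∨ t = z) ∧ Nat.card H = 48 ∧
      ∃ φ : H →* Equiv.Perm (Fin 4), Function.Surjective φ ∧ φ.ker = zpowers z := by
  haveI := Fact.mk Nat.prime_three
  haveI := Fact.mk Nat.prime_two
  have hz : orderOf (y ^ 4) = 2 := by rw [orderOf_pow, hy]; norm_num
  set z := y ^ 4 with hzdef
  have hz1 : z ≠ 1 := fun e => by rw [e, orderOf_one] at hz; omega
  have hzz : z * z = 1 := by rw [← sq, ← hz, pow_orderOf_eq_one]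
  have huniq : ∀ t : H, t ^ 2 = 1 → t = 1 ∨ t = z := fun t ht => by
    by_cases h1 : t = 1
    · exact Or.inl h1
    · exact Or.inr (hfp.eq_of_mul_self_eq_one h1 (by rw [← sq, ht]) hz1 hzz)
  have hzc : z ∈ center H := hfp.mem_center_of_mul_self_eq_one hzz
  have hP3 : ∀ P : Sylow 3 H, Nat.card P = 3 := by
    intro P
    obtain ⟨g, hg⟩ := (hfp.isCyclic_of_isPGroup (by norm_num) P.2).exists_ofOrder_eq_natCard
    have h1 : 3 ∣ Nat.card P := P.dvd_card_of_dvd_card (hx ▸ orderOf_dvd_natCard x)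
    obtain ⟨k, hk⟩ := IsPGroup.iff_card.1 P.2
    have h2 := hs (g : H)
    rw [orderOf_coe, hg] at h2
    have h3 : ¬ 2 ∣ Nat.card P := fun h => by
      have := Nat.prime_two.dvd_of_dvd_pow (hk ▸ h); omega
    show Nat.card (P : Subgroup H) = 3
    change 3 ∣ Nat.card (P : Subgroup H) at h1
    change ¬ 2 ∣ Nat.card (P : Subgroup H) at h3
    omega
  obtain ⟨S⟩ : Nonempty (Sylow 2 H) := inferInstance
  have hS : Nat.card S ∣ 16 := by
    obtain ⟨k, hk⟩ := IsPGroup.iff_card.1 S.2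
    have h8 : ∀ g : S, orderOf g ∣ 8 := fun g => by
      have h1 := hs (g : H)
      have h2 := orderOf_dvd_natCard g
      rw [orderOf_coe] at h1
      have h3 : ¬ 3 ∣ orderOf g := fun h => by
        have := Nat.prime_three.dvd_of_dvd_pow (hk ▸ h.trans h2); omega
      have h4 : ¬ 13 ∣ orderOf g := fun h => h13 ((h.trans h2).trans (card_subgroup_dvd_card _))
      change _ ∨ _ ∨ _ ∨ _ ∨ _ ∨ _ ∨ _ at h1
      generalize orderOf g = m at h1 h3 h4 ⊢
      rcases h1 with e | e | e | e | e | e | e <;> subst e <;> revert h3 h4 <;> decide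
    rcases (hfp.subgroup S).isCyclic_or_quaternion S.2 with h1 | ⟨-, n, ⟨e⟩⟩
    · obtain ⟨g, hg⟩ := h1.exists_ofOrder_eq_natCard
      exact (hg ▸ h8 g).trans (by norm_num)
    · have h1 := h8 (e.symm (QuaternionGroup.a 1))
      rw [MulEquiv.orderOf_eq, QuaternionGroup.orderOf_a_one] at h1
      have h2 : Nat.card S = 4 * 2 ^ n := by
        rw [← QuaternionGroup.card (n := 2 ^ n), ← Nat.card_eq_fintype_card]
        exact Nat.card_congr e.toEquiv
      rw [h2, show 4 * 2 ^ n = 2 * (2 * 2 ^ n) by ring]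
      exact Nat.mul_dvd_mul_left 2 h1
  obtain ⟨P, hP⟩ := (IsPGroup.of_card (n := 1)
    (by rw [Nat.card_zpowers, hx, pow_one]) : IsPGroup 3 (zpowers x)).exists_le_sylow
  have hPe : (P : Subgroup H) = zpowers x :=
    (eq_of_le_of_card_ge hP (by rw [Nat.card_zpowers, hx]; exact (hP3 P).le)).symm
  have h48 : Nat.card H ∣ 48 := by
    refine (Nat.dvd_iff_prime_pow_dvd_dvd _ _).2 fun p k hp hd => ?_
    rcases k with _ | k
    · simp
    rcases hs.prime hp ((dvd_pow_self p (Nat.succ_ne_zero k)).trans hd) with e | e | e <;> subst e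
    · exact (S.pow_dvd_card_of_pow_dvd_card hd).trans (hS.trans (by norm_num))
    · exact (P.pow_dvd_card_of_pow_dvd_card hd).trans (by rw [hP3 P]; norm_num)
    · exact absurd ((dvd_pow_self 13 (Nat.succ_ne_zero k)).trans hd) h13
  have hx3 : x ^ 3 = 1 := hx ▸ pow_orderOf_eq_one x
  have hnn : y ∉ normalizer (zpowers x : Set H) := by
    intro hy'
    obtain ⟨r, hr⟩ := mem_powers_iff_mem_zpowers.2 ((mem_normalizer_iff.1 hy' x).1 (mem_zpowers x))
    simp only at hr
    have hr' : x ^ (r % 3) = y * x * y⁻¹ := by rw [← hr, ← hx, pow_mod_orderOf]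
    have h2 : Commute (y ^ 2) x := by
      have : r % 3 = 0 ∨ r % 3 = 1 ∨ r % 3 = 2 := by omega
      have e1 : y ^ 2 * x * (y ^ 2)⁻¹ = y * (y * x * y⁻¹) * y⁻¹ := by
        simp only [pow_succ, pow_zero, one_mul, mul_inv_rev, mul_assoc]
      rcases this with e | e | e <;> rw [e] at hr'
      · have : x = 1 := by simpa using hr'.symm
        rw [this, orderOf_one] at hx; omega
      · refine mul_inv_eq_iff_eq_mul.1 ?_
        rw [pow_one] at hr'
        rw [e1, ← hr', ← hr']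
      · refine mul_inv_eq_iff_eq_mul.1 ?_
        rw [e1, ← hr', ← conj_pow, ← hr', ← pow_mul, show 2 * 2 = 3 + 1 from rfl, pow_succ, hx3,
          one_mul]
    have := hs.sq_eq_one hx h2 (k := 4) (by rw [← pow_mul]; exact orderOf_dvd_iff_pow_eq_one.1 (by rw [hy]))
      (by norm_num)
    rw [← pow_mul] at this
    exact hz1 this
  have hn3 : Nat.card (Sylow 3 H) = 4 := by
    have h1 := card_sylow_modEq_one 3 H
    have h2 := P.card_eq_index_normalizer
    have h3 : 6 ∣ Nat.card (normalizer (P : Set H)) := by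
      have hxz : Commute x z := mem_center_iff.1 hzc x
      have : orderOf (x * z) = 6 := by
        rw [hxz.orderOf_mul_eq_mul_orderOf_of_coprime (by rw [hx, hz]; norm_num), hx, hz]
      rw [← this]
      refine Subgroup.orderOf_dvd_natCard (normalizer (P : Set H)) ?_
      exact mul_mem (le_normalizer (hP (mem_zpowers x))) (center_le_normalizer _ hzc)
    have h4 := (normalizer (P : Set H)).card_mul_index
    have h5 : (normalizer (P : Set H)).index ≠ 1 := fun e => hnn (by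
      have := index_eq_one.1 e
      change normalizer ((P : Subgroup H) : Set H) = ⊤ at this
      rw [← hPe, this]; exact mem_top y)
    rw [← h2] at h4 h5
    obtain ⟨c, hc⟩ := h3
    rw [hc] at h4
    have h6 : Nat.card (Sylow 3 H) ∣ 8 := by
      have : 6 * (c * Nat.card (Sylow 3 H)) ∣ 6 * 8 := by rw [← mul_assoc, h4]; exact h48
      exact (Dvd.intro_left c rfl).trans (Nat.dvd_of_mul_dvd_mul_left (by norm_num) this)
    have h7 := Nat.le_of_dvd (by norm_num) h6
    unfold Nat.ModEq at h1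
    clear h2 h4
    generalize Nat.card (Sylow 3 H) = m at h1 h5 h6 h7
    interval_cases m <;> first | rfl | omega
  obtain ⟨ε⟩ : Nonempty (Sylow 3 H ≃ Fin 4) := by
    exact ⟨Finite.equivFinOfCardEq hn3⟩
  let φ : H →* Equiv.Perm (Fin 4) :=
    (Equiv.permCongrHom ε).toMonoidHom.comp (MulAction.toPermHom H (Sylow 3 H))
  have hker : ∀ g, g ∈ φ.ker ↔ ∀ Q : Sylow 3 H, g • Q = Q := by
    intro g
    rw [MonoidHom.mem_ker]
    show Equiv.permCongrHom ε (MulAction.toPermHom H (Sylow 3 H) g) = 1 ↔ _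
    rw [map_eq_one_iff _ (Equiv.permCongrHom ε).injective, Equiv.ext_iff]
    rfl
  have hk3 : ¬ 3 ∣ Nat.card φ.ker := by
    intro h3
    obtain ⟨⟨w, hw⟩, hw3⟩ := exists_prime_orderOf_dvd_card' 3 h3
    rw [← orderOf_coe] at hw3
    simp only at hw3
    have hwp : IsPGroup 3 (zpowers w) :=
      IsPGroup.of_card (n := 1) (by rw [Nat.card_zpowers, hw3, pow_one])
    have h1 : ∀ Q : Sylow 3 H, (Q : Subgroup H) = zpowers w := by
      intro Q
      refine (eq_of_le_of_card_ge ?_ (by rw [Nat.card_zpowers, hw3]; exact (hP3 Q).le)).symm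
      have h2 : zpowers w ≤ normalizer (Q : Set H) :=
        zpowers_le.2 (Sylow.smul_eq_iff_mem_normalizer.1 ((hker w).1 hw Q))
      have := hwp.inf_normalizer_sylow Q
      rw [inf_eq_left.2 h2] at this
      exact this ▸ inf_le_right
    have : Subsingleton (Sylow 3 H) := ⟨fun Q R => Sylow.ext ((h1 Q).trans (h1 R).symm)⟩
    have := Finite.card_le_one_iff_subsingleton.2 this
    omega
  have hkz : φ.ker = zpowers z := by
    refine le_antisymm (fun k hk => ?_) (zpowers_le.2 ((hker z).2 fun Q =>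
      Sylow.smul_eq_iff_mem_normalizer.2 (center_le_normalizer _ hzc)))
    have h1 : k ∈ normalizer (zpowers x : Set H) := by
      rw [← hPe]; exact Sylow.smul_eq_iff_mem_normalizer.1 ((hker k).1 hk P)
    have h2 : k * x * k⁻¹ * x⁻¹ ∈ zpowers x :=
      mul_mem ((mem_normalizer_iff.1 h1 x).1 (mem_zpowers x)) (inv_mem (mem_zpowers x))
    have h3 : k * x * k⁻¹ * x⁻¹ ∈ φ.ker := by
      have := mul_mem hk (φ.normal_ker.conj_mem _ (inv_mem hk) x)
      simpa only [mul_assoc] using this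
    have h4 : k * x * k⁻¹ * x⁻¹ = 1 := by
      have h5 := orderOf_dvd_of_mem_zpowers h2
      have h6 := Subgroup.orderOf_dvd_natCard _ h3
      rw [hx] at h5
      rcases (Nat.dvd_prime Nat.prime_three).1 h5 with e | e
      · exact orderOf_eq_one_iff.1 e
      · exact absurd (e ▸ h6) hk3
    rw [mul_inv_eq_one, mul_inv_eq_iff_eq_mul] at h4
    rcases huniq k (hs.sq_eq_one hx h4 (k := Nat.card φ.ker)
      (congrArg Subtype.val (pow_card_eq_one' (x := (⟨k, hk⟩ : φ.ker)))) hk3) with e | e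
    · rw [e]; exact one_mem _
    · rw [e]; exact mem_zpowers _
  have hcard : Nat.card H = 2 * Nat.card φ.range := by
    rw [← φ.ker.card_mul_index, index_ker, hkz, Nat.card_zpowers, hz]
  have h24 : 24 ∣ Nat.card H :=
    Nat.Coprime.mul_dvd_of_dvd_of_dvd (by norm_num : Nat.Coprime 8 3)
      (hy ▸ orderOf_dvd_natCard y) (hx ▸ orderOf_dvd_natCard x)
  have hS4 : Nat.card (Equiv.Perm (Fin 4)) = 24 := by
    rw [Nat.card_eq_fintype_card, Fintype.card_perm]; rfl
  have hH : Nat.card H = 48 := by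
    have h1 := Nat.le_of_dvd (by norm_num) h48
    have h0 : 0 < Nat.card H := Nat.card_pos
    by_contra hne
    have h2 : Nat.card H = 24 := by omega
    have h3 : φ.range.index = 2 := by
      have := φ.range.card_mul_index
      rw [hS4] at this
      have h4 : Nat.card φ.range = 12 := by omega
      rw [h4] at this; omega
    have h4 := Equiv.Perm.eq_alternatingGroup_of_index_eq_two h3
    refine sign_of_order_four (φ y) ?_ ?_ (Equiv.Perm.mem_alternatingGroup.1 (h4 ▸ ⟨y, rfl⟩))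
    · rw [← map_pow, ← MonoidHom.mem_ker, hkz]; exact mem_zpowers _
    · rw [← map_pow, Ne, ← MonoidHom.mem_ker, hkz]
      intro h
      have := orderOf_dvd_of_mem_zpowers h
      rw [hz, orderOf_pow, hy] at this
      norm_num at this
  refine ⟨z, hz, huniq, hH, φ, ?_, hkz⟩
  rw [← MonoidHom.range_eq_top]
  exact eq_top_of_card_eq _ (by omega)

theorem exists_gens {z : H} (hz : orderOf z = 2) (huniq : ∀ t : H, t ^ 2 = 1 → t = 1 ∨ t = z)
    {φ : H →* Equiv.Perm (Fin 4)} (hφ : Function.Surjective φ) (hk : φ.ker = zpowers z) :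
    ∃ x y : H, orderOf x = 3 ∧ y ^ 4 = z ∧ (x * y) ^ 2 = z := by
  haveI := Fact.mk Nat.prime_three
  have hz2 : z ^ 2 = 1 := hz ▸ pow_orderOf_eq_one z
  have hφz : φ z = 1 := (hk ▸ mem_zpowers z : z ∈ φ.ker)
  have hm : ∀ t, φ t = 1 → t ^ 2 = 1 := fun t ht => by
    have : t ∈ zpowers z := hk ▸ ht
    obtain ⟨k, rfl⟩ := mem_powers_iff_mem_zpowers.2 this
    show (z ^ k) ^ 2 = 1
    rw [← pow_mul, mul_comm, pow_mul, hz2, one_pow]
  have hsq : ∀ t, φ t ≠ 1 → φ t ^ 2 = 1 → t ^ 2 = z := fun t h1 h2 => by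
    rcases huniq _ (hm (t ^ 2) (by rw [map_pow, h2])) with e | e
    · rcases huniq t e with e | e
      · exact absurd (by rw [e, map_one]) h1
      · exact absurd (by rw [e, hφz]) h1
    · exact e
  obtain ⟨y, hy⟩ := hφ (finRotate 4)
  obtain ⟨x, hx⟩ := hφ (Equiv.swap 0 1 * (finRotate 4)⁻¹)
  have hx4 : φ (x ^ 4) = Equiv.swap 0 1 * (finRotate 4)⁻¹ := by rw [map_pow, hx]; decide
  refine ⟨x ^ 4, y, orderOf_eq_prime ?_ fun e => ?_, ?_, hsq _ ?_ ?_⟩
  · rw [← pow_mul, show 4 * 3 = 3 * 2 * 2 from rfl, pow_mul, pow_mul,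
      hm (x ^ 3) (by rw [map_pow, hx]; decide), one_pow]
  · rw [e, map_one] at hx4; revert hx4; decide
  · rw [show 4 = 2 * 2 from rfl, pow_mul]
    refine hsq _ ?_ ?_ <;> rw [map_pow, hy] <;> decide
  · rw [map_mul, hx4, hy]; decide
  · rw [map_mul, hx4, hy]; decide

variable {G : Type u} [Group G] [Finite G]

/-- the spectrum is full as soon as the orders `6, 8, 13` occur -/
theorem Sp.range_eq (hs : Sp G) {a b c : G} (ha : orderOf a = 6) (hb : orderOf b = 8)
    (hc : orderOf c = 13) :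
    Set.range (orderOf : G → ℕ) = ({1, 2, 3, 4, 6, 8, 13} : Set ℕ) := by
  ext m
  simp only [Set.mem_range, Set.mem_insert_iff, Set.mem_singleton_iff]
  constructor
  · rintro ⟨g, rfl⟩; exact hs g
  · rintro (rfl | rfl | rfl | rfl | rfl | rfl | rfl)
    · exact ⟨1, orderOf_one⟩
    · exact ⟨a ^ 3, by rw [orderOf_pow, ha]; norm_num⟩
    · exact ⟨a ^ 2, by rw [orderOf_pow, ha]; norm_num⟩
    · exact ⟨b ^ 2, by rw [orderOf_pow, hb]; norm_num⟩
    · exact ⟨a, ha⟩
    · exact ⟨b, hb⟩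
    · exact ⟨c, hc⟩

theorem caseA [Group.IsSolvable G] (hs : Sp G) {a b : G} (ha : orderOf a = 6) (hb : orderOf b = 8)
    (h13 : pCore 13 G ≠ ⊥)
    (hcr : ∀ L : Subgroup G, ∀ a ∈ L, ∀ b ∈ L, ∀ c ∈ L, orderOf a = 6 → orderOf b = 8 →
      orderOf c = 13 → L = ⊤) :
    ∃ (K H : Subgroup G), K.Normal ∧ IsMulCommutative K ∧ (∀ x ∈ K, x ^ 13 = 1) ∧
      Nat.card K = 13 ^ 4 ∧ K ⊓ H = ⊥ ∧ K ⊔ H = ⊤ ∧
      (∀ h ∈ H, h ≠ 1 → ∀ x ∈ K, h * x * h⁻¹ = x → x = 1) ∧
      ∃ (Z : Subgroup ↥H) (_ : Z.Normal), Nat.card Z = 2 ∧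
        (∀ Z' : Subgroup ↥H, Nat.card Z' = 2 → Z' = Z) ∧
          Nonempty (↥H ⧸ Z ≃* Equiv.Perm (Fin 4)) := by
  haveI : Fact (Nat.Prime 13) := ⟨by norm_num⟩
  obtain ⟨V, hV, hVle⟩ := exists_isMinNormal_le h13
  haveI := hV.normal
  have hVp : IsPGroup 13 V := (isPGroup_pCore 13).to_le hVle
  obtain ⟨hVc, hVe⟩ := hV.elementary_of_isPGroup (by norm_num) hVp
  have hVo : ∀ v ∈ V, v ≠ 1 → orderOf v = 13 := fun v hv h1 => orderOf_eq_prime (hVe v hv) h1
  obtain ⟨c, hcV, hc1⟩ := (bot_or_exists_ne_one V).resolve_left hV.ne_bot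
  obtain ⟨H, hH⟩ := exists_isPiHallOf (G := G) ({2, 3} : Set ℕ) (M := ⊤) inferInstance
  have hH13 : ¬ 13 ∣ Nat.card H := fun h => by
    have := hH.2.1 13 (by norm_num) h
    simp at this
  have hconj : ∀ g : G, orderOf g ∣ 24 → ∃ g' ∈ H, orderOf g' = orderOf g := by
    intro g hg
    obtain ⟨k, -, hk⟩ := hH.exists_conj_le (K := zpowers g) inferInstance le_top (by
      intro p hp hd
      rw [Nat.card_zpowers] at hd
      have h1 : p ∣ 2 ^ 3 * 3 := hd.trans hg
      rcases (Nat.Prime.dvd_mul hp).1 h1 with h | h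
      · exact Or.inl ((Nat.prime_dvd_prime_iff_eq hp Nat.prime_two).1 (hp.dvd_of_dvd_pow h))
      · exact Or.inr ((Nat.prime_dvd_prime_iff_eq hp Nat.prime_three).1 h))
    exact ⟨MulAut.conj k g, hk (smul_mem_pointwise_smul _ _ _ (mem_zpowers g)),
      MulEquiv.orderOf_eq _ g⟩
  obtain ⟨a', ha', ha6⟩ := hconj a (by rw [ha]; norm_num)
  obtain ⟨b', hb', hb8⟩ := hconj b (by rw [hb]; norm_num)
  rw [ha] at ha6
  rw [hb] at hb8
  have hfix : ∀ h ∈ H, h ≠ 1 → ∀ x ∈ V, h * x * h⁻¹ = x → x = 1 := by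
    intro h hh h1 x hx e
    by_contra hx1
    exact h1 (hs.eq_one (hVo x hx hx1) (mul_inv_eq_iff_eq_mul.1 e) (k := Nat.card H)
      (congrArg Subtype.val (pow_card_eq_one' (x := (⟨h, hh⟩ : H)))) hH13)
  have hfix' : ∀ h ∈ H, h ≠ 1 → V ⊓ centralizer {h} = ⊥ := fun h hh h1 =>
    eq_bot_iff.2 fun x hx => hfix h hh h1 x hx.1
      (mul_inv_eq_iff_eq_mul.2 (mem_centralizer_singleton_iff.1 hx.2).symm)
  have hfp : Frob.HasFpfAction H :=
    Frob.hasFpfAction_of_fpf hV.ne_bot le_normalizer_of_normal hfix'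
  obtain ⟨z, hz, huniq, h48, φ, hφ, hk⟩ := quot_S4 (hs.subgroup H) hfp hH13 (y := ⟨b', hb'⟩)
    (x := ⟨a', ha'⟩ ^ 2) (by rw [← orderOf_coe]; exact hb8)
    (by rw [orderOf_pow, ← orderOf_coe]; simp only [ha6]; norm_num)
  obtain ⟨x, y, hx, hy, hxy⟩ := exists_gens hz huniq hφ hk
  have hzc : z ∈ center H := hfp.mem_center_of_mul_self_eq_one (by
    rw [← sq, ← hz, pow_orderOf_eq_one])
  have hz1 : z ≠ 1 := fun e => by rw [e, orderOf_one] at hz; omega
  have hx1 : x ≠ 1 := fun e => by rw [e, orderOf_one] at hx; omega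
  obtain ⟨n, hn⟩ := IsPGroup.iff_card.1 hVp
  have hcard : Nat.card V = 13 ^ 4 := by
    have h16 : 16 ∣ 13 ^ n - 1 := by
      have := Frob.card_dvd_card_sub_one_of_fpf le_normalizer_of_normal hfix'
      rw [h48, hn] at this
      exact (by norm_num : 16 ∣ 48).trans this
    have hn0 : n ≠ 0 := fun e => hV.ne_bot (card_eq_one.1 (by rw [hn, e, pow_zero]))
    suffices hle : Nat.card V ≤ 13 ^ 4 by
      rw [hn] at hle ⊢
      have := (Nat.pow_le_pow_iff_right (by norm_num)).1 hle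
      interval_cases n <;> first | rfl | omega
    obtain ⟨e⟩ := PG.nonempty_mulEquiv_pi_zmod hVc (fun v => Subtype.ext (hVe v v.2)) hn
    haveI : Nontrivial (Fin n → ZMod 13) := by
      haveI := (nontrivial_iff_ne_bot V).2 hV.ne_bot
      exact (e.toEquiv.trans Multiplicative.toAdd).symm.nontrivial
    let ρ : H →* Module.End (ZMod 13) (Fin n → ZMod 13) :=
      ((linOf e).comp (MulAut.conjNormal (H := V))).comp H.subtype
    have hρ : ∀ h : H, h ≠ 1 → ∀ v, ρ h v = v → v = 0 := fun h h1 =>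
      linOf_fpf e fun u hu => Subtype.ext (hfix h h.2 (fun e => h1 (Subtype.ext e)) u u.2 (by
        exact congrArg Subtype.val hu))
    have hρz : ∀ v, ρ z v = -v := fun v => by
      have : ρ z (ρ z v) = v := by
        rw [← Module.End.mul_apply, ← map_mul, ← sq, ← hz, pow_orderOf_eq_one, map_one]; rfl
      exact eq_neg_of_add_eq_zero_left (hρ z hz1 _ (by rw [map_add, this, add_comm]))
    have hρx : ∀ v, ρ x (ρ x v) = -v - ρ x v := fun v => by
      have : ρ x (ρ x (ρ x v)) = v := by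
        rw [← Module.End.mul_apply, ← Module.End.mul_apply, ← map_mul, ← map_mul, ← sq,
          ← pow_succ, show x ^ (2 + 1) = 1 from orderOf_dvd_iff_pow_eq_one.1 (by rw [hx]),
          map_one]; rfl
      have := hρ x hx1 (v + ρ x v + ρ x (ρ x v)) (by rw [map_add, map_add, this]; abel)
      rw [eq_neg_of_add_eq_zero_right this]; abel
    obtain ⟨W, hW0, hWc, hWx, hWy⟩ := lin_bound (ρ x) (ρ y) hρx
      (fun v => by
        rw [← hρz, ← hy, map_pow]; rfl)
      (fun v => by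
        have h1 : y * x * y = x * x * z := by
          have h3 : x ^ 3 = 1 := hx ▸ pow_orderOf_eq_one x
          rw [← hxy]
          calc y * x * y = x ^ 3 * (y * x * y) := by rw [h3, one_mul]
            _ = x * x * (x * y) ^ 2 := by
              simp only [pow_succ, pow_zero, one_mul, mul_assoc]
        have h2 := congrArg (fun g => ρ g v) h1
        simp only [map_mul, Module.End.mul_apply] at h2
        rw [h2, hρz, hρx, map_neg]; abel)
    let W' : Subgroup V := (AddSubgroup.toSubgroup W.toAddSubgroup).comap e.toMonoidHom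
    have hW' : ∀ u : V, u ∈ W' ↔ (e u).toAdd ∈ W := fun _ => Iff.rfl
    have hnorm : ∀ h : H, (∀ w ∈ W, ρ h w ∈ W) →
        (h : G) ∈ normalizer (W'.map V.subtype : Set G) := by
      intro h hh
      refine mem_normalizer_fintype ?_
      rintro _ ⟨u, hu, rfl⟩
      refine ⟨MulAut.conjNormal (h : G) u, ?_, rfl⟩
      have := hh _ ((hW' u).1 hu)
      rwa [show ρ h (e u).toAdd = _ from linOf_apply e _ u] at this
    have hVn : V ≤ normalizer (W'.map V.subtype : Set G) := by
      refine le_trans ?_ (centralizer_le_normalizer _)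
      rintro v hv _ ⟨u, -, rfl⟩
      exact congrArg Subtype.val (hVc.is_comm.comm u ⟨v, hv⟩)
    have hxn := hnorm x hWx
    have hyn := hnorm y hWy
    have htop := hcr _ (x * z : H) (mul_mem hxn (by rw [← hy]; exact pow_mem hyn 4)) y hyn c
      (hVn hcV) (by
        rw [orderOf_coe, Commute.orderOf_mul_eq_mul_orderOf_of_coprime (mem_center_iff.1 hzc x)
          (by rw [hx, hz]; norm_num), hx, hz])
      (by
        rw [orderOf_coe]
        haveI := Fact.mk Nat.prime_two
        refine orderOf_eq_prime_pow (p := 2) (n := 2) (by rw [show 2 ^ 2 = 4 from rfl, hy]; exact hz1) ?_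
        rw [show 2 ^ (2 + 1) = 4 * 2 from rfl, pow_mul, hy, ← hz, pow_orderOf_eq_one])
      (hVo c hcV hc1)
    haveI := normalizer_eq_top_iff.1 htop
    rcases hV.eq_bot_or_eq (map_subtype_le W') with h | h
    · refine absurd (eq_bot_iff.2 fun w hw => ?_) hW0
      obtain ⟨u, rfl⟩ := exists_toAdd e w
      have : (u : G) ∈ W'.map V.subtype := ⟨u, (hW' u).2 hw, rfl⟩
      rw [h, mem_bot] at this
      rw [show u = 1 from Subtype.ext this, map_one]; rfl
    · refine le_trans (Nat.card_le_card_of_injective (fun u : V => (⟨(e u).toAdd, ?_⟩ : W)) ?_) hWc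
      · obtain ⟨u', hu', e'⟩ : (u : G) ∈ W'.map V.subtype := h.symm ▸ u.2
        rw [← show u' = u from Subtype.ext e']
        exact (hW' u').1 hu'
      · intro u u' h
        exact e.injective (Multiplicative.toAdd.injective (congrArg Subtype.val h))
  have hZn : (zpowers z).Normal := hk ▸ φ.normal_ker
  refine ⟨V, H, inferInstance, hVc, hVe, hcard, ?_, ?_, hfix, zpowers z, hZn,
    by rw [Nat.card_zpowers, hz], fun Z' hZ' => ?_, ⟨?_⟩⟩
  · refine eq_bot_iff.2 fun v hv => ?_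
    by_contra h1
    exact h1 (hfix v hv.2 h1 v hv.1 (by group))
  · exact hcr _ a' (mem_sup_right ha') b' (mem_sup_right hb') c (mem_sup_left hcV) ha6 hb8
      (hVo c hcV hc1)
  · refine eq_of_le_of_card_ge (fun t ht => ?_) (by rw [Nat.card_zpowers, hz, hZ'])
    rcases huniq t (hZ' ▸ congrArg Subtype.val (pow_card_eq_one' (x := (⟨t, ht⟩ : Z')))) with e | e
    · rw [e]; exact one_mem _
    · rw [e]; exact mem_zpowers _
  · exact (QuotientGroup.quotientMulEquivOfEq hk.symm).trans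
      (QuotientGroup.quotientKerEquivOfSurjective φ hφ)

end Cfsg.Agent.FG.H93.Cr
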