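import Mathlib
import Cfsg.Agent.FG.H93Friendship
import Cfsg.Agent.FG.ClassIdx
import Cfsg.Agent.Inv.Basic
import Cfsg.Agent.GT.TransferCocycle

set_option autoImplicit false

namespace Cfsg.Agent.FG.H93

open Cfsg Cfsg.Agent.GT Cfsg.Agent.Inv

variable {G : Type*} [Group G]

/-- The friendship theorem for the commuting graph of involutions. -/
theorem exists_involution_comm_all [Finite G] {d : G} (hd : orderOf d = 2)
    (h : ∀ s t : G, orderOf s = 2 → orderOf t = 2 → s ≠ t →
      ∃! u : G, orderOf u = 2 ∧ u ≠ s ∧ u ≠ t ∧ Commute u s ∧ Commute u t) :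
    ∃ v : G, orderOf v = 2 ∧ ∀ w : G, orderOf w = 2 → Commute v w := by
  classical
  let V := {x : G // orderOf x = 2}
  have : Fintype V := Fintype.ofFinite V
  have : Nonempty V := ⟨⟨d, hd⟩⟩
  let Γ : SimpleGraph V :=
    { Adj := fun a b => a ≠ b ∧ Commute a.1 b.1
      symm := ⟨fun a b hab => ⟨hab.1.symm, hab.2.symm⟩⟩
      loopless := ⟨fun a ha => ha.1 rfl⟩ }
  have hΓ : Friend.Friendship Γ := by
    intro a b hab
    obtain ⟨u, ⟨hu, h1, h2, h3, h4⟩, huniq⟩ := h a.1 b.1 a.2 b.2 (fun he => hab (Subtype.ext he))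
    refine (@Fintype.card_eq_one_iff _ (_)).mpr ⟨⟨⟨u, hu⟩, ⟨fun he => h1 (congrArg Subtype.val he).symm, h3.symm⟩,
      ⟨fun he => h2 (congrArg Subtype.val he).symm, h4.symm⟩⟩, ?_⟩
    rintro ⟨⟨w, hw⟩, ⟨a1, a2⟩, ⟨b1, b2⟩⟩
    exact Subtype.ext (Subtype.ext (huniq w ⟨hw, fun he => a1 (Subtype.ext he.symm),
      fun he => b1 (Subtype.ext he.symm), a2.symm, b2.symm⟩))
  obtain ⟨v, hv⟩ := Friend.friendship_theorem hΓ
  refine ⟨v.1, v.2, fun w hw => ?_⟩
  by_cases he : v = ⟨w, hw⟩
  · rw [he]
  · exact (hv _ he).2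

theorem center_eq_bot_of_simple [IsSimpleGroup G] (h : ¬ ∀ a b : G, a * b = b * a) :
    Subgroup.center G = ⊥ := by
  refine (Subgroup.Normal.eq_bot_or_eq_top inferInstance).resolve_right fun ht => h fun a b => ?_
  exact Subgroup.mem_center_iff.mp (ht ▸ Subgroup.mem_top b) a

/-- In a nonabelian simple group no element other than `1` commutes with a whole nontrivial
conjugacy class. -/
theorem eq_one_of_comm_class [IsSimpleGroup G] (h : ¬ ∀ a b : G, a * b = b * a) {d v : G}
    (hd : d ≠ 1) (hv : ∀ g : G, Commute v (g * d * g⁻¹)) : v = 1 := by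
  have h1 : Subgroup.normalClosure {d} ≤ Subgroup.centralizer {v} := by
    refine (Subgroup.closure_le _).mpr fun x hx => ?_
    obtain ⟨a, ha, hc⟩ := Group.mem_conjugatesOfSet_iff.mp hx
    obtain ⟨g, rfl⟩ := isConj_iff.mp hc
    rw [Set.mem_singleton_iff.mp ha]
    exact CI.mem_cent.mpr (hv g).symm.eq
  have h2 : Subgroup.normalClosure {d} = ⊤ :=
    (Subgroup.Normal.eq_bot_or_eq_top inferInstance).resolve_left fun hb =>
      hd (Subgroup.mem_bot.mp (hb ▸ Subgroup.subset_normalClosure (Set.mem_singleton d)))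
  rw [h2, top_le_iff, CI.cent_eq_top_iff, center_eq_bot_of_simple h] at h1
  exact h1

theorem normalizer_zpowers_ne_top [IsSimpleGroup G] (h : ¬ ∀ a b : G, a * b = b * a) {x : G}
    (hx : x ≠ 1) : Subgroup.normalizer ((Subgroup.zpowers x : Subgroup G) : Set G) ≠ ⊤ := by
  intro ht
  rcases (Subgroup.normalizer_eq_top_iff.mp ht).eq_bot_or_eq_top with hb | hb
  · exact hx (Subgroup.zpowers_eq_bot.mp hb)
  · refine h fun a b => ?_
    obtain ⟨i, rfl⟩ := (hb ▸ Subgroup.mem_top a : a ∈ Subgroup.zpowers x)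
    obtain ⟨j, rfl⟩ := (hb ▸ Subgroup.mem_top b : b ∈ Subgroup.zpowers x)
    exact (Commute.zpow_zpow_self x i j).eq

theorem mem_normalizer_zpowers_of_inverts [Finite G] {t c : G} (h : t * c * t⁻¹ = c⁻¹) :
    t ∈ Subgroup.normalizer ((Subgroup.zpowers c : Subgroup G) : Set G) :=
  Subgroup.mem_normalizer_fintype fun n hn => by
    rw [inverts_of_mem_zpowers h hn]
    exact Subgroup.inv_mem _ hn

/-- A configuration that cannot occur in a simple group: `C` is a TI-subgroup with a unique
involution `d`, of index two in `C(d)`, all involutions are conjugate to `d`, a nontrivial square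
from `C` commutes with no involution other than `d`, and products of involutions of odd order are
conjugate into `C`. -/
theorem not_simple_of_inv_config [Finite G] [IsSimpleGroup G] (hna : ¬ ∀ a b : G, a * b = b * a)
    {C : Subgroup G} {d : G} (hd : orderOf d = 2)
    (huniq : ∀ c ∈ C, orderOf c = 2 → c = d) (hCd : ∀ c ∈ C, Commute c d)
    (hTI : ∀ g x : G, x ∈ C → x ≠ 1 → g * x * g⁻¹ ∈ C → Commute g d)
    (hidx : ∀ s t : G, Commute s d → Commute t d → s ∉ C → t ∉ C → s * t ∈ C)
    (hconj : ∀ u : G, orderOf u = 2 → ∃ g : G, g * u * g⁻¹ = d)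
    (hkey : ∀ c ∈ C, c * c ≠ 1 → ∀ v : G, orderOf v = 2 → Commute v (c * c) → v = d)
    (hodd : ∀ s t : G, orderOf s = 2 → orderOf t = 2 → Odd (orderOf (s * t)) →
      ∃ g : G, g * (s * t) * g⁻¹ ∈ C) : False := by
  have hc1 : ∀ {a b : G} (g : G), Commute a b → Commute (g * a * g⁻¹) (g * b * g⁻¹) :=
    fun g h => h.map (MulAut.conj g)
  have hc2 : ∀ {a b : G} (g : G), Commute (g * a * g⁻¹) b → Commute a (g⁻¹ * b * g) :=
    fun g h => by simpa [mul_assoc] using hc1 g⁻¹ h
  have hcinj : ∀ {a b : G} (g : G), g * a * g⁻¹ = g * b * g⁻¹ → a = b :=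
    fun g h => (MulAut.conj g).injective h
  obtain ⟨v, hv, hall⟩ := exists_involution_comm_all hd fun s t hs ht hst => by
    have hs2 := mul_self_of_two hs
    have ht2 := mul_self_of_two ht
    have hst1 : s * t ≠ 1 := fun h => hst (by
      rw [eq_inv_of_mul_eq_one_left h, inv_of_two ht])
    -- the product lies in a conjugate of `C` determined by any common neighbour
    have hprod : ∀ u g : G, g * u * g⁻¹ = d → u ≠ s → u ≠ t → Commute u s → Commute u t →
        g * (s * t) * g⁻¹ ∈ C := by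
      intro u g hg h1 h2 h3 h4
      have := hidx (g * s * g⁻¹) (g * t * g⁻¹) (hg ▸ hc1 g h3.symm) (hg ▸ hc1 g h4.symm)
        (fun hm => h1 (hcinj g (hg.trans (huniq _ hm (by rwa [orderOf_conj'])).symm)))
        (fun hm => h2 (hcinj g (hg.trans (huniq _ hm (by rwa [orderOf_conj'])).symm)))
      convert this using 1
      group
    by_cases hcomm : Commute s t
    · have ho := orderOf_mul_two_of_commute hs ht hst hcomm
      refine ⟨s * t, ⟨ho, fun h => ne_one_of_two ht (by simpa using h),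
        fun h => ne_one_of_two hs (by simpa using h), (Commute.refl s).mul_left hcomm.symm,
        hcomm.mul_left (Commute.refl t)⟩, ?_⟩
      rintro u ⟨hu, h1, h2, h3, h4⟩
      obtain ⟨g, hg⟩ := hconj u hu
      exact hcinj g (hg.trans (huniq _ (hprod u g hg h1 h2 h3 h4) (by rwa [orderOf_conj'])).symm)
    · have hsq : s * t * (s * t) ≠ 1 := fun h => hcomm ((commute_iff_mul_sq hs2 ht2).mpr h)
      refine existsUnique_of_exists_of_unique ?_ ?_
      · rcases Nat.even_or_odd (orderOf (s * t)) with he | ho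
        · obtain ⟨h1, h2, h3⟩ := central_involution_of_even hs2 ht2 he
          exact ⟨_, h1, fun h => hcomm (h ▸ h3), fun h => hcomm (h ▸ h2).symm, h2, h3⟩
        · obtain ⟨g, hg⟩ := hodd s t hs ht ho
          have hne : g * (s * t) * g⁻¹ ≠ 1 := fun h => hst1 (hcinj g (by simpa using h))
          have key : ∀ w : G, w * (s * t) * w⁻¹ = (s * t)⁻¹ →
              Commute (g⁻¹ * d * g) w ∧ g⁻¹ * d * g ≠ w := by
            intro w hw
            refine ⟨(hc2 g (hTI (g * w * g⁻¹) _ hg hne ?_)).symm, fun h => hsq ?_⟩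
            · have : g * w * g⁻¹ * (g * (s * t) * g⁻¹) * (g * w * g⁻¹)⁻¹ =
                  (g * (s * t) * g⁻¹)⁻¹ := by
                calc _ = g * (w * (s * t) * w⁻¹) * g⁻¹ := by group
                  _ = _ := by rw [hw]; group
              rw [this]
              exact C.inv_mem hg
            · have h1 := hc2 g (hCd _ hg)
              rw [h] at h1
              rw [← h1.eq, mul_inv_cancel_right] at hw
              exact mul_eq_one_iff_eq_inv.mpr hw
          obtain ⟨a1, a2⟩ := key s (left_inverts_mul hs2 ht2)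
          obtain ⟨b1, b2⟩ := key t (right_inverts_mul hs2 ht2)
          exact ⟨g⁻¹ * d * g, by rwa [orderOf_conj_inv], a2, b2, a1, b1⟩
      · rintro u v ⟨hu, h1, h2, h3, h4⟩ ⟨hv, -, -, h5, h6⟩
        obtain ⟨g, hg⟩ := hconj u hu
        refine hcinj g (hg.trans (hkey _ (hprod u g hg h1 h2 h3 h4) (fun h => hsq (hcinj g ?_)) _
          (by rwa [orderOf_conj']) ?_).symm)
        · rw [mul_one, mul_inv_cancel, ← h]; group
        · exact (hc1 g (h5.mul_right h6)).mul_right (hc1 g (h5.mul_right h6))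
  exact ne_one_of_two hv (eq_one_of_comm_class hna (ne_one_of_two hd) fun g =>
    hall _ (by rwa [orderOf_conj']))

end Cfsg.Agent.FG.H93
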