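import Mathlib
import Cfsg.Agent.S0108
import Cfsg.Agent.GT.Thompson
import Cfsg.Agent.GT.TransferFrobenius
import Cfsg.Agent.GT.Fitting
import Cfsg.Agent.GT.Conj

/-!
# Kegel's theorem

If all elements of a finite group outside a proper normal subgroup `G` satisfy `y ^ p = 1`,
then `G` is nilpotent.
-/

namespace Cfsg.Agent.FG

open Cfsg.Agent.GT
open scoped IsMulCommutative

universe u

theorem mul_pow_eq_prod_conj {G : Type*} [Group G] (h x : G) (n : ℕ) :
    (h * x) ^ n = ((List.range n).map (fun i => x ^ i * h * (x ^ i)⁻¹)).prod * x ^ n := by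
  induction n with
  | zero => simp
  | succ n ih =>
    rw [List.range_succ, List.map_append, List.prod_append, pow_succ, ih]
    simp only [List.map_cons, List.map_nil, List.prod_cons, List.prod_nil, mul_one]
    group

theorem eq_of_pow_eq_of_pow_eq_one {G : Type*} [Group G] {p i : ℕ} (h : i.Coprime p) {a b : G}
    (ha : a ^ p = 1) (hb : b ^ p = 1) (hab : a ^ i = b ^ i) : a = b := by
  rcases Nat.eq_zero_or_pos p with rfl | hp
  · rw [Nat.coprime_zero_right] at h
    simpa [h] using hab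
  obtain ⟨m, hm⟩ := Nat.exists_mul_mod_eq_of_coprime 1 h hp.ne'
  have key : ∀ c : G, c ^ p = 1 → (c ^ i) ^ m = c := by
    intro c hc
    rw [← pow_mul, pow_eq_pow_mod _ hc, hm.2, ← pow_eq_pow_mod _ hc, pow_one]
  rw [← key a ha, hab, key b hb]

/-- the norm trick: a subgroup `Q` of coprime order centralizes the abelian normal subgroup `V`
when all elements of the cosets `V u y` have order dividing the prime `p`. -/
theorem le_centralizer_of_norms {Γ : Type*} [Group Γ] [Finite Γ] {p : ℕ} (hp : p.Prime)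
    {V Q : Subgroup Γ} [V.Normal] (hV : IsMulCommutative V)
    (hcop : (Nat.card Q).Coprime (Nat.card V)) {y : Γ}
    (hy : y ∈ Subgroup.normalizer (Q : Set Γ))
    (h : ∀ v ∈ V, ∀ u ∈ Q, (v * (u * y)) ^ p = 1) : Q ≤ Subgroup.centralizer (V : Set Γ) := by
  classical
  have := Fintype.ofFinite Q
  let φ : Γ →* MulAut V := MulAut.conjNormal
  let C : Subgroup V :=
    { carrier := {v | ∀ u ∈ Q, φ u v = v}
      mul_mem' := fun {a b} ha hb u hu => by rw [map_mul, ha u hu, hb u hu]
      one_mem' := fun u _ => map_one _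
      inv_mem' := fun {a} ha u hu => by rw [map_inv, ha u hu] }
  have h0 : ∀ u ∈ Q, (u * y) ^ p = 1 := fun u hu => by simpa using h 1 V.one_mem u hu
  have hT : ∀ w : V, (∏ u : Q, φ u w) ∈ C := by
    intro w u hu
    rw [map_prod]
    refine Fintype.prod_equiv (Equiv.mulLeft (⟨u, hu⟩ : Q)) _ _ ?_
    intro t
    simp only [Equiv.coe_mulLeft, Subgroup.coe_mul, map_mul, MulAut.mul_apply]
  have hcos : ∀ i : ℕ, ∀ u ∈ Q, (u * y) ^ i * (y ^ i)⁻¹ ∈ Q := by
    intro i u hu
    induction i with
    | zero => simp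
    | succ i ih =>
      have e : (u * y) ^ (i + 1) * (y ^ (i + 1))⁻¹ =
          u * (y * ((u * y) ^ i * (y ^ i)⁻¹) * y⁻¹) := by group
      rw [e]
      exact Q.mul_mem hu ((Subgroup.mem_normalizer_iff.1 hy _).1 ih)
  have hC : ∀ v : V, v ∈ C := by
    intro v
    have h1 : ∀ u : Q, ∏ i ∈ Finset.range p, φ ((u * y) ^ i) v = 1 := by
      intro u
      have h2 := mul_pow_eq_prod_conj (v : Γ) (u * y) p
      rw [h v v.2 u u.2, h0 u u.2, mul_one] at h2
      rw [Finset.prod_eq_multiset_prod, Finset.range_val, Multiset.range, Multiset.map_coe,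
        Multiset.prod_coe]
      apply Subtype.ext
      change V.subtype _ = 1
      rw [map_list_prod, List.map_map, h2]
      rfl
    have h2 : ∏ i ∈ Finset.range p, ∏ u : Q, φ ((u * y) ^ i) v = 1 := by
      rw [Finset.prod_comm]
      exact Finset.prod_eq_one fun u _ => h1 u
    obtain ⟨n, rfl⟩ : ∃ n, p = n + 1 := ⟨p - 1, (Nat.succ_pred_eq_of_pos hp.pos).symm⟩
    rw [Finset.prod_range_succ'] at h2
    have h3 : ∏ i ∈ Finset.range n, ∏ u : Q, φ ((u * y) ^ (i + 1)) v ∈ C := by
      refine C.prod_mem fun i hi => ?_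
      have hi' : (i + 1).Coprime (n + 1) :=
        (Nat.coprime_of_lt_prime (Nat.succ_ne_zero i)
          (Nat.succ_lt_succ (Finset.mem_range.1 hi)) hp).symm
      · let f : Q → Q := fun u => ⟨_, hcos (i + 1) u u.2⟩
        have hf : Function.Injective f := by
          intro a b hab
          have h4 : (a * y) ^ (i + 1) = (b * y) ^ (i + 1) :=
            mul_right_cancel (congrArg Subtype.val hab)
          exact Subtype.ext (mul_right_cancel
            (eq_of_pow_eq_of_pow_eq_one hi' (h0 a a.2) (h0 b b.2) h4))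
        have h5 := hT (φ (y ^ (i + 1)) v)
        rw [← Fintype.prod_bijective f (Finite.injective_iff_bijective.1 hf)
          (fun u : Q => φ ((u * y) ^ (i + 1)) v) _ ?_] at h5
        · exact h5
        · intro u
          simp only [f, ← MulAut.mul_apply, ← map_mul, inv_mul_cancel_right]
    have h4 : v ^ Nat.card Q ∈ C := by
      have h5 : ∏ u : Q, φ ((u * y) ^ 0) v = v ^ Nat.card Q := by
        simp [Finset.prod_const]
      rw [h5] at h2
      rw [eq_inv_of_mul_eq_one_right h2]
      exact C.inv_mem h3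
    obtain ⟨m, hm⟩ := exists_pow_eq_self_of_coprime
      (hcop.coprime_dvd_right (orderOf_dvd_natCard v))
    rw [← hm]
    exact C.pow_mem h4 m
  intro u hu
  rw [Subgroup.mem_centralizer_iff]
  intro v hv
  have h1 : ((φ u ⟨v, hv⟩ : V) : Γ) = v := congrArg Subtype.val (hC ⟨v, hv⟩ u hu)
  rw [MulAut.conjNormal_apply, mul_inv_eq_iff_eq_mul] at h1
  exact h1.symm

theorem eq_one_of_mem_zpowers_of_notMem {Γ : Type*} [Group Γ] {p : ℕ} (hp : p.Prime)
    {G : Subgroup Γ} {y z : Γ} (hy : y ∉ G) (hyp : y ^ p = 1) (hz : z ∈ Subgroup.zpowers y)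
    (hzG : z ∈ G) : z = 1 := by
  have : Fact p.Prime := ⟨hp⟩
  by_contra h
  have h1 : orderOf y = p := orderOf_eq_prime hyp (fun e => hy (e ▸ G.one_mem))
  have h2 := mem_zpowers_of_prime_card (G := Subgroup.zpowers y) (p := p)
    (by rw [Nat.card_zpowers, h1]) (g := ⟨z, hz⟩) (g' := ⟨y, Subgroup.mem_zpowers y⟩)
    (fun e => h (congrArg Subtype.val e))
  obtain ⟨k, hk⟩ := h2
  have h3 : z ^ k = y := congrArg Subtype.val hk
  exact hy (h3 ▸ G.zpow_mem hzG k)

theorem exists_mem_normalizer_notMem {Γ : Type*} [Group Γ] [Finite Γ] {G : Subgroup Γ}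
    [G.Normal] (hG : G ≠ ⊤) {q : ℕ} [Fact q.Prime] (Q : Sylow q G) :
    ¬ Subgroup.normalizer (((Q : Subgroup G).map G.subtype : Subgroup Γ) : Set Γ) ≤ G := by
  intro h
  apply hG
  rw [← Sylow.normalizer_sup_eq_top Q, sup_eq_right.2 h]

theorem kegel_step {Γ : Type*} [Group Γ] [Finite Γ] {p : ℕ} (hp : p.Prime) {G : Subgroup Γ}
    [G.Normal] (hG : G ≠ ⊤) (hout : ∀ y, y ∉ G → y ^ p = 1) {N : Subgroup Γ} [N.Normal]
    (hNG : N ≤ G) (hNc : IsMulCommutative N) {r : ℕ} (hr : r.Prime) (hNr : IsPGroup r N)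
    (hq : Group.IsNilpotent (G.map (QuotientGroup.mk' N))) : Group.IsNilpotent G := by
  apply isNilpotent_of_exists_sylow_normal
  intro q hq' _
  have : Fact q.Prime := ⟨hq'⟩
  have : Fact r.Prime := ⟨hr⟩
  obtain ⟨Q⟩ : Nonempty (Sylow q G) := inferInstance
  refine ⟨Q, ?_⟩
  let f := (QuotientGroup.mk' N).subgroupMap G
  have hf : Function.Surjective f := (QuotientGroup.mk' N).subgroupMap_surjective G
  have hker : f.ker = N.subgroupOf G := by
    ext x
    rw [MonoidHom.mem_ker, Subgroup.mem_subgroupOf, ← QuotientGroup.eq_one_iff, Subtype.ext_iff]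
    rfl
  have h1 : ((Q : Subgroup G) ⊔ N.subgroupOf G).Normal := by
    have h2 := (isNilpotent_iff_sylow_normal.1 hq q inferInstance (Q.mapSurjective hf)).comap f
    rwa [Sylow.coe_mapSurjective, Subgroup.comap_map_eq, hker] at h2
  have hNr' : IsPGroup r (N.subgroupOf G) := hNr.comap_subtype
  by_cases hqr : q = r
  · subst hqr
    rwa [sup_eq_left.2 (hNr'.le_sylow_of_normal Q)] at h1
  obtain ⟨y, hy, hyG⟩ := SetLike.not_le_iff_exists.1 (exists_mem_normalizer_notMem hG Q)
  have h2 : (Q : Subgroup G).map G.subtype ≤ Subgroup.centralizer (N : Set Γ) := by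
    refine le_centralizer_of_norms hp hNc ?_ hy ?_
    · exact IsPGroup.coprime_card_of_ne q r hqr _ _ (Q.isPGroup'.map _) hNr
    · intro v hv u hu
      apply hout
      intro h
      rw [G.mul_mem_cancel_left (hNG hv),
        G.mul_mem_cancel_left (Subgroup.map_subtype_le _ hu)] at h
      exact hyG h
  have h3 : (Q : Subgroup G) ≤ Subgroup.centralizer (N.subgroupOf G : Set G) := by
    intro u hu
    rw [Subgroup.mem_centralizer_iff]
    intro v hv
    exact Subtype.ext (Subgroup.mem_centralizer_iff.1 (h2 ⟨u, hu, rfl⟩) v hv)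
  have h4 := Q.isPGroup'.isNilpotent
  have h5 := hNr'.isNilpotent
  have h6 := isNilpotent_sup_of_le_centralizer h3
  have h7 := le_pCoreOf_of_isNilpotent (H := (Q : Subgroup G) ⊔ N.subgroupOf G) le_sup_left
    Q.isPGroup'
  rw [← Q.is_maximal' (isPGroup_pCoreOf q _) h7]
  infer_instance

/-- Kegel's theorem -/
theorem kegel_nilpotent (Γ : Type u) [Group Γ] [Finite Γ] {p : ℕ} (hp : p.Prime) :
    ∀ G : Subgroup Γ, G.Normal → G ≠ ⊤ → (∀ y, y ∉ G → y ^ p = 1) → Group.IsNilpotent G := by
  refine subgroup_quotient_induction (P := fun Γ _ _ => ∀ G : Subgroup Γ, G.Normal → G ≠ ⊤ →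
    (∀ y, y ∉ G → y ^ p = 1) → Group.IsNilpotent G) ?_ Γ
  intro Γ _ _ ihS ihQ G hGn hG hout
  have ihS' : ∀ U : Subgroup Γ, U ≠ ⊤ → ¬ U ≤ G → ∀ W : Subgroup Γ, W ≤ U → W ≤ G →
      Group.IsNilpotent W := by
    intro U hU hUG W hWU hWG
    have h1 := ihS U hU (G.subgroupOf U) inferInstance
      (fun h => hUG (Subgroup.subgroupOf_eq_top.1 h))
      (fun y hy => Subtype.ext (hout y hy))
    have h2 := isNilpotent_map (G.subgroupOf U) U.subtype
    rw [Subgroup.subgroupOf_map_subtype] at h2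
    exact isNilpotent_of_le (le_inf hWG hWU)
  by_cases hN : ∃ N : Subgroup Γ, N.Normal ∧ N ≠ ⊥ ∧ N ≤ G ∧ Group.IsSolvable N
  · obtain ⟨N₁, hN₁n, hN₁b, hN₁G, hN₁s⟩ := hN
    obtain ⟨N, r, hN, hle, hr, hNe⟩ := exists_isMinNormal_elementary_le hN₁b
    have := hN.normal
    have hNG := hle.trans hN₁G
    refine kegel_step hp hG hout hNG hNe.1 hr (isPGroup_of_forall_pow_eq_one hNe.2) ?_
    refine ihQ N hN.ne_bot _ (hGn.map _ (QuotientGroup.mk'_surjective N)) ?_ ?_
    · intro h
      apply hG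
      rw [← Subgroup.comap_map_eq_self (f := QuotientGroup.mk' N) (H := G) (by simpa using hNG),
        h, Subgroup.comap_top]
    · intro y hy
      obtain ⟨y, rfl⟩ := QuotientGroup.mk'_surjective N y
      rw [← map_pow, hout y (fun h => hy ⟨y, h, rfl⟩), map_one]
  push Not at hN
  by_cases hodd : ∃ q : ℕ, q.Prime ∧ q ≠ 2 ∧ q ∣ Nat.card G
  swap
  · push Not at hodd
    have h2 := Nat.eq_prime_pow_of_unique_prime_dvd (p := 2) (Nat.card_pos (α := G)).ne'
      (fun {d} hd hdG => by by_contra h; exact hodd d hd h hdG)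
    exact (IsPGroup.of_card h2).isNilpotent
  obtain ⟨q, hq, hq2, hqG⟩ := hodd
  have : Fact q.Prime := ⟨hq⟩
  obtain ⟨Q⟩ : Nonempty (Sylow q G) := inferInstance
  have hQb : (Q : Subgroup G) ≠ ⊥ := Q.ne_bot_of_dvd_card hqG
  have hF := exists_mem_normalizer_notMem hG Q
  have key : ∀ U : Subgroup G, U ≤ Q → U ≠ ⊥ →
      Subgroup.normalizer (((Q : Subgroup G).map G.subtype : Subgroup Γ) : Set Γ) ≤
        Subgroup.normalizer ((U.map G.subtype : Subgroup Γ) : Set Γ) →
      Group.IsNilpotent (Subgroup.normalizer (U : Set G)) := by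
    intro U hUQ hUb hle
    have h1 : Subgroup.normalizer ((U.map G.subtype : Subgroup Γ) : Set Γ) ≠ ⊤ := by
      intro h
      refine hN _ (Subgroup.normalizer_eq_top_iff.1 h) ?_ (Subgroup.map_subtype_le _) ?_
      · rwa [Ne, Subgroup.map_eq_bot_iff_of_injective _ G.subtype_injective]
      · have := ((Q.isPGroup'.to_le hUQ).map G.subtype).isNilpotent
        infer_instance
    have h2 := ihS' _ h1 (fun h => hF (hle.trans h)) _ (Subgroup.le_normalizer_map G.subtype)
      (Subgroup.map_subtype_le _)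
    exact isNilpotent_of_map_of_injective G.subtype_injective
  have h1 : HasNormalPComplement q G := by
    refine (S0108.result hq2 Q).2 ⟨?_, ?_⟩
    · rw [thompsonSubgroupOf_eq]
      refine Tr.hasNormalPComplement_of_isNilpotent (key _ (thJ_le q _)
        (thJ_ne_bot dvd_rfl Q.isPGroup' hQb) ?_)
      rw [← thJ_map_of_injective _ G.subtype_injective]
      exact normalizer_le_normalizer_thJ q _
    · have h2 := key ((Q : Subgroup G) ⊓ Subgroup.centralizer (Q : Set G)) inf_le_left ?_ ?_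
      · exact Tr.hasNormalPComplement_of_isNilpotent
          (isNilpotent_of_le (Subgroup.centralizer_le_normalizer _))
      · obtain ⟨x, hx1, hx2, hx3, -⟩ := th_exists_center_order Q.isPGroup' hQb
        intro h
        have h1 : x ∈ (Q : Subgroup G) ⊓ Subgroup.centralizer (Q : Set G) := ⟨hx1, hx2⟩
        rw [h] at h1
        exact hx3 (Subgroup.mem_bot.1 h1)
      · have h3 := th_center_map G.subtype
          (th_inf_ker_of_injective _ G.subtype_injective (Q : Subgroup G)) le_rfl
        rw [show (Q : Set G) = ((Q : Subgroup G) : Set G) from rfl, ← h3]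
        exact le_trans (le_inf le_rfl (th_normalizer_le_normalizer_centralizer _))
          Subgroup.inf_normalizer_le_normalizer_inf
  have h2 := h1.not_dvd_card_pResidual
  by_cases hb : pResidual q G = ⊥
  · exact (Tr.pResidual_eq_bot_iff.1 hb).isNilpotent
  exfalso
  obtain ⟨y, -, hyG⟩ := SetLike.not_le_iff_exists.1 hF
  have hK : ((pResidual q G).map G.subtype).Normal := inferInstance
  refine hN _ hK ?_ (Subgroup.map_subtype_le _) ?_
  · rwa [Ne, Subgroup.map_eq_bot_iff_of_injective _ G.subtype_injective]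
  have h3 := ihS' ((pResidual q G).map G.subtype ⊔ Subgroup.zpowers y) ?_
    (fun h => hyG (h (Subgroup.mem_sup_right (Subgroup.mem_zpowers y)))) _ le_sup_left
    (Subgroup.map_subtype_le _)
  · infer_instance
  intro h
  apply h2
  have h4 : G ≤ (pResidual q G).map G.subtype := by
    intro g hg
    have h5 : g ∈ (pResidual q G).map G.subtype ⊔ Subgroup.zpowers y := h ▸ Subgroup.mem_top g
    obtain ⟨k, hk, z, hz, rfl⟩ := Subgroup.mem_sup_of_normal_left.1 h5
    rw [G.mul_mem_cancel_left (Subgroup.map_subtype_le _ hk)] at hg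
    rw [eq_one_of_mem_zpowers_of_notMem hp hyG (hout y hyG) hz hg, mul_one]
    exact hk
  rw [← Subgroup.card_map_of_injective G.subtype_injective]
  exact hqG.trans (Subgroup.card_dvd_of_le h4)

end Cfsg.Agent.FG
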