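import Mathlib
import Cfsg.Agent.S3946
import Cfsg.Agent.S0205
import Cfsg.Agent.Ch.FeitFrob
import Cfsg.Agent.GT.Fitting
import Cfsg.Agent.GT.FrobeniusBasic
import Cfsg.Agent.GT.PGroupBasic
import Cfsg.Agent.FG.H93Eppo

/-!
# Groups with a partition: basic lemmas
-/

set_option autoImplicit false

namespace Cfsg.Agent.FG.H93

open Cfsg.Agent.GT Subgroup

variable {G : Type*} [Group G]

/-- If all elements of a coset `A y` have order dividing a prime, then `A` is nilpotent. -/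
theorem kegel_coset [Finite G] {A : Subgroup G} {y : G} (hy : y ∈ normalizer (A : Set G)) {b : ℕ}
    (hb : b.Prime) (h : ∀ a ∈ A, (a * y) ^ b = 1) : Group.IsNilpotent A := by
  have : Fact b.Prime := ⟨hb⟩
  have hyb : y ^ b = 1 := by simpa using h 1 A.one_mem
  let α : MulAut A := A.normalizerMonoidHom ⟨y, hy⟩
  have hpow : ∀ (i : ℕ) (g : A), (((α ^ i) g : A) : G) = y ^ i * g * (y ^ i)⁻¹ := by
    intro i g
    rw [← map_pow]
    rfl
  have hα1 : α ^ b = 1 := by
    rw [← map_pow, show (⟨y, hy⟩ : normalizer (A : Set G)) ^ b = 1 from Subtype.ext hyb, map_one]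
  by_cases hα2 : α = 1
  · have hp : IsPGroup b A := by
      intro g
      refine ⟨1, Subtype.ext ?_⟩
      have h1 := hpow 1 g
      rw [hα2, one_pow, pow_one, eq_mul_inv_iff_mul_eq] at h1
      have h2 : Commute (g : G) y := h1
      have h3 := h g g.2
      rw [h2.mul_pow, hyb, mul_one] at h3
      simpa using h3
    exact hp.isNilpotent
  have hα : orderOf α = b := orderOf_eq_prime hα1 hα2
  refine S3946.result α (hα ▸ hb) ?_
  intro g
  apply Subtype.ext
  have h1 := mul_pow_eq_prod_conj (g : G) y b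
  rw [h g g.2, hyb, mul_one] at h1
  rw [hα]
  change A.subtype _ = 1
  rw [map_list_prod, List.map_map, h1]
  congr 1
  apply List.map_congr_left
  intro i _
  exact hpow i g

/-- A normal subgroup containing the centralizers of its non-trivial elements is a Frobenius
kernel. -/
theorem exists_frob_of_centralizer_le [Finite G] {K : Subgroup G} [K.Normal] (h1 : K ≠ ⊥)
    (h2 : K ≠ ⊤) (h : ∀ x ∈ K, x ≠ 1 → ∀ y, Commute x y → y ∈ K) :
    ∃ H : Subgroup G, IsFrobeniusComplement H := by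
  obtain ⟨W, hW, -, h3⟩ := Ch.Feit.exists_complement (H := K) fun x hx hx1 y hy =>
    h x hx hx1 y (mem_centralizer_singleton_iff.mp hy).symm
  exact ⟨W, Frob.isFrobeniusComplement_of_fpf hW h1
    (fun e => h2 (by simpa [e] using hW.sup_eq_top)) h3⟩

/-- A conjugation invariant non-trivial partition, given by the component of each element. -/
structure Part (G : Type*) [Group G] where
  X : G → Subgroup G
  self_mem : ∀ g, g ∈ X g
  eq_of_mem : ∀ {g h : G}, g ≠ 1 → h ≠ 1 → h ∈ X g → X h = X g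
  conj_mem : ∀ {g h : G} (x : G), g ≠ 1 → h ∈ X g → x * h * x⁻¹ ∈ X (x * g * x⁻¹)
  ne_top : ∀ {g : G}, g ≠ 1 → X g ≠ ⊤

theorem conj_ne_one {g : G} (x : G) (hg : g ≠ 1) : x * g * x⁻¹ ≠ 1 := fun h =>
  hg (by simpa using h)

theorem nonempty_part (S : Set (Subgroup G)) (hS2 : ∃ H ∈ S, ∃ K ∈ S, H ≠ K)
    (hS1 : ∀ H ∈ S, H ≠ ⊥) (hpart : ∀ g : G, g ≠ 1 → ∃! H : Subgroup G, H ∈ S ∧ g ∈ H) :
    Nonempty (Part G) := by
  classical
  let Y : G → Subgroup G := fun g => if h : g ≠ 1 then (hpart g h).exists.choose else ⊤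
  have hY : ∀ g, g ≠ 1 → Y g ∈ S ∧ g ∈ Y g := fun g h => by
    simp only [Y, dif_pos h]
    exact (hpart g h).exists.choose_spec
  have hYe : ∀ g, g ≠ 1 → ∀ H ∈ S, g ∈ H → Y g = H := fun g h H hH hg =>
    (hpart g h).unique (hY g h) ⟨hH, hg⟩
  have hT : ⊤ ∉ S := by
    intro hT
    obtain ⟨H, hH, K, hK, hne⟩ := hS2
    have : ∀ L ∈ S, L = ⊤ := fun L hL => by
      obtain ⟨⟨a, ha⟩, ha1⟩ := ne_bot_iff_exists_ne_one.mp (hS1 L hL)
      have ha2 : a ≠ 1 := fun e => ha1 (Subtype.ext e)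
      exact (hYe a ha2 L hL ha).symm.trans (hYe a ha2 ⊤ hT (mem_top a))
    exact hne ((this H hH).trans (this K hK).symm)
  let X : G → Subgroup G := fun g => ⨅ x : G, (Y (x * g * x⁻¹)).comap (MulAut.conj x).toMonoidHom
  have hX : ∀ g h, h ∈ X g ↔ ∀ x : G, x * h * x⁻¹ ∈ Y (x * g * x⁻¹) := fun g h => by
    simp only [X, mem_iInf, mem_comap]
    rfl
  refine ⟨⟨X, fun g => ?_, fun {g h} hg hh hm => ?_, fun {g h} x hg hm => ?_, fun {g} hg e => ?_⟩⟩
  · rw [hX]
    intro x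
    by_cases hg : g = 1
    · simp [hg]
    · exact (hY _ (conj_ne_one x hg)).2
  · have : ∀ x : G, Y (x * h * x⁻¹) = Y (x * g * x⁻¹) := fun x =>
      hYe _ (conj_ne_one x hh) _ (hY _ (conj_ne_one x hg)).1 ((hX g h).mp hm x)
    ext k
    simp only [hX, this]
  · rw [hX] at hm ⊢
    intro y
    have := hm (y * x)
    simpa only [mul_assoc, mul_inv_rev] using this
  · apply hT
    have h1 : Y g = ⊤ := eq_top_iff.mpr fun k _ => by
      have := (hX g k).mp (e ▸ mem_top k) 1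
      simpa using this
    exact h1 ▸ (hY g hg).1

namespace Part

variable (P : Part G)

theorem eq_of_mem_of_mem {a g h : G} (ha : a ≠ 1) (hg : g ≠ 1) (hh : h ≠ 1) (h1 : a ∈ P.X g)
    (h2 : a ∈ P.X h) : P.X g = P.X h :=
  (P.eq_of_mem hg ha h1).symm.trans (P.eq_of_mem hh ha h2)

theorem notMem_symm {x y : G} (hx : x ≠ 1) (h : y ∉ P.X x) : x ∉ P.X y := fun h1 => by
  have hy : y ≠ 1 := fun e => h (e ▸ one_mem _)
  exact h (P.eq_of_mem hy hx h1 ▸ P.self_mem y)

/-- An element outside the component of `g` has only trivial powers inside. -/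
theorem eq_one_of_mem {g u a : G} (hg : g ≠ 1) (hu : u ∉ P.X g) (h1 : a ∈ zpowers u)
    (h2 : a ∈ P.X g) : a = 1 := by
  by_contra ha
  have hu1 : u ≠ 1 := fun e => hu (e ▸ one_mem _)
  have h3 : a ∈ P.X u := (zpowers_le.mpr (P.self_mem u)) h1
  exact hu (P.eq_of_mem_of_mem ha hu1 hg h3 h2 ▸ P.self_mem u)

theorem pow_eq_one_of_commute {x y : G} (hx : x ≠ 1) (hc : Commute x y) (h : y ∉ P.X x) :
    y ^ orderOf x = 1 := by
  have hy : y ≠ 1 := fun e => h (e ▸ one_mem _)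
  have h1 : x * y ∉ P.X y := fun h1 =>
    P.notMem_symm hx h ((mul_mem_cancel_right (P.self_mem y)).mp h1)
  refine P.eq_one_of_mem hy h1 ⟨orderOf x, ?_⟩ (pow_mem (P.self_mem y) _)
  simp only [zpow_natCast]
  rw [hc.mul_pow, pow_orderOf_eq_one, one_mul]

theorem orderOf_eq_of_commute {x y : G} (hx : x ≠ 1) (hc : Commute x y) (h : y ∉ P.X x) :
    orderOf x = orderOf y := by
  have hy : y ≠ 1 := fun e => h (e ▸ one_mem _)
  exact Nat.dvd_antisymm
    (orderOf_dvd_of_pow_eq_one (P.pow_eq_one_of_commute hy hc.symm (P.notMem_symm hx h)))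
    (orderOf_dvd_of_pow_eq_one (P.pow_eq_one_of_commute hx hc h))

theorem mem_of_commute {x y : G} (hx : x ≠ 1) (hc : Commute x y) (h : orderOf x ≠ orderOf y) :
    y ∈ P.X x := by_contra fun h1 => h (P.orderOf_eq_of_commute hx hc h1)

theorem prime_of_commute [Finite G] {x y : G} (hx : x ≠ 1) (hc : Commute x y) (h : y ∉ P.X x) :
    (orderOf x).Prime := by
  have h1 : orderOf x ≠ 1 := fun e => hx (orderOf_eq_one_iff.mp e)
  obtain ⟨k, hk⟩ := exists_orderOf_eq_of_dvd_orderOf (g := x) (Nat.minFac_dvd (orderOf x))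
  have hp := Nat.minFac_prime h1
  have h2 : x ^ k ≠ 1 := fun e => by
    rw [e, orderOf_one] at hk
    exact hp.one_lt.ne hk
  have h3 : y ∉ P.X (x ^ k) := by
    rw [P.eq_of_mem hx h2 (pow_mem (P.self_mem x) k)]
    exact h
  rw [P.orderOf_eq_of_commute hx hc h, ← P.orderOf_eq_of_commute h2 (hc.pow_left k) h3, hk]
  exact hp

theorem mem_normalizer {g a n : G} (hg : g ≠ 1) (ha : a ≠ 1) (h1 : a ∈ P.X g)
    (h2 : n * a * n⁻¹ ∈ P.X g) : n ∈ normalizer (P.X g : Set G) := by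
  have e1 := P.eq_of_mem hg ha h1
  have e2 := P.eq_of_mem hg (conj_ne_one n ha) h2
  rw [mem_normalizer_iff]
  intro h
  constructor
  · intro hh
    rw [← e2]
    exact P.conj_mem n ha (e1 ▸ hh)
  · intro hh
    have := P.conj_mem n⁻¹ (conj_ne_one n ha) (e2 ▸ hh)
    simp only [mul_assoc, inv_mul_cancel_left, inv_inv, inv_mul_cancel, mul_one] at this
    exact e1 ▸ this

theorem normal_of_le {g : G} (hg : g ≠ 1) {N : Subgroup G} [hN : N.Normal] (h1 : N ≠ ⊥)
    (h2 : N ≤ P.X g) : (P.X g).Normal := by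
  obtain ⟨⟨a, ha⟩, ha1⟩ := ne_bot_iff_exists_ne_one.mp h1
  have ha2 : a ≠ 1 := fun e => ha1 (Subtype.ext e)
  exact normalizer_eq_top_iff.mp (eq_top_iff.mpr fun n _ =>
    P.mem_normalizer hg ha2 (h2 ha) (h2 (hN.conj_mem a ha n)))

/-- Without Frobenius complements all components are nilpotent. -/
theorem isNilpotent [Finite G] (hF : ¬ ∃ H : Subgroup G, IsFrobeniusComplement H) {g : G}
    (hg : g ≠ 1) : Group.IsNilpotent (P.X g) := by
  have h1 : ∃ n ∈ normalizer (P.X g : Set G), n ∉ P.X g := by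
    by_contra hc
    push Not at hc
    refine hF ⟨P.X g, Frob.isFrobeniusComplement_iff.mpr ⟨fun e => hg ?_, P.ne_top hg,
      fun n x hx hx1 h => hc n (P.mem_normalizer hg hx1 hx h)⟩⟩
    have := P.self_mem g
    rwa [e, mem_bot] at this
  obtain ⟨n, hn, hnX⟩ := h1
  let N := normalizer (P.X g : Set G)
  let f := QuotientGroup.mk' ((P.X g).subgroupOf N)
  have hf : ∀ a : N, f a = 1 ↔ (a : G) ∈ P.X g := fun a => by
    rw [← MonoidHom.mem_ker, QuotientGroup.ker_mk', mem_subgroupOf]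
  have h2 : orderOf (f ⟨n, hn⟩) ≠ 1 := fun e => hnX ((hf _).mp (orderOf_eq_one_iff.mp e))
  obtain ⟨k, hk⟩ := exists_orderOf_eq_of_dvd_orderOf (Nat.minFac_dvd (orderOf (f ⟨n, hn⟩)))
  have hp := Nat.minFac_prime h2
  set p := (orderOf (f ⟨n, hn⟩)).minFac
  rw [← map_pow] at hk
  set y : N := ⟨n, hn⟩ ^ k
  have hy : (y : G) ∉ P.X g := fun e => by
    rw [(hf y).mpr e, orderOf_one] at hk
    exact hp.one_lt.ne hk
  refine kegel_coset y.2 hp fun a ha => ?_
  have h3 : a * y ∉ P.X g := fun e => hy ((mul_mem_cancel_left ha).mp e)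
  refine P.eq_one_of_mem hg h3 (pow_mem (mem_zpowers _) _) ?_
  have h4 := (hf ((⟨a, le_normalizer ha⟩ * y) ^ p)).mp (by
    rw [map_pow, map_mul, (hf ⟨a, le_normalizer ha⟩).mpr ha, one_mul, ← hk, pow_orderOf_eq_one])
  simpa using h4

include P in
theorem center_eq_bot [Finite G]
    (hH : ¬ ∃ p : ℕ, p.Prime ∧ closure {g : G | g ^ p ≠ 1} ≠ ⊤) : center G = ⊥ := by
  by_contra hc
  obtain ⟨⟨z, hz⟩, hz1⟩ := ne_bot_iff_exists_ne_one.mp hc
  have hz2 : z ≠ 1 := fun e => hz1 (Subtype.ext e)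
  have hcz : ∀ y, Commute z y := fun y => (mem_center_iff.mp hz y).symm
  obtain ⟨y, hy⟩ : ∃ y, y ∉ P.X z := by
    by_contra h
    push Not at h
    exact P.ne_top hz2 (eq_top_iff.mpr fun y _ => h y)
  refine hH ⟨orderOf z, P.prime_of_commute hz2 (hcz y) hy, fun e => P.ne_top hz2 ?_⟩
  rw [eq_top_iff, ← e, closure_le]
  intro u hu
  by_contra h
  exact hu (P.pow_eq_one_of_commute hz2 (hcz u) h)

end Part

end Cfsg.Agent.FG.H93
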