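import Mathlib
import Cfsg.Agent.FG.H93Part
import Cfsg.Agent.FG.H93Basic
import Cfsg.Agent.FG.H93Solv
import Cfsg.Agent.GT.KegelWielandt
import Cfsg.Agent.GT.PGroupChain
import Cfsg.Agent.GT.FrobeniusFpf
import Cfsg.Agent.GT.Zipper
import Cfsg.Agent.Cl.PSL2Small

/-!
# Groups with a partition and non-trivial Fitting subgroup
-/

set_option autoImplicit false

namespace Cfsg.Agent.FG.H93

open Cfsg.Agent.GT Subgroup

variable {G : Type*} [Group G]

theorem isPGroup_zpowers_of_pow_eq {p k : ℕ} {x : G} (h : x ^ p ^ k = 1) : IsPGroup p (zpowers x) := by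
  rintro ⟨_, n, rfl⟩
  exact ⟨k, Subtype.ext (by
    rw [coe_pow, ← zpow_natCast, ← zpow_mul, mul_comm, zpow_mul, zpow_natCast, h, one_zpow]; rfl)⟩

theorem eq_of_prime_of_pow {p k : ℕ} (hp : p.Prime) {x : G} (h : x ^ p ^ k = 1) {r : ℕ}
    (hr : r.Prime) (hd : r ∣ orderOf x) : r = p :=
  (Nat.prime_dvd_prime_iff_eq hr hp).mp
    (hr.dvd_of_dvd_pow (hd.trans (orderOf_dvd_of_pow_eq_one h)))

theorem pow_of_mem {p : ℕ} {V : Subgroup G} (hV : IsPGroup p V) {v : G} (hv : v ∈ V) :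
    ∃ k, v ^ p ^ k = 1 := by
  obtain ⟨k, hk⟩ := hV ⟨v, hv⟩
  exact ⟨k, congrArg Subtype.val hk⟩

theorem exists_ne_one_mem {V : Subgroup G} (h : V ≠ ⊥) : ∃ v ∈ V, v ≠ 1 := by
  obtain ⟨⟨a, ha⟩, ha1⟩ := ne_bot_iff_exists_ne_one.mp h
  exact ⟨a, ha, fun e => ha1 (Subtype.ext e)⟩

/-- An elementary abelian normal `p`-subgroup in the centre of the Fitting subgroup. -/
theorem exists_omega_center [Finite G] {p : ℕ} (hp : p.Prime) (h : pCore p G ≠ ⊥) :
    ∃ V : Subgroup G, V.Normal ∧ V ≠ ⊥ ∧ (∀ v ∈ V, v ^ p = 1) ∧ V ≤ fittingSubgroup G ∧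
      ∀ v ∈ V, ∀ x ∈ fittingSubgroup G, Commute v x := by
  have hn := fitting_normal (G := G)
  have := isNilpotent_fitting (G := G)
  let Z := fittingSubgroup G ⊓ centralizer (fittingSubgroup G : Set G)
  have hZ : ∀ v ∈ Z, ∀ x ∈ fittingSubgroup G, Commute v x := fun v hv x hx => (hv.2 x hx).symm
  let V : Subgroup G :=
    { carrier := {v | v ∈ Z ∧ v ^ p = 1}
      one_mem' := ⟨one_mem _, one_pow _⟩
      mul_mem' := fun {a b} ha hb => ⟨mul_mem ha.1 hb.1, by
        rw [(hZ a ha.1 b hb.1.1).mul_pow, ha.2, hb.2, one_mul]⟩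
      inv_mem' := fun {a} ha => ⟨inv_mem ha.1, by rw [inv_pow, ha.2, inv_one]⟩ }
  have hZn : Z.Normal := inferInstance
  refine ⟨V, ⟨fun v hv g => ⟨hZn.conj_mem v hv.1 g, by rw [conj_pow, hv.2]; simp⟩⟩, ?_,
    fun v hv => hv.2, fun v hv => hv.1.1, fun v hv => hZ v hv.1⟩
  obtain ⟨z, hz, hz1⟩ := exists_ne_one_mem (Fac.inf_centralizer_ne_bot_of_isNilpotent
    (pCore_le_fitting hp) (le_top.trans (normalizer_eq_top (pCore p G)).ge) h)
  obtain ⟨k, hk⟩ := pow_of_mem (isPGroup_pCore p) hz.1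
  have h1 : orderOf z ≠ 1 := fun e => hz1 (orderOf_eq_one_iff.mp e)
  obtain ⟨m, hm⟩ := exists_orderOf_eq_of_dvd_orderOf (g := z) (Nat.minFac_dvd (orderOf z))
  rw [eq_of_prime_of_pow hp hk (Nat.minFac_prime h1) (Nat.minFac_dvd _)] at hm
  intro e
  have h2 : z ^ m ∈ V := ⟨pow_mem (⟨pCore_le_fitting hp hz.1, hz.2⟩ : z ∈ Z) m, by
    rw [← hm, pow_orderOf_eq_one]⟩
  rw [e, mem_bot] at h2
  rw [h2, orderOf_one] at hm
  exact hp.one_lt.ne hm

theorem exists_commute_of_pow [Finite G] {p k : ℕ} (hp : p.Prime) {V : Subgroup G} [V.Normal]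
    (h1 : V ≠ ⊥) (hV : ∀ v ∈ V, v ^ p = 1) {u : G} (hu : u ^ p ^ k = 1) :
    ∃ v ∈ V, v ≠ 1 ∧ Commute v u := by
  have : Fact p.Prime := ⟨hp⟩
  obtain ⟨v, hv, hv1⟩ := exists_ne_one_mem (PG.inf_centralizer_ne_bot_of_isPGroup (M := V)
    (fun v => ⟨1, Subtype.ext (by simpa using hV v v.2)⟩) (isPGroup_zpowers_of_pow_eq hu)
    (le_top.trans (normalizer_eq_top V).ge) h1)
  exact ⟨v, hv.1, hv1, (hv.2 u (mem_zpowers u)).symm⟩

theorem norm_mem {V : Subgroup G} [hn : V.Normal] {v : G} (hv : v ∈ V) (u : G) (n : ℕ) :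
    (v * u) ^ n * (u ^ n)⁻¹ ∈ V := by
  induction n with
  | zero => simp
  | succ n ih =>
    rw [show (v * u) ^ (n + 1) * (u ^ (n + 1))⁻¹ =
      (v * u) ^ n * (u ^ n)⁻¹ * (u ^ n * v * (u ^ n)⁻¹) by rw [pow_succ, pow_succ]; group]
    exact mul_mem ih (hn.conj_mem v hv _)

theorem norm_mul {V : Subgroup G} [hn : V.Normal] (hc : ∀ v ∈ V, ∀ w ∈ V, Commute v w) {v w : G}
    (hv : v ∈ V) (hw : w ∈ V) (u : G) (n : ℕ) : (v * w * u) ^ n * (u ^ n)⁻¹ =
      (v * u) ^ n * (u ^ n)⁻¹ * ((w * u) ^ n * (u ^ n)⁻¹) := by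
  have key : ∀ x : G, ∀ n : ℕ, (x * u) ^ (n + 1) * (u ^ (n + 1))⁻¹ =
      (x * u) ^ n * (u ^ n)⁻¹ * (u ^ n * x * (u ^ n)⁻¹) := fun x n => by
    rw [pow_succ, pow_succ]; group
  induction n with
  | zero => simp
  | succ n ih =>
    rw [key, key, key, ih]
    have h1 := (hc _ (norm_mem hw u n) _ (hn.conj_mem v hv (u ^ n))).eq
    generalize (v * u) ^ n * (u ^ n)⁻¹ = a at *
    generalize (w * u) ^ n * (u ^ n)⁻¹ = b at *
    calc a * b * (u ^ n * (v * w) * (u ^ n)⁻¹)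
        = a * (b * (u ^ n * v * (u ^ n)⁻¹)) * (u ^ n * w * (u ^ n)⁻¹) := by group
      _ = _ := by rw [h1]; group

theorem exists_pCore_ne_bot_of_involutions {Q : Type*} [Group Q] [Finite Q] [Nontrivial Q]
    (h : ∀ s t : Q, orderOf s = 2 → orderOf t = 2 → s * t ∈ fittingSubgroup Q) :
    ∃ s : ℕ, s.Prime ∧ pCore s Q ≠ ⊥ := by
  by_contra hc
  push Not at hc
  have hF := fitting_eq_bot_iff.mpr hc
  rcases Nat.even_or_odd (Nat.card Q) with he | ho
  · have : Fact (Nat.Prime 2) := ⟨Nat.prime_two⟩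
    obtain ⟨t, ht⟩ := exists_prime_orderOf_dvd_card' (G := Q) 2 he.two_dvd
    have h1 : t ∈ center Q := mem_center_iff.mpr fun g => by
      have h2 := h (g * t * g⁻¹) t (by rw [orderOf_conj, ht]) ht
      rw [hF, mem_bot] at h2
      have h3 : t * t = 1 := by rw [← pow_two, ← ht, pow_orderOf_eq_one]
      rw [← h3, mul_left_inj, mul_inv_eq_iff_eq_mul] at h2
      exact h2
    have h2 := center_le_fitting h1
    rw [hF, mem_bot] at h2
    rw [h2, orderOf_one] at ht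
    exact absurd ht (by norm_num)
  · have := S0205.result ho
    exact fitting_ne_bot hF

theorem mul_pow_eq_one_of_no_order {Q : Type*} [Group Q] [Finite Q] {A : Subgroup Q} [A.Normal]
    {s b : ℕ} (hs : s.Prime) (hb : b.Prime) (hsb : s ≠ b) (hA : IsPGroup s A) {y : Q}
    (hy : orderOf y = b) (hno : ∀ g : Q, s ∣ orderOf g → b ∣ orderOf g → False) {a : Q}
    (ha : a ∈ A) : (a * y) ^ b = 1 ∧ a * y ≠ 1 := by
  have hyb : y ^ b = 1 := hy ▸ pow_orderOf_eq_one y
  have hyA : y ∉ A := fun e => by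
    obtain ⟨k, hk⟩ := pow_of_mem hA e
    exact hsb (eq_of_prime_of_pow hs hk hb (hy ▸ dvd_rfl)).symm
  have h0 : a * y ∉ A := fun e => hyA ((mul_mem_cancel_left ha).mp e)
  refine ⟨?_, fun e => h0 (e ▸ one_mem _)⟩
  have h1 := norm_mem ha y b
  rw [hyb, inv_one, mul_one] at h1
  by_contra h2
  obtain ⟨k, hk⟩ := pow_of_mem hA h1
  have h3 : orderOf ((a * y) ^ b) ≠ 1 := fun e => h2 (orderOf_eq_one_iff.mp e)
  refine hno (a * y) ?_ ?_
  · rw [← eq_of_prime_of_pow hs hk (Nat.minFac_prime h3) (Nat.minFac_dvd _)]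
    exact (Nat.minFac_dvd _).trans (orderOf_pow_dvd b)
  · by_contra h4
    have h5 : (b).Coprime (orderOf (a * y)) := (Nat.Prime.coprime_iff_not_dvd hb).mpr h4
    obtain ⟨m, hm⟩ := exists_pow_eq_self_of_coprime h5
    exact h0 (hm ▸ pow_mem h1 m)

theorem false_of_normal_quot [Finite G] {F : Subgroup G} [F.Normal] (hF : fittingSubgroup G ≤ F)
    {A : Subgroup (G ⧸ F)} [A.Normal] (hA : A ≠ ⊥) {b : ℕ} (hb : b.Prime) {y : G}
    (h : ∀ a : G, (a : G ⧸ F) ∈ A → (a * y) ^ b = 1) : False := by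
  have := kegel_coset (A := A.comap (QuotientGroup.mk' F)) (y := y)
    (le_top.trans (normalizer_eq_top _).ge (mem_top y)) hb fun a ha => h a ha
  obtain ⟨a, ha, ha1⟩ := exists_ne_one_mem hA
  obtain ⟨g, rfl⟩ := QuotientGroup.mk_surjective a
  exact ha1 ((QuotientGroup.eq_one_iff g).mpr
    (hF (le_fitting (A.comap (QuotientGroup.mk' F)) ha)))

theorem mul_commute_of_inverts {σ τ v : G} (h1 : σ * v * σ⁻¹ = v⁻¹) (h2 : τ * v * τ⁻¹ = v⁻¹) :
    v * (σ * τ) = σ * τ * v := by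
  have h3 : σ * v⁻¹ * σ⁻¹ = v := by rw [← conj_inv, h1, inv_inv]
  calc v * (σ * τ) = σ * v⁻¹ * σ⁻¹ * (σ * τ) := by rw [h3]
    _ = σ * (τ * v * τ⁻¹) * τ := by rw [h2]; group
    _ = _ := by group

theorem hord1' {Q : Type*} [Group Q] {r : ℕ} {a : Q} (hr : r.Prime) (ha : orderOf a = r) :
    a ≠ 1 := fun e => by
  rw [e, orderOf_one] at ha
  exact hr.one_lt.ne ha

theorem card_mulAut_le_six {V : Type*} [Group V] (h : Nat.card V = 4) :
    Nat.card (MulAut V) ≤ 6 := by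
  classical
  have : Finite V := Nat.finite_of_card_ne_zero (by simp [h])
  have h3 : Nat.card {v : V // v ≠ 1} = 3 := by
    let _ := Fintype.ofFinite V
    rw [Nat.card_eq_fintype_card] at h
    rw [Nat.card_eq_fintype_card, Fintype.card_subtype_compl, h, Fintype.card_unique]
  refine (Nat.card_le_card_of_injective (β := Equiv.Perm {v : V // v ≠ 1})
    (fun α => Equiv.Perm.subtypePerm α.toEquiv (by simp)) fun α β e =>
      MulEquiv.ext fun x => ?_).trans ?_
  · by_cases hx : x = 1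
    · simp [hx]
    · exact congrArg Subtype.val (congrArg (fun σ : Equiv.Perm {v : V // v ≠ 1} => σ ⟨x, hx⟩) e)
  · rw [Nat.card_perm, h3]; rfl

namespace Part

variable (P : Part G) [Finite G]

theorem false_of_commute {p r k : ℕ} (hp : p.Prime) (hr : r.Prime) (hrp : r ≠ p) {V : Subgroup G}
    [hn : V.Normal] (h1 : V ≠ ⊥) (hV : ∀ v ∈ V, v ^ p = 1) {u a : G} (hc : Commute u a)
    (hu1 : u ≠ 1) (hu : u ^ p ^ k = 1) (ha : orderOf a = r) (hd : ∀ x ∈ V, x ∈ P.X a → x = 1) :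
    False := by
  obtain ⟨v, hv, hv1, hvu⟩ := exists_commute_of_pow hp h1 hV hu
  have ha1 : a ≠ 1 := fun e => by
    rw [e, orderOf_one] at ha
    exact hr.one_lt.ne ha
  have h2 : orderOf u ≠ r := fun e => hrp (eq_of_prime_of_pow hp hu hr (e ▸ dvd_rfl))
  have h3 : a ∈ P.X u := P.mem_of_commute hu1 hc (ha ▸ h2)
  have h4 : v * a * v⁻¹ ∈ P.X u := P.mem_of_commute hu1
    ((hvu.symm.mul_right hc).mul_right hvu.symm.inv_right) (by rw [orderOf_conj, ha]; exact h2)
  rw [← P.eq_of_mem hu1 ha1 h3] at h4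
  have h5 := hd (v * a * v⁻¹ * a⁻¹) (by
    simpa only [mul_assoc] using mul_mem hv (hn.conj_mem _ (inv_mem hv) a))
    (mul_mem h4 (inv_mem (P.self_mem a)))
  rw [mul_inv_eq_one, mul_inv_eq_iff_eq_mul] at h5
  refine hv1 (hd v hv (P.mem_of_commute ha1 h5.symm fun e => hrp ?_))
  exact eq_of_prime_of_pow (k := 1) hp (by rw [pow_one]; exact hV v hv) hr (by rw [← e, ha])

/-- A normal `p`-subgroup meeting the component of a `p'`-element lies in it. -/
theorem le_of_mem {p r : ℕ} (hp : p.Prime) (hr : r.Prime) (hrp : r ≠ p) {F : Subgroup G}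
    [hn : F.Normal] (hF : IsPGroup p F) {a x : G} (ha : orderOf a = r)
    [Group.IsNilpotent (P.X a)] (hx : x ∈ F) (hx1 : x ≠ 1) (hxa : x ∈ P.X a) : F ≤ P.X a := by
  have : Fact p.Prime := ⟨hp⟩
  have := hF.isNilpotent
  have ha1 : a ≠ 1 := fun e => by
    rw [e, orderOf_one] at ha
    exact hr.one_lt.ne ha
  have hne : ∀ c ∈ F, orderOf a ≠ orderOf c := fun c hc e => by
    obtain ⟨k, hk⟩ := pow_of_mem hF hc
    exact hrp (eq_of_prime_of_pow hp hk hr (by rw [← e, ha]))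
  by_contra hc
  have h1 : (P.X a).subgroupOf F < ⊤ := lt_top_iff_ne_top.mpr fun e => hc (subgroupOf_eq_top.mp e)
  obtain ⟨n, hn1, hn2⟩ := SetLike.exists_of_lt (Group.normalizerCondition_of_isNilpotent _ h1)
  have h2 : (n : G) * x * (n : G)⁻¹ ∈ P.X a := (mem_normalizer_iff.mp hn1 ⟨x, hx⟩).mp hxa
  have h3 := (mem_normalizer_iff.mp (P.mem_normalizer ha1 hx1 hxa h2) a).mp (P.self_mem a)
  set c : G := n * a * (n : G)⁻¹ * a⁻¹ with hcdef
  have hcF : c ∈ F := by
    simpa only [hcdef, mul_assoc] using mul_mem n.2 (hn.conj_mem _ (inv_mem n.2) a)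
  obtain ⟨k, hk⟩ := pow_of_mem hF hcF
  have hcop : (orderOf c).Coprime r :=
    (((Nat.coprime_primes hp hr).mpr hrp.symm).pow_left k).coprime_dvd_left
      (orderOf_dvd_of_pow_eq_one hk)
  have h4 : Commute c a := commute_of_coprime_of_isNilpotent
    (mul_mem h3 (inv_mem (P.self_mem a))) (P.self_mem a) (ha ▸ hcop)
  have h5 : c ^ r = 1 := by
    have h6 : (c * a) ^ r = 1 := by
      rw [hcdef, inv_mul_cancel_right, conj_pow, ← ha, pow_orderOf_eq_one]
      simp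
    rwa [h4.mul_pow, ← ha, pow_orderOf_eq_one, mul_one, ha] at h6
  have h6 : c = 1 := orderOf_eq_one_iff.mp
    (Nat.eq_one_of_dvd_coprimes hcop dvd_rfl (orderOf_dvd_of_pow_eq_one h5))
  rw [hcdef, mul_inv_eq_one, mul_inv_eq_iff_eq_mul] at h6
  exact hn2 (P.mem_of_commute ha1 h6.symm (hne n n.2))

theorem prime_eq_of_commute {p k : ℕ} (hp : p.Prime) {z y : G} (hz : z ≠ 1)
    (hk : z ^ p ^ k = 1) (hc : Commute z y) (h : y ∉ P.X z) : y ^ p = 1 := by
  rw [← eq_of_prime_of_pow hp hk (P.prime_of_commute hz hc h) dvd_rfl]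
  exact P.pow_eq_one_of_commute hz hc h

/-- The Fitting subgroup lies in a component. -/
theorem false_of_fitting_le (hF : ¬ ∃ H : Subgroup G, IsFrobeniusComplement H)
    (hH : ¬ ∃ p : ℕ, p.Prime ∧ closure {g : G | g ^ p ≠ 1} ≠ ⊤) (h1 : fittingSubgroup G ≠ ⊥)
    {g₀ : G} (hg₀ : g₀ ≠ 1) (h2 : fittingSubgroup G ≤ P.X g₀) : False := by
  have hn := fitting_normal (G := G)
  set F := fittingSubgroup G with hFdef
  have hXF : P.X g₀ = F := by
    have := P.normal_of_le hg₀ h1 h2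
    have := P.isNilpotent hF hg₀
    exact le_antisymm (le_fitting _) h2
  have hX : ∀ x ∈ F, x ≠ 1 → P.X x = F := fun x hx hx1 => (P.eq_of_mem hg₀ hx1 (h2 hx)).trans hXF
  have hz : ∀ y ∉ F, ∀ a ∈ zpowers y, a ∈ F → a = 1 := fun y hy a ha haF =>
    P.eq_one_of_mem hg₀ (hXF ▸ hy) ha (h2 haF)
  have hz' : ∀ y ∉ F, ∀ n : ℕ, (y : G ⧸ F) ^ n = 1 → y ^ n = 1 := fun y hy n h =>
    hz y hy _ (pow_mem (mem_zpowers y) n) ((QuotientGroup.eq_one_iff _).mp (by simpa using h))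
  have hFt : F ≠ ⊤ := hXF ▸ P.ne_top hg₀
  obtain ⟨x₀, hx₀, hx₀1, y₀, hc₀, hy₀⟩ : ∃ x ∈ F, x ≠ 1 ∧ ∃ y, Commute x y ∧ y ∉ F := by
    by_contra hc
    push Not at hc
    exact hF (exists_frob_of_centralizer_le h1 hFt hc)
  have hp := P.prime_of_commute hx₀1 hc₀ (by rwa [hX x₀ hx₀ hx₀1])
  have hy₀p := P.pow_eq_one_of_commute hx₀1 hc₀ (by rwa [hX x₀ hx₀ hx₀1])
  set p := orderOf x₀ with hpdef
  have : Fact p.Prime := ⟨hp⟩
  obtain ⟨V, hVn, hV1, hVp, hVF, hVc⟩ := exists_omega_center hp (G := G) fun e => hx₀1 (by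
    have := le_pCore_of_le_fitting (isPGroup_zpowers_of_pow_eq (p := p) (k := 1) (x := x₀)
      (by rw [pow_one, pow_orderOf_eq_one])) (zpowers_le.mpr hx₀) (mem_zpowers _)
    rwa [e, mem_bot] at this)
  have hcent : ∀ y ∉ F, ∀ v ∈ V, v ≠ 1 → Commute v y → y ^ p = 1 := fun y hy v hv hv1 hc =>
    P.prime_eq_of_commute (k := 1) hp hv1 (by rw [pow_one]; exact hVp v hv) hc
      (by rwa [hX v (hVF hv) hv1])
  have hQ : ¬ IsPGroup p (G ⧸ F) := fun hQ => hH ⟨p, hp, fun e => hFt (by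
    rw [eq_top_iff, ← e, closure_le]
    intro y hy
    by_contra hyF
    obtain ⟨k, hk⟩ := hQ (y : G ⧸ F)
    obtain ⟨v, hv, hv1, hc⟩ := exists_commute_of_pow hp hV1 hVp (hz' y hyF _ hk)
    exact hy (hcent y hyF v hv hv1 hc))⟩
  obtain ⟨r, hr, hrp, ρ, hρ⟩ := exists_orderOf_prime_ne hp hQ
  have hno : ∀ r : ℕ, r.Prime → r ≠ p → ∀ g : G ⧸ F, p ∣ orderOf g → r ∣ orderOf g → False := by
    intro r hr hrp g h3 h4
    obtain ⟨g, rfl⟩ := QuotientGroup.mk_surjective g
    have hg : g ∉ F := fun e => by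
      rw [(QuotientGroup.eq_one_iff g).mpr e, orderOf_one] at h3
      exact hp.one_lt.ne' (Nat.dvd_one.mp h3)
    have h5 := orderOf_map_dvd (QuotientGroup.mk' F) g
    obtain ⟨i, hi⟩ := exists_orderOf_eq_of_dvd_orderOf (h3.trans h5)
    obtain ⟨j, hj⟩ := exists_orderOf_eq_of_dvd_orderOf (h4.trans h5)
    have hj1 : g ^ j ≠ 1 := fun e => by
      rw [e, orderOf_one] at hj
      exact hr.one_lt.ne hj
    refine P.false_of_commute (k := 1) hp hr hrp hV1 hVp (Commute.pow_pow_self g i j)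
      (fun e => ?_) (by rw [pow_one, ← hi, pow_orderOf_eq_one]) hj fun x hx hxa => ?_
    · rw [e, orderOf_one] at hi
      exact hp.one_lt.ne hi
    · by_contra hx1
      refine hj1 (hz g hg _ (pow_mem (mem_zpowers g) j) ?_)
      rw [← hX x (hVF hx) hx1, P.eq_of_mem hj1 hx1 hxa]
      exact P.self_mem _
  have hnt : Nontrivial (G ⧸ F) := QuotientGroup.nontrivial_iff.mpr hFt
  have hinv : ∀ σ : G, orderOf (σ : G ⧸ F) = 2 → ∀ v ∈ V, σ * v * σ⁻¹ = v⁻¹ := by
    intro σ hσ v hv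
    have hσF : σ ∉ F := fun e => by
      rw [(QuotientGroup.eq_one_iff σ).mpr e, orderOf_one] at hσ
      exact absurd hσ (by norm_num)
    have h3 := hz' σ hσF 2 (hσ ▸ pow_orderOf_eq_one _)
    have h4 := hz' (v * σ) (fun e => hσF ((mul_mem_cancel_left (hVF hv)).mp e)) 2 (by
      rw [QuotientGroup.mk_mul, (QuotientGroup.eq_one_iff v).mpr (hVF hv), one_mul, ← hσ,
        pow_orderOf_eq_one])
    rw [pow_two] at h3 h4
    rw [eq_inv_iff_mul_eq_one, inv_eq_of_mul_eq_one_right h3]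
    calc σ * v * σ * v = v⁻¹ * (v * σ * (v * σ)) * σ⁻¹ * (σ * v) := by group
      _ = 1 := by rw [h4]; group
  obtain ⟨s, hs, hA⟩ := exists_pCore_ne_bot_of_involutions (Q := G ⧸ F) fun s t hs ht => by
    obtain ⟨σ, rfl⟩ := QuotientGroup.mk_surjective s
    obtain ⟨τ, rfl⟩ := QuotientGroup.mk_surjective t
    have hK : ((centralizer (V : Set G)).map (QuotientGroup.mk' F)).Normal :=
      Normal.map inferInstance _ (QuotientGroup.mk'_surjective F)
    have hKp : IsPGroup p ((centralizer (V : Set G)).map (QuotientGroup.mk' F)) := by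
      rintro ⟨_, c, hc, rfl⟩
      refine ⟨1, Subtype.ext ?_⟩
      obtain ⟨v, hv, hv1⟩ := exists_ne_one_mem hV1
      by_cases hcF : c ∈ F
      · simp [(QuotientGroup.eq_one_iff c).mpr hcF]
      · have := hcent c hcF v hv hv1 (hc v hv)
        simp only [pow_one, SubgroupClass.coe_pow, OneMemClass.coe_one]
        rw [← map_pow, this, map_one]
    have := hKp.isNilpotent
    exact le_fitting ((centralizer (V : Set G)).map (QuotientGroup.mk' F))
      ⟨σ * τ, fun v hv => mul_commute_of_inverts (hinv σ hs v hv) (hinv τ ht v hv), rfl⟩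
  have key : ∀ b : ℕ, b.Prime → s ≠ b → ∀ y : G, orderOf (y : G ⧸ F) = b →
      (∀ g : G ⧸ F, s ∣ orderOf g → b ∣ orderOf g → False) → False := by
    intro b hb hsb y hy hno
    refine false_of_normal_quot le_rfl hA hb (y := y) fun a ha => ?_
    obtain ⟨h3, h4⟩ := mul_pow_eq_one_of_no_order hs hb hsb (isPGroup_pCore s) hy hno ha
    exact hz' _ (fun e => h4 ((QuotientGroup.eq_one_iff _).mpr e)) b h3
  by_cases hsp : s = p
  · obtain ⟨y, rfl⟩ := QuotientGroup.mk_surjective ρ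
    exact key r hr (hsp ▸ hrp.symm) y hρ (hsp ▸ hno r hr hrp)
  · refine key p hp hsp y₀ (orderOf_eq_prime ?_ ?_) fun g h3 h4 => hno s hs hsp g h4 h3
    · rw [← QuotientGroup.mk_pow, hy₀p, QuotientGroup.mk_one]
    · exact fun e => hy₀ ((QuotientGroup.eq_one_iff _).mp e)

/-- The Fitting subgroup lies in no component. -/
theorem perm_four_of_not_fitting_le (hF : ¬ ∃ H : Subgroup G, IsFrobeniusComplement H)
    (hH : ¬ ∃ p : ℕ, p.Prime ∧ closure {g : G | g ^ p ≠ 1} ≠ ⊤) (h1 : fittingSubgroup G ≠ ⊥)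
    (h2 : ∀ g : G, g ≠ 1 → ¬ fittingSubgroup G ≤ P.X g) :
    Nonempty (G ≃* Equiv.Perm (Fin 4)) := by
  have hn := fitting_normal (G := G)
  have hnil := isNilpotent_fitting (G := G)
  obtain ⟨p, hp, hpc⟩ : ∃ p : ℕ, p.Prime ∧ pCore p G ≠ ⊥ := by
    by_contra hc
    push Not at hc
    exact h1 (fitting_eq_bot_iff.mpr hc)
  have : Fact p.Prime := ⟨hp⟩
  obtain ⟨V, hVn, hV1, hVp, hVF, hVc⟩ := exists_omega_center hp hpc
  set F := fittingSubgroup G with hFdef
  obtain ⟨v₀, hv₀, hv₀1⟩ := exists_ne_one_mem hV1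
  have hcent : ∀ v ∈ V, v ≠ 1 → ∀ y, Commute v y → y ∉ P.X v → y ^ p = 1 := fun v hv hv1 y hc hy =>
    P.prime_eq_of_commute (k := 1) hp hv1 (by rw [pow_one]; exact hVp v hv) hc hy
  have hFc : F ≤ pCore p G := by
    have h3 : ∀ x ∈ F, x ∉ P.X v₀ → x ∈ pCore p G := fun x hx hxv =>
      le_pCore_of_le_fitting (isPGroup_zpowers_of_pow_eq (p := p) (k := 1) (x := x)
        (by rw [pow_one]; exact hcent v₀ hv₀ hv₀1 x (hVc v₀ hv₀ x hx) hxv)) (zpowers_le.mpr hx)
        (mem_zpowers _)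
    obtain ⟨x₀, hx₀, hx₀v⟩ := SetLike.not_le_iff_exists.mp (h2 v₀ hv₀1)
    intro x hx
    by_cases hxv : x ∈ P.X v₀
    · exact (mul_mem_cancel_right (h3 x₀ hx₀ hx₀v)).mp (h3 _ (mul_mem hx hx₀)
        fun e => hx₀v ((mul_mem_cancel_left hxv).mp e))
    · exact h3 x hx hxv
  have hFp : IsPGroup p F := (isPGroup_pCore p).to_le hFc
  have hord1 : ∀ {r : ℕ} {a : G}, r.Prime → orderOf a = r → a ≠ 1 := fun hr ha e => by
    rw [e, orderOf_one] at ha
    exact hr.one_lt.ne ha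
  have hd : ∀ r : ℕ, r.Prime → r ≠ p → ∀ a : G, orderOf a = r → ∀ x ∈ F, x ∈ P.X a → x = 1 := by
    intro r hr hrp a ha x hx hxa
    by_contra hx1
    have := P.isNilpotent hF (hord1 hr ha)
    exact h2 a (hord1 hr ha) (P.le_of_mem hp hr hrp hFp ha hx hx1 hxa)
  have hfpf : ∀ r : ℕ, r.Prime → r ≠ p → ∀ a : G, orderOf a = r → ∀ x ∈ F, Commute x a → x = 1 := by
    intro r hr hrp a ha x hx hc
    refine hd r hr hrp a ha x hx (P.mem_of_commute (hord1 hr ha) hc.symm fun e => hrp ?_)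
    obtain ⟨k, hk⟩ := pow_of_mem hFp hx
    exact eq_of_prime_of_pow hp hk hr (by rw [← e, ha])
  have hZ := P.center_eq_bot hH
  have hGp : ¬ IsPGroup p G := fun h => by
    have : Nontrivial G := ⟨⟨v₀, 1, hv₀1⟩⟩
    exact ((Subgroup.nontrivial_iff_ne_bot _).mp h.center_nontrivial) hZ
  have hFt : F ≠ ⊤ := fun e => hGp fun g => by
    obtain ⟨k, hk⟩ := pow_of_mem hFp (e ▸ mem_top g)
    exact ⟨k, hk⟩
  have hpi : p ∣ F.index := by
    by_contra hpi
    refine hF (exists_frob_of_centralizer_le h1 hFt fun x hx hx1 y hc => ?_)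
    by_contra hy
    have h3 : orderOf (y : G ⧸ F) ≠ 1 := fun e =>
      hy ((QuotientGroup.eq_one_iff y).mp (orderOf_eq_one_iff.mp e))
    obtain ⟨j, hj⟩ := exists_orderOf_eq_of_dvd_orderOf
      ((Nat.minFac_dvd _).trans (orderOf_map_dvd (QuotientGroup.mk' F) y))
    refine hx1 (hfpf _ (Nat.minFac_prime h3) (fun e => hpi ?_) _ hj x hx (hc.pow_right j))
    rw [← e]
    exact (Nat.minFac_dvd _).trans (_root_.orderOf_dvd_natCard _)
  obtain ⟨η, hη⟩ := exists_prime_orderOf_dvd_card' (G := G ⧸ F) p hpi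
  obtain ⟨y₀, rfl⟩ := QuotientGroup.mk_surjective η
  have hy₀ : y₀ ∉ F := fun e => hord1' hp hη ((QuotientGroup.eq_one_iff _).mpr e)
  have hy₀p : y₀ ^ p ∈ F := (QuotientGroup.eq_one_iff _).mp (by
    rw [QuotientGroup.mk_pow, ← hη, pow_orderOf_eq_one])
  have hK : centralizer (V : Set G) ≤ F := by
    have h3 : IsPGroup p (centralizer (V : Set G)) := by
      by_contra hc
      obtain ⟨r, hr, hrp, a, ha⟩ := exists_orderOf_prime_ne hp hc
      exact hv₀1 (hfpf r hr hrp a (by rw [orderOf_coe, ha]) v₀ (hVF hv₀) (a.2 v₀ hv₀))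
    have := h3.isNilpotent
    exact le_fitting _
  have hVV : ∀ v ∈ V, ∀ w ∈ V, Commute v w := fun v hv w hw => hVc v hv w (hVF hw)
  have setup : ∀ u ∉ F, u ^ p ∈ F → u ^ p ≠ 1 → ∃ z ∈ V, z ≠ 1 ∧ Commute z u ∧ u ∈ P.X z ∧
      ∃ s ∈ V, s ∉ P.X z := by
    intro u hu hup hu1
    obtain ⟨k, hk⟩ := pow_of_mem hFp hup
    rw [← pow_mul, ← pow_succ'] at hk
    obtain ⟨z, hz, hz1, hc⟩ := exists_commute_of_pow hp hV1 hVp hk
    have h3 : u ∈ P.X z := by_contra fun h => hu1 (hcent z hz hz1 u hc h)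
    refine ⟨z, hz, hz1, hc, h3, SetLike.not_le_iff_exists.mp fun h => hu ?_⟩
    have := P.normal_of_le hz1 hV1 h
    have := P.isNilpotent hF hz1
    exact le_fitting _ h3
  by_cases hp2 : p = 2
  · subst hp2
    obtain ⟨u, hu, hup, hu1⟩ : ∃ u ∉ F, u ^ 2 ∈ F ∧ u ^ 2 ≠ 1 := by
      by_contra hc
      push Not at hc
      refine hy₀ (hK fun v hv => ?_)
      have h3 := hc y₀ hy₀ hy₀p
      have h4 := hc (v * y₀) (fun e => hy₀ ((mul_mem_cancel_left (hVF hv)).mp e)) (by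
        have := mul_mem (norm_mem (hVF hv) y₀ 2) hy₀p
        rwa [inv_mul_cancel_right] at this)
      have h5 := hVp v hv
      rw [pow_two] at h3 h4 h5
      calc v * y₀ = (v * y₀)⁻¹ := (inv_eq_of_mul_eq_one_right h4).symm
        _ = y₀ * v := by
          rw [mul_inv_rev, inv_eq_of_mul_eq_one_right h3, inv_eq_of_mul_eq_one_right h5]
    obtain ⟨z, hz, hz1, hzu, huz, s, hs, hsz⟩ := setup u hu hup hu1
    have hexp : ∀ x ∈ F, x ^ 2 = 1 := by
      intro x hx
      by_cases hxz : x ∈ P.X z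
      · have h3 := hcent z hz hz1 (s * x) (hVc z hz _ (mul_mem (hVF hs) hx))
          fun e => hsz ((mul_mem_cancel_right hxz).mp e)
        rwa [(hVc s hs x hx).mul_pow, hVp s hs, one_mul] at h3
      · exact hcent z hz hz1 x (hVc z hz x hx) hxz
    have hFF : ∀ v ∈ F, ∀ w ∈ F, Commute v w := by
      intro v hv w hw
      have h3 := hexp v hv
      have h4 := hexp w hw
      have h5 := hexp _ (mul_mem hv hw)
      rw [pow_two] at h3 h4 h5
      calc v * w = (v * w)⁻¹ := (inv_eq_of_mul_eq_one_right h5).symm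
        _ = w * v := by
          rw [mul_inv_rev, inv_eq_of_mul_eq_one_right h3, inv_eq_of_mul_eq_one_right h4]
    have hN : ∀ w ∈ F, w ∉ P.X z → (w * u) ^ 2 = 1 := fun w hw hwz =>
      hcent z hz hz1 _ ((hVc z hz w hw).mul_right hzu)
        fun e => hwz ((mul_mem_cancel_right huz).mp e)
    have hC : ∀ x ∈ F, x ∈ P.X z → x ∈ centralizer ({u} : Set G) := by
      intro x hx hxz
      have h3 := norm_mul hFF (hVF hs) hx u 2
      rw [hN s (hVF hs) hsz, hN _ (mul_mem (hVF hs) hx)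
        fun e => hsz ((mul_mem_cancel_right hxz).mp e), left_eq_mul, mul_inv_eq_one] at h3
      have h4 := hexp x hx
      rw [pow_two] at h4
      rw [pow_two, pow_two, ← mul_assoc, mul_left_inj] at h3
      rw [mem_centralizer_singleton_iff]
      calc x * u = x * u * x * x := by rw [mul_assoc (x * u), h4, mul_one]
        _ = u * x := by rw [h3]
    have hI : (centralizer ({u} : Set G)).relIndex F ∣ 2 := by
      refine relIindex_dvd_two_iff'.mpr ⟨s, hVF hs, fun w hw => ?_⟩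
      by_cases hwz : w ∈ P.X z
      · exact Or.inr (hC w hw hwz)
      · refine Or.inl (hC _ (mul_mem (hVF hs) hw) ?_)
        by_contra h3
        have h4 := norm_mul hFF (hVF hs) hw u 2
        rw [hN s (hVF hs) hsz, hN w hw hwz, hN _ (mul_mem (hVF hs) hw) h3, left_eq_mul, one_mul,
          inv_eq_one] at h4
        exact hu1 h4
    obtain ⟨g, hg⟩ : ∃ g : G, ¬ IsPGroup 2 (closure ({u, g * u * g⁻¹} : Set G)) := by
      by_contra hc
      push Not at hc
      exact hu (pCore_le_fitting Nat.prime_two (baer_suzuki_elem hc))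
    obtain ⟨r, hr, hr2, ⟨a, haL⟩, ha⟩ := exists_orderOf_prime_ne hp hg
    rw [orderOf_mk] at ha
    have hI' : (centralizer ({g * u * g⁻¹} : Set G)).relIndex F ∣ 2 := by
      obtain ⟨b, hb, h3⟩ := relIindex_dvd_two_iff'.mp hI
      refine relIindex_dvd_two_iff'.mpr ⟨g * b * g⁻¹, hn.conj_mem b hb g, fun w hw => ?_⟩
      rcases h3 (g⁻¹ * w * g) (by simpa using hn.conj_mem w hw g⁻¹) with h4 | h4
      · left
        rw [mem_centralizer_singleton_iff] at h4 ⊢
        calc g * b * g⁻¹ * w * (g * u * g⁻¹) = g * (b * (g⁻¹ * w * g) * u) * g⁻¹ := by group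
          _ = _ := by rw [h4]; group
      · right
        rw [mem_centralizer_singleton_iff] at h4 ⊢
        calc w * (g * u * g⁻¹) = g * (g⁻¹ * w * g * u) * g⁻¹ := by group
          _ = _ := by rw [h4]; group
    have hcard : Nat.card F ≤ 4 := by
      have h3 := relIndex_inf_le (H := centralizer ({u} : Set G))
        (K := centralizer ({g * u * g⁻¹} : Set G)) (L := F)
      have h4 : (centralizer ({u} : Set G) ⊓ centralizer ({g * u * g⁻¹} : Set G)) ⊓ F = ⊥ := by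
        refine eq_bot_iff.mpr fun x hx => hfpf r hr hr2 a ha x hx.2 ?_
        have h5 : closure ({u, g * u * g⁻¹} : Set G) ≤ centralizer ({x} : Set G) := by
          rw [closure_le]
          rintro _ (rfl | rfl)
          · exact mem_centralizer_singleton_iff.mpr (mem_centralizer_singleton_iff.mp hx.1.1).symm
          · exact mem_centralizer_singleton_iff.mpr (mem_centralizer_singleton_iff.mp hx.1.2).symm
        exact (mem_centralizer_singleton_iff.mp (h5 haL)).symm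
      rw [← inf_relIndex_right, h4, relIndex_bot_left] at h3
      have := Nat.le_of_dvd two_pos hI
      have := Nat.le_of_dvd two_pos hI'
      nlinarith
    have hdiv : r ∣ Nat.card F - 1 := by
      rw [← ha, ← Nat.card_zpowers]
      refine Frob.card_dvd_card_sub_one_of_fpf (le_top.trans (normalizer_eq_top F).ge)
        fun b hb hb1 => eq_bot_iff.mpr fun x hx => hfpf r hr hr2 b ?_ x hx.1
          (mem_centralizer_singleton_iff.mp hx.2)
      have h3 := orderOf_dvd_of_mem_zpowers hb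
      rw [ha] at h3
      exact ((Nat.dvd_prime hr).mp h3).resolve_left fun e => hb1 (orderOf_eq_one_iff.mp e)
    obtain ⟨k, hk⟩ := IsPGroup.iff_card.mp hFp
    have hk0 : k ≠ 0 := fun e => h1 (card_eq_one.mp (by rw [hk, e, pow_zero]))
    have hk2 : k ≤ 2 := (Nat.pow_le_pow_iff_right (by norm_num)).mp (hk ▸ hcard : 2 ^ k ≤ 2 ^ 2)
    have hk3 : k = 2 := by
      by_contra e
      have : k = 1 := by omega
      rw [hk, this] at hdiv
      exact hr.one_lt.ne' (Nat.dvd_one.mp hdiv)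
    have h4 : Nat.card F = 4 := by rw [hk, hk3]; rfl
    have hr3 : r = 3 := (Nat.prime_dvd_prime_iff_eq hr Nat.prime_three).mp (by simpa [h4] using hdiv)
    subst hr3
    have hCF : centralizer (F : Set G) = F :=
      le_antisymm ((centralizer_le hVF).trans hK) fun x hx v hv => hFF v hv x hx
    have hle : F.index ≤ 6 := by
      have h5 : (MulAut.conjNormal : G →* MulAut F).ker = F := by
        refine Eq.trans ?_ hCF
        ext x
        rw [MonoidHom.mem_ker, mem_centralizer_iff]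
        constructor
        · intro h v hv
          have := congrArg (fun φ : MulAut F => ((φ ⟨v, hv⟩ : F) : G)) h
          simp only [MulAut.conjNormal_apply, MulAut.one_apply] at this
          exact (mul_inv_eq_iff_eq_mul.mp this).symm
        · intro h
          ext ⟨v, hv⟩
          simp only [MulAut.conjNormal_apply, MulAut.one_apply]
          exact mul_inv_eq_iff_eq_mul.mpr (h v hv).symm
      rw [← h5, index_ker]
      exact (card_le_card_group _).trans (card_mulAut_le_six h4)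
    have h3i : 3 ∣ F.index := by
      have h5 : 3 ∣ Nat.card F * F.index := by
        rw [card_mul_index, ← ha]
        exact _root_.orderOf_dvd_natCard a
      rw [h4] at h5
      exact (Nat.Coprime.dvd_mul_left (by norm_num)).mp h5
    have h6 : F.index = 6 := by
      have h5 : F.index ≠ 0 := index_ne_zero_of_finite
      omega
    refine Cl.L2.nonempty_perm_four (P := zpowers a) (by rw [← card_mul_index F, h4, h6])
      (by rw [Nat.card_zpowers, ha]) (fun hN => hv₀1 (hfpf 3 hr hr2 a ha v₀ (hVF hv₀) ?_))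
      fun t ht => ?_
    · refine commute_of_normal_inf_eq_bot (A := F) (B := zpowers a) ?_ (hVF hv₀) (mem_zpowers a)
      exact eq_bot_iff.mpr fun x hx => hd 3 hr hr2 a ha x hx.1 (zpowers_le.mpr (P.self_mem a) hx.2)
    · by_contra hc
      push Not at hc
      have h5 : t ∈ center G := mem_center_iff.mpr hc
      rw [hZ, mem_bot] at h5
      exact hord1 Nat.prime_two ht h5
  exfalso
  have hH1 : ∀ u ∉ F, u ^ p ∈ F → u ^ p = 1 := by
    intro u hu hup
    by_contra hu1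
    obtain ⟨z, hz, hz1, hzu, huz, s, hs, hsz⟩ := setup u hu hup hu1
    have hN : ∀ w ∈ V, w ∉ P.X z → (w * u) ^ p = 1 := fun w hw hwz =>
      hcent z hz hz1 _ ((hVV z hz w hw).mul_right hzu)
        fun e => hwz ((mul_mem_cancel_right huz).mp e)
    have h3 : s * s ∉ P.X z := fun e => hsz (by
      obtain ⟨m, hm⟩ := hp.odd_of_ne_two hp2
      have h4 : s = (s * s) ^ (m + 1) := by
        rw [← pow_two, ← pow_mul, show 2 * (m + 1) = p + 1 by omega, pow_succ, hVp s hs, one_mul]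
      rw [h4]
      exact pow_mem e _)
    have h4 := norm_mul hVV hs hs u p
    rw [hN s hs hsz, hN _ (mul_mem hs hs) h3, left_eq_mul, one_mul, inv_eq_one] at h4
    exact hu1 h4
  have hnt : Nontrivial (G ⧸ F) := QuotientGroup.nontrivial_iff.mpr hFt
  have hinv : ∀ s : G ⧸ F, orderOf s = 2 → ∃ σ : G, (σ : G ⧸ F) = s ∧ ∀ v ∈ V, σ * v * σ⁻¹ = v⁻¹ := by
    intro s hs
    obtain ⟨σ, rfl, hσ⟩ := exists_coprime_lift (QuotientGroup.mk'_surjective F) p (y := s)
      (hs ▸ (Nat.coprime_primes Nat.prime_two hp).mpr (Ne.symm hp2))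
    have h3 : σ ^ 2 ∈ F := (QuotientGroup.eq_one_iff _).mp (by
      rw [QuotientGroup.mk_pow, ← hs]; exact pow_orderOf_eq_one _)
    obtain ⟨k, hk⟩ := pow_of_mem hFp h3
    have h4 : σ ^ 2 = 1 := orderOf_eq_one_iff.mp (Nat.eq_one_of_dvd_coprimes (hσ.pow_right k)
      (orderOf_pow_dvd 2) (orderOf_dvd_of_pow_eq_one hk))
    have h5 : orderOf σ = 2 := orderOf_eq_prime h4 fun e => hord1' Nat.prime_two hs (by simp [e])
    refine ⟨σ, rfl, (Frob.conj_eq_inv_of_fpf (le_top.trans (normalizer_eq_top V).ge (mem_top σ))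
      (by rw [← pow_two, h4]) (eq_bot_iff.mpr fun x hx => hfpf 2 Nat.prime_two (Ne.symm hp2) σ h5 x
        (hVF hx.1) (mem_centralizer_singleton_iff.mp hx.2))).1⟩
  obtain ⟨s, hs, hA⟩ := exists_pCore_ne_bot_of_involutions (Q := G ⧸ F) fun s t hs ht => by
    obtain ⟨σ, rfl, hσ⟩ := hinv s hs
    obtain ⟨τ, rfl, hτ⟩ := hinv t ht
    rw [← QuotientGroup.mk_mul, (QuotientGroup.eq_one_iff _).mpr
      (hK fun v hv => mul_commute_of_inverts (hσ v hv) (hτ v hv))]
    exact one_mem _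
  have hsp : s ≠ p := by
    rintro rfl
    have h3 : IsPGroup s ((pCore s (G ⧸ F)).comap (QuotientGroup.mk' F)) :=
      (isPGroup_pCore s).comap_of_ker_isPGroup _ (by rw [QuotientGroup.ker_mk']; exact hFp)
    have := h3.isNilpotent
    obtain ⟨a, ha, ha1⟩ := exists_ne_one_mem hA
    obtain ⟨g, rfl⟩ := QuotientGroup.mk_surjective a
    exact ha1 ((QuotientGroup.eq_one_iff g).mpr
      (le_fitting ((pCore s (G ⧸ F)).comap (QuotientGroup.mk' F)) ha))
  refine false_of_normal_quot le_rfl hA hp (y := y₀) fun a ha => ?_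
  obtain ⟨h3, h4⟩ := mul_pow_eq_one_of_no_order hs hp hsp (isPGroup_pCore s) hη (fun g h3 h4 => by
    obtain ⟨g, rfl⟩ := QuotientGroup.mk_surjective g
    have h5 := orderOf_map_dvd (QuotientGroup.mk' F) g
    obtain ⟨i, hi⟩ := exists_orderOf_eq_of_dvd_orderOf (h4.trans h5)
    obtain ⟨j, hj⟩ := exists_orderOf_eq_of_dvd_orderOf (h3.trans h5)
    exact P.false_of_commute (k := 1) hp hs hsp hV1 hVp (Commute.pow_pow_self g i j)
      (hord1 hp hi) (by rw [pow_one, ← hi, pow_orderOf_eq_one]) hj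
      fun x hx => hd s hs hsp _ hj x (hVF hx)) ha
  exact hH1 _ (fun e => h4 ((QuotientGroup.eq_one_iff _).mpr e))
    ((QuotientGroup.eq_one_iff _).mp h3)

end Part

end Cfsg.Agent.FG.H93
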