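import Mathlib
import Cfsg.Agent.S4085
import Cfsg.Agent.Ch.FrobeniusCount
import Cfsg.Agent.GT.FrobeniusAction

/-! Numbers of elements of a given order. -/

set_option autoImplicit false
set_option linter.unusedSectionVars false

namespace Cfsg.Agent.FG.H93

open Subgroup Cfsg Cfsg.Agent.GT
open scoped Pointwise commutatorElement

/-- number of elements of order `t` -/
noncomputable def sc (G : Type*) [Group G] (t : ℕ) : ℕ := Nat.card {g : G // orderOf g = t}

variable {G : Type*} [Group G] [Finite G]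

theorem sc_one : sc G 1 = 1 := by
  simp only [sc, orderOf_eq_one_iff]
  exact Nat.card_unique

theorem sc_eq_zero_iff {t : ℕ} : sc G t = 0 ↔ ∀ g : G, orderOf g ≠ t := by
  rw [sc, Finite.card_eq_zero_iff, isEmpty_subtype]

theorem totient_dvd_sc (t : ℕ) : t.totient ∣ sc G t := by
  classical
  have := Fintype.ofFinite G
  rw [sc, Nat.card_eq_fintype_card, Fintype.card_subtype,
    Finset.card_eq_sum_card_image (fun g : G => zpowers g)]
  refine Finset.dvd_sum fun C hC => ?_
  obtain ⟨x, hx, rfl⟩ := Finset.mem_image.mp hC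
  have hx' : orderOf x = t := by simpa using hx
  rw [← hx', ← S4085.card_gens, Nat.card_eq_fintype_card, Fintype.card_subtype]
  refine (congrArg Finset.card (Finset.ext fun y => ?_)).dvd
  simp only [Finset.mem_filter, Finset.mem_univ, true_and]
  exact ⟨fun h => ⟨by rw [← Nat.card_zpowers, h, Nat.card_zpowers], h⟩, fun h => h.2⟩

theorem sum_sc {d : ℕ} (hd : d ≠ 0) :
    ∑ t ∈ d.divisors, sc G t = Nat.card {x : G // x ^ d = 1} := by
  classical
  have := Fintype.ofFinite G
  rw [Nat.card_eq_fintype_card, Fintype.card_subtype]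
  convert sum_card_orderOf_eq_card_pow_eq_one (G := G) hd with t
  rw [sc, Nat.card_eq_fintype_card, Fintype.card_subtype]

theorem dvd_sum_sc {d : ℕ} (hd : d ∣ Nat.card G) : d ∣ ∑ t ∈ d.divisors, sc G t := by
  rw [sum_sc (ne_zero_of_dvd_ne_zero Nat.card_pos.ne' hd)]
  exact Ch.dvd_card_pow_eq_one hd dvd_rfl

theorem dvd_sc_add {p : ℕ} (hp : p.Prime) {a : ℕ} (ha : ¬ p ∣ a) (h : a * p ∣ Nat.card G) :
    p ∣ sc G a + sc G (a * p) := by
  induction a using Nat.strong_induction_on with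
  | _ a ih =>
  have ha0 : a ≠ 0 := fun h0 => ha (h0 ▸ dvd_zero p)
  have h1 := (dvd_mul_left p a).trans (dvd_sum_sc h)
  rw [Nat.divisors_mul, Finset.mul_def, Finset.sum_image
    ((Nat.Prime.coprime_iff_not_dvd hp).mpr ha).symm.mul_injOn_divisors, Finset.sum_product,
    ← Nat.insert_self_properDivisors ha0, Finset.sum_insert Nat.self_notMem_properDivisors,
    hp.sum_divisors, mul_one, add_comm (sc G (a * p))] at h1
  refine (Nat.dvd_add_left (Finset.dvd_sum fun i hi => ?_)).mp h1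
  obtain ⟨hi1, hi2⟩ := Nat.mem_properDivisors.mp hi
  rw [hp.sum_divisors, mul_one, add_comm]
  exact ih i hi2 (fun h2 => ha (h2.trans hi1)) ((Nat.mul_dvd_mul_right hi1 p).trans h)

theorem cast_sc_mul {p : ℕ} (hp : p.Prime) {a : ℕ} (ha : ¬ p ∣ a) (h : a * p ∣ Nat.card G) :
    (sc G (a * p) : ZMod p) = - sc G a := by
  have := (ZMod.natCast_eq_zero_iff _ _).mpr (dvd_sc_add hp ha h)
  push_cast at this
  linear_combination this

theorem cast_sc_prime {p : ℕ} (hp : p.Prime) (h : p ∣ Nat.card G) : (sc G p : ZMod p) = -1 := by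
  simpa [sc_one] using cast_sc_mul (G := G) hp (a := 1) (hp.one_lt.ne' ∘ Nat.dvd_one.mp) (by simpa)

theorem dvd_sc_of_not_commute {p : ℕ} (hp : p.Prime) {x : G} (hx : orderOf x = p) {t : ℕ}
    (h : ∀ y : G, orderOf y = t → ¬ Commute x y) : p ∣ sc G t := by
  have := Fact.mk hp
  let _ : MulAction (zpowers x) {g : G // orderOf g = t} :=
    { smul := fun a g => ⟨a * g * (a : G)⁻¹, ((MulAut.conj (a : G)).orderOf_eq g.1).trans g.2⟩
      one_smul := fun g => Subtype.ext (by show (1 : G) * g * 1⁻¹ = g; group)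
      mul_smul := fun a b g => Subtype.ext (by
        show (a * b : G) * g * (a * b : G)⁻¹ = a * (b * g * (b : G)⁻¹) * (a : G)⁻¹; group) }
  have h1 := (IsPGroup.of_card (n := 1) (G := zpowers x)
    (by rw [Nat.card_zpowers, hx, pow_one])).card_modEq_card_fixedPoints {g : G // orderOf g = t}
  have : IsEmpty (MulAction.fixedPoints (zpowers x) {g : G // orderOf g = t}) := ⟨fun g =>
    h g.1.1 g.1.2 (mul_inv_eq_iff_eq_mul.mp (congrArg Subtype.val (g.2 ⟨x, mem_zpowers x⟩)))⟩
  exact (Nat.modEq_zero_iff_dvd).mp (h1.trans (by rw [Nat.card_of_isEmpty]))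

theorem two_mul_sc_le {a b : ℕ} (hab : a.Coprime b) (hb : 3 ≤ b)
    (h : ∀ x : G, orderOf x = a → ∃ y : G, orderOf y = b ∧ Commute x y) :
    2 * sc G a ≤ sc G (a * b) := by
  choose! f hf hf' using h
  have key : ∀ x x' y y' : G, orderOf x = a → orderOf x' = a → orderOf y = b → orderOf y' = b →
      Commute x y → Commute x' y' → x * y = x' * y' → x = x' := fun x x' y y' h1 h2 h3 h4 h5 h6 h7 => by
    have h8 := congrArg (· ^ b) h7
    simp only [h5.mul_pow, h6.mul_pow, orderOf_dvd_iff_pow_eq_one.mp h3.dvd,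
      orderOf_dvd_iff_pow_eq_one.mp h4.dvd, mul_one] at h8
    obtain ⟨k, hk⟩ := exists_pow_eq_self_of_coprime (x := x) (h1 ▸ hab.symm)
    rcases Nat.eq_zero_or_pos a with rfl | ha
    · exact absurd h1 (orderOf_pos x).ne'
    obtain ⟨m, -, hm⟩ := Nat.exists_mul_mod_eq_of_coprime 1 hab.symm ha.ne'
    have h9 : ∀ z : G, orderOf z = a → (z ^ b) ^ m = z := fun z hz => by
      rw [← pow_mul, ← pow_mod_orderOf, hz, hm, ← hz, pow_mod_orderOf, pow_one]
    rw [← h9 x h1, h8, h9 x' h2]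
  have hinv : ∀ x, orderOf x = a → f x ≠ (f x)⁻¹ := fun x hx h1 => by
    rw [eq_inv_iff_mul_eq_one, ← pow_two, ← orderOf_dvd_iff_pow_eq_one, hf x hx] at h1
    have := Nat.le_of_dvd two_pos h1
    omega
  have ho : ∀ x y : G, orderOf x = a → orderOf y = b → Commute x y → orderOf (x * y) = a * b :=
    fun x y h1 h2 h3 => by rw [h3.orderOf_mul_eq_mul_orderOf_of_coprime (by rwa [h1, h2]), h1, h2]
  have hi : ∀ x, orderOf x = a → orderOf (f x)⁻¹ = b := fun x hx => by rw [orderOf_inv, hf x hx]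
  rw [two_mul, sc, sc, ← Nat.card_sum]
  refine Nat.card_le_card_of_injective (Sum.elim
    (fun x => ⟨x.1 * f x.1, ho _ _ x.2 (hf _ x.2) (hf' _ x.2)⟩)
    fun x => ⟨x.1 * (f x.1)⁻¹, ho _ _ x.2 (hi _ x.2) (hf' _ x.2).inv_right⟩) ?_
  rintro (⟨x, hx⟩ | ⟨x, hx⟩) (⟨x', hx'⟩ | ⟨x', hx'⟩) h1 <;> have h2 := congrArg Subtype.val h1
  · obtain rfl := key _ _ _ _ hx hx' (hf _ hx) (hf _ hx') (hf' _ hx) (hf' _ hx') h2
    rfl
  · obtain rfl := key _ _ _ _ hx hx' (hf _ hx) (hi _ hx') (hf' _ hx) (hf' _ hx').inv_right h2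
    exact absurd (mul_left_cancel h2) (hinv _ hx)
  · obtain rfl := key _ _ _ _ hx hx' (hi _ hx) (hf _ hx') (hf' _ hx).inv_right (hf' _ hx') h2
    exact absurd (mul_left_cancel h2).symm (hinv _ hx)
  · obtain rfl := key _ _ _ _ hx hx' (hi _ hx) (hi _ hx') (hf' _ hx).inv_right
      (hf' _ hx').inv_right h2
    rfl

theorem exists_values (h : (((fun m : ℕ => Nat.card {g : G // orderOf g = m}) ''
    Set.range (orderOf : G → ℕ))).ncard = 3) :
    ∃ m n : ℕ, ∀ t, sc G t = 0 ∨ sc G t = 1 ∨ sc G t = m ∨ sc G t = n := by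
  obtain ⟨x, y, z, -, -, -, h1⟩ := Set.ncard_eq_three.mp h
  have h2 : ∀ t, sc G t = 0 ∨ sc G t = x ∨ sc G t = y ∨ sc G t = z := fun t =>
    or_iff_not_imp_left.mpr fun h0 => by
      obtain ⟨g, hg⟩ := not_forall_not.mp (mt sc_eq_zero_iff.mpr h0)
      exact h1.le ⟨t, ⟨g, hg⟩, rfl⟩
  have h3 := h2 1
  rw [sc_one] at h3
  rcases h3 with h3 | rfl | rfl | rfl
  · simp at h3
  · exact ⟨y, z, h2⟩
  · exact ⟨x, z, fun t => by have := h2 t; tauto⟩
  · exact ⟨x, y, fun t => by have := h2 t; tauto⟩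

theorem two_dvd_sc {t : ℕ} (ht : 3 ≤ t) : 2 ∣ sc G t :=
  (even_iff_two_dvd.mp (Nat.totient_even ht)).trans (totient_dvd_sc t)

theorem values_three {m n : ℕ} (h : ∀ t, sc G t = 0 ∨ sc G t = 1 ∨ sc G t = m ∨ sc G t = n)
    {t : ℕ} (ht : 3 ≤ t) : sc G t = 0 ∨ sc G t = m ∨ sc G t = n := by
  have := two_dvd_sc (G := G) ht
  have := h t
  omega

theorem pow_mem_mul {K : Subgroup G} {y : G} (hy : y ∈ normalizer (K : Set G)) {u : G} (hu : u ∈ K)
    (j : ℕ) : (y ^ j)⁻¹ * (y * u) ^ j ∈ K := by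
  induction j with
  | zero => simp
  | succ j ih =>
    have h := K.mul_mem ((mem_normalizer_iff''.mp hy _).mp ih) hu
    convert h using 1
    rw [pow_succ, pow_succ]; group

/-- If all elements of a coset `y X A` have order dividing the prime `p`, `A` abelian normal with
`C_A(X) = 1`, then `|X|` kills `A`. -/
theorem pow_card_eq_one_of_coset {A X : Subgroup G} [A.Normal] [IsMulCommutative A] {y : G}
    (hy : y ∈ normalizer (X : Set G)) {p : ℕ} (hp : p.Prime)
    (h1 : ∀ u ∈ X, ∀ v ∈ A, (v * (y * u)) ^ p = 1)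
    (h3 : ∀ v ∈ A, (∀ u ∈ X, u * v * u⁻¹ = v) → v = 1) {v : G} (hv : v ∈ A) :
    v ^ Nat.card X = 1 := by
  classical
  have := Fintype.ofFinite X
  let _ : CommGroup A := { mul_comm := mul_comm' }
  let _ := MulDistribMulAction.compHom A (MulAut.conjNormal (H := A))
  have hs : ∀ (a : G) (v : A), ((a • v : A) : G) = a * v * a⁻¹ := fun _ _ => rfl
  have h1' : ∀ u ∈ X, (y * u) ^ p = 1 := fun u hu => by simpa using h1 u hu 1 (one_mem _)
  have hnorm : ∀ (g : G) (v : A) (j : ℕ),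
      (v * g) ^ j = (∏ i ∈ Finset.range j, g ^ i • v : A) * g ^ j := fun g v j => by
    induction j with
    | zero => simp
    | succ j ih => rw [pow_succ, ih, Finset.prod_range_succ, coe_mul, hs, pow_succ]; group
  suffices h : (⟨v, hv⟩ : A) ^ Nat.card X = 1 from congrArg Subtype.val h
  generalize (⟨v, hv⟩ : A) = v
  have key : ∀ j ∈ Finset.range p, j ≠ 0 → ∏ u : X, (y * u) ^ j • v = 1 := by
    intro j hj hj0
    have hcop : j.Coprime p :=
      ((Nat.coprime_of_lt_prime hj0 (Finset.mem_range.mp hj) hp)).symm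
    obtain ⟨m, -, hm⟩ := Nat.exists_mul_mod_eq_one_of_coprime hcop hp.one_lt
    let f : X → X := fun u => ⟨_, pow_mem_mul hy u.2 j⟩
    have hf : Function.Injective f := by
      intro u u' huu
      have h4 : (y * u) ^ j = (y * u') ^ j := mul_left_cancel (congrArg Subtype.val huu)
      have h5 : ∀ w : X, ((y * w) ^ j) ^ m = y * w := fun w => by
        rw [← pow_mul, pow_eq_pow_mod _ (h1' w w.2), hm, pow_one]
      apply Subtype.ext
      apply mul_left_cancel (a := y)
      rw [← h5, h4, h5]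
    have h6 := Frob.prod_smul_eq_one X (fun w hw => Subtype.ext (h3 w w.2 fun u hu =>
      congrArg Subtype.val (hw u hu))) v
    rw [← (Equiv.ofBijective f (Finite.injective_iff_bijective.mp hf)).prod_comp] at h6
    have h7 := congrArg (fun w => y ^ j • w) h6
    simp only [smul_one, Finset.smul_prod'] at h7
    rw [← h7]
    exact Finset.prod_congr rfl fun u _ => by simp [f, smul_smul]
  have h8 : ∏ u : X, ∏ j ∈ Finset.range p, (y * u) ^ j • v = 1 :=
    Finset.prod_eq_one fun u _ => Subtype.ext (by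
      have := hnorm (y * u) v p
      rw [h1 u u.2 v v.2, h1' u u.2, mul_one] at this
      exact this.symm)
  rw [Finset.prod_comm, Finset.prod_eq_single 0 key (by simp [hp.ne_zero])] at h8
  simpa [Nat.card_eq_fintype_card] using h8

theorem neg_one_ne_one {p : ℕ} (hp : p.Prime) (hp2 : p ≠ 2) : (-1 : ZMod p) ≠ 1 := fun h => by
  have : ((2 : ℕ) : ZMod p) = 0 := by push_cast; linear_combination -h
  exact hp2 ((Nat.prime_dvd_prime_iff_eq hp Nat.prime_two).mp ((ZMod.natCast_eq_zero_iff _ _).mp this))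

end Cfsg.Agent.FG.H93
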