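import Mathlib
import Cfsg.Agent.FG.H93Eppo
import Cfsg.Agent.FG.H93EqConj
import Cfsg.Agent.FG.H93Elt
import Cfsg.Agent.Ch.Burnside
import Cfsg.Agent.GT.Transvect
import Cfsg.Agent.Inv.Fpf3

/-! Finite groups all of whose elements have order at most four. -/

set_option autoImplicit false
set_option linter.unusedSectionVars false

namespace Cfsg.Agent.FG.H93

open Subgroup Cfsg Cfsg.Agent.GT
open scoped Pointwise commutatorElement

/-- every element has order at most four -/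
def Small (G : Type*) [Group G] : Prop := ∀ g : G, orderOf g ≤ 4

variable {G : Type*} [Group G] [Finite G]

theorem Small.quotient (h : Small G) (N : Subgroup G) [N.Normal] : Small (G ⧸ N) := fun g => by
  obtain ⟨g, rfl⟩ := QuotientGroup.mk'_surjective N g
  exact (Nat.le_of_dvd (orderOf_pos g) (orderOf_map_dvd _ g)).trans (h g)

theorem Small.eppo (h : Small G) : Eppo G := by
  refine eppo_iff.mpr fun r s hr hs hrs g hg => ?_
  have h1 := h g
  have h2 := hr.two_le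
  have h3 := hs.two_le
  rw [hg] at h1
  rcases lt_or_gt_of_ne hrs with h | h <;> nlinarith

theorem Small.prime_eq (h : Small G) {r : ℕ} (hr : r.Prime) (hd : r ∣ Nat.card G) :
    r = 2 ∨ r = 3 := by
  have := Fact.mk hr
  obtain ⟨x, hx⟩ := exists_prime_orderOf_dvd_card' r hd
  have h1 := h x
  have h2 := hr.two_le
  rw [hx] at h1
  interval_cases r
  · exact Or.inl rfl
  · exact Or.inr rfl
  · norm_num at hr

theorem Small.isSolvable (h : Small G) : Group.IsSolvable G :=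
  Ch.burnside_isSolvable_of_primes Nat.prime_three fun _ hr hd => h.prime_eq hr hd

theorem Small.pow_eq (h : Small G) (g : G) : g ^ 4 = 1 ∨ orderOf g = 3 := by
  have h1 := h g
  have h2 := orderOf_pos g
  rw [← orderOf_dvd_iff_pow_eq_one]
  interval_cases orderOf g <;> simp

theorem Eppo.centralizer_pCore_le [Group.IsSolvable G] (h : Eppo G) {p : ℕ} (hp : p.Prime)
    (h0 : pCore p G ≠ ⊥) : centralizer (pCore p G : Set G) ≤ pCore p G := by
  have := Fact.mk hp
  obtain ⟨x, hx, hx1, hxp⟩ := PG.exists_mem_ne_one_pow_eq_one (isPGroup_pCore p) h0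
  exact le_pCore (h.isPGroup_of_le_centralizer hp (orderOf_eq_prime hxp hx1).symm.dvd
    (centralizer_le (by simpa using hx)))

theorem Eppo.inf_centralizer_eq_bot (h : Eppo G) {p q : ℕ} (hp : p.Prime) (hq : q.Prime)
    (hpq : p ≠ q) {N : Subgroup G} (hN : IsPGroup p N) {x : G} (hx : q ∣ orderOf x) :
    N ⊓ centralizer {x} = ⊥ := by
  have := Fact.mk hp
  have := Fact.mk hq
  exact (IsPGroup.disjoint_of_ne p q hpq _ _ hN.to_inf_left
    (h.isPGroup_of_le_centralizer hq hx inf_le_right)).eq_bot_of_self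

theorem Small.case_three (h : Small G) (h2 : 2 ∣ Nat.card G) (h3 : pCore 3 G ≠ ⊥)
    (S : Sylow 2 G) : IsElementaryAbelian 3 (pCore 3 G) ∧ IsPGroup 2 (G ⧸ pCore 3 G) ∧
      Nonempty (G ⧸ pCore 3 G ≃* S) ∧ Frob.HasFpfAction S ∧
      ∀ t : G, orderOf t = 2 → ∀ n ∈ pCore 3 G, t * n * t⁻¹ = n⁻¹ := by
  have := h.isSolvable
  have hE := h.eppo
  set N := pCore 3 G with hN
  have hNp : IsPGroup 3 N := isPGroup_pCore 3
  have hinv : ∀ t : G, orderOf t = 2 → (∀ n ∈ N, t * n * t⁻¹ = n⁻¹) ∧ IsMulCommutative N :=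
    fun t ht => Frob.conj_eq_inv_of_fpf (by rw [normalizer_eq_top]; trivial)
      (by rw [← pow_two, ← ht, pow_orderOf_eq_one])
      (hE.inf_centralizer_eq_bot Nat.prime_three Nat.prime_two (by norm_num) hNp ht.symm.dvd)
  obtain ⟨z, hz⟩ := exists_prime_orderOf_dvd_card' 2 h2
  have hC := hE.centralizer_pCore_le Nat.prime_three h3
  have hdis : Disjoint (S : Subgroup G) N :=
    IsPGroup.disjoint_of_ne 2 3 (by norm_num) _ _ S.isPGroup' hNp
  have hQ : IsPGroup 2 (G ⧸ N) := by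
    have hz2 : orderOf (z : G ⧸ N) = 2 := by
      refine orderOf_eq_prime (by rw [← QuotientGroup.mk_pow, ← hz, pow_orderOf_eq_one]; rfl) fun h1 => ?_
      have h4 := (QuotientGroup.eq_one_iff z).mp h1
      have h5 := (hE.inf_centralizer_eq_bot Nat.prime_three Nat.prime_two (by norm_num) hNp
        hz.symm.dvd).le ⟨h4, mem_centralizer_singleton_iff.mpr rfl⟩
      rw [mem_bot.mp h5, orderOf_one] at hz
      norm_num at hz
    have h4 := (hE.quotient N).isPGroup_of_le_centralizer Nat.prime_two hz2.symm.dvd (H := ⊤) (by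
      intro g _
      obtain ⟨g, rfl⟩ := QuotientGroup.mk_surjective g
      rw [mem_centralizer_singleton_iff, ← QuotientGroup.mk_mul, ← QuotientGroup.mk_mul,
        QuotientGroup.eq]
      refine hC fun n hn => ?_
      have h5 := (hinv z hz).1 _ ((inferInstance : N.Normal).conj_mem _ hn g)
      have h6 := (hinv z hz).1 _ hn
      have h7 : (g * z)⁻¹ * (z * g) * n * ((g * z)⁻¹ * (z * g))⁻¹ = n := by
        calc _ = z⁻¹ * g⁻¹ * (z * (g * n * g⁻¹) * z⁻¹) * g * z := by group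
          _ = z⁻¹ * n⁻¹ * z := by rw [h5]; group
          _ = n := by rw [← h6]; group
      nth_rewrite 1 [← h7]; group)
    exact h4.of_equiv topEquiv
  refine ⟨⟨(hinv z hz).2, fun n hn => ?_⟩, hQ, ⟨?_⟩, (hE.exists_isPGroup_of_normalizes
    Nat.prime_three hNp h3 (fun hd => by
      have := (isPGroup_iff_isPiNum Nat.prime_two).mp S.isPGroup' 3 Nat.prime_three hd
      simp at this) (by rw [normalizer_eq_top]; exact le_top)).1, fun t ht => (hinv t ht).1⟩
  · rcases h.pow_eq n with h4 | h4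
    · obtain ⟨k, hk⟩ := PG.exists_pow_pow_eq_one_of_mem hNp hn
      have h5 : orderOf n = 1 := Nat.eq_one_of_dvd_coprimes
        (Nat.Coprime.pow_right k (by norm_num : Nat.Coprime 4 3))
        (orderOf_dvd_of_pow_eq_one h4) (orderOf_dvd_of_pow_eq_one hk)
      rw [orderOf_eq_one_iff.mp h5, one_pow]
    · rw [← h4, pow_orderOf_eq_one]
  · refine (MulEquiv.ofBijective ((QuotientGroup.mk' N).comp (S : Subgroup G).subtype) ⟨?_, ?_⟩).symm
    · refine (injective_iff_map_eq_one _).mpr fun x hx => Subtype.ext ?_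
      exact disjoint_def.mp hdis x.2 ((QuotientGroup.eq_one_iff _).mp hx)
    · rw [← MonoidHom.range_eq_top, MonoidHom.range_comp, range_subtype, ← index_eq_one]
      obtain ⟨k, hk⟩ := hQ.index ((S : Subgroup G).map (QuotientGroup.mk' N))
      rcases k with _ | k
      · exact hk
      · exact absurd ((hk ▸ dvd_pow_self 2 k.succ_ne_zero).trans
          (index_map_dvd _ (QuotientGroup.mk'_surjective N))) S.not_dvd_index

theorem fpf_conjNormal {N : Subgroup G} [N.Normal] {g : G} (hg : g ^ 3 = 1)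
    (hC : N ⊓ centralizer {g} = ⊥) : Inv.F3.Fpf (MulAut.conjNormal g : MulAut N) := by
  refine ⟨fun x => Subtype.ext ?_, fun x hx => Subtype.ext (mem_bot.mp (hC.le ⟨x.2, ?_⟩))⟩
  · simp only [MulAut.conjNormal_apply]
    calc _ = g ^ 3 * x * (g ^ 3)⁻¹ := by rw [pow_three]; group
      _ = x := by rw [hg]; simp
  · have := congrArg Subtype.val hx
    simp only [MulAut.conjNormal_apply, mul_inv_eq_iff_eq_mul] at this
    exact mem_centralizer_singleton_iff.mpr this.symm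

theorem Small.case_two (h : Small G) (h3 : 3 ∣ Nat.card G) (h2 : pCore 2 G ≠ ⊥) :
    ∃ g : G, orderOf g = 3 ∧ pCore 2 G ⊓ centralizer {g} = ⊥ ∧ ((pCore 2 G).index = 3 ∨
      ∃ t : G, t * t = 1 ∧ t * g * t⁻¹ = g⁻¹ ∧ Nonempty (G ⧸ pCore 2 G ≃* Equiv.Perm (Fin 3))) := by
  classical
  have := h.isSolvable
  have hE := h.eppo
  set N := pCore 2 G with hN
  have hNp : IsPGroup 2 N := isPGroup_pCore 2
  obtain ⟨g, hg⟩ := exists_prime_orderOf_dvd_card' 3 h3
  have hC := hE.inf_centralizer_eq_bot Nat.prime_two Nat.prime_three (by norm_num) hNp hg.symm.dvd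
  refine ⟨g, hg, hC, ?_⟩
  have h9 : ¬ 3 ^ 2 ∣ Nat.card G := fun hd => by
    obtain ⟨R, hR⟩ := Sylow.exists_subgroup_card_pow_prime 3 hd
    have hf := (hE.exists_isPGroup_of_normalizes Nat.prime_two hNp h2 (K := R) (by rw [hR]; norm_num)
      (by rw [normalizer_eq_top]; exact le_top)).1
    have := IsPGroup.isMulCommutative_of_card_eq_prime_sq hR
    obtain ⟨x, hx⟩ := hf.isCyclic_of_comm.exists_ofOrder_eq_natCard
    have := h x
    rw [orderOf_coe, hx, hR] at this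
    norm_num at this
  have hs := h.quotient N
  have hgq : orderOf (g : G ⧸ N) = 3 := by
    refine orderOf_eq_prime (by rw [← QuotientGroup.mk_pow, ← hg, pow_orderOf_eq_one]; rfl) fun h1 => ?_
    have h5 := hC.le ⟨(QuotientGroup.eq_one_iff g).mp h1, mem_centralizer_singleton_iff.mpr rfl⟩
    rw [mem_bot.mp h5, orderOf_one] at hg
    norm_num at hg
  have h9' : ¬ 3 ^ 2 ∣ Nat.card (G ⧸ N) := fun hd => h9 (hd.trans (card_quotient_dvd_card N))
  by_cases hq : 2 ∣ Nat.card (G ⧸ N)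
  swap
  · left
    have h4 : IsPGroup 3 (G ⧸ N) := (isPGroup_iff_isPiNum Nat.prime_three).mpr fun r hr hd =>
      (hs.prime_eq hr hd).resolve_left fun h => hq (h ▸ hd)
    obtain ⟨k, hk⟩ := IsPGroup.iff_card.mp h4
    have h5 : 3 ∣ Nat.card (G ⧸ N) := hgq ▸ orderOf_dvd_natCard _
    rw [index_eq_card]
    rw [hk] at h9' h5 ⊢
    rcases k with _ | _ | k
    · norm_num at h5
    · rfl
    · exact absurd (pow_dvd_pow 3 (by omega)) h9'
  right
  have : Nontrivial (G ⧸ N) := Finite.one_lt_card_iff_nontrivial.mp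
    (Nat.le_of_dvd Nat.card_pos hq)
  have := hs.isSolvable
  have h30 : pCore 3 (G ⧸ N) ≠ ⊥ := by
    obtain ⟨p, hp, hp0⟩ := exists_pCore_ne_bot (G ⧸ N)
    obtain ⟨r, hr, hd⟩ := exists_prime_dvd_card_of_ne_bot hp0
    obtain rfl : r = p := (isPGroup_iff_isPiNum hp).mp (isPGroup_pCore p) r hr hd
    rcases hs.prime_eq hr (hd.trans (card_subgroup_dvd_card _)) with rfl | rfl
    · exact absurd pCore_quotient_pCore hp0
    · exact hp0
  obtain ⟨S⟩ : Nonempty (Sylow 2 (G ⧸ N)) := inferInstance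
  obtain ⟨-, hQ, -, -, hinv⟩ := hs.case_three hq h30 S
  have hCq := hs.eppo.centralizer_pCore_le Nat.prime_three h30
  set M := pCore 3 (G ⧸ N) with hM
  have hgM : (g : G ⧸ N) ∈ M := by
    rw [← QuotientGroup.eq_one_iff]
    obtain ⟨k, hk⟩ := hQ ((g : G ⧸ N) : (G ⧸ N) ⧸ M)
    refine orderOf_eq_one_iff.mp (Nat.eq_one_of_dvd_coprimes
      (Nat.Coprime.pow_left k (by norm_num : Nat.Coprime 2 3)) (orderOf_dvd_of_pow_eq_one hk) ?_)
    exact (orderOf_map_dvd (QuotientGroup.mk' M) _).trans hgq.dvd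
  have hMe : zpowers (g : G ⧸ N) = M := by
    refine PG.eq_of_le_of_card_le (zpowers_le.mpr hgM) ?_
    obtain ⟨k, hk⟩ := IsPGroup.iff_card.mp (isPGroup_pCore (G := G ⧸ N) 3)
    have h5 := card_subgroup_dvd_card M
    rw [Nat.card_zpowers, hgq, hk]
    rw [hk] at h5
    exact Nat.pow_le_pow_right (n := 3) (j := 1) (by norm_num)
      (not_lt.mp fun hlt => h9' ((pow_dvd_pow 3 hlt).trans h5))
  obtain ⟨s, hs2⟩ := exists_prime_orderOf_dvd_card' 2 hq
  have hsg := hinv s hs2 _ hgM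
  have hss : s * s = 1 := by rw [← pow_two]; exact orderOf_dvd_iff_pow_eq_one.mp hs2.dvd
  have htop : zpowers (g : G ⧸ N) ⊔ zpowers s = ⊤ := by
    rw [eq_top_iff]
    intro y _
    have hcent : ∀ y : G ⧸ N, y * g * y⁻¹ = g → y ∈ zpowers (g : G ⧸ N) := fun y hy => by
      rw [hMe]
      refine hCq ?_
      rw [← hMe, centralizer_zpowers, mem_centralizer_singleton_iff, ← mul_inv_eq_iff_eq_mul, hy]
    have h5 : y * g * y⁻¹ ∈ zpowers (g : G ⧸ N) :=
      hMe ▸ (inferInstance : M.Normal).conj_mem _ hgM y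
    obtain ⟨i, hi, hi'⟩ := Finset.mem_image.mp (mem_zpowers_iff_mem_range_orderOf.mp h5)
    rw [hgq, Finset.mem_range] at hi
    interval_cases i
    · rw [pow_zero, eq_comm, mul_inv_eq_one, mul_eq_left] at hi'
      rw [hi', orderOf_one] at hgq
      norm_num at hgq
    · exact mem_sup_left (hcent y (by rw [← hi', pow_one]))
    · have h6 : (g : G ⧸ N) ^ 2 = (g : G ⧸ N)⁻¹ := by
        rw [eq_inv_iff_mul_eq_one, ← pow_succ]; exact orderOf_dvd_iff_pow_eq_one.mp hgq.dvd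
      have h7 := hcent (s⁻¹ * y) (by
        calc _ = s⁻¹ * (y * g * y⁻¹) * s := by group
          _ = g := by rw [← hi', h6, ← hsg]; group)
      have h8 : y = s * (s⁻¹ * y) := by group
      rw [h8]
      exact mul_mem (mem_sup_right (mem_zpowers s)) (mem_sup_left h7)
  obtain ⟨e⟩ := nonempty_equiv_perm_three hss hgq hsg
  obtain ⟨t0, rfl⟩ := QuotientGroup.mk_surjective s
  have hg3 : g ^ 3 = 1 := hg ▸ pow_orderOf_eq_one g
  have h5 : t0 * g * t0⁻¹ * g ∈ N := by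
    rw [← QuotientGroup.eq_one_iff]
    simp only [QuotientGroup.mk_mul, QuotientGroup.mk_inv, hsg, inv_mul_cancel]
  obtain ⟨n, hn⟩ := (fpf_conjNormal hg3 hC).surj
    ⟨_, inv_mem ((inferInstance : N.Normal).conj_mem _ h5 g)⟩
  have hn' : (g * (t0 * g * t0⁻¹ * g) * g⁻¹)⁻¹ = n * (g * n * g⁻¹)⁻¹ := congrArg Subtype.val hn
  have h6 : (n : G)⁻¹ * t0 * g * ((n : G)⁻¹ * t0)⁻¹ = g⁻¹ := by
    calc _ = (n : G)⁻¹ * g⁻¹ * ((g * (t0 * g * t0⁻¹ * g) * g⁻¹)⁻¹)⁻¹ * n := by group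
      _ = g⁻¹ := by rw [hn']; group
  refine ⟨(n : G)⁻¹ * t0, mem_bot.mp (hC.le ⟨?_, ?_⟩), h6,
    ⟨(topEquiv.symm.trans (MulEquiv.subgroupCongr htop.symm)).trans e⟩⟩
  · refine (QuotientGroup.eq_one_iff _).mp ?_
    simp only [QuotientGroup.mk_mul, QuotientGroup.mk_inv, (QuotientGroup.eq_one_iff _).mpr n.2,
      inv_one, one_mul, hss]
  · set t := (n : G)⁻¹ * t0
    refine mem_centralizer_singleton_iff.mpr (mul_inv_eq_iff_eq_mul.mp ?_)
    calc _ = t * (t * g * t⁻¹) * t⁻¹ := by group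
      _ = t * g⁻¹ * t⁻¹ := by rw [h6]
      _ = (t * g * t⁻¹)⁻¹ := by group
      _ = g := by rw [h6, inv_inv]

/-- If `S₃ = ⟨g, t⟩` acts on a `2`-group `N` with `g` fixed-point-free and `(x t) ^ 4 = 1` for all
`x ∈ N`, then `N` is elementary abelian. -/
theorem elementary_of_s3 {N : Subgroup G} [N.Normal] (hN : IsPGroup 2 N) {g t : G} (hg : g ^ 3 = 1)
    (hC : N ⊓ centralizer {g} = ⊥) (ht : t * t = 1) (htg : t * g * t⁻¹ = g⁻¹)
    (h4 : ∀ x ∈ N, (x * t) ^ 4 = 1) : IsElementaryAbelian 2 N := by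
  have hf := fpf_conjNormal hg hC
  have hn : ∀ x ∈ N, ∀ y : G, y * x * y⁻¹ ∈ N := fun x hx y =>
    (inferInstance : N.Normal).conj_mem _ hx y
  have hrr : ∀ x ∈ N, g⁻¹ * x * g = (x * (g * x * g⁻¹))⁻¹ := fun x hx => by
    have h1 : g * (g * x * g⁻¹) * g⁻¹ = (x * (g * x * g⁻¹))⁻¹ := congrArg Subtype.val (hf.rr ⟨x, hx⟩)
    rw [← h1]
    calc _ = g * g * (g ^ 3)⁻¹ * x * g ^ 3 * g⁻¹ * g⁻¹ := by group
      _ = _ := by rw [hg]; group
  have hcr : ∀ x ∈ N, ∀ y ∈ N, y * x = x * y → y * (g * x * g⁻¹) = g * x * g⁻¹ * y :=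
    fun x hx y hy h => congrArg Subtype.val
      (hf.comm_r (y := ⟨y, hy⟩) (x := ⟨x, hx⟩) (Subtype.ext h)).eq
  have ht' : t⁻¹ = t := inv_eq_of_mul_eq_one_right ht
  set A := N ⊓ centralizer {t} with hA
  have htA : ∀ a ∈ A, t * (g * a * g⁻¹) * t⁻¹ = (a * (g * a * g⁻¹))⁻¹ := fun a ha => by
    rw [← hrr a ha.1]
    calc _ = (t * g * t⁻¹) * (t * a) * t⁻¹ * (t * g * t⁻¹)⁻¹ := by group
      _ = _ := by rw [htg, ← mem_centralizer_singleton_iff.mp ha.2]; group
  have hA2 : ∀ a ∈ A, a ^ 2 = 1 := fun a ha => by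
    have h1 := h4 _ (hn a ha.1 g)
    have h2 : (g * a * g⁻¹ * t) ^ 2 = a⁻¹ := by
      calc _ = g * a * g⁻¹ * (t * (g * a * g⁻¹) * t⁻¹) := by rw [ht', pow_two]; group
        _ = a⁻¹ := by rw [htA a ha]; group
    rwa [show 4 = 2 * 2 from rfl, pow_mul, h2, inv_pow, inv_eq_one] at h1
  have hAc := comm_of_sq hA2
  set B := MulAut.conj g • A with hB
  have hBm : ∀ b ∈ B, ∃ a ∈ A, b = g * a * g⁻¹ := fun b hb =>
    ⟨_, HT.mem_conj_smul.mp hb, by group⟩
  have hB2 : ∀ b ∈ B, b ^ 2 = 1 := fun b hb => by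
    obtain ⟨a, ha, rfl⟩ := hBm b hb
    rw [conj_pow, hA2 a ha]; group
  have hBA : B ≤ centralizer (A : Set G) := fun b hb y hy => by
    obtain ⟨a, ha, rfl⟩ := hBm b hb
    exact hcr a ha.1 y hy.1 (PG.isMulCommutative_iff_forall.mp hAc y hy a ha)
  have hMc := PG.isMulCommutative_sup hAc (comm_of_sq hB2) hBA
  have hMm : ∀ m ∈ A ⊔ B, ∃ a ∈ A, ∃ b ∈ A, m = a * (g * b * g⁻¹) := fun m hm => by
    obtain ⟨a, ha, b, hb, rfl⟩ := (PG.mem_sup_of_le_normalizer
      (hBA.trans (PG.centralizer_le_normalizer' _))).mp hm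
    obtain ⟨b', hb', rfl⟩ := hBm b hb
    exact ⟨a, ha, b', hb', rfl⟩
  have hmem : ∀ a ∈ A, ∀ b ∈ A, a * (g * b * g⁻¹) ∈ A ⊔ B := fun a ha b hb =>
    mul_mem (mem_sup_left ha) (mem_sup_right (HT.conj_mem_conj_smul g hb))
  have hM2 : ∀ m ∈ A ⊔ B, m ^ 2 = 1 := fun m hm => by
    obtain ⟨a, ha, b, hb, rfl⟩ := hMm m hm
    have hb' := HT.conj_mem_conj_smul g hb
    rw [(show Commute a (g * b * g⁻¹) from hBA hb' a ha).mul_pow, hA2 a ha, hB2 _ hb', one_mul]
  have hMN : A ⊔ B ≤ N := fun m hm => by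
    obtain ⟨a, ha, b, hb, rfl⟩ := hMm m hm
    exact mul_mem ha.1 (hn b hb.1 g)
  suffices he : A ⊔ B = N by rw [← he]; exact ⟨hMc, hM2⟩
  by_contra hne
  have htM : zpowers t ≤ normalizer ((A ⊔ B : Subgroup G) : Set G) := by
    refine zpowers_le.mpr (mem_normalizer_fintype fun m hm => ?_)
    obtain ⟨a, ha, b, hb, rfl⟩ := hMm m hm
    have h1 : t * (a * (g * b * g⁻¹)) * t⁻¹ = a * (t * (g * b * g⁻¹) * t⁻¹) := by
      rw [← mul_assoc t a, ← mem_centralizer_singleton_iff.mp ha.2]; group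
    rw [h1, htA b hb]
    exact mul_mem (mem_sup_left ha) (inv_mem (hmem b hb b hb))
  obtain ⟨y, hy, hyM, -, -, hyt⟩ := PG.exists_step hN (isPGroup_zpowers_of_pow (by rwa [pow_two]))
    (by rw [normalizer_eq_top]; exact le_top) htM (lt_of_le_of_ne hMN hne)
  have hm := hyt t (mem_zpowers t)
  set m := ⁅y, t⁆ with hmd
  have hmm : m⁻¹ = m := inv_eq_of_mul_eq_one_right (by rw [← pow_two]; exact hM2 m hm)
  have hmA : m ∈ A := by
    refine ⟨hMN hm, mem_centralizer_singleton_iff.mpr (mul_inv_eq_iff_eq_mul.mp ?_).symm⟩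
    calc _ = t * y * t * y⁻¹ * (t * t)⁻¹ := by rw [hmd, commutatorElement_def]; group
      _ = t * y * t⁻¹ * y⁻¹ := by rw [ht, ht']; group
      _ = m⁻¹ := by rw [hmd, commutatorElement_def]; group
      _ = m := hmm
  have h1 : g * m * g⁻¹ * y ∈ A := by
    refine ⟨mul_mem (hn m hmA.1 g) hy,
      mem_centralizer_singleton_iff.mpr (mul_inv_eq_iff_eq_mul.mp ?_).symm⟩
    have h2 : (m * (g * m * g⁻¹))⁻¹ = g * m * g⁻¹ * m := by
      rw [mul_inv_rev, hmm, conj_inv, hmm]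
    calc _ = (t * (g * m * g⁻¹) * t⁻¹) * m⁻¹ * y := by rw [hmd, commutatorElement_def]; group
      _ = _ := by rw [htA m hmA, h2]; group
  have h2 := mul_mem (inv_mem (mem_sup_right (HT.conj_mem_conj_smul g hmA)))
    (mem_sup_left h1 : _ ∈ A ⊔ B)
  rw [inv_mul_cancel_left] at h2
  exact hyM h2

end Cfsg.Agent.FG.H93
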