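import Mathlib
import Cfsg.Agent.FG.DGrpB
import Cfsg.Agent.Cl.DerCount
import Cfsg.Agent.GT.Hall
import Cfsg.Agent.GT.PPrimeCore

/-!
Soluble linear groups transitive on subspaces of dimension one and two.
-/

set_option autoImplicit false

namespace Cfsg.Agent.FG.H94Dp

open Cfsg Subgroup Cfsg.Agent.GT Cfsg.Agent.FG Module

theorem card_fixed {V H : Type*} [AddCommGroup V] [Finite V] [Group H] [DistribMulAction H V]
    {r : ℕ} [Fact r.Prime] (hH : IsPGroup r H) :
    Nat.card (FixedPoints.addSubgroup H V) ∣ Nat.card V ∧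
      Nat.card V ≡ Nat.card (FixedPoints.addSubgroup H V) [MOD r] :=
  ⟨AddSubgroup.card_addSubgroup_dvd_card _, hH.card_modEq_card_fixedPoints V⟩

theorem dvd81 {c : ℕ} (h : c ∣ 81) : c = 1 ∨ c = 3 ∨ c = 9 ∨ c = 27 ∨ c = 81 := by
  obtain ⟨k, hk, rfl⟩ := (Nat.dvd_prime_pow Nat.prime_three).1 (show c ∣ 3 ^ 4 from h)
  interval_cases k <;> simp

theorem no65 {V H : Type*} [AddCommGroup V] [Finite V] [Group H] [Finite H] [DistribMulAction H V]
    [FaithfulSMul H V] (hV : Nat.card V = 81) (hH : Nat.card H = 65) : False := by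
  have : Fact (Nat.Prime 13) := ⟨by norm_num⟩
  have : Fact (Nat.Prime 5) := ⟨by norm_num⟩
  obtain ⟨x, hx⟩ := exists_prime_orderOf_dvd_card' (G := H) 13 (by rw [hH]; norm_num)
  obtain ⟨y, hy⟩ := exists_prime_orderOf_dvd_card' (G := H) 5 (by rw [hH]; norm_num)
  have aux : ∀ {z : H} {r : ℕ}, orderOf z = r → r ≠ 1 →
      Nat.card (FixedPoints.addSubgroup (zpowers z) V) ≠ 81 := fun {z r} hz hr h => by
    have h1 := AddSubgroup.eq_top_of_card_eq _ (h.trans hV.symm)
    have h2 : z = 1 := eq_of_smul_eq_smul (α := V) fun v => by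
      rw [one_smul]
      exact (h1.ge (AddSubgroup.mem_top v)) ⟨z, mem_zpowers z⟩
    rw [h2, orderOf_one] at hz
    exact hr hz.symm
  have hxc : Nat.card (zpowers x) = 13 := by rw [Nat.card_zpowers, hx]
  have hyc : Nat.card (zpowers y) = 5 := by rw [Nat.card_zpowers, hy]
  have hn : (zpowers x).Normal := by
    apply normal_of_index_eq_minFac_card
    have := (zpowers x).card_mul_index
    rw [hxc, hH] at this
    rw [hH]
    norm_num
    omega
  have hxp : IsPGroup 13 (zpowers x) := IsPGroup.of_card (n := 1) (by rw [hxc, pow_one])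
  have hyp : IsPGroup 5 (zpowers y) := IsPGroup.of_card (n := 1) (by rw [hyc, pow_one])
  obtain ⟨h1, h2⟩ := card_fixed (V := V) hxp
  obtain ⟨h3, h4⟩ := card_fixed (V := V) hyp
  have h5 := aux hx (by norm_num)
  have h6 := aux hy (by norm_num)
  rw [hV] at h1 h2 h3 h4
  have hC : Nat.card (FixedPoints.addSubgroup (zpowers x) V) = 3 := by
    generalize Nat.card (FixedPoints.addSubgroup (zpowers x) V) = c at h1 h2 h5 ⊢
    rcases dvd81 h1 with h | h | h | h | h <;> subst h <;> simp [Nat.ModEq] at h2 h5 ⊢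
  have hD : Nat.card (FixedPoints.addSubgroup (zpowers y) V) = 1 := by
    generalize Nat.card (FixedPoints.addSubgroup (zpowers y) V) = c at h3 h4 h6 ⊢
    rcases dvd81 h3 with h | h | h | h | h <;> subst h <;> simp [Nat.ModEq] at h4 h6 ⊢
  set C := FixedPoints.addSubgroup (zpowers x) V
  have hinv : ∀ (g : H), ∀ v ∈ C, g • v ∈ C := fun g v hv a => by
    have := hv ⟨g⁻¹ * a * g⁻¹⁻¹, hn.conj_mem _ a.2 g⁻¹⟩
    change (a : H) • g • v = g • v
    change (g⁻¹ * a * g⁻¹⁻¹) • v = v at this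
    rw [inv_inv, mul_smul, mul_smul, inv_smul_eq_iff] at this
    exact this
  let _ : MulAction (zpowers y) C :=
    { smul := fun g v => ⟨(g : H) • (v : V), hinv g v v.2⟩
      one_smul := fun v => Subtype.ext (one_smul H (v : V))
      mul_smul := fun a b v => Subtype.ext (mul_smul (a : H) (b : H) (v : V)) }
  have h7 := hyp.card_modEq_card_fixedPoints C
  have h8 : Nat.card (MulAction.fixedPoints (zpowers y) C) ≤ 1 := by
    rw [← hD]
    refine Nat.card_le_card_of_injective
      (fun v => ⟨(v.1 : V), fun g => congrArg Subtype.val (v.2 g)⟩) fun a b hab => ?_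
    have := congrArg Subtype.val hab
    exact Subtype.ext (Subtype.ext this)
  rw [hC] at h7
  generalize Nat.card (MulAction.fixedPoints (zpowers y) C) = c at *
  interval_cases c <;> simp [Nat.ModEq] at h7

theorem card_linEquiv {F V : Type*} [Field F] [Fintype F] [AddCommGroup V] [Module F V]
    [Module.Finite F V] {n : ℕ} (hn : finrank F V = n) :
    Nat.card (V ≃ₗ[F] V) = ∏ i : Fin n, (Fintype.card F ^ n - Fintype.card F ^ (i : ℕ)) := by
  classical
  rw [← Matrix.card_GL_field]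
  let b := Module.finBasisOfFinrankEq F V hn
  exact Nat.card_congr ((LinearMap.GeneralLinearGroup.generalLinearEquiv F V).symm.trans
    (Units.mapEquiv (LinearMap.toMatrixAlgEquiv b).toMulEquiv)).toEquiv

theorem arith {p n c : ℕ} (hp : 2 ≤ p) (hn : 3 ≤ n)
    (hc : c * ((p - 1) * (p ^ 2 - 1)) = (p ^ (n - 1) - 1) * (p ^ n - 1))
    (hd : c * (p - 1) ∣ (p ^ n - 1) * n) : n = 3 ∨ (n = 5 ∧ p = 2) := by
  have h1 : 0 < p ^ n - 1 := by
    have := Nat.one_lt_pow (n := n) (a := p) (by omega) hp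
    omega
  have h2 : p ^ (n - 1) - 1 ∣ n * (p ^ 2 - 1) := by
    have := Nat.mul_dvd_mul_right hd (p ^ 2 - 1)
    rw [mul_assoc, hc, mul_comm (p ^ (n - 1) - 1), mul_assoc] at this
    exact Nat.dvd_of_mul_dvd_mul_left h1 this
  have hp2 : 1 < p ^ 2 := by nlinarith
  obtain rfl | rfl | rfl | h6 : n = 3 ∨ n = 4 ∨ n = 5 ∨ 6 ≤ n := by omega
  · exact Or.inl rfl
  · exfalso
    obtain ⟨q, rfl⟩ : ∃ q, p = q + 1 := ⟨p - 1, by omega⟩
    have e1 : (q + 1) ^ (4 - 1) - 1 = q * (q ^ 2 + 3 * q + 3) :=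
      Nat.sub_eq_of_eq_add (by ring)
    have e2 : 4 * ((q + 1) ^ 2 - 1) = q * (4 * q + 8) := by
      rw [show (q + 1) ^ 2 - 1 = q ^ 2 + 2 * q from Nat.sub_eq_of_eq_add (by ring)]; ring
    rw [e1, e2] at h2
    have h3 := Nat.dvd_of_mul_dvd_mul_left (by omega) h2
    have h4 := Nat.le_of_dvd (by omega) h3
    have h5 : q ≤ 2 := by nlinarith
    interval_cases q <;> omega
  · right
    have e1 : p ^ (5 - 1) - 1 = (p ^ 2 + 1) * (p ^ 2 - 1) := by
      obtain ⟨s, hs⟩ : ∃ s, p ^ 2 = s + 1 := ⟨p ^ 2 - 1, by omega⟩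
      rw [show p ^ (5 - 1) = (p ^ 2) ^ 2 by ring, hs]
      exact Nat.sub_eq_of_eq_add (by simp; ring)
    rw [e1] at h2
    have h3 := Nat.le_of_dvd (by omega) (Nat.dvd_of_mul_dvd_mul_right (by omega) h2)
    exact ⟨rfl, by nlinarith⟩
  · exfalso
    have h3 := Nat.le_of_dvd (Nat.mul_pos (by omega) (by omega)) h2
    obtain ⟨m, rfl⟩ : ∃ m, n = m + 3 := ⟨n - 3, by omega⟩
    have h4 : m + 4 ≤ 2 ^ m := by
      have : ∀ k, k + 7 ≤ 2 ^ (k + 3) := fun k => by
        induction k with
        | zero => norm_num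
        | succ k ih => rw [show k + 1 + 3 = (k + 3) + 1 by ring, pow_succ]; omega
      have := this (m - 3)
      rw [show m - 3 + 3 = m by omega] at this
      omega
    have h5 : 2 ^ m ≤ p ^ m := Nat.pow_le_pow_left hp m
    rw [show m + 3 - 1 = m + 2 by omega, pow_add] at h3
    obtain ⟨s, hs⟩ : ∃ s, p ^ 2 = s + 1 := ⟨p ^ 2 - 1, by omega⟩
    rw [hs, Nat.add_sub_cancel] at h3
    have h7 : (m + 4) * (s + 1) ≤ p ^ m * (s + 1) := Nat.mul_le_mul_right _ (h4.trans h5)
    have h8 : p ^ m * (s + 1) ≤ (m + 3) * s + 1 := by omega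
    nlinarith

section linear

variable {p : ℕ} [hp : Fact p.Prime] {V : Type*} [AddCommGroup V] [Module (ZMod p) V] [Finite V]
  {E : Type*} [Group E] [Finite E]

/-- Scalar multiplications as linear automorphisms. -/
noncomputable def scal (p : ℕ) [Fact p.Prime] (V : Type*) [AddCommGroup V] [Module (ZMod p) V] :
    (ZMod p)ˣ →* (V ≃ₗ[ZMod p] V) := DistribMulAction.toModuleAut (ZMod p) V

omit [Finite V] in
theorem scal_apply (c : (ZMod p)ˣ) (v : V) : scal p V c v = (c : ZMod p) • v := rfl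

/-- The linear group with the scalars adjoined. -/
noncomputable def ext (ρ : E →* (V ≃ₗ[ZMod p] V)) : E × (ZMod p)ˣ →* (V ≃ₗ[ZMod p] V) :=
  MonoidHom.noncommCoprod ρ (scal p V) fun g c => LinearEquiv.ext fun v => by
    change ρ g ((c : ZMod p) • v) = (c : ZMod p) • ρ g v
    rw [map_smul]

omit [Finite V] [Finite E] in
theorem ext_apply (ρ : E →* (V ≃ₗ[ZMod p] V)) (g : E) (c : (ZMod p)ˣ) (v : V) :
    ext ρ (g, c) v = ρ g ((c : ZMod p) • v) := rfl

omit [Finite E] in
theorem card_planes {n : ℕ} (hn : 2 ≤ n) (hV : Nat.card V = p ^ n) :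
    Nat.card {W : Submodule (ZMod p) V // finrank (ZMod p) W = 2} * ((p - 1) * (p ^ 2 - 1)) =
      (p ^ (n - 1) - 1) * (p ^ n - 1) := by
  have hf : finrank (ZMod p) V = n := by
    have := Module.natCard_eq_pow_finrank (K := ZMod p) (V := V)
    rw [hV, Nat.card_zmod] at this
    exact (Nat.pow_right_injective hp.out.two_le this).symm
  have := Cl.Der.card_subspaces_mul (F := ZMod p) (V := V) (m := 2) (by omega)
  rw [hf, ZMod.card, Cl.Der.qfac] at this
  simp only [Finset.prod_range_succ, Finset.range_zero, Finset.prod_empty, one_mul, zero_add,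
    pow_one, add_zero] at this
  rw [show n - 2 + 1 = n - 1 by omega, show n - 1 + 1 = n by omega] at this
  exact this

omit [Finite V] in
theorem planes_dvd {H : Type*} [Group H] [Finite H] (ρ : H →* (V ≃ₗ[ZMod p] V)) (Z : Subgroup H)
    (hZ : ∀ z ∈ Z, ∃ c : ZMod p, ∀ v, ρ z v = c • v)
    (U : Submodule (ZMod p) V) (hU : finrank (ZMod p) U = 2)
    (htr : ∀ W : Submodule (ZMod p) V, finrank (ZMod p) W = 2 →
      ∃ g, U.map (ρ g : V →ₗ[ZMod p] V) = W) :
    Nat.card {W : Submodule (ZMod p) V // finrank (ZMod p) W = 2} * Nat.card Z ∣ Nat.card H := by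
  have h1 := Cl.Der.card_subspace_eq_index (Frob.linRep ρ) (fun W => finrank (ZMod p) W = 2) U
    fun W => ⟨htr W, by
      rintro ⟨g, rfl⟩
      exact (LinearEquiv.finrank_map_eq (ρ g) U).trans hU⟩
  have h2 : Z ≤ Cl.Der.famStab (Frob.linRep ρ) fun _ : Unit => U := fun z hz _ => by
    have key : ∀ z ∈ Z, ∀ u ∈ U, ρ z u ∈ U := fun z hz u hu => by
      obtain ⟨c, hc⟩ := hZ z hz
      rw [hc]
      exact U.smul_mem c hu
    refine le_antisymm ?_ fun u hu => ⟨ρ z⁻¹ u, key _ (Z.inv_mem hz) u hu, by simp⟩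
    rintro _ ⟨u, hu, rfl⟩
    exact key z hz u hu
  rw [h1, ← (Cl.Der.famStab (Frob.linRep ρ) fun _ : Unit => U).index_mul_card]
  exact Nat.mul_dvd_mul_left _ (card_dvd_of_le h2)

theorem linear [Group.IsSolvable E] {n : ℕ} (hn : 3 ≤ n) (hV : Nat.card V = p ^ n)
    (ρ : E →* (V ≃ₗ[ZMod p] V)) (hE : ¬ p ∣ Nat.card E)
    (htr : ∀ U W : Submodule (ZMod p) V, finrank (ZMod p) U = finrank (ZMod p) W →
      ∃ g, U.map (ρ g : V →ₗ[ZMod p] V) = W) :
    (n = 3 ∨ (n = 5 ∧ p = 2)) ∧
      (∃ c, c * ((p - 1) * (p ^ 2 - 1)) = (p ^ (n - 1) - 1) * (p ^ n - 1) ∧ c ∣ Nat.card E) ∧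
      ∃ f : V ≃+ GaloisField p n, ∀ g : E, ∃ (a : (GaloisField p n)ˣ)
        (σ : GaloisField p n ≃+* GaloisField p n), ∀ v : V, f (ρ g v) = a * σ (f v) := by
  have hp2 := hp.out.two_le
  have hf : finrank (ZMod p) V = n := by
    have := Module.natCard_eq_pow_finrank (K := ZMod p) (V := V)
    rw [hV, Nat.card_zmod] at this
    exact (Nat.pow_right_injective hp.out.two_le this).symm
  have : Nontrivial V := Finite.one_lt_card_iff_nontrivial.1
    (hV ▸ Nat.one_lt_pow (by omega) hp2)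
  have : Finite (V ≃ₗ[ZMod p] V) := Finite.of_injective _ DFunLike.coe_injective
  set H := (ext ρ).range with hH
  have : Group.IsSolvable H := Group.isSolvable_of_surjective (ext ρ).rangeRestrict_surjective
  have hHp : ¬ p ∣ Nat.card H := fun h => by
    have h1 := h.trans (card_range_dvd (ext ρ))
    rw [Nat.card_prod, Nat.card_units, Nat.card_zmod] at h1
    rcases hp.out.prime.dvd_or_dvd h1 with h2 | h2
    · exact hE h2
    · have := Nat.le_of_dvd (by omega) h2
      omega
  have hmem : ∀ g : E, ρ g ∈ H := fun g => ⟨(g, 1), LinearEquiv.ext fun v => by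
    rw [ext_apply]; simp⟩
  have hmemc : ∀ c, scal p V c ∈ H := fun c => ⟨(1, c), LinearEquiv.ext fun v => by
    rw [ext_apply]; simp [scal_apply]⟩
  have htrans : ∀ v w : V, v ≠ 0 → w ≠ 0 → ∃ g : H, H.subtype g v = w := fun v w hv hw => by
    obtain ⟨g, hg⟩ := htr (Submodule.span (ZMod p) {v}) (Submodule.span (ZMod p) {w})
      (by rw [finrank_span_singleton hv, finrank_span_singleton hw])
    obtain ⟨u, hu, huw⟩ := hg.ge (Submodule.mem_span_singleton_self w)
    obtain ⟨c, rfl⟩ := Submodule.mem_span_singleton.1 hu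
    have hc : c ≠ 0 := by
      rintro rfl
      exact hw (by simpa using huw.symm)
    exact ⟨⟨ext ρ (g, Units.mk0 c hc), _, rfl⟩, huw⟩
  obtain ⟨U, hU⟩ : ∃ U : Submodule (ZMod p) V, finrank (ZMod p) U = 2 := by
    obtain ⟨b, hb⟩ := exists_linearIndependent_of_le_finrank (R := ZMod p) (M := V) (n := 2)
      (by omega)
    exact ⟨_, (finrank_span_eq_card hb).trans (Fintype.card_fin 2)⟩
  have hc := card_planes (V := V) (by omega) hV
  have hcE := planes_dvd ρ ⊥ (fun z hz => ⟨1, fun v => by rw [mem_bot.1 hz]; simp⟩) U hU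
    fun W hW => htr U W (hU.trans hW.symm)
  rw [card_bot, mul_one] at hcE
  have hcH := planes_dvd H.subtype ((scal p V).range.subgroupOf H)
    (by rintro z ⟨c, hc⟩; exact ⟨c, fun v => by rw [← scal_apply, hc]⟩) U hU
    fun W hW => let ⟨g, hg⟩ := htr U W (hU.trans hW.symm); ⟨⟨ρ g, hmem g⟩, hg⟩
  have hsi : Function.Injective (scal p V) := (injective_iff_map_eq_one _).2 fun c hc => by
    obtain ⟨v, hv⟩ := exists_ne (0 : V)
    have h1 : (c : ZMod p) • v = (1 : ZMod p) • v := by
      rw [← scal_apply, hc]; simp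
    exact Units.ext (smul_left_injective _ hv h1)
  rw [HT.card_subgroupOf_of_le (by rintro _ ⟨c, rfl⟩; exact hmemc c),
    ← Nat.card_congr (MonoidHom.ofInjective hsi).toEquiv, Nat.card_units, Nat.card_zmod] at hcH
  generalize Nat.card {W : Submodule (ZMod p) V // finrank (ZMod p) W = 2} = c at hc hcE hcH
  rcases Perm.huppert (subtype_injective H) htrans with ⟨A, _, _, hA⟩ | hA
  · obtain ⟨m, f, hm, hfm⟩ := hA.exists_semilinear
    obtain rfl : n = m := Nat.pow_right_injective hp2 (hV.symm.trans hm)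
    refine ⟨arith hp2 hn hc (hcH.trans ?_), ⟨c, hc, hcE⟩, f, fun g => hfm ⟨ρ g, hmem g⟩⟩
    have hF : Nat.card (GaloisField p n) = p ^ n := GaloisField.card p n (by omega)
    have hS := DG.card_semiaffine (F := GaloisField p n)
    rw [hF, Cl.Aut.card_ringAut hF, mul_assoc] at hS
    let ψ : H →* Equiv.Perm (GaloisField p n) :=
      (Equiv.permCongrHom f.toEquiv).toMonoidHom.comp (MulAction.toPermHom H V)
    have hψ : Function.Injective ψ :=
      (Equiv.permCongrHom _).injective.comp MulAction.toPerm_injective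
    have hr : ψ.range ≤ semiaffineGroup (GaloisField p n) := by
      rintro _ ⟨g, rfl⟩
      obtain ⟨a, σ, h⟩ := hfm g
      refine ⟨a, 0, σ, fun x => ?_⟩
      have := h (f.symm x)
      rw [f.apply_symm_apply] at this
      rw [add_zero, ← this]
      rfl
    have h1 := card_dvd_of_le hr
    rw [← Nat.card_congr (MonoidHom.ofInjective hψ).toEquiv, hS] at h1
    exact (Nat.Coprime.pow_right n ((Nat.Prime.coprime_iff_not_dvd hp.out).2 hHp).symm
      ).dvd_of_dvd_mul_left h1
  · exfalso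
    have h81 : p = 3 ∧ n = 4 := by
      rw [hV] at hA
      have key : ∀ q k : ℕ, q.Prime → p ^ n = q ^ k → p = q ∧ n = k := fun q k hq e => by
        have h1 : p = q := (Nat.prime_dvd_prime_iff_eq hp.out hq).1
          (hp.out.dvd_of_dvd_pow (e ▸ dvd_pow_self p (by omega)))
        subst h1
        exact ⟨rfl, Nat.pow_right_injective hp2 e⟩
      simp only [Set.mem_insert_iff, Set.mem_singleton_iff] at hA
      rcases hA with h | h | h | h | h | h
      · have := key 3 2 (by norm_num) h; omega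
      · have := key 5 2 (by norm_num) h; omega
      · have := key 7 2 (by norm_num) h; omega
      · have := key 11 2 (by norm_num) h; omega
      · have := key 23 2 (by norm_num) h; omega
      · exact key 3 4 (by norm_num) h
    obtain ⟨rfl, rfl⟩ := h81
    have h1 := H.card_subgroup_dvd_card
    rw [card_linEquiv hf, ZMod.card] at h1
    simp only [Fin.prod_univ_four] at h1
    norm_num at h1 hc hcH
    obtain ⟨k, hk⟩ : 65 ∣ Nat.card H := dvd_trans ⟨4, by omega⟩ hcH
    have hk2 : k ∣ 373248 := Nat.dvd_of_mul_dvd_mul_left (k := 65) (by norm_num) (by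
      rw [← hk]; exact h1)
    obtain ⟨L, hL⟩ := exists_isPiHall {r | r ∣ 65} H
    rw [isPiHall_iff_card_eq hk (Nat.Coprime.coprime_dvd_right hk2 (by norm_num))] at hL
    exact no65 (V := V) (H := L) hV hL

end linear

end Cfsg.Agent.FG.H94Dp
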