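import Mathlib
import Cfsg.Agent.GT.Conj
import Cfsg.Agent.GT.PiGroups
import Cfsg.Agent.GT.Cores
import Cfsg.Agent.GT.PLength
import Cfsg.Agent.GT.PSolvable
import Cfsg.Agent.GT.HallTools
import Cfsg.Agent.GT.SchurZassenhaus
import Cfsg.Agent.GT.CoprimeAct
import Cfsg.Agent.GT.CoprimeSylow
import Cfsg.Agent.GT.CoprimeFixed
import Cfsg.Agent.GT.FrobeniusComplement
import Cfsg.Agent.S4116

/-!
# TI subgroups that are Hall in their normalizer

`H` is a TI subgroup (`IsTISubset`) of order prime to its index in `N_G(H)`.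
-/

set_option autoImplicit false

namespace Cfsg.Agent.FG.TIH
open Subgroup Cfsg.Agent.GT Cfsg.Agent.GT.CopAct Cfsg.Agent.GT.Frob
open scoped Pointwise

variable {G : Type*} [Group G] {H : Subgroup G}

theorem mem_normalizer_of_conj_mem (hTI : IsTISubset (H : Set G)) {g x : G} (hx : x ∈ H)
    (h1 : x ≠ 1) (h : g * x * g⁻¹ ∈ H) : g ∈ normalizer (H : Set G) := by
  by_contra hg
  exact h1 (hTI g hg x hx h)

theorem normalizer_le (hTI : IsTISubset (H : Set G)) {L : Subgroup G} (hL : L ≤ H)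
    (hL1 : L ≠ ⊥) : normalizer (L : Set G) ≤ normalizer (H : Set G) := by
  obtain ⟨⟨x, hx⟩, h1⟩ := Subgroup.ne_bot_iff_exists_ne_one.1 hL1
  intro g hg
  exact mem_normalizer_of_conj_mem hTI (hL hx) (fun h => h1 (Subtype.ext h))
    (hL (conj_mem_of_mem_normalizer hg hx))

theorem centralizer_le (hTI : IsTISubset (H : Set G)) {x : G} (hx : x ∈ H) (h1 : x ≠ 1) :
    centralizer {x} ≤ normalizer (H : Set G) := by
  intro g hg
  refine mem_normalizer_of_conj_mem hTI hx h1 ?_
  rw [mem_centralizer_singleton_iff] at hg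
  rw [hg, mul_inv_cancel_right]; exact hx

theorem ti_subgroupOf (hTI : IsTISubset (H : Set G)) (L : Subgroup G) :
    IsTISubset ((H.subgroupOf L : Subgroup L) : Set L) := by
  intro g hg x hx h
  refine Subtype.ext (hTI g (fun hn => hg ?_) x hx h)
  intro y
  exact hn y

variable [Finite G]

/-- A TI subgroup that is Hall in its normalizer is Hall. -/
theorem coprime_index (hTI : IsTISubset (H : Set G))
    (hHall : (Nat.card H).Coprime (H.subgroupOf (normalizer (H : Set G))).index) :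
    (Nat.card H).Coprime H.index := by
  rw [Nat.coprime_iff_gcd_eq_one]
  by_contra h
  obtain ⟨p, hp, hd⟩ := Nat.exists_prime_and_dvd h
  have := Fact.mk hp
  have h1 : p ∣ Nat.card H := hd.trans (Nat.gcd_dvd_left _ _)
  have h2 : p ∣ H.index := hd.trans (Nat.gcd_dvd_right _ _)
  obtain ⟨P, hPH, hP, hPi⟩ := HT.exists_sylow_le p H
  have hP1 : P ≠ ⊥ := by
    rintro rfl
    rw [relIndex_bot_left] at hPi
    exact hPi h1
  have hN := normalizer_le hTI hPH hP1
  have h3 : ¬ p ∣ P.relIndex (normalizer (H : Set G)) := by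
    rw [← relIndex_mul_relIndex P H _ hPH le_normalizer, hp.dvd_mul, not_or]
    exact ⟨hPi, fun h => hp.one_lt.ne' (Nat.eq_one_of_dvd_coprimes hHall h1 h)⟩
  obtain ⟨S, hS⟩ := hP.exists_le_sylow
  have h4 : P = S := by
    by_contra h4
    have h5 := lt_inf_normalizer_of_isNilpotent S.isPGroup'.isNilpotent (lt_of_le_of_ne hS h4)
    set D := (S : Subgroup G) ⊓ normalizer (P : Set G)
    obtain ⟨k, hk⟩ := (IsPGroup.to_le S.isPGroup' (inf_le_left : D ≤ S)).index (P.subgroupOf D)
    have hk0 : k ≠ 0 := by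
      rintro rfl
      rw [pow_zero, index_eq_one, subgroupOf_eq_top] at hk
      exact h5.not_ge hk
    apply h3
    rw [← relIndex_mul_relIndex P D _ h5.le (inf_le_right.trans hN)]
    exact Dvd.dvd.mul_right (by rw [relIndex, hk]; exact dvd_pow_self p hk0) _
  exact S.not_dvd_index (h2.trans (index_dvd_of_le (h4 ▸ hPH)))

theorem isPiHall (hTI : IsTISubset (H : Set G))
    (hHall : (Nat.card H).Coprime (H.subgroupOf (normalizer (H : Set G))).index) :
    IsPiHall {p | p ∣ Nat.card H} H :=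
  isPiHall_of_coprime (coprime_index hTI hHall)

/-- Sylow-type covering theorem inside an overgroup `L`. -/
theorem exists_conj_le (hTI : IsTISubset (H : Set G)) {π : Set ℕ} {L K : Subgroup G}
    (hL : IsPiHallOf π (H ⊓ L) L) (hK : K ≤ L) (hKπ : IsPiNum π (Nat.card K)) :
    ∃ g ∈ L, K ≤ (H ⊓ L).map (MulAut.conj g).toMonoidHom := by
  have h1 := hL.subgroupOf
  rw [inf_subgroupOf_right] at h1
  obtain ⟨g, hg⟩ := S4116.result (H.subgroupOf L) h1.coprime (ti_subgroupOf hTI L)
    (K.subgroupOf L) (fun q _ hd => hd.trans (h1.card_dvd (hKπ.card_subgroupOf L)))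
  refine ⟨g, g.2, fun k hk => ?_⟩
  have := mem_map_conj.1 (hg (show (⟨k, hK hk⟩ : L) ∈ K.subgroupOf L from hk))
  exact mem_map_conj.2 ⟨this, L.mul_mem (L.mul_mem (L.inv_mem g.2) (hK hk)) g.2⟩

/-- Frattini argument. -/
theorem sup_normalizer (hTI : IsTISubset (H : Set G)) {π : Set ℕ} (hH : IsPiHall π H)
    (L : Subgroup G) [L.Normal] (h : H ⊓ L ≠ ⊥) : L ⊔ normalizer (H : Set G) = ⊤ := by
  refine eq_top_iff.2 fun x _ => ?_
  have h1 := hH.inf_normal L
  obtain ⟨g, hg, hle⟩ := exists_conj_le hTI h1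
    (K := (H ⊓ L).map (MulAut.conj x).toMonoidHom) (map_conj_le_of_normal inf_le_right x)
    (by rw [card_map_conj]; exact h1.card)
  have h2 : g⁻¹ * x ∈ normalizer ((H ⊓ L : Subgroup G) : Set G) := by
    refine mem_normalizer_iff_of_finite.2 fun y hy => ?_
    have := mem_map_conj.1 (hle (mem_map_conj.2 (show x⁻¹ * (x * y * x⁻¹) * x ∈ H ⊓ L by
      simpa [mul_assoc] using hy)))
    simpa [mul_assoc] using this
  have h3 := normalizer_le hTI inf_le_left h h2
  have : x = g * (g⁻¹ * x) := by group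
  rw [this]
  exact mul_mem (mem_sup_left hg) (mem_sup_right h3)

/-- `H`-invariant Sylow subgroups. -/
theorem exists_invariant_pgroup (hTI : IsTISubset (H : Set G)) {M : Subgroup G}
    (hHM : H ≤ normalizer (M : Set G)) (hc : (Nat.card H).Coprime (Nat.card M)) (p : ℕ)
    [Fact p.Prime] :
    ∃ P ≤ M, IsPGroup p P ∧ ¬ p ∣ P.relIndex M ∧ H ≤ normalizer (P : Set G) := by
  obtain ⟨P, hPM, hP, hPi⟩ := HT.exists_sylow_le p M
  set L := M ⊔ H with hL
  have hLM : L ≤ normalizer (M : Set G) := sup_le le_normalizer hHM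
  set S := L ⊓ normalizer (P : Set G) with hS
  have h1 : M ⊔ S = L := by
    refine le_antisymm (sup_le le_sup_left inf_le_left) fun x hx => ?_
    obtain ⟨m, hm, hle⟩ := HT.exists_conj_le_of_isPGroup (L := M) (P := MulAut.conj x • P)
      (HT.conj_smul_le_of_mem_normalizer hPM (hLM hx)) (hP.map _) hP hPi
    have h2 : m * x ∈ normalizer (P : Set G) := by
      refine mem_normalizer_iff_of_finite.2 fun y hy => hle ?_
      rw [CopAct.mem_conj_smul_iff, CopAct.mem_conj_smul_iff]
      simpa [mul_assoc] using hy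
    have : x = m⁻¹ * (m * x) := by group
    rw [this]
    exact mul_mem (mem_sup_left (inv_mem hm))
      (mem_sup_right ⟨mul_mem (mem_sup_left hm) hx, h2⟩)
  have hSM : S ≤ normalizer (M : Set G) := inf_le_left.trans hLM
  have h2 : (M ⊓ S).relIndex S = Nat.card H := by
    rw [inf_relIndex_right, ← HT.relIndex_sup_of_le_normalizer hSM, h1, hL,
      HT.relIndex_sup_of_le_normalizer hHM, ← inf_relIndex_right, inf_comm,
      CopAct.inf_eq_bot_of_coprime hc, relIndex_bot_left]
  obtain ⟨K, hKS, -, -, hK⟩ := exists_complement_of_coprime_relIndex (N := M ⊓ S) (L := S)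
    inf_le_right (CopAct.le_normalizer_inf hSM le_normalizer)
    (by rw [h2]; exact (hc.symm.coprime_dvd_left (card_dvd_of_le inf_le_left)))
  rw [h2] at hK
  have h3 : H ⊓ L = H := inf_eq_left.2 le_sup_right
  have h4 : IsPiHallOf {q | q ∣ Nat.card H} (H ⊓ L) L := by
    rw [h3]
    refine isPiHallOf_iff.2 ⟨le_sup_right, isPiNum_setOf_dvd _, isPiNum_compl_setOf_dvd_iff.2 ?_⟩
    exact hc.symm.coprime_dvd_left (HT.relIndex_sup_dvd_card hHM)
  obtain ⟨g, hg, hle⟩ := exists_conj_le hTI h4 (hKS.trans inf_le_left)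
    (by rw [hK]; exact isPiNum_setOf_dvd _)
  rw [h3] at hle
  have h5 := eq_of_le_of_card_eq hle (by rw [card_map_conj, hK])
  refine ⟨P.map (MulAut.conj g⁻¹).toMonoidHom, map_conj_le_of_mem_normalizer hPM (hLM (inv_mem hg)),
    hP.map _, ?_, fun h hh => ?_⟩
  · rw [← map_conj_eq_self_iff.2 (hLM (inv_mem hg)), relIndex_map_conj]; exact hPi
  · rw [normalizer_map_conj, mem_map_conj]
    refine (hKS ?_).2
    rw [h5, mem_map_conj]
    simpa [mul_assoc] using hh

theorem hasFpfAction_of_hom {A M : Type*} [Group A] [Group M] [Finite A] [Finite M] [Nontrivial M]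
    (φ : A →* MulAut M) (h : ∀ a : A, a ≠ 1 → ∀ v : M, φ a v = v → v = 1) : HasFpfAction A := by
  refine HasFpfAction.of_mulEquiv (hasFpfAction_of_fpf (A := sdR φ ⊤) (K := sdL φ ⊤) ?_
    (sdR_le_normalizer_top φ ⊤) ?_) ((sdREquiv φ ⊤).symm.trans topEquiv)
  · intro h1
    have := card_sdL_top φ
    rw [h1, card_bot] at this
    exact Finite.one_lt_card.ne this
  · rintro _ ⟨a, -, rfl⟩ ha
    refine eq_bot_iff.2 ?_
    rintro _ ⟨⟨v, -, rfl⟩, hv⟩
    rw [h a (fun h => ha (by rw [h, map_one])) v ((inl_mem_centralizer_inr φ).1 hv), map_one]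
    exact one_mem _

/-- A TI subgroup acting coprimely and non-trivially acts fixed-point-freely on a section. -/
theorem hasFpfAction (hTI : IsTISubset (H : Set G)) {M : Subgroup G}
    (hHM : H ≤ normalizer (M : Set G)) (hc : (Nat.card H).Coprime (Nat.card M))
    (hM : ¬ M ≤ normalizer (H : Set G)) : HasFpfAction H := by
  set N := normalizer (H : Set G) with hN
  have h0 : N.relIndex M ≠ 1 := fun h => hM (relIndex_eq_one.1 h)
  obtain ⟨p, hp, hd⟩ := Nat.exists_prime_and_dvd h0
  have := Fact.mk hp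
  obtain ⟨P, hPM, hP, hPi, hHP⟩ := exists_invariant_pgroup hTI hHM hc p
  have h1 : P ⊓ N < P := by
    refine lt_of_le_of_ne inf_le_left fun h => hPi (hd.trans ?_)
    exact relIndex_dvd_of_le_left _ (inf_eq_left.1 h)
  set E := P ⊓ N with hE
  have h2 := lt_inf_normalizer_of_isNilpotent hP.isNilpotent h1
  set D := P ⊓ normalizer (E : Set G) with hD
  have hHE : H ≤ centralizer (E : Set G) := by
    refine le_centralizer_iff.1 (le_trans ?_ (inf_le_right (a := M)))
    rw [← inf_normalizer_eq_inf_centralizer hHM (CopAct.inf_eq_bot_of_coprime hc)]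
    exact inf_le_inf_right _ hPM
  have hHE' := CopAct.le_normalizer_of_le_centralizer hHE
  have hHD : H ≤ normalizer (D : Set G) :=
    CopAct.le_normalizer_inf hHP (CopAct.le_normalizer_normalizer hHE')
  have hn : (E.subgroupOf D).Normal := normal_subgroupOf_of_le_normalizer inf_le_right
  have hi := actInv_conjHom_subgroupOf hHD hHE'
  have : Nontrivial (D ⧸ E.subgroupOf D) :=
    QuotientGroup.nontrivial_iff.2 fun h => h2.not_ge (subgroupOf_eq_top.1 h)
  refine hasFpfAction_of_hom (quotHom _ _ hi) fun a ha v hv => ?_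
  obtain ⟨d, rfl⟩ := QuotientGroup.mk_surjective v
  rw [quotHom_mk, QuotientGroup.eq, mem_subgroupOf] at hv
  simp only [coe_mul, coe_inv, coe_conjHom_apply] at hv
  set e := ((a : G) * d * (a : G)⁻¹)⁻¹ * d with he
  have h3 : ∀ n : ℕ, (a : G) ^ n * d * ((a : G) ^ n)⁻¹ = d * e⁻¹ ^ n := by
    intro n
    induction n with
    | zero => simp
    | succ n ih =>
      have h4 : (a : G) * e⁻¹ ^ n * (a : G)⁻¹ = e⁻¹ ^ n := by
        rw [← hHE a.2 _ (E.pow_mem (E.inv_mem hv) n), mul_inv_cancel_right]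
      calc (a : G) ^ (n + 1) * d * ((a : G) ^ (n + 1))⁻¹
          = a * ((a : G) ^ n * d * ((a : G) ^ n)⁻¹) * (a : G)⁻¹ := by rw [pow_succ']; group
        _ = (a * d * (a : G)⁻¹) * (a * e⁻¹ ^ n * (a : G)⁻¹) := by rw [ih]; group
        _ = d * e⁻¹ ^ (n + 1) := by
          rw [h4, pow_succ', ← mul_assoc]; congr 1; rw [he]; group
  have h5 : e⁻¹ = 1 := by
    have h6 := h3 (Nat.card H)
    rw [← coe_pow, pow_card_eq_one', OneMemClass.coe_one] at h6
    have h7 : e⁻¹ ^ Nat.card H = 1 := by simpa using h6.symm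
    have h8 : e⁻¹ ∈ M := hPM (E.inv_mem hv).1
    exact orderOf_eq_one_iff.1 (Nat.eq_one_of_dvd_coprimes hc (orderOf_dvd_of_pow_eq_one h7)
      (M.orderOf_dvd_natCard h8))
  have h6 := h3 1
  rw [h5, one_pow, mul_one, pow_one] at h6
  refine (QuotientGroup.eq_one_iff _).2 (mem_subgroupOf.2 ⟨d.2.1, ?_⟩)
  refine centralizer_le hTI a.2 (fun h => ha (Subtype.ext h)) ?_
  rw [mem_centralizer_singleton_iff]
  calc (d : G) * a = (a * d * (a : G)⁻¹) * a := by rw [h6]
    _ = a * d := by group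

/-- The `π`-separable case: `G = O_{π'}(G) N(H)`. -/
theorem piCore_sup_normalizer (hTI : IsTISubset (H : Set G)) {π : Set ℕ} (hH : IsPiHall π H)
    (hsep : IsPiSeparable π G) : piCore πᶜ G ⊔ normalizer (H : Set G) = ⊤ := by
  by_cases h0 : H = ⊥
  · rw [h0, normalizer_eq_top, sup_top_eq]
  set O := piCore πᶜ G with hO
  have hOH : H ⊓ O = ⊥ := hH.card.inf_eq_bot (isPiNum_piCore _)
  have : Nontrivial (G ⧸ O) := QuotientGroup.nontrivial_iff.2 fun h => by
    rw [h, inf_top_eq] at hOH; exact h0 hOH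
  have h1 : piCore π (G ⧸ O) ≠ ⊥ :=
    (hsep.quotient O).piCore_ne_bot_or.resolve_right fun h => h piCore_quotient_piCore
  set L := piCoreMod π O with hL
  have h2 : (H ⊓ L) ⊔ O = L := by
    have h3 := (hH.inf_normal L).relIndex
    have h4 := isPiNum_relIndex_piCoreMod π O
    rw [sup_comm]
    exact HT.sup_eq_of_coprime_relIndex (le_piCoreMod_self π O) inf_le_right (h4.coprime h3)
  have h3 : H ⊓ L ≠ ⊥ := by
    intro h
    rw [h, bot_sup_eq] at h2
    apply h1
    rw [← map_piCoreMod, ← hL, ← h2, map_mk'_eq_bot_iff]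
  have h4 := sup_normalizer hTI hH L h3
  rw [eq_top_iff, ← h4, ← h2]
  exact sup_le (sup_le (le_sup_of_le_right (inf_le_left.trans le_normalizer)) le_sup_left)
    le_sup_right

end Cfsg.Agent.FG.TIH
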