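import Mathlib
import Cfsg.Agent.Ch.Table

/-!
# Sums of unit fractions and Landau's theorem
-/

set_option autoImplicit false

universe u

namespace Cfsg.Agent.FG.Landau

/-- Sums of at most `t` unit fractions below `r` stay away from `r`. -/
theorem gap_multiset (t : ℕ) : ∀ r : ℝ, ∃ ε : ℝ, 0 < ε ∧ ∀ m : Multiset ℕ, m.card ≤ t →
    (m.map fun n : ℕ => (n : ℝ)⁻¹).sum < r → (m.map fun n : ℕ => (n : ℝ)⁻¹).sum ≤ r - ε := by
  induction t with
  | zero =>
    intro r
    by_cases hr : 0 < r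
    · refine ⟨r, hr, fun m hm _ => ?_⟩
      rw [Multiset.card_eq_zero.1 (Nat.le_zero.1 hm)]; simp
    · refine ⟨1, one_pos, fun m hm h => ?_⟩
      rw [Multiset.card_eq_zero.1 (Nat.le_zero.1 hm)] at h
      exact absurd (by simpa using h) hr
  | succ t ih =>
    intro r
    by_cases hr : 0 < r
    swap
    · refine ⟨1, one_pos, fun m _ h => absurd (lt_of_le_of_lt ?_ h) hr⟩
      refine Multiset.sum_nonneg fun x hx => ?_
      obtain ⟨n, -, rfl⟩ := Multiset.mem_map.1 hx
      positivity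
    choose e he0 he using ih
    obtain ⟨N, hN⟩ := exists_nat_gt (2 * (t + 1) / r)
    have hne : (Finset.range (N + 1)).Nonempty := ⟨0, by simp⟩
    refine ⟨min (r / 2) ((Finset.range (N + 1)).inf' hne fun n => e (r - (n : ℝ)⁻¹)),
      lt_min (half_pos hr) ((Finset.lt_inf'_iff _).2 fun n _ => he0 _), fun m hm h => ?_⟩
    by_cases hs : (m.map fun n : ℕ => (n : ℝ)⁻¹).sum ≤ r / 2
    · have := min_le_left (r / 2) ((Finset.range (N + 1)).inf' hne fun n => e (r - (n : ℝ)⁻¹))
      linarith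
    have hex : ∃ n ∈ m, r / (2 * (t + 1)) < (n : ℝ)⁻¹ := by
      by_contra hcon
      push Not at hcon
      apply hs
      have h1 := Multiset.sum_le_card_nsmul (m.map fun n : ℕ => (n : ℝ)⁻¹) (r / (2 * (t + 1)))
        (fun x hx => by obtain ⟨n, hn, rfl⟩ := Multiset.mem_map.1 hx; exact hcon n hn)
      refine h1.trans ?_
      rw [Multiset.card_map, nsmul_eq_mul]
      have h2 : (m.card : ℝ) ≤ t + 1 := by exact_mod_cast hm
      calc (m.card : ℝ) * (r / (2 * (t + 1))) ≤ (t + 1) * (r / (2 * (t + 1))) := by gcongr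
        _ = r / 2 := by field_simp
    obtain ⟨n, hn, hlt⟩ := hex
    have hn0 : (0 : ℝ) < n := by
      have : (0 : ℝ) < (n : ℝ)⁻¹ := lt_trans (by positivity) hlt
      exact inv_pos.1 this
    have hnN : n ∈ Finset.range (N + 1) := by
      rw [Finset.mem_range, Nat.lt_succ_iff]
      have h1 : (n : ℝ) < 2 * (t + 1) / r := by
        rw [lt_div_iff₀ hr]
        rw [div_lt_iff₀ (by positivity), inv_mul_eq_div, lt_div_iff₀ hn0] at hlt
        linarith
      exact_mod_cast (h1.trans hN).le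
    obtain ⟨m', rfl⟩ := Multiset.exists_cons_of_mem hn
    rw [Multiset.map_cons, Multiset.sum_cons] at h ⊢
    have h1 := he (r - (n : ℝ)⁻¹) m' (by simpa using hm) (by linarith)
    have h2 := (min_le_right (r / 2) _).trans
      (Finset.inf'_le (fun n : ℕ => e (r - (n : ℝ)⁻¹)) hnN)
    linarith

/-- `Finset` version of `gap_multiset`. -/
theorem gap (t : ℕ) (r : ℝ) : ∃ ε : ℝ, 0 < ε ∧ ∀ (ι : Type u) (s : Finset ι) (n : ι → ℕ),
    s.card ≤ t → ∑ i ∈ s, (n i : ℝ)⁻¹ < r → ∑ i ∈ s, (n i : ℝ)⁻¹ ≤ r - ε := by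
  obtain ⟨ε, h0, h⟩ := gap_multiset t r
  refine ⟨ε, h0, fun ι s n hs hlt => ?_⟩
  have := h (s.val.map n) (by simpa using hs)
  rw [Multiset.map_map] at this
  exact this hlt

/-- The class equation in the form `∑ 1 / |C(x)| = 1`. -/
theorem sum_inv_card_centralizer (G : Type u) [Group G] [Finite G] [Fintype (ConjClasses G)] :
    ∑ c : ConjClasses G, (Nat.card (Subgroup.centralizer ({c.out} : Set G)) : ℝ)⁻¹ = 1 := by
  classical
  have := Fintype.ofFinite G
  have h0 : (Nat.card G : ℝ) ≠ 0 := by exact_mod_cast Nat.card_pos.ne'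
  apply mul_left_cancel₀ h0
  rw [mul_one, Finset.mul_sum]
  have h1 := sum_conjClasses_card_eq_card G
  rw [Nat.card_eq_fintype_card (α := G), ← h1]
  push_cast
  refine Finset.sum_congr rfl fun c _ => ?_
  have h2 := Ch.card_isConj_mul_card_centralizer (Quotient.out c : G)
  have h3 : (Nat.card (Subgroup.centralizer ({(Quotient.out c : G)} : Set G)) : ℝ) ≠ 0 := by
    exact_mod_cast Nat.card_pos.ne'
  have h4 : c.carrier.toFinset.card = Nat.card {x : G // IsConj (Quotient.out c : G) x} := by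
    rw [Set.toFinset_card, ← Nat.card_eq_fintype_card]
    refine Nat.card_congr (Equiv.subtypeEquivRight fun x => ?_)
    rw [ConjClasses.mem_carrier_iff_mk_eq, ← ConjClasses.mk_eq_mk_iff_isConj, eq_comm]
    have : ConjClasses.mk (Quotient.out c : G) = c := Quotient.out_eq c
    rw [this]
  rw [h4, ← Nat.cast_sum, h1, ← Nat.card_eq_fintype_card, ← h2]
  push_cast
  field_simp

/-- Landau: the order of a finite group is bounded in terms of its class number. -/
theorem landau (k : ℕ) : ∃ N : ℕ, ∀ (G : Type u) [Group G] [Finite G],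
    Nat.card (ConjClasses G) ≤ k → Nat.card G ≤ N := by
  classical
  obtain ⟨ε, h0, h⟩ := gap.{u} k 1
  obtain ⟨N, hN⟩ := exists_nat_ge ε⁻¹
  refine ⟨N, fun G _ _ hk => ?_⟩
  have := Fintype.ofFinite (ConjClasses G)
  have hsum := sum_inv_card_centralizer G
  rw [← Finset.add_sum_erase _ _ (Finset.mem_univ (ConjClasses.mk (1 : G)))] at hsum
  have h1 : (Quotient.out (ConjClasses.mk (1 : G)) : G) = 1 := by
    have : IsConj (Quotient.out (ConjClasses.mk (1 : G)) : G) 1 :=
      ConjClasses.mk_eq_mk_iff_isConj.1 (Quotient.out_eq _)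
    exact isConj_one_left.1 this
  have h2 : Nat.card (Subgroup.centralizer ({(Quotient.out (ConjClasses.mk (1 : G)) : G)} : Set G))
      = Nat.card G := by
    rw [h1, Subgroup.centralizer_eq_top_iff_subset.2 (by simp), Subgroup.card_top]
  rw [h2] at hsum
  have hpos : (0 : ℝ) < Nat.card G := by exact_mod_cast Nat.card_pos
  have h3 := h (ConjClasses G) (Finset.univ.erase (ConjClasses.mk (1 : G)))
    (fun c => Nat.card (Subgroup.centralizer ({(Quotient.out c : G)} : Set G)))
    ((Finset.card_le_univ _).trans (by rwa [← Nat.card_eq_fintype_card]))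
    (by have := inv_pos.2 hpos; linarith)
  have h4 : ε ≤ (Nat.card G : ℝ)⁻¹ := by linarith
  have h5 : (Nat.card G : ℝ) ≤ ε⁻¹ := by
    rw [le_inv_comm₀ hpos h0]; exact h4
  exact_mod_cast h5.trans hN

end Cfsg.Agent.FG.Landau
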