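import Mathlib
import Cfsg.Agent.FG.ClassCount
import Cfsg.Agent.FG.Landau

/-! Class numbers: average class size bounds (`Gam`), class number bounds for all subgroups
(`KB`), central extensions, classes inside a normal subgroup, groups with at most four classes. -/

set_option autoImplicit false

namespace Cfsg.Agent.FG.HK

open Subgroup

/-- the class number -/
noncomputable abbrev kk (G : Type*) [Group G] : ℕ := Nat.card (ConjClasses G)

/-- the average class size is at most `c` -/
def Gam (G : Type*) [Group G] (c : ℕ) : Prop := Nat.card G ≤ c * kk G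

/-- all subgroups have class number at most `c` -/
def KB (G : Type*) [Group G] (c : ℕ) : Prop := ∀ H : Subgroup G, kk H ≤ c

variable {G : Type*} [Group G]

theorem Gam.mono {c c' : ℕ} (h : Gam G c) (hc : c ≤ c') : Gam G c' :=
  h.trans (Nat.mul_le_mul_right _ hc)

theorem Gam.congr {H : Type*} [Group H] {c : ℕ} (h : Gam G c) (e : G ≃* H) : Gam H c := by
  unfold Gam kk at *
  rwa [← Nat.card_congr e.toEquiv, ← card_conjClasses_congr e]

theorem Gam.sub [Finite G] {c : ℕ} (h : Gam G c) (H : Subgroup G) : Gam H c := by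
  have h1 := card_conjClasses_le_index_mul H
  have h2 := H.card_mul_index
  have h3 : 0 < H.index := Nat.pos_of_ne_zero index_ne_zero_of_finite
  refine Nat.le_of_mul_le_mul_right ?_ h3
  unfold Gam kk at *
  calc Nat.card H * H.index = Nat.card G := h2
    _ ≤ c * (H.index * Nat.card (ConjClasses H)) := h.trans (Nat.mul_le_mul_left _ h1)
    _ = _ := by ring

theorem Gam.of_inj [Finite G] {H : Type*} [Group H] {c : ℕ} (h : Gam G c) (f : H →* G)
    (hf : Function.Injective f) : Gam H c :=
  (h.sub f.range).congr (MonoidHom.ofInjective hf).symm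

theorem Gam.ext [Finite G] {c : ℕ} (H : Subgroup G) (h : Gam H c) :
    Gam G (c * H.index ^ 2) := by
  have h1 := card_conjClasses_subgroup_le H
  have h2 := H.card_mul_index
  unfold Gam kk at *
  calc Nat.card G = Nat.card H * H.index := h2.symm
    _ ≤ c * (H.index * Nat.card (ConjClasses G)) * H.index :=
      Nat.mul_le_mul_right _ (h.trans (Nat.mul_le_mul_left _ h1))
    _ = _ := by ring

theorem kk_pi {ι : Type*} [Fintype ι] (Q : Type*) [Group Q] [Finite Q] :
    kk Q ^ Fintype.card ι ≤ kk (ι → Q) := by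
  have h : Nat.card (ι → ConjClasses Q) ≤ kk (ι → Q) := by
    refine Nat.card_le_card_of_surjective
      (fun c i => ConjClasses.map (Pi.evalMonoidHom (fun _ : ι => Q) i) c) fun c => ?_
    choose x hx using fun i => ConjClasses.mk_surjective (c i)
    exact ⟨ConjClasses.mk x, funext fun i => hx i⟩
  rwa [Nat.card_fun, Nat.card_eq_fintype_card (α := ι)] at h

theorem kk_prod (A B : Type*) [Group A] [Group B] [Finite A] [Finite B] :
    kk A * kk B ≤ kk (A × B) := by
  rw [← Nat.card_prod]
  refine Nat.card_le_card_of_surjective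
    (fun c => (ConjClasses.map (MonoidHom.fst A B) c, ConjClasses.map (MonoidHom.snd A B) c))
    fun c => ?_
  obtain ⟨x, hx⟩ := ConjClasses.mk_surjective c.1
  obtain ⟨y, hy⟩ := ConjClasses.mk_surjective c.2
  exact ⟨ConjClasses.mk (x, y), Prod.ext hx hy⟩

theorem Gam.pi {ι : Type*} [Fintype ι] {Q : Type*} [Group Q] [Finite Q] {c : ℕ} (h : Gam Q c) :
    Gam (ι → Q) (c ^ Fintype.card ι) := by
  unfold Gam at *
  rw [Nat.card_fun, Nat.card_eq_fintype_card (α := ι)]
  refine (Nat.pow_le_pow_left h _).trans ?_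
  rw [mul_pow]
  exact Nat.mul_le_mul_left _ (kk_pi Q)

theorem Gam.prod {A B : Type*} [Group A] [Group B] [Finite A] [Finite B] {a b : ℕ} (h : Gam A a)
    (h' : Gam B b) : Gam (A × B) (a * b) := by
  unfold Gam at *
  rw [Nat.card_prod]
  calc _ ≤ a * kk A * (b * kk B) := Nat.mul_le_mul h h'
    _ = a * b * (kk A * kk B) := by ring
    _ ≤ _ := Nat.mul_le_mul_left _ (kk_prod A B)

theorem gam_of_comm [Finite G] (h : ∀ a b : G, a * b = b * a) : Gam G 1 := by
  unfold Gam
  rw [one_mul]
  refine Nat.card_le_card_of_injective ConjClasses.mk fun a b e => ?_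
  obtain ⟨c, hc⟩ := isConj_iff.mp (ConjClasses.mk_eq_mk_iff_isConj.mp e)
  rw [← hc, h c a, mul_inv_cancel_right]

theorem KB.mono {c c' : ℕ} (h : KB G c) (hc : c ≤ c') : KB G c' := fun H => (h H).trans hc

theorem KB.top {c : ℕ} (h : KB G c) : kk G ≤ c :=
  (card_conjClasses_congr topEquiv).symm.trans_le (h ⊤)

theorem kb_card [Finite G] : KB G (Nat.card G) := fun H =>
  card_conjClasses_le_card.trans H.card_le_card_group

theorem KB.of_inj {H : Type*} [Group H] {c : ℕ} (h : KB G c) (f : H →* G)
    (hf : Function.Injective f) : KB H c := fun X =>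
  (card_conjClasses_congr (X.equivMapOfInjective f hf)).trans_le (h _)

theorem KB.of_surj [Finite G] {H : Type*} [Group H] {c : ℕ} (h : KB G c) (f : G →* H)
    (hf : Function.Surjective f) : KB H c := fun X => by
  refine le_trans (card_conjClasses_le_of_surjective (f.subgroupComap X) ?_) (h _)
  rintro ⟨y, hy⟩
  obtain ⟨x, rfl⟩ := hf y
  exact ⟨⟨x, hy⟩, rfl⟩

theorem KB.ext [Finite G] {H : Type*} [Group H] {a b : ℕ} (f : G →* H) (h : KB f.ker a)
    (h' : KB H b) : KB G (a * b) := fun X => by
  refine (card_conjClasses_le_ker_mul_range (f.comp X.subtype)).trans (Nat.mul_le_mul ?_ (h' _))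
  let j : (f.comp X.subtype).ker →* f.ker :=
    (X.subtype.comp (f.comp X.subtype).ker.subtype).codRestrict _ fun x => x.2
  exact (h.of_inj j fun x y e => Subtype.ext (Subtype.ext (Subtype.mk.inj e))).top

theorem KB.prod {A B : Type*} [Group A] [Group B] [Finite A] [Finite B] {a b : ℕ} (h : KB A a)
    (h' : KB B b) : KB (A × B) (a * b) :=
  KB.ext (MonoidHom.snd A B) (h.of_inj ((MonoidHom.fst A B).comp (Subgroup.subtype _)) fun x y e =>
    Subtype.ext (Prod.ext e ((show x.1.2 = 1 from x.2).trans (show y.1.2 = 1 from y.2).symm))) h'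

theorem KB.pi_fin {Q : Type*} [Group Q] [Finite Q] {c : ℕ} (h : KB Q c) (n : ℕ) :
    KB (Fin n → Q) (c ^ n) := by
  induction n with
  | zero => exact kb_card.mono (by simp)
  | succ n ih =>
    let j : (Fin (n + 1) → Q) →* (Fin n → Q) × Q :=
      { toFun := fun x => (fun i => x i.succ, x 0), map_one' := rfl, map_mul' := fun _ _ => rfl }
    rw [pow_succ]
    refine (ih.prod h).of_inj j fun x y e => funext fun i => ?_
    refine Fin.cases (congrArg Prod.snd e) (fun i => congrFun (congrArg Prod.fst e) i) i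

theorem KB.pi {ι : Type*} [Fintype ι] {Q : Type*} [Group Q] [Finite Q] {c : ℕ} (h : KB Q c) :
    KB (ι → Q) (c ^ Fintype.card ι) :=
  (h.pi_fin _).of_inj (MulEquiv.arrowCongr (Fintype.equivFin ι) (MulEquiv.refl Q)).toMonoidHom
    (MulEquiv.injective _)

/-- lower bound for the class number of a central extension -/
theorem kk_central [Finite G] {Q : Type*} [Group Q] [Fintype Q] (f : G →* Q)
    (hf : Function.Surjective f) (hz : f.ker ≤ center G) (w : Q → ℕ)
    (hw : ∀ y, (y = 1 ∧ w y ≤ Nat.card Q) ∨ ∃ τ, y ∈ zpowers τ ∧ w y ≤ orderOf τ) :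
    Nat.card f.ker * ∑ y, w y ≤ kk G * Nat.card Q := by
  classical
  have := Fintype.ofFinite G
  have hG : Nat.card G = Nat.card f.ker * Nat.card Q := by
    rw [← f.ker.card_mul_index, index_ker, MonoidHom.range_eq_top.2 hf, card_top]
  have h1 : ∀ g : G, Nat.card f.ker * w (f g) ≤ Nat.card (centralizer ({g} : Set G)) := by
    intro g
    have h2 := FG.card_eq_relIndex_mul_card_inf f.ker (centralizer ({g} : Set G))
    rw [inf_of_le_left (hz.trans (center_le_centralizer _)), relIndex_ker] at h2
    rw [h2, mul_comm]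
    refine Nat.mul_le_mul_right _ ?_
    rcases hw (f g) with ⟨h4, h5⟩ | ⟨τ, ⟨k, hk⟩, h5⟩
    · rwa [centralizer_eq_top_iff_subset.2 (Set.singleton_subset_iff.2 (hz h4)),
        map_top_of_surjective f hf, card_top]
    · obtain ⟨t, rfl⟩ := hf τ
      have h6 : (t ^ k)⁻¹ * g ∈ f.ker := by
        rw [MonoidHom.mem_ker, map_mul, map_inv, map_zpow, ← show f t ^ k = f g from hk,
          inv_mul_cancel]
      have h7 : t ∈ centralizer ({g} : Set G) := by
        rw [mem_centralizer_singleton_iff]
        have h8 := mem_center_iff.mp (hz h6) t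
        calc t * g = t ^ k * (t * ((t ^ k)⁻¹ * g)) := by group
          _ = g * t := by rw [h8]; group
      refine h5.trans ?_
      rw [← Nat.card_zpowers]
      exact card_le_of_le (zpowers_le.2 (mem_map_of_mem f h7))
  have h2 : ∑ g : G, w (f g) = Nat.card f.ker * ∑ y : Q, w y := by
    rw [← Finset.sum_fiberwise (s := Finset.univ) (g := f), Finset.mul_sum]
    refine Finset.sum_congr rfl fun y _ => ?_
    rw [Finset.sum_congr rfl fun g hg => by rw [(Finset.mem_filter.1 hg).2], Finset.sum_const,
      smul_eq_mul, MonoidHom.card_fiber_eq_of_mem_range f (hf y) ⟨1, map_one f⟩,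
      Nat.card_eq_fintype_card, Fintype.card_subtype]
    simp only [MonoidHom.mem_ker]
  have h3 := Finset.sum_le_sum fun g (_ : g ∈ Finset.univ) => h1 g
  rw [FG.sum_card_centralizer, ← Finset.mul_sum, h2, hG] at h3
  have h4 : 0 < Nat.card f.ker := Nat.card_pos
  refine Nat.le_of_mul_le_mul_left ?_ h4
  calc _ ≤ _ := h3
    _ = _ := by unfold kk; ring

/-- the general bound for a central subgroup of index `m` -/
theorem kk_center [Finite G] (U : Subgroup G) (hU : U ≤ center G) :
    Nat.card G * (3 * U.index - 2) ≤ U.index ^ 2 * kk G := by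
  classical
  have : U.Normal := ⟨fun x hx g => by
    rw [mem_center_iff.mp (hU hx) g, mul_inv_cancel_right]; exact hx⟩
  have := Fintype.ofFinite (G ⧸ U)
  have h := kk_central (QuotientGroup.mk' U) (QuotientGroup.mk'_surjective U)
    (by rwa [QuotientGroup.ker_mk']) (fun y => if y = 1 then U.index else 2) fun y => by
      by_cases hy : y = 1
      · exact Or.inl ⟨hy, by simp [hy, index]⟩
      · refine Or.inr ⟨y, mem_zpowers y, ?_⟩
        have := mt orderOf_eq_one_iff.1 hy
        have := orderOf_pos y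
        simp only [hy, if_false]; omega
  rw [QuotientGroup.ker_mk', ← Finset.add_sum_erase _ _ (Finset.mem_univ 1), if_pos rfl,
    Finset.sum_congr rfl fun y hy => if_neg (Finset.mem_erase.1 hy).1, Finset.sum_const,
    Finset.card_erase_of_mem (Finset.mem_univ _), Finset.card_univ, ← Nat.card_eq_fintype_card,
    smul_eq_mul, ← index_eq_card] at h
  have h3 : 0 < U.index := Nat.pos_of_ne_zero index_ne_zero_of_finite
  rw [← U.card_mul_index, show 3 * U.index - 2 = U.index + (U.index - 1) * 2 by omega]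
  calc _ = U.index * (Nat.card U * (U.index + (U.index - 1) * 2)) := by ring
    _ ≤ U.index * (kk G * U.index) := Nat.mul_le_mul_left _ h
    _ = _ := by ring

/-- classes inside a normal subgroup -/
theorem kk_normal [Finite G] (V : Subgroup G) [hV : V.Normal] :
    ∃ n, kk (G ⧸ V) + n ≤ kk G ∧
      Nat.card V - 1 ≤ n * (centralizer (V : Set G)).index := by
  classical
  have := Fintype.ofFinite G
  have := Fintype.ofFinite (ConjClasses G)
  let S : Finset (ConjClasses G) := (Finset.univ.filter fun x : G => x ∈ V ∧ x ≠ 1).image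
    ConjClasses.mk
  refine ⟨S.card, ?_, ?_⟩
  · have h1 : kk (G ⧸ V) ≤ Nat.card (Sᶜ : Finset (ConjClasses G)) := by
      refine Nat.card_le_card_of_surjective
        (fun c => ConjClasses.map (QuotientGroup.mk' V) c.1) fun c => ?_
      obtain ⟨y, rfl⟩ := ConjClasses.mk_surjective c
      obtain ⟨x, rfl⟩ := QuotientGroup.mk'_surjective V y
      by_cases hx : x ∈ V
      · refine ⟨⟨ConjClasses.mk 1, Finset.mem_compl.2 fun h => ?_⟩, ?_⟩
        · obtain ⟨z, hz, e⟩ := Finset.mem_image.1 h
          exact (Finset.mem_filter.1 hz).2.2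
            (isConj_one_left.1 (ConjClasses.mk_eq_mk_iff_isConj.1 e))
        · show ConjClasses.mk (QuotientGroup.mk' V 1) = _
          rw [map_one, (QuotientGroup.eq_one_iff x).2 hx |> (show QuotientGroup.mk' V x = 1 from ·)]
      · refine ⟨⟨ConjClasses.mk x, Finset.mem_compl.2 fun h => ?_⟩, rfl⟩
        obtain ⟨z, hz, e⟩ := Finset.mem_image.1 h
        obtain ⟨c, rfl⟩ := isConj_iff.1 (ConjClasses.mk_eq_mk_iff_isConj.1 e)
        exact hx (hV.conj_mem z (Finset.mem_filter.1 hz).2.1 c)
    rw [Nat.card_eq_fintype_card, Fintype.card_coe, Finset.card_compl] at h1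
    have := S.card_le_univ
    unfold kk at *
    rw [Nat.card_eq_fintype_card (α := ConjClasses G)]
    omega
  · have h1 : (Finset.univ.filter fun x : G => x ∈ V ∧ x ≠ 1).card = Nat.card V - 1 := by
      rw [Nat.card_eq_fintype_card, Fintype.card_subtype,
        ← Finset.card_erase_of_mem (a := (1 : G)) (by simp)]
      congr 1; ext x; simp [and_comm]
    rw [← h1, mul_comm]
    refine Finset.card_le_mul_card_image _ _ fun c hc => ?_
    obtain ⟨z, hz, rfl⟩ := Finset.mem_image.1 hc
    have h2 : (centralizer ({z} : Set G)).index ≤ (centralizer (V : Set G)).index :=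
      Nat.le_of_dvd (Nat.pos_of_ne_zero index_ne_zero_of_finite) (index_dvd_of_le
        (centralizer_le (Set.singleton_subset_iff.2 (Finset.mem_filter.1 hz).2.1)))
    refine le_trans ?_ h2
    rw [← ncard_isConj_eq_index, ← Set.ncard_coe_finset]
    refine Set.ncard_le_ncard fun x hx => ?_
    exact (ConjClasses.mk_eq_mk_iff_isConj.1 (Finset.mem_filter.1 hx).2).symm

/-- class number bound from the orders of the non-central centralisers -/
theorem kb_of_cent [Finite G] (Z : Subgroup G) {c : ℕ} (hc : 0 < c)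
    (h : ∀ x, x ∉ Z → Nat.card (centralizer ({x} : Set G)) ≤ c) :
    KB G (Nat.card Z + c - 1) := by
  classical
  intro H
  have := Fintype.ofFinite G
  have h1 := sum_card_inf_centralizer H
  set S := Finset.univ.filter fun x : G => x ∈ H
  have hS : S.card = Nat.card H := by rw [Nat.card_eq_fintype_card, Fintype.card_subtype]
  rw [← Finset.sum_filter_add_sum_filter_not S (· ∈ Z)] at h1
  have h2 : ∑ y ∈ S with y ∈ Z, Nat.card (H ⊓ centralizer ({y} : Set G) : Subgroup G) ≤
      Nat.card Z * Nat.card H := by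
    refine (Finset.sum_le_card_nsmul _ _ (Nat.card H) fun y _ => card_le_of_le inf_le_left).trans ?_
    rw [smul_eq_mul, Nat.card_eq_fintype_card (α := Z), Fintype.card_subtype]
    exact Nat.mul_le_mul_right _ (Finset.card_le_card fun x hx => by
      simpa using (Finset.mem_filter.1 hx).2)
  have h3 : ∑ y ∈ S with y ∉ Z, Nat.card (H ⊓ centralizer ({y} : Set G) : Subgroup G) ≤
      (Nat.card H - 1) * c := by
    refine (Finset.sum_le_card_nsmul _ _ c fun y hy =>
      (card_le_of_le inf_le_right).trans (h y (Finset.mem_filter.1 hy).2)).trans ?_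
    rw [smul_eq_mul, ← hS, ← Finset.card_erase_of_mem (a := (1 : G)) (by simp [S])]
    refine Nat.mul_le_mul_right _ (Finset.card_le_card fun x hx => Finset.mem_erase.2
      ⟨fun e => (Finset.mem_filter.1 hx).2 (e ▸ Z.one_mem), (Finset.mem_filter.1 hx).1⟩)
  have h4 : 0 < Nat.card H := Nat.card_pos
  have h5 : kk H * Nat.card H < (Nat.card Z + c) * Nat.card H := by
    obtain ⟨n, hn⟩ : ∃ n, Nat.card H = n + 1 := ⟨_, (Nat.succ_pred_eq_of_pos h4).symm⟩
    unfold kk
    rw [← h1]
    rw [hn] at h2 h3 ⊢
    rw [Nat.add_sub_cancel] at h3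
    nlinarith
  have := Nat.lt_of_mul_lt_mul_right h5
  omega

theorem egypt {n a b c : ℕ} (ha : 2 ≤ a) (hab : a ≤ b) (hbc : b ≤ c) (h43 : 43 ≤ n)
    (h : (1 : ℚ) = 1 / n + 1 / a + 1 / b + 1 / c) : False := by
  have hn : (43 : ℚ) ≤ n := by exact_mod_cast h43
  have h0 : (0 : ℚ) < 1 / n := by positivity
  have h1 : (1 : ℚ) / n ≤ 1 / 43 := one_div_le_one_div_of_le (by norm_num) hn
  have hm : ∀ {x y : ℕ}, 0 < x → x ≤ y → (1 : ℚ) / y ≤ 1 / x := fun hx hxy =>
    one_div_le_one_div_of_le (by exact_mod_cast hx) (by exact_mod_cast hxy)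
  have e1 := hm (by omega) hab
  have e2 := hm (by omega) hbc
  have ha3 : a ≤ 3 := by
    by_contra hc
    have := hm (by norm_num) (show 4 ≤ a by omega)
    push_cast at this; linarith
  have hb : b ≤ 4 := by
    by_contra hc
    have := hm (by norm_num) (show 5 ≤ b by omega)
    have := hm (by norm_num) ha
    push_cast at *; linarith
  have hc7 : c ≤ 6 := by
    by_contra hc
    have := hm (by norm_num) (show 7 ≤ c by omega)
    have := hm (by norm_num) ha
    have h0' : (0 : ℚ) < 1 / c := by have : 0 < c := by omega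
                                     positivity
    have hb3 : 3 ≤ b := by
      by_contra hb3
      obtain rfl : a = 2 := by omega
      obtain rfl : b = 2 := by omega
      push_cast at *; linarith
    have := hm (by norm_num) hb3
    push_cast at *; linarith
  interval_cases a <;> interval_cases b <;> interval_cases c <;> push_cast at * <;> linarith

theorem egypt' {n a b c : ℕ} (ha : 2 ≤ a) (hb : 2 ≤ b) (hc : 2 ≤ c) (h43 : 43 ≤ n)
    (h : (1 : ℝ) = (n : ℝ)⁻¹ + ((a : ℝ)⁻¹ + ((b : ℝ)⁻¹ + (c : ℝ)⁻¹))) : False := by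
  have h' : (1 : ℚ) = 1 / n + 1 / a + 1 / b + 1 / c := by
    apply Rat.cast_injective (α := ℝ)
    push_cast
    simp only [one_div]; linarith
  rcases le_total a b with h1 | h1 <;> rcases le_total b c with h2 | h2 <;>
    rcases le_total a c with h3 | h3
  · exact egypt ha h1 h2 h43 h'
  · exact egypt ha h1 h2 h43 h'
  · exact egypt ha h3 h2 h43 (by linarith)
  · exact egypt hc h3 h1 h43 (by linarith)
  · exact egypt hb h1 h3 h43 (by linarith)
  · exact egypt hb h2 h3 h43 (by linarith)
  · exact egypt hc h2 h1 h43 (by linarith)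
  · exact egypt hc h2 h1 h43 (by linarith)

/-- a group with at most four classes has order at most `42` -/
theorem card_le_of_kk_le_four [Finite G] (h : kk G ≤ 4) : Nat.card G ≤ 42 := by
  classical
  by_contra h43
  have := Fintype.ofFinite (ConjClasses G)
  have h1 := Landau.sum_inv_card_centralizer G
  rw [← Finset.add_sum_erase _ _ (Finset.mem_univ (ConjClasses.mk 1))] at h1
  have h2 : (ConjClasses.mk (1 : G)).out = 1 :=
    isConj_one_left.1 (ConjClasses.mk_eq_mk_iff_isConj.1 (Quotient.out_eq _))
  rw [h2, centralizer_eq_top_iff_subset.2 (Set.singleton_subset_iff.2 (one_mem _)), card_top] at h1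
  set s := Finset.univ.erase (ConjClasses.mk (1 : G))
  set f : ConjClasses G → ℕ := fun c => Nat.card (centralizer ({c.out} : Set G))
  have hf : ∀ c ∈ s, 2 ≤ f c := fun c hc => (one_lt_card_iff_ne_bot _).2 fun e =>
    (Finset.mem_erase.1 hc).1 (by
      have : c.out = 1 := mem_bot.1 (e ▸ mem_centralizer_singleton_iff.2 rfl)
      rw [← this]; exact (Quotient.out_eq _).symm)
  have hs : s.card ≤ 3 := by
    rw [Finset.card_erase_of_mem (Finset.mem_univ _), Finset.card_univ, ← Nat.card_eq_fintype_card]
    unfold kk at h; omega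
  have h3 : (1 : ℝ) = (Nat.card G : ℝ)⁻¹ + ∑ c ∈ s, (f c : ℝ)⁻¹ := h1.symm
  have hn : 43 ≤ Nat.card G := by omega
  have hd : ∀ x : ℕ, (x : ℝ)⁻¹ = ((2 * x : ℕ) : ℝ)⁻¹ + ((2 * x : ℕ) : ℝ)⁻¹ := fun x => by
    push_cast; rw [mul_inv]; ring
  obtain h0 | h0 | h0 | h0 : s.card = 0 ∨ s.card = 1 ∨ s.card = 2 ∨ s.card = 3 := by omega
  · rw [Finset.card_eq_zero.1 h0, Finset.sum_empty, add_zero, eq_comm, inv_eq_one] at h3
    have : Nat.card G = 1 := by exact_mod_cast h3
    omega
  · obtain ⟨a, ha⟩ := Finset.card_eq_one.1 h0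
    have := hf a (by simp [ha])
    rw [ha, Finset.sum_singleton, hd (f a)] at h3
    nth_rewrite 2 [hd (2 * f a)] at h3
    exact egypt' (by omega) (by omega) (by omega) hn h3
  · obtain ⟨a, b, hab, ha⟩ := Finset.card_eq_two.1 h0
    have := hf a (by simp [ha])
    have := hf b (by simp [ha])
    rw [ha, Finset.sum_pair hab, hd (f b)] at h3
    exact egypt' (by omega) (by omega) (by omega) hn h3
  · obtain ⟨a, b, c, hab, hac, hbc, ha⟩ := Finset.card_eq_three.1 h0
    rw [ha, Finset.sum_insert (by simp [hab, hac]), Finset.sum_pair hbc] at h3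
    exact egypt' (hf a (by simp [ha])) (hf b (by simp [ha])) (hf c (by simp [ha])) hn h3

end Cfsg.Agent.FG.HK
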