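import Mathlib
import Cfsg.Agent.FG.BasePre
import Cfsg.Agent.FG.HKCount
import Cfsg.Agent.Cl.PSL2Small

/-! A solvable group with a cyclic maximal abelian normal subgroup `U`: the class two subgroup
`F` and the module `F/U`. -/

set_option autoImplicit false

namespace Cfsg.Agent.FG.HK

open Subgroup Cfsg.Agent.FG.BS
open scoped commutatorElement

/-- the group theoretic data of the quasi-primitive case -/
structure Cls (G : Type*) [Group G] where
  U : Subgroup G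
  F : Subgroup G
  Un : U.Normal
  Fn : F.Normal
  UF : U ≤ F
  cen : ∀ u ∈ U, ∀ f ∈ F, u * f = f * u
  comm : ∀ f ∈ F, ∀ f' ∈ F, ⁅f, f'⁆ ∈ U
  cF : ∀ g : G, (∀ f ∈ F, g * f = f * g) → g ∈ U
  umax : ∀ X : Subgroup G, X.Normal → (∀ x ∈ X, ∀ y ∈ X, x * y = y * x) → U ≤ X → X ≤ U
  cyc : IsCyclic U

/-- complete reducibility -/
def CR (G V : Type*) [Group G] [AddCommGroup V] [DistribMulAction G V] : Prop :=
  ∀ U : AddSubgroup V, Invt G U → ∃ W : AddSubgroup V, Invt G W ∧ U ⊓ W = ⊥ ∧ U ⊔ W = ⊤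

variable {G : Type*} [Group G]

theorem exists_cls [Finite G] [Group.IsSolvable G] (U : Subgroup G)
    (hUn : U.Normal) (hUc : ∀ x ∈ U, ∀ y ∈ U, x * y = y * x)
    (hmax : ∀ X : Subgroup G, X.Normal → (∀ x ∈ X, ∀ y ∈ X, x * y = y * x) → U ≤ X → X ≤ U)
    (hc : IsCyclic U) : ∃ P : Cls G, P.U = U := by
  obtain ⟨F, ⟨hFn, hUF, hFC, hFF⟩, hFmax⟩ := (Set.toFinite
    {F : Subgroup G | F.Normal ∧ U ≤ F ∧ F ≤ centralizer (U : Set G) ∧
      ⁅F, F⁆ ≤ U}).exists_maximal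
    ⟨U, hUn, le_rfl, fun x hx y hy => hUc y hy x hx, commutator_le_left U U⟩
  refine ⟨⟨U, F, hUn, hFn, hUF, fun u hu f hf => hFC hf u hu,
    fun f hf f' hf' => hFF (commutator_mem_commutator hf hf'), ?_, hmax, hc⟩, rfl⟩
  intro g hg
  let E : Subgroup G := centralizer (F : Set G)
  have hEF : E ⊓ F ≤ U := hmax _ inferInstance (fun x hx y hy => (hx.1 y hy.2).symm)
    (le_inf (fun u hu f hf => (hFC hf u hu).symm) hUF)
  by_contra hgU
  obtain ⟨X, ⟨hXn, hXE, hXU⟩, hXmin⟩ := (Set.toFinite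
    {X : Subgroup G | X.Normal ∧ X ≤ E ∧ ¬ X ≤ U}).exists_minimal
    ⟨E, inferInstance, le_rfl, fun h => hgU (h fun f hf => (hg f hf).symm)⟩
  have hXb : X ≠ ⊥ := fun h => hXU (h ▸ bot_le)
  have hXX : ⁅X, X⁆ ≤ U := by
    by_contra hc
    exact (Group.IsSolvable.commutator_lt_of_ne_bot hXb).not_ge
      (hXmin ⟨inferInstance, (commutator_le_left X X).trans hXE, hc⟩ (commutator_le_left X X))
  have h1 : X ⊔ F ≤ F := by
    refine hFmax ⟨inferInstance, le_sup_of_le_right hUF,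
      sup_le (fun x hx u hu => hXE hx u (hUF hu)) hFC, ?_⟩ le_sup_right
    rw [commutator_le]
    intro a ha b hb
    have ha' : a ∈ ((X ⊔ F : Subgroup G) : Set G) := ha
    have hb' : b ∈ ((X ⊔ F : Subgroup G) : Set G) := hb
    rw [normal_mul] at ha' hb'
    obtain ⟨x, hx, f, hf, rfl⟩ := ha'
    obtain ⟨x', hx', f', hf', rfl⟩ := hb'
    have e1 : Commute f x' := hXE hx' f hf
    have e2 : Commute f' x := hXE hx f' hf'
    have e3 : Commute f x := hXE hx f hf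
    have e4 : Commute f' x' := hXE hx' f' hf'
    have : ⁅x * f, x' * f'⁆ = ⁅x, x'⁆ * ⁅f, f'⁆ := by
      have c1 : Commute (f * f' * f⁻¹ * f'⁻¹) (x⁻¹ * x'⁻¹) :=
        ((((e3.inv_right.mul_right e1.inv_right).mul_left
          (e2.inv_right.mul_right e4.inv_right)).mul_left
          (e3.inv_right.mul_right e1.inv_right).inv_left).mul_left
          (e2.inv_right.mul_right e4.inv_right).inv_left)
      calc ⁅x * f, x' * f'⁆ = x * (f * x') * f' * f⁻¹ * (x⁻¹ * f'⁻¹) * x'⁻¹ := by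
            rw [commutatorElement_def]; group
        _ = x * x' * ((f * f' * f⁻¹ * f'⁻¹) * (x⁻¹ * x'⁻¹)) := by
            rw [e1.eq, ← e2.inv_inv.eq]; group
        _ = _ := by rw [c1.eq, commutatorElement_def, commutatorElement_def]; group
    show ⁅x * f, x' * f'⁆ ∈ U
    rw [this]
    exact U.mul_mem (hXX (commutator_mem_commutator hx hx')) (hFF (commutator_mem_commutator hf hf'))
  exact hXU ((le_inf hXE (le_sup_left.trans h1)).trans hEF)

theorem index_ker_le {A B : Type*} [Group A] [Group B] [Finite A] [Finite B]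
    (β : A →* B →* ℂˣ) : β.ker.index ≤ β.flip.ker.index := by
  have := finite_hom (B ⧸ β.flip.ker)
  rw [index_ker]
  refine le_trans ?_ (card_hom_le (B ⧸ β.flip.ker))
  have h : ∀ x : β.range, β.flip.ker ≤ x.1.ker := by
    rintro ⟨_, a, rfl⟩ b hb
    exact DFunLike.congr_fun (MonoidHom.mem_ker.1 hb) a
  refine Nat.card_le_card_of_injective (fun x => QuotientGroup.lift _ x.1 (h x)) fun x y e => ?_
  exact Subtype.ext (MonoidHom.ext fun b => DFunLike.congr_fun e (b : B ⧸ β.flip.ker))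

namespace Cls

variable {P : Cls G}

theorem U_comm {x y : G} (hx : x ∈ P.U) (hy : y ∈ P.U) : x * y = y * x := P.cen x hx y (P.UF hy)

theorem comm_mul_left {x y z : G} (hx : x ∈ P.F) (hy : y ∈ P.F) (hz : z ∈ P.F) :
    ⁅x * y, z⁆ = ⁅x, z⁆ * ⁅y, z⁆ := by
  have := P.cen _ (P.comm _ hy _ hz) _ hx
  calc ⁅x * y, z⁆ = (x * ⁅y, z⁆) * (z * x⁻¹ * z⁻¹) := by simp only [commutatorElement_def]; group
    _ = ⁅y, z⁆ * ⁅x, z⁆ := by rw [← this]; simp only [commutatorElement_def]; group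
    _ = _ := U_comm (P.comm _ hy _ hz) (P.comm _ hx _ hz)

theorem comm_mul_right {x y z : G} (hx : x ∈ P.F) (hy : y ∈ P.F) (hz : z ∈ P.F) :
    ⁅x, y * z⁆ = ⁅x, y⁆ * ⁅x, z⁆ := by
  rw [← commutatorElement_inv, comm_mul_left hy hz hx, mul_inv_rev, commutatorElement_inv,
    commutatorElement_inv]
  exact U_comm (P.comm _ hx _ hz) (P.comm _ hx _ hy)

theorem comm_pow_left {x z : G} (hx : x ∈ P.F) (hz : z ∈ P.F) (n : ℕ) :
    ⁅x ^ n, z⁆ = ⁅x, z⁆ ^ n := by
  induction n with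
  | zero => simp
  | succ n ih => rw [pow_succ, comm_mul_left (P.F.pow_mem hx n) hx hz, ih, pow_succ]

theorem comm_U_left {u z : G} (hu : u ∈ P.U) (hz : z ∈ P.F) : ⁅u, z⁆ = 1 :=
  commutatorElement_eq_one_iff_mul_comm.mpr (P.cen u hu z hz)

theorem comm_U_right {u z : G} (hu : u ∈ P.U) (hz : z ∈ P.F) : ⁅z, u⁆ = 1 :=
  commutatorElement_eq_one_iff_mul_comm.mpr (P.cen u hu z hz).symm

/-- the commutator pairing -/
def kap (S : Subgroup G) (hS : S ≤ P.F) (j : P.U →* ℂˣ) : S →* (P.F →* ℂˣ) where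
  toFun s :=
    { toFun := fun f => j ⟨⁅(f : G), (s : G)⁆, P.comm _ f.2 _ (hS s.2)⟩
      map_one' := by rw [← map_one j]; congr 1; exact Subtype.ext (by simp)
      map_mul' := fun a b => by
        rw [← map_mul]; congr 1; exact Subtype.ext (comm_mul_left a.2 b.2 (hS s.2)) }
  map_one' := by
    ext1 f
    show j _ = 1
    rw [← map_one j]; congr 1; exact Subtype.ext (by simp)
  map_mul' a b := by
    ext1 f
    show j _ = j _ * j _
    rw [← map_mul]; congr 1; exact Subtype.ext (comm_mul_right f.2 (hS a.2) (hS b.2))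

theorem kap_eq_one {S : Subgroup G} {hS : S ≤ P.F} {j : P.U →* ℂˣ} (hj : Function.Injective j)
    {s : S} {f : P.F} : kap S hS j s f = 1 ↔ (s : G) * f = f * s := by
  rw [eq_comm (a := (s : G) * f), ← commutatorElement_eq_one_iff_mul_comm]
  exact (map_eq_one_iff j hj).trans Subtype.ext_iff

theorem exists_comm [Finite G] (χ : P.F →* P.U) (h : ∀ f : P.F, (f : G) ∈ P.U → χ f = 1) :
    ∃ s ∈ P.F, ∀ f : P.F, (χ f : G) = ⁅(f : G), s⁆ := by
  have := P.cyc
  obtain ⟨j, hj⟩ := exists_inj_units P.U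
  obtain ⟨s, hs⟩ := mem_of_ker (kap P.F le_rfl j).range (j.comp χ) fun f hf => by
    rw [MonoidHom.comp_apply, h f (P.cF _ fun s hs => ?_), map_one]
    exact ((kap_eq_one hj).1 (hf _ ⟨⟨s, hs⟩, rfl⟩)).symm
  exact ⟨s, s.2, fun f => congrArg Subtype.val (hj (DFunLike.congr_fun hs f)).symm⟩

theorem relIndex_cent [Finite G] {S : Subgroup G} (hU : P.U ≤ S) (hS : S ≤ P.F) :
    (centralizer (S : Set G)).relIndex P.F = P.U.relIndex S := by
  have := P.cyc
  obtain ⟨j, hj⟩ := exists_inj_units P.U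
  have h1 : (kap S hS j).ker = P.U.subgroupOf S := by
    ext s
    rw [MonoidHom.mem_ker, mem_subgroupOf, MonoidHom.ext_iff]
    exact ⟨fun h => P.cF _ fun f hf => (kap_eq_one hj).1 (h ⟨f, hf⟩),
      fun h f => (kap_eq_one hj).2 (P.cen _ h _ f.2)⟩
  have h2 : (kap S hS j).flip.ker = (centralizer (S : Set G)).subgroupOf P.F := by
    ext f
    rw [MonoidHom.mem_ker, mem_subgroupOf, MonoidHom.ext_iff]
    exact ⟨fun h s hs => (kap_eq_one (hS := hS) hj).1 (h ⟨s, hs⟩),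
      fun h s => (kap_eq_one (hS := hS) hj).2 (h _ s.2)⟩
  have h3 := index_ker_le (kap S hS j)
  have h4 := index_ker_le (kap S hS j).flip
  rw [show (kap S hS j).flip.flip = kap S hS j from rfl] at h4
  rw [h1, h2] at h3 h4
  exact le_antisymm h4 h3

theorem exists_B [Finite G] (P : Cls G) : ∃ B : Subgroup G, P.U ≤ B ∧ B ≤ P.F ∧
    (∀ x ∈ B, ∀ y ∈ B, x * y = y * x) ∧ (∀ f ∈ P.F, (∀ b ∈ B, b * f = f * b) → f ∈ B) ∧
    P.U.relIndex P.F = B.relIndex P.F ^ 2 := by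
  obtain ⟨B, ⟨h1, h2, h3⟩, hmax⟩ := (Set.toFinite
    {B : Subgroup G | P.U ≤ B ∧ B ≤ P.F ∧ ∀ x ∈ B, ∀ y ∈ B, x * y = y * x}).exists_maximal
    ⟨P.U, le_rfl, P.UF, fun _ hx _ hy => U_comm hx hy⟩
  have h4 : ∀ f ∈ P.F, (∀ b ∈ B, b * f = f * b) → f ∈ B := fun f hf h => by
    have hc : IsMulCommutative (closure (insert f (B : Set G))) := isMulCommutative_closure (by
      rintro a (rfl | ha) b (rfl | hb)
      · rfl
      · exact (h b hb).symm
      · exact h a ha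
      · exact h3 a ha b hb)
    have hB : B ≤ closure (insert f (B : Set G)) := fun b hb => subset_closure (Or.inr hb)
    refine hmax (y := closure (insert f (B : Set G))) ⟨h1.trans hB, (closure_le _).2
      (Set.insert_subset hf h2), fun a ha b hb => congrArg Subtype.val
        (hc.is_comm.comm (⟨a, ha⟩ : closure (insert f (B : Set G))) ⟨b, hb⟩)⟩ hB
      (subset_closure (Or.inl rfl))
  refine ⟨B, h1, h2, h3, h4, ?_⟩
  have h5 : (centralizer (B : Set G)).subgroupOf P.F = B.subgroupOf P.F := by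
    ext f
    exact ⟨fun h => h4 f f.2 h, fun h b hb => h3 b hb f h⟩
  have h6 := relIndex_cent h1 h2
  rw [relIndex, h5] at h6
  rw [← relIndex_mul_relIndex _ _ _ h1 h2, ← h6, sq]
  rfl

theorem comm_of_comm_eq {f z b : G} (h : ⁅f, z⁆ = ⁅f, b⁆) : b⁻¹ * z * f = f * (b⁻¹ * z) := by
  simp only [commutatorElement_def, mul_assoc, mul_right_inj] at h
  calc b⁻¹ * z * f = b⁻¹ * z * (z⁻¹ * (z * (f⁻¹ * z⁻¹))⁻¹ * z) := by group
    _ = _ := by rw [h]; group

/-- an element centralising `U` and `F/U` lies in `F` -/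
theorem mem_F [Finite G] {a : G} (ha : a ∈ centralizer (P.U : Set G))
    (h : ∀ f ∈ P.F, ⁅f, a⁆ ∈ P.U) : a ∈ P.F := by
  obtain ⟨s, hs, h1⟩ := exists_comm (P := P)
    { toFun := fun f => ⟨⁅(f : G), a⁆, h f f.2⟩
      map_one' := by simp
      map_mul' := fun x y => Subtype.ext (by
        have := P.cen _ (h y y.2) _ x.2
        show ⁅(x : G) * y, a⁆ = ⁅(x : G), a⁆ * ⁅(y : G), a⁆
        calc ⁅(x : G) * y, a⁆ = (x * ⁅(y : G), a⁆) * (a * (x : G)⁻¹ * a⁻¹) := by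
              simp only [commutatorElement_def]; group
          _ = ⁅(y : G), a⁆ * ⁅(x : G), a⁆ := by
              rw [← this]; simp only [commutatorElement_def]; group
          _ = _ := U_comm (h y y.2) (h x x.2)) }
    fun f hf => Subtype.ext (commutatorElement_eq_one_iff_mul_comm.2 (ha f hf))
  have h2 := P.F.mul_mem hs (P.UF (P.cF (s⁻¹ * a) fun f hf => comm_of_comm_eq (h1 ⟨f, hf⟩)))
  rwa [mul_inv_cancel_left] at h2

theorem mem_U_of_inv {z : G} (hz : z ∈ P.F) (h : ∀ g : G, z⁻¹ * (g * z * g⁻¹) ∈ P.U) :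
    z ∈ P.U := by
  have := P.Un
  have hdec : ∀ x ∈ zpowers z ⊔ P.U, ∃ n : ℤ, ∃ u ∈ P.U, x = z ^ n * u := by
    intro x hx
    have hx' : x ∈ ((zpowers z ⊔ P.U : Subgroup G) : Set G) := hx
    rw [mul_normal] at hx'
    obtain ⟨_, ⟨n, rfl⟩, u, hu, rfl⟩ := hx'
    exact ⟨n, u, hu, rfl⟩
  refine P.umax (zpowers z ⊔ P.U) ⟨fun x hx g => ?_⟩ (fun x hx y hy => ?_) le_sup_right
    (mem_sup_left (mem_zpowers z))
  · obtain ⟨n, u, hu, rfl⟩ := hdec x hx
    have h1 : g * z * g⁻¹ ∈ zpowers z ⊔ P.U := by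
      have := mul_mem_sup (mem_zpowers z) (h g)
      rwa [mul_inv_cancel_left] at this
    rw [show g * (z ^ n * u) * g⁻¹ = (g * z * g⁻¹) ^ n * (g * u * g⁻¹) by rw [conj_zpow]; group]
    exact mul_mem (zpow_mem h1 n) (mem_sup_right (P.Un.conj_mem u hu g))
  · obtain ⟨n, u, hu, rfl⟩ := hdec x hx
    obtain ⟨m, u', hu', rfl⟩ := hdec y hy
    have c1 : Commute u z := P.cen u hu z hz
    have c2 : Commute u' z := P.cen u' hu' z hz
    have c3 : Commute u u' := U_comm hu hu'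
    exact ((((Commute.refl z).zpow_zpow n m).mul_right (c2.symm.zpow_left n)).mul_left
      ((c1.zpow_right m).mul_right c3)).eq

instance : P.U.Normal := P.Un
instance : P.F.Normal := P.Fn

variable (P)

/-- the quotient `F/U` -/
def E0 : Type _ := P.F ⧸ P.U.subgroupOf P.F

instance : CommGroup P.E0 :=
  { (inferInstance : Group (P.F ⧸ P.U.subgroupOf P.F)) with
    mul_comm := by
      intro a b
      obtain ⟨f, rfl⟩ := QuotientGroup.mk_surjective a
      obtain ⟨f', rfl⟩ := QuotientGroup.mk_surjective b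
      apply QuotientGroup.eq.mpr
      have : ⁅(f' : G)⁻¹, (f : G)⁻¹⁆ ∈ P.U := P.comm _ (P.F.inv_mem f'.2) _ (P.F.inv_mem f.2)
      rw [mem_subgroupOf]
      convert this using 1
      simp [commutatorElement_def, mul_assoc] }

/-- the module `F/U` -/
def E : Type _ := Additive P.E0

instance : AddCommGroup P.E := inferInstanceAs (AddCommGroup (Additive P.E0))

instance [Finite G] : Finite P.E := inferInstanceAs (Finite (P.F ⧸ P.U.subgroupOf P.F))

/-- the projection -/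
def pr (f : P.F) : P.E := Additive.ofMul (QuotientGroup.mk f : P.F ⧸ P.U.subgroupOf P.F)

/-- conjugation on `F/U` -/
def cj (g : G) : P.E0 →* P.E0 :=
  QuotientGroup.map _ _ (MulAut.conjNormal g : MulAut P.F).toMonoidHom
    fun _ hx => P.Un.conj_mem _ hx g

instance : DistribMulAction G P.E where
  smul g x := Additive.ofMul (P.cj g (Additive.toMul x))
  one_smul x := by
    obtain ⟨f, rfl⟩ := QuotientGroup.mk_surjective (s := P.U.subgroupOf P.F) x
    exact congrArg P.pr (Subtype.ext (by simp))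
  mul_smul a b x := by
    obtain ⟨f, rfl⟩ := QuotientGroup.mk_surjective (s := P.U.subgroupOf P.F) x
    exact congrArg P.pr (Subtype.ext (by simp [mul_assoc]))
  smul_zero g := map_one (P.cj g)
  smul_add g := map_mul (P.cj g)

theorem card_E : Nat.card P.E = P.U.relIndex P.F := rfl

variable {P}

theorem pr_surj : Function.Surjective P.pr :=
  QuotientGroup.mk_surjective (s := P.U.subgroupOf P.F)

theorem pr_mul (a b : P.F) : P.pr (a * b) = P.pr a + P.pr b := rfl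

theorem pr_inv (a : P.F) : P.pr a⁻¹ = -P.pr a := rfl

theorem pr_one : P.pr 1 = 0 := rfl

theorem pr_pow (a : P.F) (n : ℕ) : P.pr (a ^ n) = n • P.pr a := by
  induction n with
  | zero => simp [pr_one]
  | succ n ih => rw [pow_succ, pr_mul, ih, succ_nsmul]

theorem pr_eq_zero {a : P.F} : P.pr a = 0 ↔ (a : G) ∈ P.U :=
  QuotientGroup.eq_one_iff (N := P.U.subgroupOf P.F) a

theorem pr_eq {a b : P.F} : P.pr a = P.pr b ↔ (a : G)⁻¹ * b ∈ P.U :=
  QuotientGroup.eq (s := P.U.subgroupOf P.F)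

theorem smul_pr (g : G) (a : P.F) :
    g • P.pr a = P.pr ⟨g * a * g⁻¹, P.Fn.conj_mem _ a.2 g⟩ := rfl

theorem smul_of_mem_F {f : G} (hf : f ∈ P.F) (x : P.E) : f • x = x := by
  obtain ⟨a, rfl⟩ := pr_surj x
  rw [show f • P.pr a = P.pr (⟨f, hf⟩ * a * ⟨f, hf⟩⁻¹) from rfl, pr_mul, pr_mul, pr_inv]
  abel

theorem mem_F_of_smul [Finite G] {a : G} (ha : a ∈ centralizer (P.U : Set G))
    (h : ∀ x : P.E, a • x = x) : a ∈ P.F := by
  refine mem_F ha fun f hf => ?_
  have := pr_eq.1 (h (P.pr ⟨f⁻¹, P.F.inv_mem hf⟩)).symm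
  simpa [commutatorElement_def, mul_assoc] using this

theorem comm_congr {a a' b b' : P.F} (h : P.pr a = P.pr a') (h' : P.pr b = P.pr b') :
    ⁅(a : G), (b : G)⁆ = ⁅(a' : G), (b' : G)⁆ := by
  have e1 : (a' : G) = a * ((a : G)⁻¹ * a') := by group
  have e2 : (b' : G) = b * ((b : G)⁻¹ * b') := by group
  rw [e1, comm_mul_left a.2 (P.UF (pr_eq.1 h)) b'.2, comm_U_left (pr_eq.1 h) b'.2, mul_one, e2,
    comm_mul_right a.2 b.2 (P.UF (pr_eq.1 h')), comm_U_right (pr_eq.1 h') a.2, mul_one]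

theorem cr_E [Finite G] : CR G P.E := by
  intro T hT
  let Y : Subgroup G :=
    { carrier := {y | ∃ h : y ∈ P.F, P.pr ⟨y, h⟩ ∈ T}
      one_mem' := ⟨P.F.one_mem, T.zero_mem⟩
      mul_mem' := fun ⟨h, h1⟩ ⟨h', h2⟩ => ⟨P.F.mul_mem h h', T.add_mem h1 h2⟩
      inv_mem' := fun ⟨h, h1⟩ => ⟨P.F.inv_mem h, T.neg_mem h1⟩ }
  have hYn : Y.Normal := ⟨fun y ⟨h, h1⟩ g => ⟨P.Fn.conj_mem _ h g, hT g _ h1⟩⟩
  have hUY : P.U ≤ Y := fun u hu => ⟨P.UF hu, by rw [pr_eq_zero.2 hu]; exact T.zero_mem⟩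
  have hYF : Y ≤ P.F := fun y hy => hy.1
  let C := centralizer (Y : Set G)
  have hUC : P.U ≤ C := fun u hu y hy => (P.cen u hu y (hYF hy)).symm
  have hYC : C ⊓ Y = P.U := le_antisymm
    (P.umax _ inferInstance (fun x hx y hy => (hx.1 y hy.2).symm) (le_inf hUC hUY))
    (le_inf hUC hUY)
  let W : AddSubgroup P.E :=
    { carrier := {x | ∃ c : P.F, (c : G) ∈ C ∧ P.pr c = x}
      zero_mem' := ⟨1, C.one_mem, rfl⟩
      add_mem' := by
        rintro _ _ ⟨a, ha, rfl⟩ ⟨b, hb, rfl⟩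
        exact ⟨a * b, C.mul_mem ha hb, rfl⟩
      neg_mem' := by
        rintro _ ⟨a, ha, rfl⟩
        exact ⟨a⁻¹, C.inv_mem ha, rfl⟩ }
  refine ⟨W, ?_, eq_bot_iff.2 ?_, eq_top_iff.2 fun x _ => ?_⟩
  · rintro g _ ⟨a, ha, rfl⟩
    exact ⟨_, (inferInstance : C.Normal).conj_mem _ ha g, (smul_pr g a).symm⟩
  · rintro _ ⟨h1, a, ha, rfl⟩
    exact pr_eq_zero.2 (hYC.le ⟨ha, a.2, h1⟩)
  · obtain ⟨f, rfl⟩ := pr_surj x
    have h1 : C.relIndex (Y ⊔ C) = C.relIndex P.F := by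
      rw [relIndex_sup_right, relIndex_cent hUY hYF, ← hYC, inf_relIndex_right]
    have h2 : C.relIndex (P.F ⊔ C) = C.relIndex P.F := relIndex_sup_right _ _
    have h3 := relIndex_mul_relIndex C (Y ⊔ C) (P.F ⊔ C) le_sup_right (sup_le_sup_right hYF _)
    rw [h1, h2, mul_eq_left₀ (show C.relIndex P.F ≠ 0 from index_ne_zero_of_finite),
      relIndex_eq_one] at h3
    have h4 : (f : G) ∈ ((Y ⊔ C : Subgroup G) : Set G) := h3 (mem_sup_left f.2)
    rw [mul_normal] at h4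
    obtain ⟨y, hy, c, hc, e⟩ := h4
    have hcF : c ∈ P.F := by
      have := P.F.mul_mem (P.F.inv_mem hy.1) f.2
      rwa [← e, inv_mul_cancel_left] at this
    rw [show f = ⟨y, hy.1⟩ * ⟨c, hcF⟩ from Subtype.ext e.symm, pr_mul]
    exact AddSubgroup.add_mem_sup hy.2 ⟨_, hc, rfl⟩

theorem exists_comm_ne {a : P.F} (ha : P.pr a ≠ 0) : ∃ b : P.F, ⁅(a : G), (b : G)⁆ ≠ 1 := by
  by_contra h
  push Not at h
  exact ha (pr_eq_zero.2 (P.cF _ fun f hf => commutatorElement_eq_one_iff_mul_comm.1 (h ⟨f, hf⟩)))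

theorem prime_dvd_U [Finite G] {r : ℕ} (hr : r.Prime) (h : r ∣ Nat.card P.E) :
    r ∣ Nat.card P.U := by
  have := Fact.mk hr
  obtain ⟨x, hx⟩ := exists_prime_addOrderOf_dvd_card' r h
  obtain ⟨a, rfl⟩ := pr_surj x
  obtain ⟨b, hb⟩ := exists_comm_ne (a := a) fun e => hr.one_lt.ne (by rw [← hx, e, addOrderOf_zero])
  have h1 : (a : G) ^ r ∈ P.U := pr_eq_zero.1 (by rw [pr_pow, ← hx, addOrderOf_nsmul_eq_zero] :
    P.pr (a ^ r) = 0)
  have h2 : ⁅(a : G), (b : G)⁆ ^ r = 1 := by rw [← comm_pow_left a.2 b.2, comm_U_left h1 b.2]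
  rw [← orderOf_eq_prime h2 hb]
  exact orderOf_dvd_natCard _ (P.comm _ a.2 _ b.2)

end Cls

end Cfsg.Agent.FG.HK
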