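import Mathlib
import Cfsg.Agent.FG.HKCls

/-! The quotient `C_G(U)/F` of the quasi-primitive data: orders and class numbers. -/

set_option autoImplicit false

namespace Cfsg.Agent.FG.HK

open Subgroup Cfsg.Agent.FG.BS
open scoped commutatorElement

variable {G : Type*} [Group G]

/-- weights for the class number of central extensions of `S₄` -/
def w4 (y : Equiv.Perm (Fin 4)) : ℕ :=
  if y = 1 then 24 else if ∃ τ : Equiv.Perm (Fin 4), τ * τ ≠ 1 ∧ τ * τ * τ * τ = 1 ∧
    (y = τ ∨ y = τ * τ) then 4 else if y * y = 1 then 2 else 3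

theorem sum_w4 : ∑ y, w4 y = 96 := by decide +kernel

theorem w4_spec (y : Equiv.Perm (Fin 4)) : (y = 1 ∧ w4 y ≤ Nat.card (Equiv.Perm (Fin 4))) ∨
    ∃ τ, y ∈ zpowers τ ∧ w4 y ≤ orderOf τ := by
  unfold w4
  split_ifs with h1 h2 h3
  · exact Or.inl ⟨h1, by simp [Fintype.card_perm, Nat.factorial]⟩
  · obtain ⟨τ, h3, h4, h5⟩ := h2
    refine Or.inr ⟨τ, h5.elim (· ▸ mem_zpowers _) (· ▸ mul_mem (mem_zpowers _) (mem_zpowers _)), ?_⟩
    have := orderOf_eq_prime_pow (p := 2) (n := 1) (x := τ) (by rwa [pow_one, sq])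
      (by rw [← h4]; simp [pow_succ])
    omega
  · refine Or.inr ⟨y, mem_zpowers y, ?_⟩
    have := mt orderOf_eq_one_iff.1 h1
    have := orderOf_pos y
    omega
  · refine Or.inr ⟨y, mem_zpowers y, ?_⟩
    have := mt orderOf_eq_one_iff.1 h1
    have := orderOf_pos y
    have : orderOf y ≠ 2 := fun e => h3 (by rw [← sq, ← e, pow_orderOf_eq_one])
    omega

namespace Cls

variable (P : Cls G)

/-- the centraliser of `U` -/
def A : Subgroup G := centralizer (P.U : Set G)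

instance : P.A.Normal := inferInstanceAs (centralizer (P.U : Set G)).Normal

theorem F_le_A : P.F ≤ P.A := fun f hf u hu => P.cen u hu f hf

/-- the order of `C_G(U)/F` -/
noncomputable def x : ℕ := P.F.relIndex P.A

theorem relIndex_U_A : P.U.relIndex P.A = Nat.card P.E * P.x :=
  (relIndex_mul_relIndex _ _ _ P.UF P.F_le_A).symm

theorem index_U : P.U.index = Nat.card P.E * P.x * P.A.index := by
  rw [← relIndex_mul_index (P.UF.trans P.F_le_A), relIndex_U_A]

theorem card_eq : Nat.card G = Nat.card P.U * (Nat.card P.E * P.x * P.A.index) := by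
  rw [← index_U, card_mul_index]

theorem x_pos [Finite G] : 0 < P.x := Nat.pos_of_ne_zero index_ne_zero_of_finite

theorem nilpotent_F : Group.IsNilpotent P.F := ⟨2, by
  rw [eq_top_iff]
  intro x _
  rw [Subgroup.mem_upperCentralSeries_succ_iff]
  intro y
  rw [Subgroup.upperCentralSeries_one, mem_center_iff]
  intro g
  exact Subtype.ext (P.cen _ (P.comm _ x.2 _ y.2) _ g.2).symm⟩

theorem ker_eq [Finite G] : ((toIm G P.E).comp P.A.subtype).ker = P.F.subgroupOf P.A := by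
  ext a
  rw [MonoidHom.mem_ker, mem_subgroupOf]
  exact ⟨fun h => mem_F_of_smul a.2 fun v => DFunLike.congr_fun (congrArg Subtype.val h) v,
    fun h => Subtype.ext (Equiv.ext (smul_of_mem_F h))⟩

theorem x_dvd [Finite G] : P.x ∣ Nat.card (Im G P.E) := by
  rw [x, relIndex, ← ker_eq, index_ker]
  exact card_subgroup_dvd_card _

theorem x_le [Finite G] : P.x ≤ Nat.card (Im G P.E) := Nat.le_of_dvd Nat.card_pos P.x_dvd

theorem kb_quot [Finite G] {c : ℕ} (h : KB (Im G P.E) c) : KB (G ⧸ P.F) (c * P.A.index) := by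
  let η : G ⧸ P.F →* Im G P.E := QuotientGroup.lift _ (toIm G P.E) fun f hf =>
    Subtype.ext (Equiv.ext (smul_of_mem_F hf))
  let μ : G ⧸ P.F →* G ⧸ P.A := QuotientGroup.map _ _ (MonoidHom.id G) P.F_le_A
  refine KB.ext μ (h.of_inj (η.comp μ.ker.subtype) ?_) kb_card
  rw [injective_iff_map_eq_one]
  rintro ⟨y, hy⟩ h1
  obtain ⟨g, rfl⟩ := QuotientGroup.mk_surjective y
  refine Subtype.ext ((QuotientGroup.eq_one_iff g).2 (mem_F_of_smul
    ((QuotientGroup.eq_one_iff g).1 hy) fun v => ?_))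
  exact DFunLike.congr_fun (congrArg Subtype.val h1) v

theorem gam [Finite G] : Nat.card G * (3 * (Nat.card P.E * P.x) - 2) ≤
    (Nat.card P.E * P.x) ^ 2 * P.A.index ^ 2 * kk G := by
  have h1 := kk_center (P.U.subgroupOf P.A) fun u hu => mem_center_iff.2 fun a =>
    Subtype.ext (a.2 u hu).symm
  rw [show (P.U.subgroupOf P.A).index = _ from P.relIndex_U_A] at h1
  have h2 := card_conjClasses_subgroup_le P.A
  rw [← P.A.card_mul_index]
  calc _ = Nat.card P.A * (3 * (Nat.card P.E * P.x) - 2) * P.A.index := by ring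
    _ ≤ (Nat.card P.E * P.x) ^ 2 * (P.A.index * kk G) * P.A.index :=
      Nat.mul_le_mul_right _ (h1.trans (Nat.mul_le_mul_left _ h2))
    _ = _ := by ring

theorem x_of_card_one [Finite G] (h : Nat.card P.E = 1) : P.x = 1 := by
  have := (Nat.card_eq_one_iff_unique.1 h).1
  exact relIndex_eq_one.2 fun a ha => mem_F_of_smul ha fun _ => Subsingleton.elim _ _

theorem card_le_of_ne_top {V : Type*} [AddCommGroup V] [Finite V] {r : ℕ} (hr : r.Prime)
    (h : Nat.card V = r ^ 2) {T : AddSubgroup V} (hT : T ≠ ⊤) : Nat.card T ≤ r := by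
  obtain ⟨i, hi, e⟩ := (Nat.dvd_prime_pow hr).1 (h ▸ T.card_addSubgroup_dvd_card)
  have : i ≠ 2 := fun h2 => hT (AddSubgroup.eq_top_of_card_eq _ (by rw [e, h, h2]))
  rw [e]
  exact (Nat.pow_le_pow_right hr.pos (show i ≤ 1 by omega)).trans_eq (pow_one r)

/-- the centraliser of `a` modulo `U` -/
def cen1 (a : P.F) : AddSubgroup P.E where
  carrier := {y | ∃ c : P.F, ⁅(a : G), (c : G)⁆ = 1 ∧ P.pr c = y}
  zero_mem' := ⟨1, by simp, rfl⟩
  add_mem' := by
    rintro _ _ ⟨c, hc, rfl⟩ ⟨d, hd, rfl⟩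
    exact ⟨c * d, by rw [coe_mul, comm_mul_right a.2 c.2 d.2, hc, hd, mul_one], rfl⟩
  neg_mem' := by
    rintro _ ⟨c, hc, rfl⟩
    exact ⟨c⁻¹, (commutatorElement_eq_one_iff_commute.1 hc).inv_right.commutator_eq, rfl⟩

theorem mem_cen1 {a b : P.F} : P.pr b ∈ P.cen1 a ↔ ⁅(a : G), (b : G)⁆ = 1 :=
  ⟨fun ⟨_, hc, e⟩ => (comm_congr rfl e).symm.trans hc, fun h => ⟨b, h, rfl⟩⟩

/-- the symplectic bound in the two-dimensional case -/
theorem x_le_prime [Finite G] {r : ℕ} (hr : r.Prime) (h : Nat.card P.E = r ^ 2) :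
    P.x ≤ (r ^ 2 - 1) * r := by
  have : Nontrivial P.E := Finite.one_lt_card_iff_nontrivial.1
    (h ▸ Nat.one_lt_pow two_ne_zero hr.one_lt)
  obtain ⟨y, hy⟩ := exists_ne (0 : P.E)
  obtain ⟨a, rfl⟩ := pr_surj y
  obtain ⟨b, hb⟩ := exists_comm_ne hy
  have hC : P.cen1 a ≠ ⊤ := fun e => hb (P.mem_cen1.1 (e ▸ trivial))
  let S := MulAction.stabilizer P.A (P.pr a)
  let T := MulAction.stabilizer S (P.pr b)
  have h1 : S.index ≤ r ^ 2 - 1 := by
    rw [MulAction.index_stabilizer, ← h, ← Set.ncard_univ, ← Set.ncard_diff_singleton_of_mem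
      (Set.mem_univ (0 : P.E))]
    refine Set.ncard_le_ncard ?_
    rintro _ ⟨g, rfl⟩
    exact ⟨trivial, fun e => hy ((smul_eq_zero_iff_eq g).1 e)⟩
  have h2 : T.index ≤ r := by
    rw [MulAction.index_stabilizer]
    refine le_trans ?_ (card_le_of_ne_top hr h hC)
    refine Set.ncard_le_ncard_of_injOn (· - P.pr b) ?_ (fun _ _ _ _ e => sub_left_injective e)
    rintro _ ⟨⟨⟨g, hg⟩, hg'⟩, rfl⟩
    have e1 : P.pr ⟨g * a * g⁻¹, P.Fn.conj_mem _ a.2 g⟩ = P.pr a := hg'
    show P.pr ⟨g * b * g⁻¹, P.Fn.conj_mem _ b.2 g⟩ - P.pr b ∈ P.cen1 a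
    rw [sub_eq_add_neg, ← pr_inv, ← pr_mul, mem_cen1, coe_mul,
      comm_mul_right a.2 (P.Fn.conj_mem _ b.2 g) (b⁻¹).2]
    have e2 := comm_congr (b := ⟨g * b * g⁻¹, P.Fn.conj_mem _ b.2 g⟩) e1 rfl
    simp only at e2
    rw [← e2, ← conjugate_commutatorElement, ← hg _ (P.comm _ a.2 _ b.2), mul_inv_cancel_right,
      ← comm_mul_right a.2 b.2 (b⁻¹).2]
    simp
  have h3 : T.map S.subtype ≤ P.F.subgroupOf P.A := by
    rintro _ ⟨⟨⟨g, hg⟩, hg'⟩, hg'', rfl⟩
    refine mem_F_of_smul hg fun v => ?_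
    let Z : AddSubgroup P.E := (DistribSMul.toAddMonoidHom P.E g).eqLocus (AddMonoidHom.id _)
    by_contra hv
    have hZ := card_le_of_ne_top hr h (T := Z) fun e => hv (e ▸ trivial : v ∈ Z)
    have h4 : AddSubgroup.zmultiples (P.pr a) ≤ Z := AddSubgroup.zmultiples_le.2 hg'
    have h5 : r ≤ Nat.card (AddSubgroup.zmultiples (P.pr a)) := by
      obtain ⟨i, hi, e⟩ := (Nat.dvd_prime_pow hr).1
        (h ▸ (AddSubgroup.zmultiples (P.pr a)).card_addSubgroup_dvd_card)
      have : i ≠ 0 := fun h0 => hy (AddSubgroup.zmultiples_eq_bot.1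
        (AddSubgroup.card_eq_one.1 (by rw [e, h0, pow_zero])))
      rw [e]
      exact Nat.le_self_pow this r
    have h6 : AddSubgroup.zmultiples (P.pr a) ≤ P.cen1 a :=
      AddSubgroup.zmultiples_le.2 (P.mem_cen1.2 (commutatorElement_self _))
    rw [AddSubgroup.eq_of_le_of_card_ge h4 (hZ.trans h5)] at h6
    exact hb (P.mem_cen1.1 (h6 hg''))
  have h4 : (T.map S.subtype).index = T.index * S.index := by
    rw [index_map_subtype]
  refine (Nat.le_of_dvd (Nat.pos_of_ne_zero index_ne_zero_of_finite) (index_dvd_of_le h3)).trans ?_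
  rw [h4, mul_comm]
  exact Nat.mul_le_mul h1 h2

theorem perm_four [Finite G] (hA : P.A.index = 1) (hE : Nat.card P.E = 4) (hx : P.x = 6) :
    Nat.card G = 24 * Nat.card P.U ∧ 4 * Nat.card P.U ≤ kk G := by
  have hA' : ∀ g, g ∈ P.A := fun g => (index_eq_one.1 hA) ▸ mem_top g
  have hQ : Nat.card (G ⧸ P.U) = 24 := by rw [← index_eq_card, index_U, hA, hE, hx]
  refine ⟨by rw [P.card_eq, hA, hE, hx, mul_comm], ?_⟩
  have h4 : ∀ f ∈ P.F, (f : G ⧸ P.U) ^ 4 = 1 := fun f hf => by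
    rw [← QuotientGroup.mk_pow, QuotientGroup.eq_one_iff]
    exact pr_eq_zero.1 (by rw [pr_pow, ← hE, card_nsmul_eq_zero'] : P.pr (⟨f, hf⟩ ^ 4) = 0)
  have : Fact (Nat.Prime 3) := ⟨Nat.prime_three⟩
  obtain ⟨y, hy⟩ := exists_prime_orderOf_dvd_card' (G := G ⧸ P.U) 3 (by rw [hQ]; norm_num)
  have h13 : ∀ z ∈ zpowers y, z ^ 4 = 1 → z = 1 := fun z hz h => by
    have h1 : z ^ 3 = 1 := orderOf_dvd_iff_pow_eq_one.1 (hy ▸ orderOf_dvd_of_mem_zpowers hz)
    rwa [pow_succ, h1, one_mul] at h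
  obtain ⟨e⟩ := Cl.L2.nonempty_perm_four hQ (P := zpowers y) (by rw [Nat.card_zpowers, hy])
    (fun hn => by
      obtain ⟨g, rfl⟩ := QuotientGroup.mk_surjective y
      have h1 : g ∈ P.F := mem_F (hA' g) fun f hf => (QuotientGroup.eq_one_iff _).1
        (h13 _ (mul_mem (hn.conj_mem _ (mem_zpowers _) (f : G ⧸ P.U)) (inv_mem (mem_zpowers _)))
          (h4 ⁅f, g⁆ (by
            rw [commutatorElement_def, mul_assoc, mul_assoc, ← mul_assoc g]
            exact mul_mem hf (P.Fn.conj_mem _ (inv_mem hf) g))))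
      rw [h13 _ (mem_zpowers _) (h4 g h1), orderOf_one] at hy
      omega)
    fun z hz => by
      by_contra hc
      push Not at hc
      obtain ⟨g, rfl⟩ := QuotientGroup.mk_surjective z
      have h1 : g ∈ P.F := mem_F (hA' g) fun f _ => (QuotientGroup.eq_one_iff _).1
        (commutatorElement_eq_one_iff_mul_comm.2 (hc f))
      have h2 := mem_U_of_inv h1 fun c => QuotientGroup.eq.1 (by
        rw [QuotientGroup.mk_mul, QuotientGroup.mk_mul, hc, QuotientGroup.mk_inv,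
          mul_inv_cancel_right])
      rw [(QuotientGroup.eq_one_iff g).2 h2, orderOf_one] at hz
      omega
  have hk : (e.toMonoidHom.comp (QuotientGroup.mk' P.U)).ker = P.U := by
    ext g; simp
  have h5 := kk_central (e.toMonoidHom.comp (QuotientGroup.mk' P.U))
    (e.surjective.comp (QuotientGroup.mk'_surjective _))
    (by rw [hk]; exact fun u hu => mem_center_iff.2 fun g => (hA' g u hu).symm) w4 w4_spec
  rw [hk, sum_w4, ← Nat.card_congr e.toEquiv, hQ] at h5
  omega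

end Cls

end Cfsg.Agent.FG.HK
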