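import Mathlib
import Cfsg.Agent.FG.BaseMain

/-! The wreath embedding and the bound `3^(n-1)` for the order of a transitive solvable
permutation group of degree `n`. -/

set_option autoImplicit false

namespace Cfsg.Agent.FG.HK

open Subgroup Cfsg.Agent.FG.BS

universe u

variable {G : Type*} [Group G]

theorem conj_mem_of_core {S : Subgroup G} {b : G} (hb : b ∈ S.normalCore) (x : G) :
    x⁻¹ * b * x ∈ S := by simpa using hb x⁻¹

/-- the wreath embedding of the core of `S` -/
noncomputable def wr (S : Subgroup G) {Q : Type*} [Group Q] (π : S →* Q) :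
    S.normalCore →* (G ⧸ S → Q) where
  toFun b x := π ⟨x.out⁻¹ * b * x.out, conj_mem_of_core b.2 _⟩
  map_one' := funext fun x => by
    rw [Pi.one_apply, ← map_one π]; congr 1; exact Subtype.ext (by simp)
  map_mul' a b := funext fun x => by
    rw [Pi.mul_apply, ← map_mul π]; congr 1; exact Subtype.ext (by simp [mul_assoc])

theorem wr_ker {S : Subgroup G} {Q : Type*} [Group Q] {π : S →* Q} {b : S.normalCore}
    (h : wr S π b = 1) (x : G) : π ⟨x⁻¹ * b * x, conj_mem_of_core b.2 _⟩ = 1 := by
  have h1 : π ⟨(x : G ⧸ S).out⁻¹ * b * (x : G ⧸ S).out, conj_mem_of_core b.2 _⟩ = 1 :=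
    congrFun h (x : G ⧸ S)
  obtain ⟨s, hs⟩ := QuotientGroup.mk_out_eq_mul S x
  have h2 : (⟨x⁻¹ * b * x, conj_mem_of_core b.2 _⟩ : S) =
      s * ⟨(x : G ⧸ S).out⁻¹ * b * (x : G ⧸ S).out, conj_mem_of_core b.2 _⟩ * s⁻¹ :=
    Subtype.ext (by simp [hs, mul_assoc])
  rw [h2, map_mul, map_mul, h1, mul_one, ← map_mul, mul_inv_cancel, map_one]

theorem index_le_of_base {M A ι : Type*} [Group M] [AddCommGroup A] [DistribMulAction M A]
    {t : ι → A} (ht : IsBase M t) (K : Subgroup M) (hK : ∀ m : M, (∀ a : A, m • a = a) → m ∈ K)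
    (T : Set (ι → A)) (hT : T.Finite) (h : ∀ m : M, m • t ∈ T) : K.index ≤ T.ncard := by
  have h1 : MulAction.stabilizer M t ≤ K := fun m hm => hK m (ht m fun i => congrFun hm i)
  have h2 : (MulAction.orbit M t).ncard ≤ T.ncard :=
    Set.ncard_le_ncard (by rintro _ ⟨m, rfl⟩; exact h m) hT
  rw [← MulAction.index_stabilizer] at h2
  refine le_trans (Nat.le_of_dvd (Nat.pos_of_ne_zero ?_) (index_dvd_of_le h1)) h2
  rw [MulAction.index_stabilizer]
  exact ((Set.ncard_pos (hT.subset (by rintro _ ⟨m, rfl⟩; exact h m))).2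
    ⟨t, MulAction.mem_orbit_self t⟩).ne'

theorem pow_four_le {n : ℕ} (hn : 9 ≤ n) : n ^ 4 ≤ 3 ^ (n - 1) := by
  induction n, hn using Nat.le_induction with
  | base => norm_num
  | succ n hn ih =>
    rw [show n + 1 - 1 = n - 1 + 1 by omega, pow_succ 3]
    have h1 : 9 * (n + 1) ≤ 10 * n := by omega
    have h2 := Nat.pow_le_pow_left h1 4
    rw [mul_pow, mul_pow] at h2
    omega

/-- the action on an irredundant generating family -/
theorem index_le_desc {M A : Type*} [Group M] [AddCommGroup A] [DistribMulAction M A] [Finite A]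
    (K : Subgroup M) (hK : ∀ m : M, (∀ a : A, m • a = a) → m ∈ K) :
    ∃ k, 2 ^ k ≤ Nat.card A ∧ K.index ≤ (Nat.card A - 1).descFactorial k := by
  classical
  obtain ⟨k, a, ha, hi⟩ := exists_irred (A := Multiplicative A)
  refine ⟨k, hi.two_pow_le, ?_⟩
  let t : Fin k → A := fun i => (a i).toAdd
  have ht : IsBase M t := fun m hm x => by
    have : Multiplicative.ofAdd x ∈ closure (Set.range a) := ha ▸ mem_top _
    have h3 : ∀ y ∈ closure (Set.range a), m • y.toAdd = y.toAdd := fun y hy => by
      induction hy using closure_induction with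
      | mem y hy => obtain ⟨i, rfl⟩ := hy; exact hm i
      | one => exact smul_zero m
      | mul y z _ _ h1 h2 => rw [toAdd_mul, smul_add, h1, h2]
      | inv y _ h1 => rw [toAdd_inv, smul_neg, h1]
    exact h3 _ this
  have := Fintype.ofFinite A
  let j : (Fin k ↪ {x : A // x ≠ 0}) → Fin k → A := fun f i => f i
  refine (index_le_of_base ht K hK (Set.range j) (Set.toFinite _) fun m => ?_).trans ?_
  · have h1 : ∀ i, m • t i ≠ 0 := fun i h => hi.ne_one i (show t i = 0 from (smul_eq_zero_iff_eq m).1 h)
    refine ⟨⟨fun i => ⟨m • t i, h1 i⟩, fun i i' h => hi.inj ?_⟩, rfl⟩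
    exact (MulAction.injective m (Subtype.mk.inj h) : t i = t i')
  · rw [← Set.image_univ]
    refine (Set.ncard_image_le (Set.toFinite _)).trans ?_
    rw [Set.ncard_univ, Nat.card_eq_fintype_card, Fintype.card_embedding_eq, Fintype.card_fin,
      Fintype.card_subtype_compl, Fintype.card_subtype_eq, Nat.card_eq_fintype_card]

theorem coatom_index_le {G : Type u} [Group G] [Finite G] [Group.IsSolvable G] (M : Subgroup G)
    (hM : IsCoatom M) : M.normalCore.index ≤ 3 ^ (M.index - 1) := by
  obtain ⟨A, _, _, e, hA, -, hm, -⟩ := exists_affine M hM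
  have : Finite A := Finite.of_equiv _ e.symm
  have hn : Nat.card A = M.index := Nat.card_congr e
  have hK : ∀ m : M, (∀ a : A, m • a = a) → m ∈ M.normalCore.subgroupOf M := fun m h => by
    rw [mem_subgroupOf, normalCore_eq_ker, MonoidHom.mem_ker]
    ext x
    obtain ⟨a, rfl⟩ := e.surjective x
    exact (hm m a).symm.trans (congrArg e (h a))
  rw [← relIndex_mul_index (normalCore_le M), ← hn]
  rcases le_or_gt 9 (Nat.card A) with h9 | h9
  · obtain ⟨t, ht⟩ := base_three_of_irr hA
    have := index_le_of_base ht _ hK Set.univ (Set.toFinite _) fun _ => trivial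
    rw [Set.ncard_univ, Nat.card_fun, Nat.card_fin] at this
    exact (Nat.mul_le_mul_right _ this).trans ((pow_succ _ _).symm.trans_le (pow_four_le h9))
  · obtain ⟨k, hk, h⟩ := index_le_desc _ hK
    refine (Nat.mul_le_mul_right _ h).trans ?_
    have hk3 : k ≤ 3 := by
      by_contra hc
      have := Nat.pow_le_pow_right (show 0 < 2 by norm_num) (show 4 ≤ k by omega)
      omega
    clear h hn
    generalize Nat.card A = n at *
    interval_cases k <;> interval_cases n <;> simp_all [Nat.descFactorial]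

/-- a transitive solvable group of degree `n` has order at most `3^(n-1)` -/
theorem core_index_le (n : ℕ) : ∀ (G : Type u) [Group G] [Finite G] [Group.IsSolvable G]
    (H : Subgroup G), H.index = n → H.normalCore.index ≤ 3 ^ (n - 1) := by
  induction n using Nat.strong_induction_on with
  | _ n ih =>
  intro G _ _ _ H hn
  rcases eq_top_or_exists_le_coatom H with rfl | ⟨M, hM, hHM⟩
  · rw [normalCore_eq_self, index_top]; exact Nat.one_le_pow _ _ (by norm_num)
  have h1 := coatom_index_le M hM
  have hb : 1 < M.index := one_lt_index_of_ne_top hM.1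
  have hab := relIndex_mul_index hHM
  have ha : 0 < H.relIndex M := Nat.pos_of_ne_zero index_ne_zero_of_finite
  have h2 := ih (H.relIndex M) (by rw [← hn, ← hab]; nlinarith) M (H.subgroupOf M) rfl
  have := Fintype.ofFinite (G ⧸ M)
  let φ := wr M (QuotientGroup.mk' (H.subgroupOf M).normalCore)
  have h3 : φ.ker ≤ H.normalCore.subgroupOf M.normalCore := fun b hb x => by
    have := normalCore_le _ ((QuotientGroup.eq_one_iff _).1 (wr_ker hb x⁻¹))
    simpa [mem_subgroupOf] using this
  have h4 : H.normalCore.relIndex M.normalCore ≤ (3 ^ (H.relIndex M - 1)) ^ M.index := by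
    refine (Nat.le_of_dvd (Nat.pos_of_ne_zero index_ne_zero_of_finite) (index_dvd_of_le h3)).trans ?_
    rw [index_ker]
    refine φ.range.card_le_card_group.trans ?_
    rw [Nat.card_fun]
    exact Nat.pow_le_pow_left h2 _
  rw [← relIndex_mul_index (normalCore_mono hHM)]
  refine (Nat.mul_le_mul h4 h1).trans ?_
  rw [← pow_mul, ← pow_add, ← hn, ← hab]
  refine Nat.pow_le_pow_right (by norm_num) ?_
  obtain ⟨a, ha'⟩ : ∃ a, H.relIndex M = a + 1 := ⟨_, (Nat.succ_pred_eq_of_pos ha).symm⟩
  rw [ha', Nat.add_sub_cancel, add_mul]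
  omega

theorem core_index_dvd [Finite G] (H : Subgroup G) : H.normalCore.index ∣ H.index.factorial := by
  classical
  have := Fintype.ofFinite (G ⧸ H)
  rw [normalCore_eq_ker, index_ker, index_eq_card, ← Nat.card_perm]
  exact card_subgroup_dvd_card _

end Cfsg.Agent.FG.HK
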