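import Mathlib
import Cfsg.Agent.FG.HKClsB

/-! Weights of abelian subgroups and the numerical data of the quasi-primitive case. -/

set_option autoImplicit false

namespace Cfsg.Agent.FG.HK

open Subgroup Module Cfsg.Agent.FG.BS
open scoped commutatorElement TensorProduct

section wt

variable {L W G : Type*} [Field L] [AddCommGroup W] [Module L W] [Group G]
  (σ : G →* Module.End L W)

/-- the weight space -/
def wsp (B : Subgroup G) (μ : B → L) : Submodule L W where
  carrier := {w | ∀ b : B, σ b w = μ b • w}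
  zero_mem' := fun b => by simp
  add_mem' := fun ha hb b => by rw [map_add, ha b, hb b, smul_add]
  smul_mem' := fun c w hw b => by rw [map_smul, hw b, smul_comm]

variable {σ}

theorem mem_wsp {B : Subgroup G} {μ : B → L} {w : W} :
    w ∈ wsp σ B μ ↔ ∀ b : B, σ b w = μ b • w := Iff.rfl

theorem app_mul (a b : G) (w : W) : σ (a * b) w = σ a (σ b w) := by rw [map_mul]; rfl

theorem app_ne {g : G} {w : W} (h : w ≠ 0) : σ g w ≠ 0 := fun e => h (by
  have := app_mul (σ := σ) g⁻¹ g w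
  rwa [inv_mul_cancel, map_one, e, map_zero] at this)

theorem wsp_inv {B : Subgroup G} {μ : B → L} {g : G} (hg : ∀ b ∈ B, b * g = g * b) {w : W}
    (hw : w ∈ wsp σ B μ) : σ g w ∈ wsp σ B μ := fun b => by
  rw [← app_mul, hg b b.2, app_mul, hw b, map_smul]

theorem wsp_conj {B : Subgroup G} {μ : B → L} {g : G} (hg : ∀ b ∈ B, g⁻¹ * b * g ∈ B) {w : W}
    (hw : w ∈ wsp σ B μ) : σ g w ∈ wsp σ B fun b => μ ⟨g⁻¹ * b * g, hg b b.2⟩ := fun b => by
  rw [← map_smul, ← hw, ← app_mul, ← app_mul]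
  congr 2
  simp [mul_assoc]

theorem exists_weight [IsAlgClosed L] [FiniteDimensional L W] (B : Subgroup G)
    (hB : ∀ x ∈ B, ∀ y ∈ B, x * y = y * x) (X : Submodule L W) (hX : X ≠ ⊥)
    (hinv : ∀ b ∈ B, ∀ v ∈ X, σ b v ∈ X) : ∃ μ : B → L, ∃ w ∈ X, w ≠ 0 ∧ w ∈ wsp σ B μ := by
  obtain ⟨Y, ⟨h1, h2, h3⟩, hmin⟩ := exists_minimal_of_wellFoundedLT
    (fun Y : Submodule L W => Y ≠ ⊥ ∧ Y ≤ X ∧ ∀ b ∈ B, ∀ v ∈ Y, σ b v ∈ Y) ⟨X, hX, le_rfl, hinv⟩
  have := Submodule.nontrivial_iff_ne_bot.2 h1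
  have h4 : ∀ b : B, ∃ c : L, ∀ v ∈ Y, σ b v = c • v := fun b => by
    obtain ⟨c, hc⟩ := Module.End.exists_eigenvalue ((σ b).restrict (h3 b b.2))
    obtain ⟨v, hv⟩ := hc.exists_hasEigenvector
    have hv1 : σ b v = c • (v : W) := congrArg Subtype.val hv.apply_eq_smul
    refine ⟨c, fun w hw => Module.End.mem_eigenspace_iff.1
      (hmin (y := Y ⊓ (σ b).eigenspace c) ⟨fun e => hv.2 (Subtype.ext ?_), inf_le_left.trans h2,
        fun b' hb' x hx => ⟨h3 b' hb' x hx.1, ?_⟩⟩ inf_le_left hw).2⟩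
    · exact (Submodule.mem_bot L).1 (e ▸ ⟨v.2, Module.End.mem_eigenspace_iff.2 hv1⟩)
    · refine Module.End.mem_eigenspace_iff.2 ?_
      rw [← app_mul, hB _ b.2 _ hb', app_mul, Module.End.mem_eigenspace_iff.1 hx.2, map_smul]
  choose μ hμ using h4
  obtain ⟨w, hw, hw0⟩ := Submodule.exists_mem_ne_zero_of_ne_bot h1
  exact ⟨μ, w, h2 hw, hw0, fun b => hμ b w hw⟩

theorem indep_wt {B : Subgroup G} {ι : Type*} (μ : ι → B → L) (hμ : Function.Injective μ)
    (w : ι → W) (h0 : ∀ i, w i ≠ 0) (hw : ∀ i, w i ∈ wsp σ B (μ i)) : LinearIndependent L w := by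
  rw [linearIndependent_iff_finset_linearIndependent]
  intro s
  have h : Indep fun i : s => (wsp σ B (μ i)).toAddSubgroup := by
    refine indep_of_sep _ fun i j hij => ?_
    obtain ⟨b, hb⟩ := Function.ne_iff.1 fun e => hij (Subtype.ext (hμ e))
    refine ⟨(σ b - algebraMap L _ (μ j b)).toAddMonoidHom, fun k x hx => ?_, fun x hx => ?_,
      fun x hx h => ?_⟩
    · show σ b x - μ j b • x ∈ wsp σ B (μ k)
      rw [hx b]
      exact Submodule.sub_mem _ (Submodule.smul_mem _ _ hx) (Submodule.smul_mem _ _ hx)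
    · exact sub_eq_zero.2 (hx b)
    · have h1 : σ b x - μ j b • x = 0 := h
      rw [hx b, ← sub_smul, smul_eq_zero, sub_eq_zero] at h1
      exact h1.resolve_left hb
  refine Fintype.linearIndependent_iff.2 fun g hg i => ?_
  exact (smul_eq_zero.1 (h _ (fun i => Submodule.smul_mem _ _ (hw i)) hg i)).resolve_right (h0 i)

theorem wt_mul {B : Subgroup G} {μ : B → L} {w : W} (h0 : w ≠ 0) (hw : w ∈ wsp σ B μ) (a b : B) :
    μ (a * b) = μ a * μ b := smul_left_injective L h0 (by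
  show μ (a * b) • w = (μ a * μ b) • w
  rw [← hw, coe_mul, app_mul, hw, map_smul, hw, smul_smul, mul_comm])

theorem wt_eq {B : Subgroup G} {μ : B → L} {w : W} (hw : w ∈ wsp σ B μ) {a b : B}
    (h : μ a = μ b) : σ ((a : G)⁻¹ * b) w = w := by
  rw [app_mul, hw, ← h, ← hw, ← app_mul, inv_mul_cancel, map_one]; rfl

end wt

/-- the numerical data of the quasi-primitive case in dimension `m` over `K` -/
def QD (K : Type*) [Field K] (G : Type*) [Group G] (m : ℕ) : Prop :=
  ∃ (P : Cls G) (c e : ℕ), Nat.card P.E = e ^ 2 ∧ P.A.index ≤ c ∧ c * e ≤ m ∧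
    ∀ [Finite K], ∃ d, 1 ≤ d ∧ d ≤ c ∧ Nat.card P.U ∣ Nat.card K ^ d - 1

theorem exists_qd {K V G : Type*} [Field K] [AddCommGroup V] [Module K V] [FiniteDimensional K V]
    [Nontrivial V] [Group G] [Finite G] [Group.IsSolvable G] (ρ : G →* Module.End K V)
    (U : Subgroup G) (hUn : U.Normal) (hUc : ∀ x ∈ U, ∀ y ∈ U, x * y = y * x)
    (hmax : ∀ X : Subgroup G, X.Normal → (∀ x ∈ X, ∀ y ∈ X, x * y = y * x) → U ≤ X → X ≤ U)
    (hf : ∀ u ∈ U, u ≠ 1 → ∀ v : V, ρ u v = v → v = 0) : QD K G (finrank K V) := by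
  classical
  let L := AlgebraicClosure K
  let W := L ⊗[K] V
  let σ : G →* Module.End L W := (Module.End.baseChangeHom K L V).toMonoidHom.comp ρ
  have hW : finrank L W = finrank K V := finrank_baseChange
  have : Nontrivial W := (finrank_pos_iff (R := L)).1 (hW.symm ▸ finrank_pos (R := K) (M := V))
  have hf' : ∀ u ∈ U, ∀ w : W, w ≠ 0 → σ u w = w → u = 1 := fun u hu w hw h => by
    by_contra h1
    have h2 : IsUnit (ρ u - 1) := (LinearMap.isUnit_iff_ker_eq_bot _).2
      (LinearMap.ker_eq_bot'.2 fun v hv => hf u hu h1 v (sub_eq_zero.1 hv))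
    have h3 := h2.map (Module.End.baseChangeHom K L V)
    rw [map_sub, map_one] at h3
    exact hw (LinearMap.ker_eq_bot'.1 ((LinearMap.isUnit_iff_ker_eq_bot _).1 h3) w
      (sub_eq_zero.2 h))
  have hinj : ∀ {μ : U → L} {w : W}, w ≠ 0 → w ∈ wsp σ U μ → Function.Injective μ :=
    fun h0 hw a b h => Subtype.ext (inv_mul_eq_one.1
      (hf' _ (U.mul_mem (U.inv_mem a.2) b.2) _ h0 (wt_eq hw h)))
  obtain ⟨μ0, w0, -, h0, hw0⟩ := exists_weight (σ := σ) U hUc ⊤ top_ne_bot fun _ _ _ _ => trivial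
  let j : U →* L :=
    { toFun := μ0, map_mul' := wt_mul h0 hw0
      map_one' := smul_left_injective L h0 (by
        show μ0 1 • w0 = (1 : L) • w0
        rw [← hw0, coe_one, map_one, one_smul]; rfl) }
  have hcyc := isCyclic_of_injective_ringHom j (hinj h0 hw0)
  obtain ⟨P, rfl⟩ := exists_cls U hUn hUc hmax hcyc
  obtain ⟨B, hUB, hBF, hBc, hBm, hE⟩ := P.exists_B
  let Λ := {μ : P.U → L // wsp σ P.U μ ≠ ⊥}
  have hΛ : ∀ μ : Λ, ∃ ν : B → L, ∃ w ∈ wsp σ P.U μ.1, w ≠ 0 ∧ w ∈ wsp σ B ν := fun μ =>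
    exists_weight B hBc _ μ.2 fun b hb v hv => wsp_inv (fun u hu => P.cen u hu b (hBF hb)) hv
  choose ν w hw1 hw2 hw3 using hΛ
  have : Finite Λ := (indep_wt _ Subtype.val_injective w hw2 hw1).finite
  have hBn : ∀ f ∈ P.F, ∀ b ∈ B, f⁻¹ * b * f ∈ B := fun f hf b hb => by
    have := B.mul_mem (hUB (P.comm _ (P.F.inv_mem hf) _ (hBF hb))) hb
    simpa [commutatorElement_def, mul_assoc] using this
  refine ⟨P, Nat.card Λ, B.relIndex P.F, hE, ?_, ?_, ?_⟩
  · have h1 : ∀ g : G, ∀ u ∈ P.U, g⁻¹ * u * g ∈ P.U := fun g u hu => by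
      simpa using hUn.conj_mem u hu g⁻¹
    refine Nat.card_le_card_of_injective (fun x : G ⧸ P.A =>
      (⟨_, (Submodule.ne_bot_iff _).2 ⟨_, wsp_conj (h1 x.out) hw0, app_ne h0⟩⟩ : Λ)) fun x y e => ?_
    have h2 : y.out * x.out⁻¹ ∈ P.A := fun u hu => by
      have := congrArg Subtype.val (hinj h0 hw0 (congrFun (Subtype.mk.inj e) ⟨u, hu⟩))
      simp only at this
      calc u * (y.out * x.out⁻¹) = y.out * (y.out⁻¹ * u * y.out) * x.out⁻¹ := by group
        _ = _ := by rw [← this]; group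
    rw [← x.out_eq', ← y.out_eq', QuotientGroup.eq]
    simpa [mul_assoc] using (inferInstance : P.A.Normal).conj_mem _ h2 x.out⁻¹
  · let X := P.F ⧸ B.subgroupOf P.F
    have h1 := indep_wt (σ := σ) (fun p : Λ × X => fun b : B =>
      ν p.1 ⟨_, hBn _ p.2.out.2 b b.2⟩) ?_ (fun p => σ p.2.out (w p.1)) (fun p => app_ne (hw2 _))
      fun p => wsp_conj (hBn _ p.2.out.2) (hw3 _)
    · have := Fintype.ofFinite (Λ × X)
      have h2 := h1.fintype_card_le_finrank
      rwa [hW, ← Nat.card_eq_fintype_card, Nat.card_prod] at h2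
    rintro ⟨μ, x⟩ ⟨μ', y⟩ e
    have h2 : ∀ (μ : Λ) (u : P.U), ν μ ⟨u, hUB u.2⟩ = μ.1 u := fun μ u =>
      smul_left_injective L (hw2 μ) ((hw3 μ ⟨u, hUB u.2⟩).symm.trans (hw1 μ u))
    have h3 : ∀ (f : P.F) (u : P.U), (⟨_, hBn _ f.2 u (hUB u.2)⟩ : B) = ⟨u, hUB u.2⟩ :=
      fun f u => Subtype.ext (by simp [mul_assoc, P.cen _ u.2 _ f.2])
    obtain rfl : μ = μ' := Subtype.ext (funext fun u => by
      have := congrFun e ⟨u, hUB u.2⟩
      simp only at this
      rwa [h3, h3, h2, h2] at this)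
    have h4 : (y.out : G) * (x.out : G)⁻¹ ∈ B :=
      hBm _ (P.F.mul_mem y.out.2 (P.F.inv_mem x.out.2)) fun b hb => by
        have h5 := hf' _ ?_ _ (hw2 μ) (wt_eq (hw3 μ) (congrFun e ⟨b, hb⟩))
        · have h6 := inv_mul_eq_one.1 h5
          simp only at h6
          calc b * (y.out * (x.out : G)⁻¹) =
              y.out * ((y.out : G)⁻¹ * b * y.out) * (x.out : G)⁻¹ := by group
            _ = _ := by rw [← h6]; group
        · have h6 := P.U.mul_mem (P.U.inv_mem (P.Un.conj_mem _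
            (P.comm _ (P.F.inv_mem x.out.2) _ (hBF hb)) b⁻¹)) (P.Un.conj_mem _
            (P.comm _ (P.F.inv_mem y.out.2) _ (hBF hb)) b⁻¹)
          simpa [commutatorElement_def, mul_assoc] using h6
    refine Prod.ext rfl ?_
    show x = y
    rw [← x.out_eq', ← y.out_eq', QuotientGroup.eq, mem_subgroupOf]
    simpa [mul_assoc] using hBn _ x.out.2 _ h4
  · intro _
    have := Fintype.ofFinite K
    let φ := FiniteField.frobeniusAlgHom K L
    let T : W →ₗ[K] W := LinearMap.rTensor V φ.toLinearMap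
    have hT : Function.Injective T :=
      Module.Flat.rTensor_preserves_injective_linearMap _ φ.toRingHom.injective
    have hT1 : ∀ (c : L) (x : W), T (c • x) = c ^ Fintype.card K • T x := fun c x => by
      induction x using TensorProduct.induction_on with
      | zero => simp
      | tmul a v =>
        show ((c * a) ^ Fintype.card K) ⊗ₜ[K] v = (c ^ Fintype.card K * a ^ Fintype.card K) ⊗ₜ[K] v
        rw [mul_pow]
      | add a b ha hb => rw [smul_add, map_add, map_add, ha, hb, smul_add]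
    have hT2 : ∀ (g : G) (x : W), σ g (T x) = T (σ g x) := fun g x => by
      induction x using TensorProduct.induction_on with
      | zero => simp
      | tmul a v => rfl
      | add a b ha hb => rw [map_add, map_add, map_add, map_add, ha, hb]
    have h1 : ∀ i : ℕ, wsp σ P.U (fun u => μ0 u ^ Fintype.card K ^ i) ≠ ⊥ := fun i => by
      induction i with
      | zero => exact (Submodule.ne_bot_iff _).2 ⟨w0, fun u => by simpa using hw0 u, h0⟩
      | succ i ih =>
        obtain ⟨v, hv, hv0⟩ := (Submodule.ne_bot_iff _).1 ih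
        refine (Submodule.ne_bot_iff _).2 ⟨T v, fun u => ?_, fun e => hv0 (hT (by rw [e, map_zero]))⟩
        rw [hT2, hv u, hT1, ← pow_mul, pow_succ]
    obtain ⟨a, b, hab, e⟩ : ∃ a b : ℕ, a < b ∧ b ≤ Nat.card Λ ∧
        ∀ u, μ0 u ^ Fintype.card K ^ a = μ0 u ^ Fintype.card K ^ b := by
      have := Fintype.ofFinite Λ
      obtain ⟨a, b, hab, e⟩ := Fintype.exists_ne_map_eq_of_card_lt
        (fun i : Fin (Nat.card Λ + 1) => (⟨_, h1 i⟩ : Λ))
        (by rw [Fintype.card_fin, Nat.card_eq_fintype_card]; exact Nat.lt_succ_self _)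
      have e' := congrFun (Subtype.mk.inj e)
      rcases lt_or_gt_of_ne (Fin.val_ne_of_ne hab) with h | h
      · exact ⟨a, b, h, Nat.lt_succ_iff.1 b.2, e'⟩
      · exact ⟨b, a, h, Nat.lt_succ_iff.1 a.2, fun u => (e' u).symm⟩
    refine ⟨b - a, by omega, by omega, ?_⟩
    rw [← IsCyclic.exponent_eq_card, Nat.card_eq_fintype_card]
    refine Monoid.exponent_dvd_of_forall_pow_eq_one fun u => ?_
    have h2 : μ0 u = μ0 u ^ Fintype.card K ^ (b - a) := by
      refine (φ.toRingHom.injective.iterate a) ?_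
      have h3 : ∀ x : L, φ.toRingHom^[a] x = x ^ Fintype.card K ^ a := fun x =>
        congrFun (pow_iterate (Fintype.card K) a) x
      rw [h3, h3, e.2, ← pow_mul, ← pow_add, Nat.sub_add_cancel hab.le]
    have h3 : u ^ Fintype.card K ^ (b - a) = u := hinj h0 hw0 ((map_pow j u _).trans h2.symm)
    have h4 : 1 ≤ Fintype.card K ^ (b - a) := Nat.one_le_pow _ _ Fintype.card_pos
    rw [← Nat.sub_add_cancel h4, pow_succ] at h3
    exact mul_eq_right.1 h3

end Cfsg.Agent.FG.HK
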