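import Mathlib
import Cfsg.Agent.FG.HKWt
import Cfsg.Agent.FG.HKPerm

/-! An induction principle for solvable linear groups: reducible, imprimitive and
quasi-primitive steps. -/

set_option autoImplicit false

namespace Cfsg.Agent.FG.HK

open Subgroup Module Cfsg.Agent.FG.BS
open scoped commutatorElement

universe u v

section uni

variable {K V : Type*} [Field K] [AddCommGroup V] [Module K V]

/-- locally unipotent -/
def Uni (f : Module.End K V) : Prop := ∀ v, ∃ n : ℕ, ((f - 1) ^ n) v = 0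

theorem uni_one : Uni (1 : Module.End K V) := fun _ => ⟨1, by simp⟩

theorem Uni.eq_one {f : Module.End K V} (h : Uni f) {n : ℕ} (hn : (n : K) ≠ 0) (hf : f ^ n = 1) :
    f = 1 := by
  have key : ∀ v, (f - 1) ((f - 1) v) = 0 → (f - 1) v = 0 := fun v hv => by
    have h1 : f ((f - 1) v) = (f - 1) v := sub_eq_zero.1 hv
    have h2 : ∀ k : ℕ, (f ^ k) v = v + (k : K) • (f - 1) v := fun k => by
      induction k with
      | zero => simp
      | succ k ih =>
        rw [pow_succ', Module.End.mul_apply, ih, map_add, map_smul, h1, Nat.cast_succ, add_smul,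
          one_smul]
        simp only [LinearMap.sub_apply, Module.End.one_apply]
        abel
    have h3 := h2 n
    rw [hf, Module.End.one_apply, left_eq_add, smul_eq_zero] at h3
    exact h3.resolve_left hn
  ext v
  obtain ⟨k, hk⟩ := h v
  have : ∀ k : ℕ, ∀ v, ((f - 1) ^ (k + 1)) v = 0 → (f - 1) v = 0 := fun k => by
    induction k with
    | zero => simp
    | succ k ih => exact fun v hv => key v (ih _ (by rwa [pow_succ, Module.End.mul_apply] at hv))
  exact sub_eq_zero.1 (this k v (by rw [pow_succ', Module.End.mul_apply, hk, map_zero]))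

theorem Uni.exists_fix {f : Module.End K V} (h : Uni f) {v : V} (hv : v ≠ 0) :
    ∃ n : ℕ, ((f - 1) ^ n) v ≠ 0 ∧ f (((f - 1) ^ n) v) = ((f - 1) ^ n) v := by
  classical
  have h1 := Nat.find_spec (h v)
  obtain ⟨n, hn⟩ := Nat.exists_eq_succ_of_ne_zero (n := Nat.find (h v)) fun e => hv (by
    simpa [e] using h1)
  refine ⟨n, Nat.find_min (h v) (by omega), ?_⟩
  rw [hn, pow_succ', Module.End.mul_apply] at h1
  exact sub_eq_zero.1 h1

variable {G : Type*} [Group G] {ρ : G →* Module.End K V}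

theorem exists_fixed_uni [Finite G] [Nontrivial V] (A : Subgroup G)
    (hA : ∀ x ∈ A, ∀ y ∈ A, x * y = y * x) (h : ∀ a ∈ A, Uni (ρ a)) :
    ∃ v, v ≠ 0 ∧ ∀ a ∈ A, ρ a v = v := by
  classical
  have key : ∀ s : Finset G, (∀ a ∈ s, a ∈ A) → ∃ v, v ≠ 0 ∧ ∀ a ∈ s, ρ a v = v := fun s => by
    induction s using Finset.induction_on with
    | empty => exact fun _ => (exists_ne 0).imp fun v hv => ⟨hv, by simp⟩
    | insert a s _ ih =>
      intro hs
      obtain ⟨v, hv, h1⟩ := ih fun b hb => hs b (Finset.mem_insert_of_mem hb)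
      have ha := hs a (Finset.mem_insert_self _ _)
      obtain ⟨n, h2, h3⟩ := (h a ha).exists_fix hv
      refine ⟨_, h2, fun b hb => ?_⟩
      rcases Finset.mem_insert.1 hb with rfl | hb'
      · exact h3
      · have h4 : Commute (ρ b) ((ρ a - 1) ^ n) :=
          (Commute.sub_right (Commute.map (hA b (hs b hb) a ha) ρ) (Commute.one_right _)).pow_right n
        rw [← Module.End.mul_apply, h4.eq, Module.End.mul_apply, h1 b hb']
  have := Fintype.ofFinite G
  obtain ⟨v, hv, h1⟩ := key (Finset.univ.filter (· ∈ A)) (by simp)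
  exact ⟨v, hv, fun a ha => h1 a (by simpa using ha)⟩

variable (ρ)

/-- the fixed space -/
def fx (H : Subgroup G) : Submodule K V where
  carrier := {v | ∀ h ∈ H, ρ h v = v}
  zero_mem' := fun _ _ => map_zero _
  add_mem' := fun ha hb h hh => by rw [map_add, ha h hh, hb h hh]
  smul_mem' := fun c a ha h hh => by rw [map_smul, ha h hh]

/-- irreducibility -/
def IrrR : Prop := ∀ W : Submodule K V, (∀ g, ∀ v ∈ W, ρ g v ∈ W) → W = ⊥ ∨ W = ⊤

variable {ρ}

theorem fx_conj {H : Subgroup G} (g : G) {v : V} (hv : v ∈ fx ρ H) :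
    ρ g v ∈ fx ρ (H.map (MulAut.conj g).toMonoidHom) := by
  rintro _ ⟨h, hh, rfl⟩
  show ρ (g * h * g⁻¹) (ρ g v) = _
  rw [← app_mul, inv_mul_cancel_right, app_mul, hv h hh]

theorem eq_bot_of_fx (hρ : Function.Injective ρ) (hi : IrrR ρ) {H : Subgroup G} (hH : H.Normal)
    (h : fx ρ H ≠ ⊥) : H = ⊥ := by
  have h1 := (hi (fx ρ H) fun g v hv h hh => by
    rw [← app_mul, show h * g = g * (g⁻¹ * h * g⁻¹⁻¹) by group, app_mul,
      hv _ (hH.conj_mem h hh _)]).resolve_left h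
  exact eq_bot_iff.2 fun x hx => hρ (LinearMap.ext fun v => by
    rw [map_one]; exact (h1 ▸ Submodule.mem_top : v ∈ fx ρ H) x hx)

theorem eq_bot_of_uni [Finite G] [Group.IsSolvable G] [Nontrivial V] (hρ : Function.Injective ρ)
    (hi : IrrR ρ) {N : Subgroup G} (hN : N.Normal) (h : ∀ a ∈ N, Uni (ρ a)) : N = ⊥ := by
  by_contra hb
  obtain ⟨X, ⟨hXn, hXN, hX⟩, hmin⟩ := (Set.toFinite
    {X : Subgroup G | X.Normal ∧ X ≤ N ∧ X ≠ ⊥}).exists_minimal ⟨N, hN, le_rfl, hb⟩
  have hXX : ⁅X, X⁆ = ⊥ := by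
    by_contra hc
    exact (Group.IsSolvable.commutator_lt_of_ne_bot hX).not_ge
      (hmin ⟨inferInstance, (commutator_le_left X X).trans hXN, hc⟩ (commutator_le_left X X))
  obtain ⟨v, hv, h1⟩ := exists_fixed_uni (ρ := ρ) X
    (fun x hx y hy => (commutator_eq_bot_iff_le_centralizer.1 hXX hy x hx)) fun a ha => h a (hXN ha)
  exact hX (eq_bot_of_fx hρ hi hXn ((Submodule.ne_bot_iff _).2 ⟨v, h1, hv⟩))

/-- a normal abelian subgroup is fixed-point-free, or the module is induced -/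
theorem fpf_or_ind [Finite G] (hρ : Function.Injective ρ) (hi : IrrR ρ) (U : Subgroup G)
    (hUn : U.Normal) (hUc : ∀ x ∈ U, ∀ y ∈ U, x * y = y * x) :
    (∀ u ∈ U, u ≠ 1 → ∀ v : V, ρ u v = v → v = 0) ∨
    ∃ (S : Subgroup G) (W : Submodule K V), S ≠ ⊤ ∧ W ≠ ⊥ ∧ (∀ g ∈ S, ∀ v ∈ W, ρ g v ∈ W) ∧
      ∀ [Fintype (G ⧸ S)], Indep fun x : G ⧸ S => (W.map (ρ x.out)).toAddSubgroup := by
  classical
  by_cases h : ∀ u ∈ U, u ≠ 1 → ∀ v : V, ρ u v = v → v = 0
  · exact Or.inl h
  right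
  push Not at h
  obtain ⟨u, hu, hu1, v, huv, hv⟩ := h
  obtain ⟨U0, ⟨hU0, hW0⟩, hmax⟩ := Set.exists_max_image
    {U0 : Subgroup G | U0 ≤ U ∧ fx ρ U0 ≠ ⊥} (fun U0 => Nat.card U0) (Set.toFinite _)
    ⟨⊥, bot_le, (Submodule.ne_bot_iff _).2 ⟨v, fun h hh => by rw [mem_bot.1 hh, map_one]; rfl, hv⟩⟩
  have hst : ∀ x : V, ∃ T : Subgroup G, ∀ g, g ∈ T ↔ ρ g x = x := fun x =>
    ⟨{ carrier := {g | ρ g x = x}
       one_mem' := by simp
       mul_mem' := fun ha hb => by
        simp only [Set.mem_setOf_eq] at *; rw [app_mul, hb, ha]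
       inv_mem' := fun {a} ha => by
        simp only [Set.mem_setOf_eq] at *
        rw [← ha, ← app_mul, inv_mul_cancel, map_one, ha]; rfl }, fun _ => Iff.rfl⟩
  have hU0b : U0 ≠ ⊥ := by
    intro hb
    obtain ⟨T, hT⟩ := hst v
    have h1 := hmax (zpowers u) ⟨zpowers_le.2 hu, (Submodule.ne_bot_iff _).2
      ⟨v, fun h hh => (hT h).1 (zpowers_le.2 ((hT u).2 huv) hh), hv⟩⟩
    simp only [hb, card_bot] at h1
    exact hu1 (zpowers_eq_bot.1 ((card_le_one_iff_eq_bot _).1 h1))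
  refine ⟨normalizer U0, fx ρ U0, fun e => hU0b (eq_bot_of_fx hρ hi (normalizer_eq_top_iff.1 e) hW0),
    hW0, fun g hg x hx h hh => ?_, fun {_} => ?_⟩
  · rw [← app_mul, show h * g = g * (g⁻¹ * h * g⁻¹⁻¹) by group, app_mul,
      hx _ ((mem_normalizer_iff.1 (inv_mem hg) h).1 hh)]
  let H : G → Subgroup G := fun g => U0.map (MulAut.conj g).toMonoidHom
  have hHU : ∀ g, H g ≤ U := fun g => by rintro _ ⟨x, hx, rfl⟩; exact hUn.conj_mem x (hU0 hx) g
  have hHc : ∀ g, Nat.card (H g) = Nat.card U0 := fun g =>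
    card_map_of_injective (MulAut.conj g).injective
  have hD : ∀ g x, x ∈ (fx ρ U0).map (ρ g) ↔ x ∈ fx ρ (H g) := fun g x => by
    refine ⟨by rintro ⟨y, hy, rfl⟩; exact fx_conj g hy, fun hx => ⟨ρ g⁻¹ x, fun h hh => ?_, ?_⟩⟩
    · rw [← app_mul, show h * g⁻¹ = g⁻¹ * (g * h * g⁻¹) by group, app_mul,
        hx (g * h * g⁻¹) ⟨h, hh, rfl⟩]
    · rw [← app_mul, mul_inv_cancel, map_one]; rfl
  refine indep_of_sep _ fun i j hij => ?_
  have hYX : ¬ H j.out ≤ H i.out := fun hle => hij (by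
    rw [← i.out_eq', ← j.out_eq', QuotientGroup.eq, ← inv_mem_iff]
    refine mem_normalizer_fintype fun y hy => ?_
    have e := eq_of_le_of_card_ge hle (by rw [hHc, hHc])
    obtain ⟨z, hz, e'⟩ := e.ge ⟨y, hy, rfl⟩
    have e'' : j.out * z * j.out⁻¹ = i.out * y * i.out⁻¹ := e'
    convert hz using 1
    calc _ = j.out⁻¹ * (i.out * y * i.out⁻¹) * j.out := by group
      _ = _ := by rw [← e'']; group)
  obtain ⟨y, hyY, hyX⟩ := SetLike.not_le_iff_exists.mp hYX
  refine ⟨(ρ y - 1).toAddMonoidHom, fun k x hx => ?_, fun x hx => ?_, fun x hx h0 => ?_⟩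
  · refine AddSubgroup.sub_mem _ ((hD _ _).2 fun z hz => ?_) hx
    rw [← app_mul, hUc z (hHU _ hz) y (hHU _ hyY), app_mul, (hD _ _).1 hx z hz]
  · exact sub_eq_zero.2 ((hD _ _).1 hx y hyY)
  · by_contra hx0
    obtain ⟨T, hT⟩ := hst x
    have hle : H i.out ⊔ zpowers y ≤ T := sup_le (fun z hz => (hT z).2 ((hD _ _).1 hx z hz))
      (zpowers_le.2 ((hT y).2 (sub_eq_zero.1 h0)))
    have h1 := hmax (H i.out ⊔ zpowers y) ⟨sup_le (hHU _) (zpowers_le.2 (hHU _ hyY)),
      (Submodule.ne_bot_iff _).2 ⟨x, fun z hz => (hT z).1 (hle hz), hx0⟩⟩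
    have h2 := eq_of_le_of_card_ge (le_sup_left : H i.out ≤ H i.out ⊔ zpowers y) (by rwa [hHc])
    exact hyX (h2 ▸ mem_sup_right (mem_zpowers y))

theorem card_mul_finrank_le [FiniteDimensional K V] {ι : Type*} [Fintype ι] (g : ι → G)
    (W : Submodule K V) (h : Indep fun x => (W.map (ρ (g x))).toAddSubgroup) :
    Fintype.card ι * finrank K W ≤ finrank K V := by
  let f : (ι → W) →ₗ[K] V := ∑ x, (ρ (g x)).comp (W.subtype.comp (LinearMap.proj x))
  have hf : Function.Injective f := (injective_iff_map_eq_zero f).2 fun w hw => funext fun x => by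
    have := h (fun x => ρ (g x) (w x)) (fun x => ⟨_, (w x).2, rfl⟩) (by simpa [f] using hw) x
    by_contra h0
    exact app_ne (fun e => h0 (Subtype.ext e)) this
  have := LinearMap.finrank_le_finrank_of_injective hf
  rwa [finrank_pi_fintype, Finset.sum_const, Finset.card_univ, smul_eq_mul] at this

theorem uni_of_sub_quot {f : Module.End K V} {W : Submodule K V} (hW : W ≤ W.comap f)
    (h1 : Uni (f.restrict hW)) (h2 : Uni (W.mapQ W f hW)) : Uni f := fun v => by
  have e1 : ∀ n : ℕ, ∀ x : W, ((((f.restrict hW - 1) ^ n) x : W) : V) = ((f - 1) ^ n) (x : V) :=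
    fun n => by
      induction n with
      | zero => exact fun _ => rfl
      | succ n ih => exact fun x => by rw [pow_succ, pow_succ, End.mul_apply, End.mul_apply, ih]; rfl
  have e2 : ∀ n : ℕ, ∀ x : V, ((W.mapQ W f hW - 1) ^ n) (W.mkQ x) = W.mkQ (((f - 1) ^ n) x) :=
    fun n => by
      induction n with
      | zero => exact fun _ => rfl
      | succ n ih =>
        intro x
        rw [pow_succ, pow_succ, End.mul_apply, End.mul_apply, ← ih]; rfl
  obtain ⟨n, hn⟩ := h2 (W.mkQ v)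
  rw [e2] at hn
  obtain ⟨k, hk⟩ := h1 ⟨_, (Submodule.Quotient.mk_eq_zero W).1 hn⟩
  exact ⟨k + n, by rw [pow_add, End.mul_apply]; exact (e1 k _).symm.trans (congrArg Subtype.val hk)⟩

theorem uni_of_span (hi : IrrR ρ) {W : Submodule K V} (hW : W ≠ ⊥) {b : G}
    (h : ∀ g : G, ∀ w ∈ W, ∃ n : ℕ, ((ρ (g⁻¹ * b * g) - 1) ^ n) w = 0) : Uni (ρ b) := by
  have h1 : (⨆ g, W.map (ρ g)) = ⊤ := by
    refine (hi _ fun g v hv => ?_).resolve_left fun e => hW (eq_bot_iff.2 fun w hw => ?_)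
    · have : (⨆ g, W.map (ρ g)).map (ρ g) ≤ ⨆ g, W.map (ρ g) := by
        rw [Submodule.map_iSup]
        refine iSup_le fun x => le_iSup_of_le (g * x) ?_
        rw [← Submodule.map_comp, map_mul]; rfl
      exact this ⟨v, hv, rfl⟩
    · exact e.le (Submodule.mem_iSup_of_mem 1 ⟨w, hw, by rw [map_one]; rfl⟩)
  have h2 : (⨆ g, W.map (ρ g)) ≤ ⨆ n : ℕ, LinearMap.ker ((ρ b - 1) ^ n) := iSup_le fun g => by
    rintro _ ⟨w, hw, rfl⟩
    obtain ⟨n, hn⟩ := h g w hw
    refine Submodule.mem_iSup_of_mem n ?_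
    have : SemiconjBy (ρ g) (ρ (g⁻¹ * b * g) - 1) (ρ b - 1) := by
      unfold SemiconjBy
      rw [mul_sub, sub_mul, ← map_mul, ← map_mul]
      simp [mul_assoc]
    rw [LinearMap.mem_ker, ← End.mul_apply, ← (this.pow_right n).eq, End.mul_apply, hn, map_zero]
  intro v
  exact (Submodule.mem_iSup_of_directed _ (Monotone.directed_le fun a c hac => by
    obtain ⟨d, rfl⟩ := Nat.exists_eq_add_of_le' hac
    rw [pow_add]; exact LinearMap.ker_le_ker_comp _ _)).1 (h2 (h1 ▸ Submodule.mem_top))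

end uni

/-- the induction principle -/
theorem lin_ind {K : Type*} [Field K] (P : ∀ (G : Type u) [Group G], ℕ → Prop)
    (hR : ∀ (G A B : Type u) [Group G] [Group A] [Group B] [Finite G] [Finite A] [Finite B]
      (a b : ℕ) (f : G →* A × B), Function.Injective f → 1 ≤ a → 1 ≤ b → P A a → P B b →
      P G (a + b))
    (hI : ∀ (G Q ι : Type u) [Group G] [Group Q] [Finite G] [Finite Q] [Fintype ι] (s m : ℕ)
      (B : Subgroup G) [B.Normal] (φ : B →* (ι → Q)), Function.Injective φ →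
      B.index ≤ 3 ^ (Fintype.card ι - 1) → B.index ∣ (Fintype.card ι).factorial →
      2 ≤ Fintype.card ι → 1 ≤ s → Fintype.card ι * s ≤ m → P Q s → P G m)
    (hQ : ∀ (G : Type u) [Group G] [Finite G] [Group.IsSolvable G] (m : ℕ), 1 ≤ m → QD K G m →
      P G m) (m : ℕ) :
    ∀ (G : Type u) [Group G] [Finite G] [Group.IsSolvable G] (V : Type v) [AddCommGroup V]
      [Module K V] [FiniteDimensional K V] (ρ : G →* Module.End K V), finrank K V = m → 1 ≤ m →
      ∃ (Q : Type u) (_ : Group Q) (π : G →* Q), Function.Surjective π ∧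
        (∀ g, π g = 1 → Uni (ρ g)) ∧ P Q m := by
  induction m using Nat.strong_induction_on with
  | _ m ih =>
  intro G0 _ _ _ V _ _ _ ρ0 hm h1
  have : Nontrivial V := (finrank_pos_iff (R := K)).1 (hm ▸ h1)
  by_cases hi0 : IrrR ρ0
  swap
  · unfold IrrR at hi0
    push Not at hi0
    obtain ⟨W, hW, hb, ht⟩ := hi0
    have ha : 1 ≤ finrank K W := Submodule.one_le_finrank_iff.2 hb
    have hlt := Submodule.finrank_lt ht
    have hab := W.finrank_quotient_add_finrank
    obtain ⟨A, _, π1, hs1, hu1, hp1⟩ := ih _ (by omega) G0 W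
      (Representation.subrepresentation ρ0 W hW) rfl ha
    obtain ⟨B, _, π2, hs2, hu2, hp2⟩ := ih _ (by omega) G0 (V ⧸ W)
      (Representation.quotient ρ0 W hW) rfl (by omega)
    have := Finite.of_surjective _ hs1
    have := Finite.of_surjective _ hs2
    refine ⟨(π1.prod π2).range, inferInstance, _, MonoidHom.rangeRestrict_surjective _,
      fun g hg => ?_, ?_⟩
    · have := Prod.ext_iff.1 (congrArg Subtype.val hg)
      exact uni_of_sub_quot (hW g) (hu1 g this.1) (hu2 g this.2)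
    · rw [← hm, ← hab, add_comm]
      exact hR _ A B _ _ (Subgroup.subtype _) Subtype.val_injective ha (by omega) hp1 hp2
  let G := G0 ⧸ ρ0.ker
  let ρ : G →* Module.End K V := QuotientGroup.lift _ ρ0 le_rfl
  have hρ : Function.Injective ρ := (injective_iff_map_eq_one ρ).2 fun x hx => by
    obtain ⟨g, rfl⟩ := QuotientGroup.mk_surjective x
    exact (QuotientGroup.eq_one_iff g).2 hx
  have hi : IrrR ρ := fun W hW => hi0 W fun g => hW (g : G)
  refine ⟨G, inferInstance, QuotientGroup.mk' _, QuotientGroup.mk'_surjective _, fun g hg => ?_, ?_⟩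
  · rw [show ρ0 g = 1 from (QuotientGroup.eq_one_iff g).1 hg]; exact uni_one
  obtain ⟨U, hUn, hUc, hmax⟩ := exists_max_abelian (G := G)
  rcases fpf_or_ind hρ hi U hUn hUc with hf | ⟨S, W, hS, hW, hSW, hind⟩
  · exact hQ G m h1 (hm ▸ exists_qd ρ U hUn hUc hmax hf)
  have := Fintype.ofFinite (G ⧸ S)
  have h2 := card_mul_finrank_le _ W hind
  have ht : Fintype.card (G ⧸ S) = S.index := Nat.card_eq_fintype_card.symm
  have h3 : 1 < S.index := one_lt_index_of_ne_top hS
  have hs : 1 ≤ finrank K W := Submodule.one_le_finrank_iff.2 hW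
  obtain ⟨Q, _, π, hs1, hu1, hp1⟩ := ih (finrank K W) (by nlinarith) S W
    (Representation.subrepresentation (ρ.comp S.subtype) W fun g => hSW g g.2) rfl hs
  have := Finite.of_surjective _ hs1
  refine hI G Q (G ⧸ S) _ m S.normalCore (wr S π) ?_ (ht ▸ core_index_le _ G S rfl)
    (ht ▸ core_index_dvd S) (by omega) hs (hm ▸ h2) hp1
  let N := (wr S π).ker.map S.normalCore.subtype
  have hN : N.Normal := ⟨by
    rintro _ ⟨b, hb, rfl⟩ g
    refine ⟨⟨_, (inferInstance : S.normalCore.Normal).conj_mem _ b.2 g⟩, funext fun x => ?_, rfl⟩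
    refine Eq.trans (congrArg π (Subtype.ext ?_)) (wr_ker hb (g⁻¹ * x.out))
    show x.out⁻¹ * (g * b * g⁻¹) * x.out = (g⁻¹ * x.out)⁻¹ * b * (g⁻¹ * x.out)
    group⟩
  have h4 := eq_bot_of_uni hρ hi hN (by
    rintro _ ⟨b, hb, rfl⟩
    refine uni_of_span hi hW fun g w hw => ?_
    obtain ⟨n, hn⟩ := hu1 _ (wr_ker hb g) ⟨w, hw⟩
    refine ⟨n, Eq.trans ?_ (congrArg Subtype.val hn)⟩
    clear hn
    induction n generalizing w with
    | zero => rfl
    | succ n ih =>
      rw [pow_succ, pow_succ, End.mul_apply, End.mul_apply]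
      exact ih _ (W.sub_mem (hSW _ (conj_mem_of_core b.2 g) w hw) hw))
  rw [← MonoidHom.ker_eq_bot_iff]
  exact (map_eq_bot_iff_of_injective _ Subtype.val_injective).1 h4

end Cfsg.Agent.FG.HK
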