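import Mathlib
import Cfsg.Agent.FG.HKInd

/-! Orders of solvable completely reducible groups over `F₂` and `F₃`. -/

set_option autoImplicit false

namespace Cfsg.Agent.FG.HK

open Subgroup Module Cfsg.Agent.FG.BS
open scoped commutatorElement

universe u

section cr

variable {G V : Type*} [Group G] [AddCommGroup V] [DistribMulAction G V]

theorem CR.im (h : CR G V) : CR (Im G V) V := fun U hU =>
  (h U fun g => hU (toIm G V g)).imp fun _ hW =>
    ⟨fun g => by obtain ⟨x, rfl⟩ := toIm_surj g; exact hW.1 x, hW.2⟩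

theorem im_index_bot (K : Subgroup (Im G V)) (m : Im G V) (h : ∀ a : V, m • a = a) : m ∈ K :=
  (Subtype.ext (Equiv.ext h) : m = 1) ▸ K.one_mem

theorem card_im_le_cube [Finite V] [Group.IsSolvable G] (h : CR G V) :
    Nat.card (Im G V) ≤ Nat.card V ^ 3 := by
  have := solvable_im (G := G) (V := V)
  obtain ⟨t, ht⟩ := base_three_of_cr h.im
  have := index_le_of_base ht ⊥ (im_index_bot _) Set.univ (Set.toFinite _) fun _ => trivial
  rwa [Set.ncard_univ, Nat.card_fun, Nat.card_fin, index_bot] at this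

theorem card_im_le_desc [Finite V] :
    ∃ k, 2 ^ k ≤ Nat.card V ∧ Nat.card (Im G V) ≤ (Nat.card V - 1).descFactorial k := by
  simpa using index_le_desc (M := Im G V) (A := V) ⊥ (im_index_bot _)

theorem CR.nsmul_eq_zero [Finite V] (h : CR G V) {r m : ℕ} (hm : Nat.card V = r ^ m) (x : V) :
    r • x = 0 := by
  obtain ⟨W, -, h1, h2⟩ := h (nsmulAddMonoidHom r).range (by
    rintro g _ ⟨y, rfl⟩
    exact ⟨g • y, (smul_comm g r y).symm⟩)
  have h3 : ∀ k : ℕ, ∀ x : V, ∃ y : V, r • x = r ^ k • r • y := fun k => by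
    induction k with
    | zero => exact fun x => ⟨x, by simp⟩
    | succ k ih =>
      intro x
      obtain ⟨y, hy⟩ := ih x
      obtain ⟨_, ⟨a, rfl⟩, w, hw, rfl⟩ := AddSubgroup.mem_sup.1 (h2.ge (AddSubgroup.mem_top y))
      have h4 : r • w = 0 := AddSubgroup.mem_bot.1 (h1.le ⟨⟨w, rfl⟩, W.nsmul_mem hw r⟩)
      exact ⟨a, by rw [hy, smul_add, h4, add_zero, pow_succ, mul_smul]; rfl⟩
  obtain ⟨y, hy⟩ := h3 m x
  rw [hy, ← hm, card_nsmul_eq_zero']

/-- the action on an invariant subgroup -/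
@[reducible] def invAct (W : AddSubgroup V) (hW : Invt G W) : DistribMulAction G W where
  smul h w := ⟨h • (w : V), hW h w w.2⟩
  one_smul w := Subtype.ext (one_smul G (w : V))
  mul_smul a b w := Subtype.ext (mul_smul a b (w : V))
  smul_zero a := Subtype.ext (smul_zero a)
  smul_add a x y := Subtype.ext (smul_add a (x : V) (y : V))

theorem CR.sub (h : CR G V) (W : AddSubgroup V) (hW : Invt G W) : @CR G W _ _ (invAct W hW) := by
  intro U hU
  obtain ⟨X, h1, h2, h3⟩ := h (U.map W.subtype) (by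
    rintro g _ ⟨y, hy, rfl⟩
    exact ⟨_, hU g y hy, rfl⟩)
  refine ⟨X.addSubgroupOf W, fun g v hv => h1 g v hv, eq_bot_iff.2 fun x hx =>
    Subtype.ext (AddSubgroup.mem_bot.1 (h2.le ⟨⟨x, hx.1, rfl⟩, hx.2⟩)), eq_top_iff.2 fun x _ => ?_⟩
  obtain ⟨_, ⟨a, ha, rfl⟩, w, hw, e⟩ := AddSubgroup.mem_sup.1 (h3.ge (AddSubgroup.mem_top (x : V)))
  have h4 : w ∈ W := by
    have := W.sub_mem x.2 a.2
    rwa [← e, AddSubgroup.coe_subtype, add_sub_cancel_left] at this
  exact AddSubgroup.mem_sup.2 ⟨a, ha, ⟨w, h4⟩, hw, Subtype.ext e⟩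

/-- the elements killed by `a` -/
def kil (V : Type*) [AddCommGroup V] (a : ℕ) : AddSubgroup V := (nsmulAddMonoidHom a).ker

theorem invt_kil (a : ℕ) : Invt G (kil V a) := fun g v (hv : a • v = 0) =>
  show a • g • v = 0 by rw [← smul_comm g a v, hv, smul_zero]

theorem card_kil_dvd [Finite V] {a b : ℕ} (h : Nat.card V = a * b) (hab : a.Coprime b) :
    Nat.card (kil V a) ∣ a := by
  refine Nat.Coprime.dvd_of_dvd_mul_right ?_ (h ▸ (kil V a).card_addSubgroup_dvd_card)
  refine Nat.coprime_of_dvd fun p hp h1 h2 => ?_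
  have := Fact.mk hp
  obtain ⟨x, hx⟩ := exists_prime_addOrderOf_dvd_card' p h1
  have h3 : p ∣ a := hx ▸ addOrderOf_dvd_of_nsmul_eq_zero (Subtype.ext x.2)
  exact hp.one_lt.ne' (Nat.eq_one_of_dvd_coprimes hab h3 h2)

theorem card_kil [Finite V] {a b : ℕ} (h : Nat.card V = a * b) (hab : a.Coprime b) :
    Nat.card (kil V a) = a := by
  have h1 := card_kil_dvd h hab
  have h2 := card_kil_dvd (h.trans (mul_comm _ _)) hab.symm
  have h3 : (nsmulAddMonoidHom a).range ≤ kil V b := by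
    rintro _ ⟨x, rfl⟩
    show b • a • x = 0
    rw [← mul_smul, mul_comm, ← h, card_nsmul_eq_zero']
  have h4 := (kil V a).card_mul_index
  rw [kil, AddSubgroup.index_ker, h] at h4
  have h0 : 0 < a * b := h ▸ Nat.card_pos
  have h5 := (AddSubgroup.card_le_of_le h3).trans (Nat.le_of_dvd (Nat.pos_of_mul_pos_left h0) h2)
  have h6 := Nat.le_of_dvd (Nat.pos_of_mul_pos_right h0) h1
  by_contra hne
  have := Nat.mul_lt_mul_of_lt_of_le (lt_of_le_of_ne h6 hne) h5 (Nat.pos_of_mul_pos_left h0)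
  exact this.ne h4

theorem exists_split [Finite V] {a b : ℕ} (h : Nat.card V = a * b) (hab : a.Coprime b) :
    ∃ f : Im G V →* @Im (Im G V) (kil V a) _ (invAct _ (invt_kil a)).toMulAction ×
      @Im (Im G V) (kil V b) _ (invAct _ (invt_kil b)).toMulAction, Function.Injective f := by
  refine ⟨(@toIm _ _ _ _ (invAct _ (invt_kil a))).prod (@toIm _ _ _ _ (invAct _ (invt_kil b))),
    (injective_iff_map_eq_one _).2 fun g hg => Subtype.ext (Equiv.ext fun x => ?_)⟩
  have h1 : ∀ y ∈ kil V a, g • y = y := fun y hy => by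
    have := DFunLike.congr_fun (congrArg Subtype.val (congrArg Prod.fst hg)) (⟨y, hy⟩ : kil V a)
    exact Subtype.mk.inj this
  have h2 : ∀ y ∈ kil V b, g • y = y := fun y hy => by
    have := DFunLike.congr_fun (congrArg Subtype.val (congrArg Prod.snd hg)) (⟨y, hy⟩ : kil V b)
    exact Subtype.mk.inj this
  have h3 : a • (g • x - x) = 0 := by
    rw [smul_sub, ← smul_comm g a x, h2 _ (show b • a • x = 0 by
      rw [← mul_smul, mul_comm, ← h, card_nsmul_eq_zero']), sub_self]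
  have h4 : b • (g • x - x) = 0 := by
    rw [smul_sub, ← smul_comm g b x, h1 _ (show a • b • x = 0 by
      rw [← mul_smul, ← h, card_nsmul_eq_zero']), sub_self]
  have h5 := Nat.eq_one_of_dvd_coprimes hab (addOrderOf_dvd_of_nsmul_eq_zero h3)
    (addOrderOf_dvd_of_nsmul_eq_zero h4)
  exact sub_eq_zero.1 (AddMonoid.addOrderOf_eq_one_iff.1 h5)

/-- the linear representation on an elementary abelian group -/
def zrep (r : ℕ) (G V : Type*) [Group G] [AddCommGroup V] [DistribMulAction G V]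
    [Module (ZMod r) V] : G →* Module.End (ZMod r) V where
  toFun g := (DistribSMul.toAddMonoidHom V g).toZModLinearMap r
  map_one' := LinearMap.ext (one_smul G)
  map_mul' a b := LinearMap.ext (mul_smul a b)

theorem CR.eq_bot_of_uni [Finite G] [Group.IsSolvable G] [FaithfulSMul G V] (h : CR G V) {r : ℕ}
    [Fact r.Prime] [Module (ZMod r) V] {N : Subgroup G} (hN : N.Normal)
    (hu : ∀ a ∈ N, Uni (zrep r G V a)) : N = ⊥ := by
  by_contra hb
  obtain ⟨X, ⟨hXn, hXN, hX⟩, hmin⟩ := (Set.toFinite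
    {X : Subgroup G | X.Normal ∧ X ≤ N ∧ X ≠ ⊥}).exists_minimal ⟨N, hN, le_rfl, hb⟩
  have hXX : ⁅X, X⁆ = ⊥ := by
    by_contra hc
    exact (Group.IsSolvable.commutator_lt_of_ne_bot hX).not_ge
      (hmin ⟨inferInstance, (commutator_le_left X X).trans hXN, hc⟩ (commutator_le_left X X))
  obtain ⟨W, h1, h2, h3⟩ := h (fixS V X) fun g v hv x hx => by
    rw [← mul_smul, show x * g = g * (g⁻¹ * x * g⁻¹⁻¹) by group, mul_smul,
      hv _ (hXn.conj_mem x hx _)]
  have hW : W = ⊥ := by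
    by_contra hW
    let W' := AddSubgroup.toZModSubmodule r W
    have : Nontrivial W' := (AddSubgroup.nontrivial_iff_ne_bot W).2 hW
    obtain ⟨v, hv, h4⟩ := exists_fixed_uni
      (ρ := Representation.subrepresentation (zrep r G V) W' fun g => h1 g) X
      (fun x hx y hy => (commutator_eq_bot_iff_le_centralizer.1 hXX hy x hx)) fun a ha w => by
        obtain ⟨n, hn⟩ := hu a (hXN ha) w
        refine ⟨n, Subtype.ext (Eq.trans ?_ hn)⟩
        clear hn
        induction n generalizing w with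
        | zero => rfl
        | succ n ih =>
          rw [pow_succ, pow_succ, End.mul_apply, End.mul_apply]
          exact ih _
    exact hv (Subtype.ext (AddSubgroup.mem_bot.1
      (h2.le ⟨fun a ha => congrArg Subtype.val (h4 a ha), v.2⟩)))
  rw [hW, sup_bot_eq] at h3
  exact hX (eq_bot_iff.2 fun x hx => eq_of_smul_eq_smul (α := V) fun v => by
    rw [one_smul]; exact (h3.ge (AddSubgroup.mem_top v)) x hx)

end cr

theorem cr_ind {r : ℕ} [Fact r.Prime] {P : ∀ (G : Type u) [Group G], ℕ → Prop}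
    (hP : ∀ m (G : Type u) [Group G] [Finite G] [Group.IsSolvable G] (V : Type u) [AddCommGroup V]
      [Module (ZMod r) V] [FiniteDimensional (ZMod r) V] (ρ : G →* Module.End (ZMod r) V),
      finrank (ZMod r) V = m → 1 ≤ m → ∃ (Q : Type u) (_ : Group Q) (π : G →* Q),
        Function.Surjective π ∧ (∀ g, π g = 1 → Uni (ρ g)) ∧ P Q m)
    {G : Type*} {V : Type u} [Group G] [Group.IsSolvable G] [AddCommGroup V] [Finite V]
    [DistribMulAction G V] (h : CR G V) {m : ℕ} (hm : Nat.card V = r ^ m) (h1 : 1 ≤ m) :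
    ∃ (Q : Type u) (_ : Group Q), Nonempty (Im G V ≃* Q) ∧ P Q m := by
  have := solvable_im (G := G) (V := V)
  let _ := AddCommGroup.zmodModule (h.nsmul_eq_zero hm)
  have h2 : finrank (ZMod r) V = m := Nat.pow_right_injective (Fact.out : r.Prime).two_le (by
    simp only; rw [← hm, natCard_eq_pow_finrank (K := ZMod r), Nat.card_zmod])
  obtain ⟨Q, _, π, hs, hu, hp⟩ := hP m (Im G V) V (zrep r _ V) h2 h1
  exact ⟨Q, inferInstance, ⟨MulEquiv.ofBijective π ⟨(MonoidHom.ker_eq_bot_iff π).1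
    (h.im.eq_bot_of_uni inferInstance hu), hs⟩⟩, hp⟩

theorem card_le_wr {G Q ι : Type*} [Group G] [Group Q] [Finite Q] [Fintype ι] {B : Subgroup G}
    (φ : B →* (ι → Q)) (hφ : Function.Injective φ) :
    Nat.card G ≤ Nat.card Q ^ Fintype.card ι * B.index := by
  rw [← B.card_mul_index, ← Nat.card_eq_fintype_card, ← Nat.card_fun]
  exact Nat.mul_le_mul_right _ (Nat.card_le_card_of_injective φ hφ)

theorem x_bound {G : Type*} [Group G] [Finite G] [Group.IsSolvable G] (P : Cls G) {e : ℕ}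
    (he : Nat.card P.E = e ^ 2) (h9 : 9 ≤ e) : e ^ 2 * P.x ≤ 9 ^ (e - 1) := by
  have h1 := P.x_le.trans (card_im_le_cube Cls.cr_E)
  have h2 := Nat.pow_le_pow_left (pow_four_le h9) 2
  rw [he] at h1
  calc _ ≤ e ^ 2 * (e ^ 2) ^ 3 := Nat.mul_le_mul_left _ h1
    _ = (e ^ 4) ^ 2 := by ring
    _ ≤ _ := h2
    _ = _ := by rw [← pow_mul, mul_comm, pow_mul]; norm_num

theorem num_two {c : ℕ} (hc : 1 ≤ c) : 9 * ((2 ^ c - 1) * c) ^ 2 ≤ 18 ^ c := by
  rcases le_or_gt c 3 with h | h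
  · interval_cases c <;> norm_num
  have : 9 * (2 ^ c * c) ^ 2 ≤ 18 ^ c := by
    induction c, h using Nat.le_induction with
    | base => norm_num
    | succ n hn ih =>
      have h1 := Nat.pow_le_pow_left (show n + 1 ≤ 2 * n by omega) 2
      have h2 := ih (by omega)
      calc 9 * (2 ^ (n + 1) * (n + 1)) ^ 2 = 36 * (2 ^ n) ^ 2 * (n + 1) ^ 2 := by ring
        _ ≤ 36 * (2 ^ n) ^ 2 * (2 * n) ^ 2 := Nat.mul_le_mul_left _ h1
        _ = 16 * (9 * (2 ^ n * n) ^ 2) := by ring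
        _ ≤ _ := by rw [pow_succ 18]; omega
  exact le_trans (Nat.mul_le_mul_left _ (Nat.pow_le_pow_left
    (Nat.mul_le_mul_right _ (Nat.sub_le _ _)) _)) this

theorem QD.data {r : ℕ} [hr : Fact r.Prime] {G : Type*} [Group G] [Finite G] {m : ℕ}
    (h : QD (ZMod r) G m) : ∃ (P : Cls G) (c e : ℕ), Nat.card P.E = e ^ 2 ∧ P.A.index ≤ c ∧
      c * e ≤ m ∧ 1 ≤ c ∧ 1 ≤ e ∧ ¬ r ∣ Nat.card P.U ∧ ¬ r ∣ e ∧ Nat.card P.U ≤ r ^ c - 1 ∧
      (c = 1 → Nat.card P.U ∣ r - 1) ∧ ∀ p, p.Prime → p ∣ e → p ∣ Nat.card P.U := by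
  obtain ⟨P, c, e, he, hf, hm, hK⟩ := h
  obtain ⟨d, h1, h2, h3⟩ := hK
  rw [Nat.card_zmod] at h3
  have h4 : 1 < r ^ d := Nat.one_lt_pow (by omega) hr.out.one_lt
  have h5 : ∀ p, p.Prime → p ∣ e → p ∣ Nat.card P.U := fun p hp h =>
    Cls.prime_dvd_U hp (he ▸ dvd_pow h two_ne_zero)
  have h6 : ¬ r ∣ Nat.card P.U := fun h => hr.out.one_lt.ne' (Nat.dvd_one.1
    ((Nat.dvd_sub_iff_right h4.le (dvd_pow_self r (by omega))).1 (h.trans h3)))
  refine ⟨P, c, e, he, hf, hm, by omega, Nat.pos_of_ne_zero fun e0 => ?_, h6,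
    fun h => h6 (h5 r hr.out h), (Nat.le_of_dvd (by omega) h3).trans
      (Nat.sub_le_sub_right (Nat.pow_le_pow_right hr.out.pos h2) 1), fun hc => ?_, h5⟩
  · have := Nat.card_pos (α := P.E)
    rw [he, e0] at this
    simp at this
  · rwa [show d = 1 by omega, pow_one] at h3

instance : Fact (Nat.Prime 2) := ⟨Nat.prime_two⟩

theorem ord_two {G : Type*} {V : Type u} [Group G] [Group.IsSolvable G] [AddCommGroup V] [Finite V]
    [DistribMulAction G V] (h : CR G V) {m : ℕ} (hm : Nat.card V = 2 ^ m) (h1 : 1 ≤ m) :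
    9 * Nat.card (Im G V) ^ 2 ≤ 18 ^ m := by
  refine (cr_ind (P := fun G _ m => 9 * Nat.card G ^ 2 ≤ 18 ^ m)
    (lin_ind _ ?_ ?_ ?_) h hm h1).elim fun Q ⟨_, ⟨e⟩, hp⟩ => ?_
  rotate_right
  · rwa [Nat.card_congr e.toEquiv]
  · intro G A B _ _ _ _ _ _ a b f hf _ _ ha hb
    have h1 := Nat.pow_le_pow_left (Nat.card_le_card_of_injective f hf) 2
    rw [Nat.card_prod, mul_pow] at h1
    have h2 := Nat.mul_le_mul ha hb
    rw [pow_add]
    nlinarith
  · intro G Q ι _ _ _ _ _ s m B _ φ hφ h1 _ h2 _ h3 h4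
    have h5 := (card_le_wr φ hφ).trans (Nat.mul_le_mul_left _ h1)
    obtain ⟨t, ht⟩ : ∃ t, Fintype.card ι = t + 1 := ⟨_, (Nat.succ_pred_eq_of_pos (by omega)).symm⟩
    rw [ht] at h5 h3
    rw [Nat.add_sub_cancel] at h5
    calc _ ≤ 9 * (Nat.card Q ^ (t + 1) * 3 ^ t) ^ 2 :=
        Nat.mul_le_mul_left _ (Nat.pow_le_pow_left h5 2)
      _ = (9 * Nat.card Q ^ 2) ^ (t + 1) := by
        rw [mul_pow, mul_pow, ← pow_mul 3, mul_comm t, pow_mul 3]; ring
      _ ≤ (18 ^ s) ^ (t + 1) := Nat.pow_le_pow_left h4 _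
      _ ≤ _ := by rw [← pow_mul]; exact Nat.pow_le_pow_right (by norm_num) (by rwa [mul_comm])
  · intro G _ _ _ m _ hq
    obtain ⟨P, c, e, he, hf, hm, hc, he1, -, h2, hu, hc1, hp⟩ := hq.data
    have h3 : Nat.card G ≤ (2 ^ c - 1) * c * (e ^ 2 * P.x) := by
      rw [P.card_eq, he]
      calc _ = Nat.card P.U * P.A.index * (e ^ 2 * P.x) := by ring
        _ ≤ _ := Nat.mul_le_mul_right _ (Nat.mul_le_mul hu hf)
    have h4 : (e ^ 2 * P.x) ^ 2 ≤ 18 ^ (c * (e - 1)) := by
      rcases he1.eq_or_lt with rfl | he1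
      · rw [P.x_of_card_one he]; simp
      have hc2 : 2 ≤ c := by
        by_contra hc2
        exact (Nat.minFac_prime he1.ne').one_lt.ne' (Nat.dvd_one.1
          ((hp _ (Nat.minFac_prime he1.ne') (Nat.minFac_dvd e)).trans (hc1 (by omega))))
      refine le_trans ?_ (Nat.pow_le_pow_right (by norm_num) (Nat.mul_le_mul_right _ hc2))
      rw [mul_comm 2, pow_mul]
      refine Nat.pow_le_pow_left ?_ 2
      rcases le_or_gt 9 e with h9 | h9
      · exact (x_bound P he h9).trans (Nat.pow_le_pow_left (by norm_num) _)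
      have h5 : e.Prime := by interval_cases e <;> first | omega | norm_num
      have h6 := P.x_le_prime h5 he
      interval_cases e <;> omega
    calc _ ≤ 9 * ((2 ^ c - 1) * c * (e ^ 2 * P.x)) ^ 2 :=
        Nat.mul_le_mul_left _ (Nat.pow_le_pow_left h3 2)
      _ = 9 * ((2 ^ c - 1) * c) ^ 2 * (e ^ 2 * P.x) ^ 2 := by ring
      _ ≤ 18 ^ c * 18 ^ (c * (e - 1)) := Nat.mul_le_mul (num_two hc) h4
      _ ≤ _ := by
        rw [← pow_add, ← mul_one_add, Nat.add_sub_cancel' he1]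
        exact Nat.pow_le_pow_right (by norm_num) hm

theorem card_im_two_pow {G : Type*} {V : Type u} [Group G] [Group.IsSolvable G] [AddCommGroup V]
    [Finite V] [DistribMulAction G V] (h : CR G V) {n : ℕ} (hm : Nat.card V = (2 ^ n) ^ 2)
    (h1 : 1 ≤ n) : 3 * Nat.card (Im G V) ≤ 18 ^ n := by
  have := ord_two h (hm.trans (pow_mul _ _ _).symm) (by omega)
  rw [pow_mul, show 9 = 3 ^ 2 from rfl, ← mul_pow] at this
  exact (Nat.pow_le_pow_iff_left two_ne_zero).1 this

/-- order bounds over `F₃` -/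
def o3 (m : ℕ) : ℕ := if m ≤ 1 then 2 else if m = 2 then 48 else if m = 3 then 96 else 4608

instance : Fact (Nat.Prime 3) := ⟨Nat.prime_three⟩

theorem ord_three {G : Type*} {V : Type u} [Group G] [Group.IsSolvable G] [AddCommGroup V]
    [Finite V] [DistribMulAction G V] (h : CR G V) (hm : Nat.card V = 3 ^ 4) :
    Nat.card (Im G V) ≤ 4608 := by
  refine (cr_ind (P := fun G _ m => m ≤ 4 → Nat.card G ≤ o3 m)
    (lin_ind _ ?_ ?_ ?_) h hm (by norm_num)).elim fun Q ⟨_, ⟨e⟩, hp⟩ => ?_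
  rotate_right
  · rw [Nat.card_congr e.toEquiv]; exact hp le_rfl
  · intro G A B _ _ _ _ _ _ a b f hf _ _ ha hb h4
    have h1 := Nat.card_le_card_of_injective f hf
    rw [Nat.card_prod] at h1
    refine h1.trans ((Nat.mul_le_mul (ha (by omega)) (hb (by omega))).trans ?_)
    have : a ≤ 3 := by omega
    have : b ≤ 4 - a := by omega
    interval_cases a <;> interval_cases b <;> decide
  · intro G Q ι _ _ _ _ _ s m B _ φ hφ _ h1 h2 hs h3 h4 h5
    have h6 : s ≤ 2 := by nlinarith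
    refine ((card_le_wr φ hφ).trans (Nat.mul_le_mul (Nat.pow_le_pow_left (h4 (by omega)) _)
      (Nat.le_of_dvd (Nat.factorial_pos _) h1))).trans ?_
    generalize Fintype.card ι = t at *
    have : t ≤ 4 := by nlinarith
    interval_cases s <;> interval_cases t <;> interval_cases m <;> decide
  · intro G _ _ _ m _ hq h4
    obtain ⟨P, c, e, he, hf, hm, hc, he1, -, h2, hu, -, -⟩ := hq.data
    have h3 : Nat.card G ≤ (3 ^ c - 1) * c * (e ^ 2 * P.x) := by
      rw [P.card_eq, he]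
      calc _ = Nat.card P.U * P.A.index * (e ^ 2 * P.x) := by ring
        _ ≤ _ := Nat.mul_le_mul_right _ (Nat.mul_le_mul hu hf)
    refine h3.trans ?_
    have : e ≤ 4 := by nlinarith
    have : c ≤ 4 := by nlinarith
    interval_cases e
    · rw [P.x_of_card_one he]
      interval_cases c <;> interval_cases m <;> decide
    · have := P.x_le_prime Nat.prime_two he
      interval_cases c <;> interval_cases m <;> simp [o3] <;> omega
    · omega
    · have := card_im_two_pow (Cls.cr_E (P := P)) (n := 2) he (by norm_num)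
      have := P.x_le
      interval_cases c <;> interval_cases m <;> simp [o3] <;> omega

end Cfsg.Agent.FG.HK
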