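import Mathlib
import Cfsg.Agent.FG.HKOrd

/-! Class numbers of solvable completely reducible groups on modules of order `e²`. -/

set_option autoImplicit false

namespace Cfsg.Agent.FG.HK

open Subgroup Module Cfsg.Agent.FG.BS

universe u

theorem three_mul_card_le {U : Type*} [Group U] [Finite U] (h : Odd (Nat.card U)) {T : Subgroup U}
    (hT : T ≠ ⊤) : 3 * Nat.card T ≤ Nat.card U := by
  have h1 := T.card_mul_index
  have h2 : T.index ≠ 1 := mt index_eq_one.1 hT
  have h3 : T.index ≠ 0 := index_ne_zero_of_finite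
  have h4 : T.index ≠ 2 := fun e => by
    rw [← h1, e, Nat.odd_iff] at h
    omega
  rw [← h1, mul_comm]
  exact Nat.mul_le_mul_left _ (by omega)

theorem three_mul_inf_le {G : Type*} [Group G] [Finite G] {U : Subgroup G} (h : Odd (Nat.card U))
    {T : Subgroup G} (hT : ¬ U ≤ T) : 3 * Nat.card (T ⊓ U : Subgroup G) ≤ Nat.card U := by
  have := three_mul_card_le h (T := T.subgroupOf U) (mt subgroupOf_eq_top.1 hT)
  rwa [← inf_subgroupOf_right, Nat.card_congr (subgroupOfEquivOfLe inf_le_right).toEquiv] at this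

/-- a self-centralising normal subgroup of odd order -/
theorem three_kk_le {G : Type*} [Group G] [Finite G] (U : Subgroup G) [U.Normal]
    (h : Odd (Nat.card U)) (hC : centralizer (U : Set G) ≤ U) (hU : U ≠ ⊤) :
    3 * kk G ≤ Nat.card G + Nat.card U := by
  classical
  have := Fintype.ofFinite G
  have h1 := FG.sum_card_centralizer (G := G)
  have h2 : ∀ x, x ∉ U → 3 * Nat.card (centralizer {x} ⊓ U : Subgroup G) ≤ Nat.card U :=
    fun x hx => three_mul_inf_le h fun h3 => hx (hC fun u hu =>
      mem_centralizer_singleton_iff.1 (h3 hu))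
  have h3 : ∀ x, x ∉ U → 3 * Nat.card (centralizer {x} : Subgroup G) ≤ Nat.card G := fun x hx => by
    have h4 := FG.card_eq_relIndex_mul_card_inf U (centralizer {x} : Subgroup G)
    rw [h4, ← U.card_mul_index, mul_left_comm, mul_comm, inf_comm]
    exact Nat.mul_le_mul (h2 x hx) (relIndex_le_of_le_right le_top
      (by rw [relIndex_top_right]; exact index_ne_zero_of_finite) |>.trans_eq (relIndex_top_right _))
  have hc : ∀ X : Subgroup G, Nat.card X = ∑ y : G, if y ∈ X then 1 else 0 := fun X => by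
    rw [Nat.card_eq_fintype_card, Fintype.card_subtype, Finset.card_filter]
  have h4 : ∑ x : G with x ∈ U, Nat.card (centralizer {x} : Subgroup G) =
      ∑ y : G, Nat.card (centralizer {y} ⊓ U : Subgroup G) := by
    simp only [hc, Finset.sum_filter]
    rw [Finset.sum_comm]
    refine Finset.sum_congr rfl fun x _ => ?_
    by_cases hx : x ∈ U <;> simp [hx, mem_centralizer_singleton_iff, eq_comm]
  have hs : (Finset.univ.filter (· ∈ U)).card = Nat.card U := by
    rw [Nat.card_eq_fintype_card, Fintype.card_subtype]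
  have hs' : Nat.card U + (Finset.univ.filter (· ∉ U)).card = Nat.card G := by
    rw [← hs, Finset.card_filter_add_card_filter_not, Nat.card_eq_fintype_card, Finset.card_univ]
  rw [← Finset.sum_filter_add_sum_filter_not _ (· ∈ U), h4,
    ← Finset.sum_filter_add_sum_filter_not _ (· ∈ U)] at h1
  have h5 := Finset.sum_le_card_nsmul (Finset.univ.filter (· ∈ U))
    (fun y => Nat.card (centralizer {y} ⊓ U : Subgroup G)) _ fun y _ => card_le_of_le inf_le_right
  have h6 := Finset.sum_le_card_nsmul (Finset.univ.filter (· ∉ U)) _ _ fun y hy =>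
    h2 y (Finset.mem_filter.1 hy).2
  have h7 := Finset.sum_le_card_nsmul (Finset.univ.filter (· ∉ U)) _ _ fun y hy =>
    h3 y (Finset.mem_filter.1 hy).2
  rw [← Finset.mul_sum, smul_eq_mul] at h6 h7
  rw [hs, smul_eq_mul] at h5
  have h8 : 2 * Nat.card U ≤ Nat.card G := by
    have h2 : U.index ≠ 1 := mt index_eq_one.1 hU
    have h3 : U.index ≠ 0 := index_ne_zero_of_finite
    rw [← U.card_mul_index, mul_comm]
    exact Nat.mul_le_mul_left _ (by omega)
  have h9 : 0 < Nat.card G := Nat.card_pos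
  refine Nat.le_of_mul_le_mul_right ?_ h9
  unfold kk
  generalize (Finset.univ.filter (· ∉ U)).card = d at *
  rw [← hs'] at h7 h8
  nlinarith

theorem kb_of_selfcent {G : Type*} [Group G] [Finite G] (U : Subgroup G) [U.Normal]
    (h : Odd (Nat.card U)) (hC : centralizer (U : Set G) ≤ U) {c : ℕ} (h1 : Nat.card U ≤ c)
    (h2 : Nat.card G + Nat.card U < 3 * c + 3) : KB G c := fun H => by
  by_cases hU : U ≤ H
  · have h3 := Nat.card_congr (subgroupOfEquivOfLe hU).toEquiv
    by_cases hH : U.subgroupOf H = ⊤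
    · exact card_conjClasses_le_card.trans ((card_le_of_le (subgroupOf_eq_top.1 hH)).trans h1)
    have := three_kk_le (U.subgroupOf H) (h3 ▸ h) (fun x hx => hC fun u hu =>
      Subtype.mk.inj (hx ⟨u, hU hu⟩ hu)) hH
    have := H.card_le_card_group
    omega
  · have h3 := three_mul_inf_le h hU
    have h4 := FG.card_eq_relIndex_mul_card_inf U H
    have h5 : U.relIndex H ≤ U.index := relIndex_le_of_le_right le_top
      (by rw [relIndex_top_right]; exact index_ne_zero_of_finite) |>.trans_eq (relIndex_top_right _)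
    have h6 := Nat.mul_le_mul h5 h3
    rw [mul_left_comm, inf_comm, ← h4, mul_comm U.index, card_mul_index] at h6
    have : kk H ≤ Nat.card H := card_conjClasses_le_card
    omega

theorem KB.wr {G Q ι : Type*} [Group G] [Group Q] [Finite G] [Finite Q] [Fintype ι] {B : Subgroup G}
    [B.Normal] (φ : B →* (ι → Q)) (hφ : Function.Injective φ) {c : ℕ} (h : KB Q c) :
    KB G (c ^ Fintype.card ι * B.index) :=
  KB.ext (QuotientGroup.mk' B) (by rw [QuotientGroup.ker_mk']; exact h.pi.of_inj φ hφ) kb_card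

theorem pow_wr_le {q s t m i : ℕ} (hq : 1 ≤ q) (hs : 1 ≤ s) (ht : 1 ≤ t) (h : t * s ≤ m)
    (hi : i ≤ q ^ (t - 1)) : (q ^ (s - 1)) ^ t * i ≤ q ^ (m - 1) := by
  refine (Nat.mul_le_mul_left _ hi).trans ?_
  rw [← pow_mul, ← pow_add]
  obtain ⟨s, rfl⟩ := Nat.exists_eq_add_of_le' hs
  rw [Nat.add_sub_cancel]
  exact Nat.pow_le_pow_right hq (by rw [mul_add, mul_comm] at h; omega)

theorem kb_sixteen {G : Type*} {V : Type u} [Group G] [Group.IsSolvable G] [AddCommGroup V]
    [Finite V] [DistribMulAction G V] (h : CR G V) (hm : Nat.card V = 2 ^ 4) :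
    KB (Im G V) 27 := by
  refine (cr_ind (P := fun G _ m => m ≤ 4 → KB G (3 ^ (m - 1)))
    (lin_ind _ ?_ ?_ ?_) h hm (by norm_num)).elim fun Q ⟨_, ⟨e⟩, hp⟩ =>
      (hp le_rfl).of_inj e.toMonoidHom e.injective
  · intro G A B _ _ _ _ _ _ a b f hf _ _ ha hb h4
    refine (((ha (by omega)).prod (hb (by omega))).of_inj f hf).mono ?_
    rw [← pow_add]
    exact Nat.pow_le_pow_right (by norm_num) (by omega)
  · intro G Q ι _ _ _ _ _ s m B _ φ hφ h1 _ h2 hs h3 h4 h5
    exact ((h4 (by nlinarith)).wr φ hφ).mono (pow_wr_le (by norm_num) hs (by omega) h3 h1)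
  · intro G _ _ _ m _ hq h4
    obtain ⟨P, c, e, he, hf, hm, hc, he1, h1, h2, hu, hc1, hp⟩ := hq.data
    obtain rfl : e = 1 := by
      by_contra hne
      have h3 : 3 ≤ e := by omega
      obtain rfl : c = 1 := by nlinarith
      exact (Nat.minFac_prime hne).one_lt.ne' (Nat.dvd_one.1
        ((hp _ (Nat.minFac_prime hne) (Nat.minFac_dvd e)).trans (hc1 rfl)))
    have h5 := P.relIndex_U_A
    have h6 := P.card_eq
    rw [P.x_of_card_one he, he] at h5 h6
    have h7 : Nat.card G ≤ Nat.card P.U * c := by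
      rw [h6]; exact Nat.mul_le_mul_left _ (by simpa using hf)
    have : c ≤ m := by omega
    refine kb_of_selfcent P.U (Nat.odd_iff.2 (by omega)) (relIndex_eq_one.1 h5) ?_ ?_ <;>
      interval_cases m <;> interval_cases c <;> omega

section two

variable {G V : Type*} [Group G] [AddCommGroup V] [DistribMulAction G V]

/-- the elements acting as scalars -/
def scal (r : ℕ) [Fact r.Prime] (G V : Type*) [Group G] [AddCommGroup V] [DistribMulAction G V]
    [Module (ZMod r) V] : Subgroup G where
  carrier := {g | ∃ a : (ZMod r)ˣ, ∀ v : V, g • v = a • v}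
  one_mem' := ⟨1, fun v => by simp⟩
  mul_mem' := by
    rintro g h ⟨a, ha⟩ ⟨b, hb⟩
    exact ⟨a * b, fun v => by rw [mul_smul, hb, ha, mul_smul]⟩
  inv_mem' := by
    rintro g ⟨a, ha⟩
    exact ⟨a⁻¹, fun v => by rw [inv_smul_eq_iff, ha, smul_inv_smul]⟩

theorem kb_two_dim [Finite G] [Finite V] [FaithfulSMul G V] {r : ℕ} [hr' : Fact r.Prime]
    [Module (ZMod r) V] (hm : Nat.card V = r ^ 2) : KB G (r ^ 2 + r - 3) := by
  have hr := hr'.out
  have h2 : finrank (ZMod r) V = 2 := Nat.pow_right_injective hr.two_le (by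
    simp only; rw [← hm, natCard_eq_pow_finrank (K := ZMod r), Nat.card_zmod])
  have h3 : Nat.card (scal r G V) ≤ r - 1 := by
    choose a ha using fun g : scal r G V => g.2
    have := Nat.card_le_card_of_injective a fun g g' e =>
      Subtype.ext (eq_of_smul_eq_smul (α := V) fun v => by rw [ha, ha, e])
    rwa [Nat.card_eq_fintype_card (α := (ZMod r)ˣ), ZMod.card_units] at this
  have h4 := Nat.one_lt_pow two_ne_zero hr.one_lt
  have := hr.two_le
  refine (kb_of_cent (scal r G V) (c := r ^ 2 - 1) (by omega) fun x hx => ?_).mono (by omega)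
  obtain ⟨v, hv⟩ : ∃ v : V, LinearIndependent (ZMod r) ![v, zrep r G V x v] := by
    by_contra hc
    obtain ⟨a, ha⟩ := LinearMap.exists_eq_smul_id_of_forall_notLinearIndependent
      (not_exists.1 hc)
    have : Nontrivial V := Finite.one_lt_card_iff_nontrivial.1 (hm ▸ h4)
    obtain ⟨w, hw⟩ := exists_ne (0 : V)
    exact hx ⟨Units.mk0 a fun e => app_ne (σ := zrep r G V) (g := x) hw (by simp [ha, e]),
      fun v => LinearMap.congr_fun ha v⟩
  have h5 := hv.span_eq_top_of_card_eq_finrank (by simp [h2])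
  rw [← hm, ← Set.ncard_univ V, ← Set.ncard_diff_singleton_of_mem (Set.mem_univ (0 : V)),
    ← Nat.card_coe_set_eq]
  refine Nat.card_le_card_of_injective (fun y => ⟨y.1 • v, trivial, fun e =>
    hv.ne_zero 0 ((smul_eq_zero_iff_eq _).1 e)⟩) fun y z e => ?_
  have e1 : y.1 • v = z.1 • v := Subtype.mk.inj e
  refine Subtype.ext (eq_of_smul_eq_smul (α := V) (LinearMap.congr_fun
    (LinearMap.ext_on_range (f := zrep r G V y) (g := zrep r G V z) h5 ?_)))
  refine Fin.forall_fin_two.2 ⟨e1, ?_⟩
  show y.1 • x • v = z.1 • x • v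
  rw [← mul_smul, mem_centralizer_singleton_iff.1 y.2, mul_smul, e1, ← mul_smul,
    ← mem_centralizer_singleton_iff.1 z.2, mul_smul]

end two

theorem sq_add_le {r : ℕ} (h : 2 ≤ r) : r ^ 2 + r - 3 ≤ 3 ^ (r - 1) := by
  induction r, h using Nat.le_induction with
  | base => norm_num
  | succ n hn ih =>
    obtain ⟨n, rfl⟩ := Nat.exists_eq_add_of_le' hn
    rw [show n + 2 + 1 - 1 = n + 2 - 1 + 1 from rfl, pow_succ 3]
    have : (n + 2 + 1) ^ 2 + (n + 2 + 1) + 6 ≤ ((n + 2) ^ 2 + (n + 2)) * 3 := by nlinarith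
    omega

theorem pow_six_le {n : ℕ} (h : 17 ≤ n) : n ^ 6 ≤ 3 ^ (n - 1) := by
  induction n, h using Nat.le_induction with
  | base => norm_num
  | succ n hn ih =>
    have h1 := Nat.pow_le_pow_left (show 17 * (n + 1) ≤ 18 * n by omega) 6
    rw [mul_pow, mul_pow] at h1
    rw [show n + 1 - 1 = n - 1 + 1 by omega, pow_succ 3]
    omega

/-- class numbers of solvable completely reducible groups on a module of order `e²` -/
theorem kb_im (e : ℕ) : ∀ (G V : Type u) [Group G] [Group.IsSolvable G] [AddCommGroup V] [Finite V]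
    [DistribMulAction G V], CR G V → Nat.card V = e ^ 2 → KB (Im G V) (3 ^ (e - 1)) := by
  induction e using Nat.strong_induction_on with
  | _ e ih =>
  intro G V _ _ _ _ _ h he
  have := solvable_im (G := G) (V := V)
  have hs : ∀ a b, 2 ≤ a → 2 ≤ b → a.Coprime b → e = a * b → KB (Im G V) (3 ^ (e - 1)) := by
    rintro a b ha hb hab rfl
    rw [mul_pow] at he
    obtain ⟨f, hf⟩ := exists_split (G := G) he (hab.pow 2 2)
    refine (((@ih a (by nlinarith) _ _ _ _ _ _ (invAct _ (invt_kil _)) (h.im.sub _ _)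
      (card_kil he (hab.pow 2 2))).prod (@ih b (by nlinarith) _ _ _ _ _ _ (invAct _ (invt_kil _))
      (h.im.sub _ _) (card_kil (he.trans (mul_comm _ _)) (hab.pow 2 2).symm))).of_inj f hf).mono ?_
    rw [← pow_add]
    refine Nat.pow_le_pow_right (by norm_num) ?_
    have : a + b ≤ a * b := Nat.add_le_mul ha hb
    omega
  by_cases hp : e.Prime
  · have := Fact.mk hp
    let _ := AddCommGroup.zmodModule (h.nsmul_eq_zero he)
    exact (kb_two_dim he).mono (sq_add_le hp.two_le)
  rcases le_or_gt 17 e with h17 | h17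
  · refine kb_card.mono ((card_im_le_cube h).trans ?_)
    rw [he, ← pow_mul]
    exact pow_six_le h17
  have h0 : 0 < Nat.card V := Nat.card_pos
  interval_cases e <;> try exact absurd (by decide) hp
  · omega
  · obtain ⟨k, h1, h2⟩ := card_im_le_desc (G := G) (V := V)
    rw [he] at h1 h2
    obtain rfl : k = 0 := by
      by_contra h3
      exact (Nat.one_lt_two_pow h3).not_ge h1
    exact kb_card.mono h2
  · exact kb_sixteen h he
  · exact hs 2 3 le_rfl (by norm_num) (by norm_num) rfl
  · exact kb_card.mono (by have := card_im_two_pow h (n := 3) he (by norm_num); omega)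
  · exact kb_card.mono ((ord_three h he).trans (by norm_num))
  · exact hs 2 5 le_rfl (by norm_num) (by norm_num) rfl
  · exact hs 4 3 (by norm_num) (by norm_num) (by norm_num) rfl
  · exact hs 2 7 le_rfl (by norm_num) (by norm_num) rfl
  · exact hs 3 5 (by norm_num) (by norm_num) (by norm_num) rfl
  · exact kb_card.mono (by have := card_im_two_pow h (n := 4) he (by norm_num); omega)

end Cfsg.Agent.FG.HK
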