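import Mathlib
import Cfsg.Agent.FG.HKM1
import Cfsg.Agent.GT.Fitting

/-! Class number bounds for solvable linear groups. -/

set_option autoImplicit false

namespace Cfsg.Agent.FG.HK

open Subgroup Module Cfsg.Agent.FG.BS

universe u v

section cls

variable {G : Type u} [Group G] [Finite G] [Group.IsSolvable G]

theorem card_im_four {G V : Type*} [Group G] [AddCommGroup V] [DistribMulAction G V] [Finite V]
    (h : Nat.card V = 2 ^ 2) : Nat.card (Im G V) ≤ 6 := by
  obtain ⟨k, h1, h2⟩ := card_im_le_desc (G := G) (V := V)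
  rw [h] at h1 h2
  have := (Nat.pow_le_pow_iff_right one_lt_two).1 h1
  refine h2.trans ?_
  interval_cases k <;> decide

theorem card_im_nine {G V : Type*} [Group G] [AddCommGroup V] [DistribMulAction G V] [Finite V]
    (h : Nat.card V = 3 ^ 2) : Nat.card (Im G V) ≤ 336 := by
  obtain ⟨k, h1, h2⟩ := card_im_le_desc (G := G) (V := V)
  rw [h] at h1 h2
  have := (Nat.pow_lt_pow_iff_right one_lt_two).1 (h1.trans_lt (show _ < 2 ^ 4 by norm_num))
  refine h2.trans ?_
  interval_cases k <;> decide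

theorem y_bound (P : Cls G) {e : ℕ} (he : Nat.card P.E = e ^ 2) :
    e ^ 2 * P.x < 3 * 9 ^ (e - 1) := by
  rcases le_or_gt 9 e with h9 | h9
  · have := x_bound P he h9
    have : 0 < 9 ^ (e - 1) := by positivity
    omega
  have h0 : 0 < Nat.card P.E := Nat.card_pos
  have h1 := P.x_le
  by_cases hp : e.Prime
  · have := P.x_le_prime hp he
    interval_cases e <;> first | exact absurd hp (by decide) | omega
  interval_cases e <;> try exact absurd (by decide) hp
  · omega
  · rw [P.x_of_card_one he]; norm_num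
  · have := card_im_two_pow (Cls.cr_E (P := P)) (n := 2) he (by norm_num)
    omega
  · have h2 : Nat.card P.E = 2 ^ 2 * 3 ^ 2 := he
    obtain ⟨f, hf⟩ := exists_split (G := G) h2 (by norm_num)
    have h3 := Nat.card_le_card_of_injective f hf
    have := Nat.mul_le_mul
      (@card_im_four _ _ _ _ (invAct _ (invt_kil (G := Im G P.E) _)) _ (card_kil h2 (by norm_num)))
      (@card_im_nine _ _ _ _ (invAct _ (invt_kil (G := Im G P.E) _)) _
        (card_kil (h2.trans (mul_comm _ _)) (by norm_num)))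
    rw [Nat.card_prod] at h3
    omega
  · have := card_im_two_pow (Cls.cr_E (P := P)) (n := 3) he (by norm_num)
    omega

theorem Cls.gam' (P : Cls G) {e : ℕ} (he : Nat.card P.E = e ^ 2) :
    Gam G (9 ^ (e - 1) * P.A.index ^ 2) := by
  have h1 := P.gam
  have h2 := y_bound P he
  have h3 : 0 < Nat.card P.E * P.x := Nat.mul_pos Nat.card_pos P.x_pos
  rw [he] at h1 h3
  generalize e ^ 2 * P.x = y at *
  generalize 9 ^ (e - 1) = N at *
  obtain ⟨y, rfl⟩ := Nat.exists_eq_add_of_le' h3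
  rw [show 3 * (y + 1) - 2 = 3 * y + 1 by omega] at h1
  have h4 : (y + 1) ^ 2 ≤ N * (3 * y + 1) := by nlinarith
  refine Nat.le_of_mul_le_mul_right (h1.trans ?_) (Nat.succ_pos _)
  calc _ ≤ N * (3 * y + 1) * P.A.index ^ 2 * kk G :=
      Nat.mul_le_mul_right _ (Nat.mul_le_mul_right _ h4)
    _ = _ := by ring

theorem Cls.one_le (P : Cls G) {e : ℕ} (he : Nat.card P.E = e ^ 2) : 1 ≤ e :=
  Nat.pos_of_ne_zero fun e0 => by
    have := Nat.card_pos (α := P.E)
    rw [he, e0] at this
    simp at this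

end cls

theorem le_three_pow {f c : ℕ} (h : f ≤ c) : f ≤ 3 ^ (c - 1) := by
  have := Nat.lt_pow_self (n := c - 1) (show 1 < 3 by norm_num)
  omega

theorem Gam.wr {G Q ι : Type*} [Group G] [Group Q] [Finite G] [Finite Q] [Fintype ι]
    {B : Subgroup G} (φ : B →* (ι → Q)) (hφ : Function.Injective φ) {c : ℕ} (h : Gam Q c) :
    Gam G (c ^ Fintype.card ι * B.index ^ 2) := (h.pi.of_inj φ hφ).ext B

theorem sq_le_nine {i n : ℕ} (h : i ≤ 3 ^ n) : i ^ 2 ≤ 9 ^ n :=
  (Nat.pow_le_pow_left h 2).trans_eq (by rw [← pow_mul, mul_comm, pow_mul]; norm_num)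

theorem pow_q_le {q c e m i : ℕ} (hq : 1 ≤ q) (he : 1 ≤ e) (hc : 1 ≤ c) (h : c * e ≤ m)
    (hi : i ≤ q ^ (c - 1)) : q ^ (e - 1) * i ≤ q ^ (m - 1) :=
  (Nat.mul_le_mul_right _ (Nat.le_self_pow (by omega) _)).trans (pow_wr_le hq he hc h hi)

/-- the average class size of a solvable linear group of degree `m`, modulo unipotents -/
theorem gam_lin {K : Type*} [Field K] (m : ℕ) (G : Type u) [Group G] [Finite G]
    [Group.IsSolvable G] (V : Type v) [AddCommGroup V] [Module K V] [FiniteDimensional K V]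
    (ρ : G →* Module.End K V) (hm : finrank K V = m) (h1 : 1 ≤ m) :
    ∃ (Q : Type u) (_ : Group Q) (π : G →* Q), Function.Surjective π ∧
      (∀ g, π g = 1 → Uni (ρ g)) ∧ Gam Q (9 ^ (m - 1)) := by
  refine lin_ind (fun G _ m => Gam G (9 ^ (m - 1))) ?_ ?_ ?_ m G V ρ hm h1
  · intro G A B _ _ _ _ _ _ a b f hf _ _ ha hb
    refine ((ha.prod hb).of_inj f hf).mono ?_
    rw [← pow_add]
    exact Nat.pow_le_pow_right (by norm_num) (by omega)
  · intro G Q ι _ _ _ _ _ s m B _ φ hφ h1 _ h2 hs h3 h4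
    exact (h4.wr φ hφ).mono (pow_wr_le (by norm_num) hs (by omega) h3 (sq_le_nine h1))
  · rintro G _ _ _ m _ ⟨P, c, e, he, hf, hm, -⟩
    exact (P.gam' he).mono (pow_q_le (by norm_num) (P.one_le he)
      ((Nat.pos_of_ne_zero index_ne_zero_of_finite).trans_le hf) hm (sq_le_nine (le_three_pow hf)))

theorem KB.of_ker_le {G Q R : Type*} [Group G] [Group Q] [Group R] [Finite Q] {c : ℕ} (h : KB Q c)
    (π : G →* Q) (σ : G →* R) (hσ : Function.Surjective σ) (hk : π.ker ≤ σ.ker) : KB R c := by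
  refine (h.of_inj _ π.range.subtype_injective).of_surj
    (π.rangeRestrict.liftOfSurjective π.rangeRestrict_surjective
      ⟨σ, by rwa [MonoidHom.ker_rangeRestrict]⟩) fun r => ?_
  obtain ⟨g, rfl⟩ := hσ r
  exact ⟨π.rangeRestrict g, MonoidHom.liftOfRightInverse_comp_apply _ _ _ _ _⟩

/-- class number bound modulo the Fitting subgroup -/
def FK (G : Type*) [Group G] (c : ℕ) : Prop := KB (G ⧸ Cfsg.fittingSubgroup G) c

theorem fk_of_hom {G Q : Type*} [Group G] [Group Q] [Finite Q] {c : ℕ} (h : KB Q c)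
    (π : G →* Q) (hn : Group.IsNilpotent π.ker) : FK G c :=
  h.of_ker_le π _ (QuotientGroup.mk'_surjective _)
    (by rw [QuotientGroup.ker_mk']; exact GT.le_fitting _)

theorem nil_of_inj {G H : Type*} [Group G] [Group H] [Group.IsNilpotent H] (f : G →* H)
    (hf : Function.Injective f) : Group.IsNilpotent G :=
  Group.nilpotent_of_mulEquiv (MonoidHom.ofInjective hf).symm

theorem FK.of_inj {G H : Type*} [Group G] [Group H] [Finite H] {c : ℕ} (h : FK H c) (f : G →* H)
    (hf : Function.Injective f) : FK G c :=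
  fk_of_hom h ((QuotientGroup.mk' _).comp f) (nil_of_inj (H := Cfsg.fittingSubgroup H)
    ((f.comp (Subgroup.subtype _)).codRestrict _ fun x => (QuotientGroup.eq_one_iff _).1 x.2)
    fun _ _ e => Subtype.ext (hf (Subtype.mk.inj e)))

theorem FK.prod {A B : Type*} [Group A] [Group B] [Finite A] [Finite B] {a b : ℕ} (h : FK A a)
    (h' : FK B b) : FK (A × B) (a * b) :=
  fk_of_hom (KB.prod h h') ((QuotientGroup.mk' _).prodMap (QuotientGroup.mk' _))
    (nil_of_inj (H := Cfsg.fittingSubgroup A × Cfsg.fittingSubgroup B)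
      ((((MonoidHom.fst A B).comp (Subgroup.subtype _)).codRestrict _ fun x =>
        (QuotientGroup.eq_one_iff _).1 (congrArg Prod.fst x.2)).prod
      (((MonoidHom.snd A B).comp (Subgroup.subtype _)).codRestrict _ fun x =>
        (QuotientGroup.eq_one_iff _).1 (congrArg Prod.snd x.2))) fun _ _ e =>
      Subtype.ext (Prod.ext (Subtype.mk.inj (congrArg Prod.fst e))
        (Subtype.mk.inj (congrArg Prod.snd e))))

theorem FK.pi {ι Q : Type*} [Fintype ι] [Group Q] [Finite Q] {c : ℕ} (h : FK Q c) :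
    FK (ι → Q) (c ^ Fintype.card ι) :=
  fk_of_hom (KB.pi h) ((QuotientGroup.mk' _).compLeft ι)
    (nil_of_inj (H := ι → Cfsg.fittingSubgroup Q) (MonoidHom.pi fun i =>
      ((Pi.evalMonoidHom (fun _ => Q) i).comp (Subgroup.subtype _)).codRestrict _ fun x =>
        (QuotientGroup.eq_one_iff _).1 (congrFun x.2 i)) fun _ _ e =>
      Subtype.ext (funext fun i => Subtype.mk.inj (congrFun e i)))

theorem FK.ext {G : Type*} [Group G] [Finite G] {c : ℕ} (B : Subgroup G) [B.Normal] (h : FK B c) :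
    FK G (c * B.index) := by
  let μ : G ⧸ Cfsg.fittingOf B →* G ⧸ B :=
    QuotientGroup.map _ _ (MonoidHom.id G) (GT.fittingOf_le B)
  refine fk_of_hom (KB.ext μ (KB.of_ker_le h (QuotientGroup.mk' _)
    (((QuotientGroup.mk' _).comp B.subtype).codRestrict _ fun x =>
      (QuotientGroup.eq_one_iff _).2 x.2) ?_ fun x hx => ?_) kb_card) (QuotientGroup.mk' _)
    (by rw [QuotientGroup.ker_mk']; infer_instance)
  · rintro ⟨y, hy⟩
    obtain ⟨g, rfl⟩ := QuotientGroup.mk_surjective y
    exact ⟨⟨g, (QuotientGroup.eq_one_iff g).1 hy⟩, rfl⟩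
  · exact Subtype.ext ((QuotientGroup.eq_one_iff _).2 ⟨x, (QuotientGroup.eq_one_iff _).1 hx, rfl⟩)

/-- the class numbers modulo the Fitting subgroup of a solvable linear group of degree `m`,
modulo unipotents -/
theorem fk_lin {K : Type*} [Field K] (m : ℕ) (G : Type u) [Group G] [Finite G]
    [Group.IsSolvable G] (V : Type v) [AddCommGroup V] [Module K V] [FiniteDimensional K V]
    (ρ : G →* Module.End K V) (hm : finrank K V = m) (h1 : 1 ≤ m) :
    ∃ (Q : Type u) (_ : Group Q) (π : G →* Q), Function.Surjective π ∧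
      (∀ g, π g = 1 → Uni (ρ g)) ∧ FK Q (3 ^ (m - 1)) := by
  refine lin_ind (fun G _ m => FK G (3 ^ (m - 1))) ?_ ?_ ?_ m G V ρ hm h1
  · intro G A B _ _ _ _ _ _ a b f hf _ _ ha hb
    refine ((ha.prod hb).of_inj f hf).mono ?_
    rw [← pow_add]
    exact Nat.pow_le_pow_right (by norm_num) (by omega)
  · intro G Q ι _ _ _ _ _ s m B _ φ hφ h1 _ h2 hs h3 h4
    exact ((h4.pi.of_inj φ hφ).ext B).mono (pow_wr_le (by norm_num) hs (by omega) h3 h1)
  · rintro G _ _ _ m _ ⟨P, c, e, he, hf, hm, -⟩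
    refine (fk_of_hom (P.kb_quot (kb_im e G _ Cls.cr_E he)) (QuotientGroup.mk' _)
      (by rw [QuotientGroup.ker_mk']; exact P.nilpotent_F)).mono (pow_q_le (by norm_num)
      (P.one_le he) ((Nat.pos_of_ne_zero index_ne_zero_of_finite).trans_le hf) hm (le_three_pow hf))

/-- the two-dimensional alternative -/
def Two (p : ℕ) (G : Type*) [Group G] : Prop :=
  23 * Nat.card G ≤ 128 * kk G ∨ ∃ z, z ∣ p - 1 ∧ Nat.card G = 24 * z ∧ 4 * z ≤ kk G

theorem Gam.two {G : Type*} [Group G] {p : ℕ} (h : Gam G 4) : Two p G := by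
  unfold Gam at h
  exact Or.inl (by omega)

theorem two_lin {p : ℕ} [Fact p.Prime] (G : Type u) [Group G] [Finite G]
    [Group.IsSolvable G] (V : Type v) [AddCommGroup V] [Module (ZMod p) V]
    [FiniteDimensional (ZMod p) V] (ρ : G →* Module.End (ZMod p) V) (hm : finrank (ZMod p) V = 2) :
    ∃ (Q : Type u) (_ : Group Q) (π : G →* Q), Function.Surjective π ∧
      (∀ g, π g = 1 → Uni (ρ g)) ∧ Two p Q := by
  refine (lin_ind (fun G _ m => (m = 1 → Gam G 1) ∧ (m = 2 → Two p G)) ?_ ?_ ?_ 2 G V ρ hm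
    one_le_two).imp fun Q ⟨_, π, h1, h2, h3⟩ => ⟨_, π, h1, h2, h3.2 rfl⟩
  · intro G A B _ _ _ _ _ _ a b f hf _ _ ha hb
    exact ⟨fun _ => by omega, fun _ => ((((ha.1 (by omega)).prod (hb.1 (by omega))).of_inj f
      hf).mono (by norm_num)).two⟩
  · intro G Q ι _ _ _ _ _ s m B _ φ hφ _ h1 h2 hs h3 h4
    refine ⟨fun _ => by nlinarith, fun _ => ?_⟩
    obtain rfl : s = 1 := by nlinarith
    have h5 : Fintype.card ι = 2 := by omega
    rw [h5] at h1
    have := Nat.pow_le_pow_left (Nat.le_of_dvd two_pos h1) 2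
    exact (((h4.1 rfl).wr φ hφ).mono (by simpa using this)).two
  · intro G _ _ _ m _ hq
    obtain ⟨P, c, e, he, hf, hm, hc, he1, -, -, -, hc1, -⟩ := hq.data
    have h1 := P.gam' he
    have h0 : 0 < P.A.index := Nat.pos_of_ne_zero index_ne_zero_of_finite
    refine ⟨fun h => ?_, fun h => ?_⟩
    · obtain rfl : e = 1 := by nlinarith
      exact h1.mono (by rw [show P.A.index = 1 by omega]; rfl)
    rcases he1.eq_or_lt with rfl | he1
    · exact (h1.mono (by simpa using Nat.pow_le_pow_left (show _ ≤ 2 by omega) 2)).two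
    obtain rfl : c = 1 := by nlinarith
    obtain rfl : e = 2 := by omega
    have h2 : P.A.index = 1 := by omega
    have h3 := P.x_le_prime Nat.prime_two he
    have h4 := P.x_pos
    have h5 : P.x ∣ 24 := by
      refine P.x_dvd.trans ((card_subgroup_dvd_card _).trans (dvd_of_eq ?_))
      rw [Nat.card_perm, he]; rfl
    have h6 := P.gam
    rw [h2, he] at h6
    by_cases h7 : P.x = 6
    · exact Or.inr ⟨_, hc1 rfl, P.perm_four h2 he h7⟩
    left
    generalize P.x = x at *
    interval_cases x <;> omega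

end Cfsg.Agent.FG.HK
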