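import Mathlib
import Cfsg.Agent.FG.HKT

/-! The class number of a solvable group of order divisible by `p²`. -/

set_option autoImplicit false

namespace Cfsg.Agent.FG.HK

open Subgroup Module Cfsg.Agent.FG.BS

universe u

/-- an elementary abelian normal subgroup as a module -/
theorem exists_lin {G : Type u} [Group G] (p : ℕ) [NeZero p] (W : Subgroup G) [hW : W.Normal]
    (hc : ∀ x ∈ W, ∀ y ∈ W, x * y = y * x) (hp : ∀ x ∈ W, x ^ p = 1) :
    ∃ (M : Type u) (_ : AddCommGroup M) (_ : Module (ZMod p) M)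
      (ρ : G →* Module.End (ZMod p) M) (j : M ≃ W),
      (∀ a b, (j (a + b) : G) = j a * j b) ∧ ∀ g a, (j (ρ g a) : G) = g * j a * g⁻¹ := by
  let _ : CommGroup W :=
    { (inferInstance : Group W) with mul_comm := fun a b => Subtype.ext (hc _ a.2 _ b.2) }
  let _ : Module (ZMod p) (Additive W) :=
    AddCommGroup.zmodModule fun x => Subtype.ext (hp _ x.toMul.2)
  let _ : DistribMulAction G (Additive W) :=
    { smul g x := Additive.ofMul ⟨g * x.toMul * g⁻¹, hW.conj_mem _ x.toMul.2 g⟩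
      one_smul x := Subtype.ext (show (1 : G) * x.toMul * 1⁻¹ = x.toMul by simp)
      mul_smul a b x := Subtype.ext
        (show a * b * x.toMul * (a * b)⁻¹ = a * (b * x.toMul * b⁻¹) * a⁻¹ by group)
      smul_zero g := Subtype.ext (show g * 1 * g⁻¹ = 1 by simp)
      smul_add g x y := Subtype.ext (show g * (x.toMul * y.toMul) * g⁻¹ =
        g * x.toMul * g⁻¹ * (g * y.toMul * g⁻¹) by group) }
  exact ⟨Additive W, _, _, zrep p G _, Additive.toMul, fun _ _ => rfl, fun _ _ => rfl⟩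

/-- the elements of order dividing `p` in an abelian subgroup -/
def om {G : Type*} [Group G] (V : Subgroup G) (hc : ∀ x ∈ V, ∀ y ∈ V, x * y = y * x) (p : ℕ) :
    Subgroup G where
  carrier := {x | x ∈ V ∧ x ^ p = 1}
  one_mem' := ⟨V.one_mem, one_pow _⟩
  mul_mem' ha hb := ⟨V.mul_mem ha.1 hb.1, by
    rw [Commute.mul_pow (hc _ ha.1 _ hb.1), ha.2, hb.2, mul_one]⟩
  inv_mem' ha := ⟨V.inv_mem ha.1, by rw [inv_pow, ha.2, inv_one]⟩

theorem comm_of_om {G : Type*} [Group G] {V : Subgroup G} [hV : V.Normal]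
    (hc : ∀ x ∈ V, ∀ y ∈ V, x * y = y * x) {p m : ℕ} (hm : m.Coprime p) {y : G} (hy : y ^ m = 1)
    (h : ∀ w ∈ V, w ^ p = 1 → y * w = w * y) (k : ℕ) :
    ∀ v ∈ V, v ^ p ^ k = 1 → y * v = v * y := by
  induction k with
  | zero => intro v _ hv; rw [pow_zero, pow_one] at hv; simp [hv]
  | succ k ih =>
    intro v hv h1
    have h2 := ih (v ^ p) (V.pow_mem hv p) (by rw [← pow_mul, ← pow_succ', h1])
    have h3 : v⁻¹ * (y * v * y⁻¹) ∈ V := V.mul_mem (V.inv_mem hv) (hV.conj_mem v hv y)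
    have h4 : (v⁻¹ * (y * v * y⁻¹)) ^ p = 1 := by
      rw [Commute.mul_pow (hc _ (V.inv_mem hv) _ (hV.conj_mem v hv y)), conj_pow, h2,
        mul_inv_cancel_right, inv_pow, inv_mul_cancel]
    have h5 : Commute y (v⁻¹ * (y * v * y⁻¹)) := h _ h3 h4
    obtain ⟨w, hw⟩ : ∃ w, w = v⁻¹ * (y * v * y⁻¹) := ⟨_, rfl⟩
    rw [← hw] at h4 h5
    have h6 : y * v = v * w * y := by rw [hw]; group
    have h7 : ∀ n : ℕ, y ^ n * v = v * w ^ n * y ^ n := fun n => by
      induction n with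
      | zero => simp
      | succ n ih =>
        rw [pow_succ' y, mul_assoc, ih, ← mul_assoc, ← mul_assoc, h6, mul_assoc (v * w),
          (h5.pow_right n).eq, pow_succ' w]
        simp only [mul_assoc]
    have h8 := h7 m
    rw [hy, one_mul, mul_one, left_eq_mul] at h8
    rwa [orderOf_eq_one_iff.1 (Nat.eq_one_of_dvd_coprimes hm (orderOf_dvd_of_pow_eq_one h8)
      (orderOf_dvd_of_pow_eq_one h4)), mul_one] at h6

theorem exists_faithful {G : Type u} [Group G] [Finite G] {p : ℕ} [hp : Fact p.Prime]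
    (hC : centralizer (pCore p G : Set G) ≤ pCore p G)
    (hc : ∀ x ∈ pCore p G, ∀ y ∈ pCore p G, x * y = y * x) (hne : pCore p G ≠ ⊥) :
    ∃ (M : Type u) (_ : AddCommGroup M) (_ : Module (ZMod p) M) (_ : Finite M)
      (ρ : G ⧸ pCore p G →* Module.End (ZMod p) M), 1 ≤ finrank (ZMod p) M ∧
      p ^ finrank (ZMod p) M ≤ Nat.card (pCore p G) ∧
      ∀ N : Subgroup (G ⧸ pCore p G), N.Normal → (∀ g ∈ N, Uni (ρ g)) → N = ⊥ := by
  have hV := GT.isPGroup_pCore (G := G) p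
  have : (om _ hc p).Normal := ⟨fun x hx g =>
    ⟨Normal.conj_mem inferInstance x hx.1 g, by rw [conj_pow, hx.2]; simp⟩⟩
  obtain ⟨M, _, _, ρ, j, h1, h2⟩ := exists_lin p (om _ hc p) (fun x hx y hy => hc x hx.1 y hy.1)
    fun x hx => hx.2
  have := Finite.of_equiv _ j.symm
  have h3 : p ^ finrank (ZMod p) M = Nat.card (om _ hc p) := by
    rw [← Nat.card_congr j, natCard_eq_pow_finrank (K := ZMod p), Nat.card_zmod]
  refine ⟨M, inferInstance, inferInstance, this,
    (Units.coeHom _).comp (QuotientGroup.lift _ ρ.toHomUnits fun a h4 => ?_), ?_, ?_, ?_⟩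
  · refine Units.ext (LinearMap.ext fun v => j.injective (Subtype.ext ((h2 a v).trans ?_)))
    rw [hc _ h4 _ (j v).2.1, mul_inv_cancel_right]; rfl
  · refine Nat.pos_of_ne_zero fun e => ?_
    rw [e, pow_zero, eq_comm, card_eq_one] at h3
    obtain ⟨x, hx⟩ := exists_prime_orderOf_dvd_card' p
      (hV.card_eq_or_dvd.resolve_left (mt card_eq_one.1 hne))
    have h4 : (x : G) ∈ om _ hc p := ⟨x.2, congrArg Subtype.val
      (orderOf_dvd_iff_pow_eq_one.1 hx.dvd)⟩
    rw [h3, mem_bot, OneMemClass.coe_eq_one] at h4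
    rw [h4, orderOf_one] at hx
    exact hp.out.one_lt.ne hx
  · exact h3.trans_le (card_le_of_le fun x hx => hx.1)
  · intro N hN hu
    refine eq_bot_iff.2 ((GT.le_pCore (p := p) ?_).trans GT.pCore_quotient_pCore.le)
    rintro ⟨g, hg⟩
    obtain ⟨x, rfl⟩ := QuotientGroup.mk_surjective g
    obtain ⟨k, m, hm, e⟩ := Nat.exists_eq_pow_mul_and_not_dvd (orderOf_pos x).ne' p hp.out.one_lt.ne'
    have h4 : (x ^ p ^ k) ^ m = 1 := by rw [← pow_mul, ← e, pow_orderOf_eq_one]
    have h5 : ρ (x ^ p ^ k) = 1 := Uni.eq_one (hu ((x ^ p ^ k : G) : G ⧸ pCore p G) (N.pow_mem hg _))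
      (mt (ZMod.natCast_eq_zero_iff m p).1 hm) (by rw [← map_pow, h4, map_one])
    refine ⟨k, Subtype.ext ((QuotientGroup.eq_one_iff (x ^ p ^ k)).2 (hC fun v hv => ?_))⟩
    obtain ⟨l, hl⟩ := hV ⟨v, hv⟩
    refine (comm_of_om hc ((Nat.coprime_comm.1 (hp.out.coprime_iff_not_dvd.2 hm))) h4
      (fun w hw hw' => ?_) l v hv (congrArg Subtype.val hl)).symm
    have h6 := h2 (x ^ p ^ k) (j.symm ⟨w, hw, hw'⟩)
    rw [h5, Module.End.one_apply, j.apply_symm_apply] at h6
    exact (eq_mul_inv_iff_mul_eq.1 h6).symm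

theorem num_sq {s k n : ℕ} (h : k + n ≤ s) : 4 * (n * k) ≤ s ^ 2 := by
  nlinarith [sq_nonneg ((k : ℤ) - n), Nat.pow_le_pow_left h 2]

theorem num_one {p s k n : ℕ} (hp : 2 ≤ p) (h : k + n ≤ s) (h1 : p ^ 2 - 1 ≤ n * k) :
    49 * p ≤ 60 * s := by
  have := num_sq h
  by_contra hc
  have h2 := Nat.pow_le_pow_left (show 60 * s ≤ 49 * p by omega) 2
  have h3 := Nat.pow_le_pow_left hp 2
  rw [mul_pow, mul_pow] at h2
  omega

theorem num_twoA {p s k n h : ℕ} (hp : 2 ≤ p) (hs : k + n ≤ s) (h1 : p ^ 2 - 1 ≤ n * h)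
    (h2 : 23 * h ≤ 128 * k) : 49 * p ≤ 60 * s := by
  have := num_sq hs
  have h4 : 23 * (n * h) ≤ 128 * (n * k) := by nlinarith
  by_contra hc
  have h5 := Nat.pow_le_pow_left (show 60 * s ≤ 49 * p by omega) 2
  rw [mul_pow, mul_pow] at h5
  rcases le_or_gt 4 p with h6 | h6
  · have h3 := Nat.pow_le_pow_left h6 2
    omega
  · have : s ≤ 2 := by omega
    interval_cases p <;> interval_cases s <;> omega

theorem num_twoB {p s k n z : ℕ} (hp : 2 ≤ p) (hs : k + n ≤ s) (h1 : p ^ 2 - 1 ≤ n * (24 * z))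
    (h2 : z ∣ p - 1) (h3 : 4 * z ≤ k) : 49 * p ≤ 60 * s := by
  obtain ⟨t, ht⟩ := h2
  obtain rfl : p = z * t + 1 := by omega
  have hz : 0 < z := Nat.pos_of_mul_pos_right (show 0 < z * t by omega)
  have h4 : t * (z * t + 2) ≤ 24 * n := Nat.le_of_mul_le_mul_left (by
    rw [show (z * t + 1) ^ 2 = z * (t * (z * t + 2)) + 1 by ring, Nat.add_sub_cancel] at h1
    linarith) hz
  rcases le_or_gt 10 t with h5 | h5
  · obtain ⟨t, rfl⟩ := Nat.exists_eq_add_of_le h5
    nlinarith [Nat.zero_le (z * t), Nat.zero_le (z * t * t)]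
  · clear h1
    rcases le_or_gt z 2 with h6 | h6
    · interval_cases t <;> interval_cases z <;> omega
    · interval_cases t <;> omega

theorem num_three {p s k n h r : ℕ} (hp : 11 ≤ p) (hp' : p ≠ 12) (hs : k + n ≤ s) (hr : 3 ≤ r)
    (h1 : p ^ r - 1 ≤ n * h) (h2 : h ≤ 9 ^ (r - 1) * k) : 49 * p ≤ 60 * s := by
  obtain ⟨r, rfl⟩ := Nat.exists_eq_add_of_le hr
  have h3 : p ^ 3 - 1 ≤ 81 * (n * k) := by
    have h4 : 9 ^ r * p ^ 3 ≤ p ^ (3 + r) := by
      rw [pow_add, mul_comm]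
      exact Nat.mul_le_mul_left _ (Nat.pow_le_pow_left (by omega) _)
    have h5 : 0 < 9 ^ r := by positivity
    refine Nat.le_of_mul_le_mul_left ?_ h5
    rw [show 3 + r - 1 = r + 2 by omega, pow_add] at h2
    have h6 := Nat.mul_le_mul_left n h2
    rw [Nat.mul_sub, mul_one]
    calc _ ≤ n * (9 ^ r * 9 ^ 2 * k) := by omega
      _ = _ := by ring
  have := num_sq hs
  by_contra hc
  rcases le_or_gt 14 p with h6 | h6
  · have h5 := Nat.pow_le_pow_left (show 60 * s ≤ 49 * p by omega) 2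
    rw [mul_pow, mul_pow] at h5
    have h7 : p ^ 2 * 14 ≤ p ^ 3 := Nat.mul_le_mul_left (p ^ 2) h6
    have h8 := Nat.pow_le_pow_left h6 2
    omega
  · interval_cases p
    · have := Nat.pow_le_pow_left (show s ≤ 8 by omega) 2
      omega
    · omega
    · have := Nat.pow_le_pow_left (show s ≤ 10 by omega) 2
      omega

theorem num_small {p s k n h v : ℕ} (hp : p.Prime) (h6 : p < 11) (hs : k + n ≤ s) (hk : 1 ≤ k)
    (hn : v - 1 ≤ n * h) (h7 : p ^ 3 ≤ v) (h0 : 0 < h) (h8 : s ≤ 4 → v * h ≤ 42)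
    (h9 : k ≤ 4 → h ≤ 42) : 49 * p ≤ 60 * s := by
  by_contra hc
  have h10 : 1 ≤ n := Nat.pos_of_ne_zero fun e => by
    have := Nat.pow_le_pow_left hp.two_le 3
    rw [e] at hn; omega
  interval_cases p <;> try exact absurd hp (by decide)
  · omega
  · have := h8 (by omega)
    obtain rfl : h = 1 := by nlinarith
    omega
  · have := h8 (by omega)
    nlinarith
  · have := Nat.mul_le_mul (show n ≤ 4 by omega) (h9 (by omega))
    omega

theorem kk_pos {G : Type*} [Group G] [Finite G] : 1 ≤ kk G := Nat.card_pos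

theorem sq_main {p : ℕ} [hp : Fact p.Prime] (N : ℕ) : ∀ (G : Type u) [Group G] [Finite G]
    [Group.IsSolvable G], Nat.card G = N → p ^ 2 ∣ Nat.card G → 49 * p ≤ 60 * kk G := by
  induction N using Nat.strong_induction_on with
  | _ N ih =>
  intro G _ _ _ hN hd
  by_cases hq : ∃ X : Subgroup G, X.Normal ∧ X ≠ ⊥ ∧ p ^ 2 ∣ X.index
  · obtain ⟨X, _, h1, h2⟩ := hq
    refine (ih _ ?_ (G ⧸ X) rfl h2).trans (Nat.mul_le_mul_left _
      (card_conjClasses_le_of_surjective _ (QuotientGroup.mk'_surjective X)))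
    rw [← hN, ← X.card_mul_index]
    exact lt_mul_of_one_lt_left Nat.card_pos ((one_lt_card_iff_ne_bot X).2 h1)
  push Not at hq
  have h2 := hp.out.two_le
  have hC := GT.centralizer_pCore_le hp.out (G := G) (by
    by_contra hc
    refine hq _ inferInstance hc (Nat.Coprime.dvd_of_dvd_mul_left ?_
      (by rwa [card_mul_index]))
    exact (GT.coprime_card_pPrimeCore p).symm.pow_left 2)
  have hV := GT.isPGroup_pCore (G := G) p
  set V := pCore p G
  have hne : V ≠ ⊥ := fun e => by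
    rw [e, coe_bot, centralizer_eq_top_iff_subset.2 (by simp), top_le_iff, eq_comm,
      ← card_eq_one, card_top] at hC
    rw [hC] at hd
    exact (Nat.one_lt_pow two_ne_zero h2).not_ge (Nat.le_of_dvd one_pos hd)
  have hc : ∀ x ∈ V, ∀ y ∈ V, x * y = y * x := by
    have : Nontrivial V := (nontrivial_iff_ne_bot V).2 hne
    have h3 : center V = (centralizer (V : Set G)).subgroupOf V := by
      ext x
      exact mem_center_iff.trans ⟨fun h y hy => Subtype.mk.inj (h ⟨y, hy⟩),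
        fun h y => Subtype.ext (h y y.2)⟩
    have h4 := hq (centralizer (V : Set G)) inferInstance fun e =>
      (nontrivial_iff_ne_bot _).1 hV.center_nontrivial (by rw [h3, e, bot_subgroupOf])
    obtain ⟨a, ha⟩ := IsPGroup.iff_card.1 (hV.to_quotient (center V))
    have h5 : a ≤ 1 := by
      by_contra h5
      refine h4 ((pow_dvd_pow p (show 2 ≤ a by omega)).trans ?_)
      rw [← ha, ← index_eq_card, h3]
      exact relIndex_dvd_index_of_le hC
    have : IsCyclic (V ⧸ center V) := isCyclic_of_card_dvd_prime (p := p)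
      (ha ▸ (pow_dvd_pow p h5).trans (pow_one p).dvd)
    exact fun x hx y hy => Subtype.mk.inj (commutative_of_cyclic_center_quotient
      (QuotientGroup.mk' (center V)) (QuotientGroup.ker_mk' _).le ⟨x, hx⟩ ⟨y, hy⟩)
  obtain ⟨M, _, _, _, ρ, h1, hr, hu⟩ := exists_faithful hC hc hne
  obtain ⟨n, hs, hn⟩ := kk_normal V
  rw [le_antisymm hC fun x hx y hy => hc y hy x hx, index_eq_card] at hn
  have hk := kk_pos (G := G ⧸ V)
  have hiso : ∀ {Q : Type u} [Group Q] (π : G ⧸ V →* Q), Function.Surjective π →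
      (∀ g, π g = 1 → Uni (ρ g)) → Nonempty (Q ≃* G ⧸ V) := fun π h h' =>
    ⟨(MulEquiv.ofBijective π ⟨(MonoidHom.ker_eq_bot_iff π).1 (hu _ inferInstance h'), h⟩).symm⟩
  obtain ⟨Q, _, π, h3, h4, h5⟩ := gam_lin _ _ M ρ rfl h1
  obtain ⟨e⟩ := hiso π h3 h4
  replace h5 : _ ≤ _ := h5.congr e
  have hG : Nat.card V * Nat.card (G ⧸ V) = Nat.card G := V.card_mul_index
  rcases h1.eq_or_lt with h1 | h1
  · rw [← h1, pow_zero, one_mul] at h5
    obtain ⟨a, ha⟩ := IsPGroup.iff_card.1 hV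
    rcases le_or_gt 2 a with h6 | h6
    · refine num_one h2 hs (le_trans ?_ (hn.trans (Nat.mul_le_mul_left _ h5)))
      exact Nat.sub_le_sub_right (ha ▸ Nat.pow_le_pow_right hp.out.pos h6) _
    · have h7 : p * p ∣ p * Nat.card (G ⧸ V) := by
        rw [← sq]
        refine hd.trans (hG ▸ Nat.mul_dvd_mul_right ?_ _)
        exact ha ▸ (pow_dvd_pow p (by omega)).trans (pow_one p).dvd
      have := Nat.le_of_dvd Nat.card_pos (Nat.dvd_of_mul_dvd_mul_left hp.out.pos h7)
      omega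
  rcases (show 2 ≤ _ from h1).eq_or_lt with h1 | h1
  · obtain ⟨Q, _, π, h3, h4, h5⟩ := two_lin _ M ρ h1.symm
    obtain ⟨e⟩ := hiso π h3 h4
    rw [← h1] at hr
    unfold Two kk at h5
    rw [Nat.card_congr e.toEquiv, card_conjClasses_congr e] at h5
    obtain h5 | ⟨z, h5, h6, h7⟩ := h5
    · exact num_twoA h2 hs ((Nat.sub_le_sub_right hr _).trans hn) h5
    · exact num_twoB h2 hs ((Nat.sub_le_sub_right hr _).trans (h6 ▸ hn)) h5 h7
  rcases le_or_gt 11 p with h6 | h6
  · exact num_three h6 (fun e => absurd (e ▸ hp.out) (by decide)) hs h1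
      ((Nat.sub_le_sub_right hr _).trans hn) h5
  exact num_small hp.out h6 hs hk hn
    ((Nat.pow_le_pow_right hp.out.pos (show 3 ≤ _ from h1)).trans hr) Nat.card_pos
    (hG ▸ card_le_of_kk_le_four) card_le_of_kk_le_four

end Cfsg.Agent.FG.HK
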