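import Mathlib
import Cfsg.Agent.FG.HKSq

/-! The class number of a solvable group with `p` dividing the index of the Fitting subgroup. -/

set_option autoImplicit false

namespace Cfsg.Agent.FG.HK

open Subgroup Module Polynomial Cfsg.Agent.FG.BS

universe u v

theorem aeval_semi {K V W : Type*} [Field K] [AddCommGroup V] [Module K V] [AddCommGroup W]
    [Module K W] (g : V →ₗ[K] W) {f : End K V} {f' : End K W} (h : ∀ v, g (f v) = f' (g v))
    (μ : K[X]) (v : V) : g (aeval f μ v) = aeval f' μ (g v) := by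
  induction μ using Polynomial.induction_on generalizing v with
  | C a => simp
  | add p q hp hq => simp [hp, hq]
  | monomial n a ih =>
    rw [pow_succ, ← mul_assoc, map_mul, map_mul (aeval f'), aeval_X, aeval_X, End.mul_apply,
      End.mul_apply, ih, h]

theorem Uni.congr {K L V : Type*} [Field K] [Field L] [AddCommGroup V] [Module K V] [Module L V]
    {f : End K V} {f' : End L V} (h : Uni f) (e : ∀ v, f' v = f v) : Uni f' := fun v => by
  obtain ⟨n, hn⟩ := h v
  refine ⟨n, Eq.trans ?_ hn⟩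
  clear hn
  induction n generalizing v with
  | zero => rfl
  | succ n ih =>
    rw [pow_succ, pow_succ, End.mul_apply, End.mul_apply, ih]
    simp [e]

/-- the irreducible case: the endomorphism field -/
theorem cent_irr {K : Type*} [Field K] {C : Type u} [Group C] [Finite C] [Group.IsSolvable C]
    {V : Type v} [AddCommGroup V] [Module K V] [Finite V] [Nontrivial V] (ρ : C →* End K V)
    (hi : IrrR ρ) {y : C} (hy : ∀ g, g * y = y * g) {p : ℕ} (hp : p.Prime) (h9 : 9 ≤ p)
    (hyp : y ^ p = 1) (hf : Function.Injective ⇑(ρ y - 1)) :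
    ∃ (Q : Type u) (_ : Group Q) (_ : Finite Q) (π : C →* Q) (c : ℕ) (μ : K[X]), μ ≠ 0 ∧
      (∀ g, π g = 1 → Uni (ρ g)) ∧ Gam Q c ∧ aeval (ρ y) μ = 0 ∧
      c * 2 ^ μ.natDegree ≤ Nat.card V := by
  let L := Subalgebra.centralizer K (Set.range ρ)
  have hL : ∀ (a : L) g v, ρ g (a.1 v) = a.1 (ρ g v) := fun a g v =>
    LinearMap.congr_fun (a.2 _ ⟨g, rfl⟩) v
  have : Finite (End K V) := Finite.of_injective _ DFunLike.coe_injective
  have : NoZeroDivisors L := ⟨fun {a b} h => by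
    rcases hi (LinearMap.ker a.1) (fun g v hv => by
      rw [LinearMap.mem_ker, ← hL, hv, map_zero]) with h1 | h1
    · exact Or.inr (Subtype.ext (LinearMap.ext fun v => (Submodule.mem_bot K).1
        (h1.le (LinearMap.congr_fun (congrArg Subtype.val h) v))))
    · exact Or.inl (Subtype.ext (LinearMap.ker_eq_top.1 h1))⟩
  have : IsDomain L := NoZeroDivisors.to_isDomain L
  let _ : Field L := (Finite.isDomain_to_isField L).toField
  let σ : C →* End L V :=
    { toFun g := ⟨⟨ρ g, map_add _⟩, fun a v => hL a g v⟩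
      map_one' := LinearMap.ext fun v => LinearMap.congr_fun (map_one ρ) v
      map_mul' a b := LinearMap.ext fun v => LinearMap.congr_fun (map_mul ρ a b) v }
  have h1 : 1 ≤ finrank L V := finrank_pos
  obtain ⟨Q, _, π, hs, hu, hg⟩ := gam_lin _ C V σ rfl h1
  let l : L := ⟨ρ y, by rintro _ ⟨g, rfl⟩; rw [← map_mul, hy, map_mul]⟩
  have : Finite K := by
    obtain ⟨v, hv⟩ := exists_ne (0 : V)
    exact Finite.of_injective _ (smul_left_injective K hv)
  have h2 : 9 ≤ Nat.card L := by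
    have := Fact.mk hp
    refine h9.trans ((orderOf_eq_prime (x := l) (p := p) (Subtype.ext (by
      show ρ y ^ p = 1; rw [← map_pow, hyp, map_one])) fun e => ?_).ge.trans orderOf_le_card)
    obtain ⟨v, hv⟩ := exists_ne (0 : V)
    exact hv (hf (by rw [show ρ y = 1 from congrArg Subtype.val e]; simp))
  refine ⟨Q, inferInstance, Finite.of_surjective π hs, π, _, minpoly K l,
    minpoly.ne_zero (Algebra.IsIntegral.isIntegral l), fun g hg => (hu g hg).congr fun _ => rfl,
    hg, ?_, ?_⟩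
  · exact (aeval_algHom_apply L.val l _).trans (by rw [minpoly.aeval, map_zero])
  · have h3 : 2 ^ (minpoly K l).natDegree ≤ Nat.card L := by
      rw [natCard_eq_pow_finrank (K := K) (V := L)]
      exact (Nat.pow_le_pow_right two_pos (minpoly.natDegree_le l)).trans
        (Nat.pow_le_pow_left Finite.one_lt_card _)
    rw [natCard_eq_pow_finrank (K := L) (V := V)]
    refine (Nat.mul_le_mul (Nat.pow_le_pow_left h2 _) h3).trans_eq ?_
    rw [← pow_succ, Nat.sub_add_cancel h1]

theorem cent_lin {K : Type*} [Field K] {C : Type u} [Group C] [Finite C] [Group.IsSolvable C]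
    {y : C} (hy : ∀ g, g * y = y * g) {p : ℕ} (hp : p.Prime) (h9 : 9 ≤ p) (hyp : y ^ p = 1)
    (n : ℕ) : ∀ (V : Type v) [AddCommGroup V] [Module K V] [Finite V] [Nontrivial V]
    (ρ : C →* End K V), Nat.card V = n → Function.Injective ⇑(ρ y - 1) →
    ∃ (Q : Type u) (_ : Group Q) (_ : Finite Q) (π : C →* Q) (c : ℕ) (μ : K[X]), μ ≠ 0 ∧
      (∀ g, π g = 1 → Uni (ρ g)) ∧ Gam Q c ∧ aeval (ρ y) μ = 0 ∧
      c * 2 ^ μ.natDegree ≤ Nat.card V := by
  induction n using Nat.strong_induction_on with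
  | _ n ih =>
  intro V _ _ _ _ ρ hn hf
  by_cases hi : IrrR ρ
  · exact cent_irr ρ hi hy hp h9 hyp hf
  unfold IrrR at hi
  push Not at hi
  obtain ⟨W, hW, hb, ht⟩ := hi
  have := Submodule.nontrivial_iff_ne_bot.2 hb
  have := Submodule.Quotient.nontrivial_iff.2 ht
  have : Finite (V ⧸ W) := Finite.of_surjective _ W.mkQ_surjective
  have h1 := W.card_eq_card_quotient_mul_card
  have h2 : 1 < Nat.card W := Finite.one_lt_card
  have h3 : 1 < Nat.card (V ⧸ W) := Finite.one_lt_card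
  obtain ⟨A, _, _, π1, c1, μ1, h4, hu1, hg1, ha1, hc1⟩ := ih _ (by nlinarith) W
    (Representation.subrepresentation ρ W hW) rfl fun a b e =>
      Subtype.ext (hf (congrArg Subtype.val e))
  obtain ⟨B, _, _, π2, c2, μ2, h5, hu2, hg2, ha2, hc2⟩ := ih _ (by nlinarith) (V ⧸ W)
    (Representation.quotient ρ W hW) rfl (Finite.injective_iff_surjective.2 fun x => by
      obtain ⟨v, rfl⟩ := W.mkQ_surjective x
      obtain ⟨u, rfl⟩ := Finite.injective_iff_surjective.1 hf v
      exact ⟨W.mkQ u, rfl⟩)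
  refine ⟨A × B, inferInstance, inferInstance, π1.prod π2, _, μ1 * μ2, mul_ne_zero h4 h5,
    fun g hg => uni_of_sub_quot (hW g) (hu1 g (congrArg Prod.fst hg))
      (hu2 g (congrArg Prod.snd hg)), hg1.prod hg2, LinearMap.ext fun v => ?_, ?_⟩
  · have h6 := aeval_semi W.mkQ (f := ρ y) (f' := Representation.quotient ρ W hW y)
      (fun _ => rfl) μ2 v
    rw [ha2] at h6
    have h7 := aeval_semi W.subtype (f := Representation.subrepresentation ρ W hW y) (f' := ρ y)
      (fun _ => rfl) μ1 ⟨_, (Submodule.Quotient.mk_eq_zero W).1 h6⟩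
    rw [ha1] at h7
    rw [map_mul]
    exact h7.symm
  · rw [natDegree_mul h4 h5, pow_add, h1, mul_mul_mul_comm]
    exact Nat.mul_le_mul hc1 hc2

theorem isPGroup_of_uni {q : ℕ} [hq : Fact q.Prime] {G V : Type*} [Group G] [Finite G]
    [AddCommGroup V] [Module (ZMod q) V] {ρ : G →* End (ZMod q) V} (hρ : Function.Injective ρ)
    {N : Subgroup G} (h : ∀ g ∈ N, Uni (ρ g)) : IsPGroup q N := by
  rintro ⟨x, hx⟩
  obtain ⟨k, m, hm, e⟩ := Nat.exists_eq_pow_mul_and_not_dvd (orderOf_pos x).ne' q hq.out.one_lt.ne'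
  exact ⟨k, Subtype.ext (hρ ((Uni.eq_one (h _ (N.pow_mem hx _))
    (mt (ZMod.natCast_eq_zero_iff m q).1 hm)
    (by rw [← map_pow, ← pow_mul, ← e, pow_orderOf_eq_one, map_one])).trans (map_one ρ).symm))⟩

theorem uni_of_pow {q : ℕ} [hq : Fact q.Prime] {V : Type*} [AddCommGroup V] [Module (ZMod q) V]
    [Nontrivial V] {f : End (ZMod q) V} {k : ℕ} (h : f ^ q ^ k = 1) : Uni f := fun v => by
  have := charP_of_injective_algebraMap (algebraMap (ZMod q) (End (ZMod q) V)).injective q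
  exact ⟨q ^ k, by rw [sub_pow_char_pow_of_commute _ _ (Commute.one_right f), h]; simp⟩

theorem index_le_deg {K V H : Type*} [Field K] [AddCommGroup V] [Module K V]
    [FiniteDimensional K V] [Nontrivial V] [Group H] [Finite H] (ρ : H →* End K V) {y : H} {p : ℕ}
    (hp : p.Prime) (hy : orderOf y = p) (hn : (zpowers y).Normal)
    (hf : Function.Injective ⇑(ρ y - 1)) {μ : K[X]} (h0 : μ ≠ 0) (hμ : aeval (ρ y) μ = 0) :
    (centralizer {y}).index ≤ μ.natDegree := by
  have := Fact.mk hp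
  have hint : IsIntegral K (ρ y) := Algebra.IsIntegral.isIntegral _
  obtain ⟨l, hl⟩ := IsAlgClosed.exists_aeval_eq_zero (AlgebraicClosure K) (minpoly K (ρ y))
    (minpoly.degree_pos hint).ne'
  have h1 : ∀ ν : K[X], aeval (ρ y) ν = 0 → aeval l ν = 0 := fun ν h => by
    obtain ⟨c, rfl⟩ := minpoly.dvd K _ h
    rw [map_mul, hl, zero_mul]
  have h2 : orderOf l = p := by
    refine orderOf_eq_prime ?_ fun e => ?_
    · have := h1 (X ^ p - 1)
        (by rw [map_sub, map_pow, aeval_X, ← map_pow, ← hy, pow_orderOf_eq_one]; simp)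
      rwa [map_sub, map_pow, aeval_X, map_one, sub_eq_zero] at this
    · rw [e, ← map_one (algebraMap K _), aeval_algebraMap_apply, map_eq_zero, coe_aeval_eq_eval]
        at hl
      obtain ⟨v, hv⟩ := (End.hasEigenvalue_iff_isRoot.2 hl).exists_hasEigenvector
      exact hv.2 (hf (by simp [hv.apply_eq_smul]))
  have h3 : ∀ z : H, ∃ a : ℕ, IsConj y z → y ^ a = z := fun z => by
    by_cases h : IsConj y z
    · obtain ⟨c, rfl⟩ := isConj_iff.1 h
      exact ((mem_powers_iff_mem_zpowers.2 (hn.conj_mem _ (mem_zpowers y) c))).imp fun _ h _ => h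
    · exact ⟨0, fun h' => absurd h' h⟩
  choose a ha using h3
  rw [← ncard_isConj_eq_index]
  refine le_trans (Set.ncard_le_ncard_of_injOn (fun z => l ^ a z) (fun z hz => ?_)
    (fun z hz z' hz' e => ?_) (μ.rootSet_finite _)) (ncard_rootSet_le μ _)
  · refine (mem_rootSet_of_ne h0).2 ?_
    have h4 := h1 (μ.comp (X ^ a z)) (by
      obtain ⟨c, hc⟩ := isConj_iff.1 hz
      rw [aeval_comp, map_pow, aeval_X, ← map_pow, ha z hz, ← hc]
      ext v
      have := aeval_semi (ρ c) (f := ρ y) (f' := ρ (c * y * c⁻¹))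
        (fun v => by rw [← app_mul, ← app_mul, inv_mul_cancel_right]) μ (ρ c⁻¹ v)
      rwa [hμ, ← app_mul, mul_inv_cancel, map_one, LinearMap.zero_apply, map_zero, eq_comm] at this)
    rwa [aeval_comp, map_pow, aeval_X] at h4
  · rw [← ha z hz, ← ha z' hz', pow_eq_pow_iff_modEq, hy, ← h2]
    exact ((isOfFinOrder_iff_pow_eq_one.2 ⟨p, hp.pos, h2 ▸ pow_orderOf_eq_one l⟩).pow_eq_pow_iff_modEq).1 e

theorem gam_of_normal {q : ℕ} [Fact q.Prime] {H : Type u} {V : Type v} [Group H] [Finite H]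
    [Group.IsSolvable H] [AddCommGroup V] [Module (ZMod q) V] [Finite V] [Nontrivial V]
    {ρ : H →* End (ZMod q) V} (hρ : Function.Injective ρ) (hi : IrrR ρ) {y : H} {p : ℕ}
    (hp : p.Prime) (h9 : 9 ≤ p) (hy : orderOf y = p) (hn : (zpowers y).Normal) :
    ∃ c, Gam H (c * (centralizer {y}).index ^ 2) ∧
      c * 2 ^ (centralizer {y}).index ≤ Nat.card V := by
  have hf : Function.Injective ⇑(ρ y - 1) := by
    rw [injective_iff_map_eq_zero]
    intro v hv
    by_contra h0
    have := eq_bot_of_fx hρ hi hn ((Submodule.ne_bot_iff _).2 ⟨v, fun h hh => by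
      obtain ⟨n, rfl⟩ := mem_powers_iff_mem_zpowers.2 hh
      simp only [map_pow]
      rw [End.pow_apply]
      exact Function.IsFixedPt.iterate (sub_eq_zero.1 hv) n, h0⟩)
    rw [zpowers_eq_bot.1 this, orderOf_one] at hy
    omega
  have hC : (centralizer {y}).Normal := by
    rw [← centralizer_closure, ← zpowers_eq_closure]; infer_instance
  obtain ⟨Q, _, _, π, c, μ, h0, hu, hg, ha, hc⟩ := cent_lin (K := ZMod q)
    (y := (⟨y, mem_centralizer_singleton_iff.2 rfl⟩ : centralizer {y}))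
    (fun g => Subtype.ext (mem_centralizer_singleton_iff.1 g.2)) hp h9
    (Subtype.ext (hy ▸ pow_orderOf_eq_one y)) _ V (ρ.comp (Subgroup.subtype _)) rfl hf
  refine ⟨c, (hg.of_inj π ((MonoidHom.ker_eq_bot_iff π).1 (eq_bot_iff.2 ?_))).ext _,
    le_trans (Nat.mul_le_mul_left _ (Nat.pow_le_pow_right two_pos
      (index_le_deg ρ hp hy hn hf h0 ha))) hc⟩
  refine (GT.le_pCore (isPGroup_of_uni (ρ := ρ.comp (Subgroup.subtype _))
    (hρ.comp Subtype.val_injective) hu)).trans_eq
    (GT.pCoreOf_eq_bot_iff.1 (eq_bot_of_uni hρ hi inferInstance fun a ha => ?_))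
  obtain ⟨k, hk⟩ := GT.isPGroup_pCoreOf q _ ⟨a, ha⟩
  exact uni_of_pow (k := k) (by rw [← map_pow, show a ^ q ^ k = 1 from congrArg Subtype.val hk,
    map_one])

theorem pow_six_le' (e : ℕ) : e ^ 6 ≤ 5832 * 2 ^ e := by
  rcases le_or_gt 9 e with h | h
  · induction e, h using Nat.le_induction with
    | base => norm_num
    | succ n hn ih =>
      have h1 := Nat.pow_le_pow_left (show 9 * (n + 1) ≤ 10 * n by omega) 6
      rw [mul_pow, mul_pow] at h1
      rw [pow_succ 2]
      omega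
  · interval_cases e <;> norm_num

theorem num_log {p s k n h c e v : ℕ} (hs : k + n ≤ s) (h1 : v - 1 ≤ n * h)
    (h2 : h ≤ c * e ^ 2 * k) (h3 : c * 2 ^ e ≤ v) (h0 : 0 < h) (hp : 2 ≤ p) (h4 : p ^ 3 ≤ 2 ^ e) :
    p ≤ 3 * s := by
  have hc : 0 < c := Nat.pos_of_ne_zero fun e => by rw [e] at h2; omega
  have h5 : c * 2 ^ e ≤ c * (e ^ 2 * (n * k)) + 1 := by
    have := Nat.mul_le_mul_left n h2
    rw [show n * (c * e ^ 2 * k) = c * (e ^ 2 * (n * k)) by ring] at this
    omega
  have h6 : 2 ^ e ≤ e ^ 2 * (n * k) + 1 := by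
    by_contra h6
    have := Nat.mul_le_mul_left c (show e ^ 2 * (n * k) + 2 ≤ 2 ^ e by omega)
    rw [mul_add] at this
    omega
  have h7 := Nat.mul_le_mul_left (e ^ 2) (num_sq hs)
  have h8 := Nat.pow_le_pow_left hp 3
  have h9 : 2 * 2 ^ e ≤ e ^ 2 * s ^ 2 := by linarith
  have he : 0 < e := Nat.pos_of_ne_zero fun e0 => by rw [e0] at h4; omega
  refine (Nat.pow_le_pow_iff_left (n := 6) (by norm_num)).1
    (Nat.le_of_mul_le_mul_left ?_ (show 0 < e ^ 6 by positivity))
  calc e ^ 6 * p ^ 6 = e ^ 6 * (p ^ 3) ^ 2 := by ring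
    _ ≤ 5832 * 2 ^ e * (2 ^ e) ^ 2 := Nat.mul_le_mul (pow_six_le' e) (Nat.pow_le_pow_left h4 2)
    _ = 729 * (2 * 2 ^ e) ^ 3 := by ring
    _ ≤ 729 * (e ^ 2 * s ^ 2) ^ 3 := Nat.mul_le_mul_left _ (Nat.pow_le_pow_left h9 3)
    _ = _ := by ring

theorem log_main {p : ℕ} [hp : Fact p.Prime] (N : ℕ) : ∀ (G : Type u) [Group G] [Finite G]
    [Group.IsSolvable G], Nat.card G = N → p ∣ (fittingSubgroup G).index →
    ∃ e, 2 ^ e ≤ p ^ 3 ∧ p ≤ e * kk G := by
  induction N using Nat.strong_induction_on with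
  | _ N ih =>
  intro G _ _ _ hN hd
  have h2 := hp.out.two_le
  have h3 := Nat.pow_le_pow_left h2 3
  by_cases hsq : p ^ 2 ∣ Nat.card G
  · exact ⟨3, h3, by have := sq_main _ G rfl hsq; omega⟩
  rcases le_or_gt p 8 with h9 | h9
  · refine ⟨p, ?_, Nat.le_mul_of_pos_right _ kk_pos⟩
    interval_cases p <;> norm_num
  have hF : ¬ p ∣ Nat.card (fittingSubgroup G) := fun h => hsq (by
    rw [← (fittingSubgroup G).card_mul_index, sq]; exact Nat.mul_dvd_mul h hd)
  have hG := hd.trans (index_dvd_card _)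
  have : Nontrivial G := Finite.one_lt_card_iff_nontrivial.1
    (hp.out.one_lt.trans_le (Nat.le_of_dvd Nat.card_pos hG))
  obtain ⟨V, hV⟩ := GT.exists_isMinNormal G
  have := hV.normal
  have hk := card_conjClasses_le_of_surjective _ (QuotientGroup.mk'_surjective V)
  by_cases hq : p ∣ (fittingSubgroup (G ⧸ V)).index
  · obtain ⟨e, h4, h5⟩ := ih _ (by
      rw [← hN, ← V.card_mul_index]
      exact lt_mul_of_one_lt_left Nat.card_pos ((one_lt_card_iff_ne_bot V).2 hV.ne_bot))
      (G ⧸ V) rfl hq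
    exact ⟨e, h4, h5.trans (Nat.mul_le_mul_left _ hk)⟩
  obtain ⟨q, hq', hc, hVq⟩ := hV.elementary
  have := Fact.mk hq'
  have hc' : ∀ x ∈ V, ∀ y ∈ V, x * y = y * x := fun x hx y hy =>
    Subtype.mk.inj (hc.1.1 ⟨x, hx⟩ ⟨y, hy⟩)
  obtain ⟨M, _, _, ρ, j, h4, h5⟩ := exists_lin q V hc' hVq
  have := Finite.of_equiv _ j.symm
  have := (nontrivial_iff_ne_bot V).2 hV.ne_bot
  have := j.nontrivial
  have hj0 : (j 0 : G) = 1 := by simpa using h4 0 0
  have hker : centralizer (V : Set G) = ρ.ker := by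
    ext g
    refine ⟨fun h => LinearMap.ext fun v => j.injective (Subtype.ext ((h5 g v).trans ?_)),
      fun h v hv => ?_⟩
    · rw [← h _ (j v).2, mul_inv_cancel_right]; rfl
    · have h6 := h5 g (j.symm ⟨v, hv⟩)
      rw [show ρ g = 1 from h, End.one_apply, j.apply_symm_apply] at h6
      exact eq_mul_inv_iff_mul_eq.1 h6
  have hi0 : IrrR ρ := fun W hW => by
    let X : Subgroup G :=
      { carrier := {g | ∃ w ∈ W, (j w : G) = g}
        one_mem' := ⟨0, W.zero_mem, hj0⟩
        mul_mem' := by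
          rintro _ _ ⟨a, ha, rfl⟩ ⟨b, hb, rfl⟩
          exact ⟨_, W.add_mem ha hb, h4 a b⟩
        inv_mem' := by
          rintro _ ⟨a, ha, rfl⟩
          exact ⟨_, W.neg_mem ha, eq_inv_of_mul_eq_one_left (by rw [← h4, neg_add_cancel, hj0])⟩ }
    refine (hV.2.2 X ⟨?_⟩ ?_).imp (fun h => eq_bot_iff.2 fun w hw => ?_)
      fun h => eq_top_iff.2 fun w _ => ?_
    · rintro _ ⟨a, ha, rfl⟩ g
      exact ⟨_, hW g a ha, h5 g a⟩
    · rintro _ ⟨a, -, rfl⟩
      exact (j a).2
    · exact j.injective (Subtype.ext ((mem_bot.1 (h.le ⟨w, hw, rfl⟩)).trans hj0.symm))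
    · obtain ⟨a, ha, e⟩ := h.ge (j w).2
      rwa [← j.injective (Subtype.ext e)]
  let H := G ⧸ ρ.ker
  let σ : H →* End (ZMod q) M := QuotientGroup.lift _ ρ le_rfl
  have hσ : Function.Injective σ := (injective_iff_map_eq_one σ).2 fun x hx => by
    obtain ⟨g, rfl⟩ := QuotientGroup.mk_surjective x
    exact (QuotientGroup.eq_one_iff g).2 hx
  let μ : G ⧸ V →* H := QuotientGroup.map _ _ (MonoidHom.id G) fun x hx =>
    hker.le fun y hy => hc' y hy x hx
  have hμ : Function.Surjective μ := fun x => by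
    obtain ⟨g, rfl⟩ := QuotientGroup.mk_surjective x
    exact ⟨g, rfl⟩
  let Y := (pCore p (G ⧸ V)).map μ
  have hYn : Y.Normal := Normal.map inferInstance μ hμ
  have hY : Y ≠ ⊥ := fun e => by
    have h6 : p ∣ Nat.card (fittingSubgroup (G ⧸ V)) := by
      refine ((Nat.Prime.dvd_mul hp.out).1 ?_).resolve_right hq
      rw [card_mul_index]
      refine ((Nat.Prime.dvd_mul hp.out).1 (hG.trans V.card_mul_index.symm.dvd)).resolve_left
        fun h => hF (h.trans (card_dvd_of_le hV.le_fitting))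
    obtain ⟨⟨x, hx⟩, hx'⟩ := exists_prime_orderOf_dvd_card' p h6
    rw [← orderOf_coe] at hx'
    have h7 : x ∈ pCore p (G ⧸ V) := GT.le_pCore_of_le_fitting
      (IsPGroup.of_card (n := 1) (by rw [Nat.card_zpowers, hx', pow_one])) (zpowers_le.2 hx)
      (mem_zpowers x)
    obtain ⟨x, rfl⟩ := QuotientGroup.mk'_surjective V x
    let X := (pCore p (G ⧸ V)).comap (QuotientGroup.mk' V)
    have := (GT.isPGroup_pCore (G := G ⧸ V) p).isNilpotent
    have : Group.IsNilpotent X := Subgroup.isNilpotent_of_ker_le_center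
      ((QuotientGroup.mk' V).subgroupComap _) fun a ha => mem_center_iff.2 fun b => Subtype.ext
        (hker.ge ((QuotientGroup.eq_one_iff b.1).1 (mem_bot.1 (e.le ⟨_, b.2, rfl⟩))) _
          ((QuotientGroup.eq_one_iff a.1).1 (congrArg Subtype.val ha))).symm
    exact hF ((hx' ▸ orderOf_map_dvd _ x).trans (orderOf_dvd_natCard _ (GT.le_fitting X h7)))
  have hYp : Nat.card Y = p := by
    obtain ⟨a, ha⟩ := IsPGroup.iff_card.1 ((GT.isPGroup_pCore (G := G ⧸ V) p).map μ)
    have h6 : a ≠ 0 := fun e => hY (card_eq_one.1 (by rw [ha, e, pow_zero]))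
    have h7 : a < 2 := by
      by_contra h7
      exact hsq ((pow_dvd_pow p (by omega)).trans (ha.symm.dvd.trans
        ((card_subgroup_dvd_card _).trans (card_quotient_dvd_card _))))
    rw [ha, show a = 1 by omega, pow_one]
  obtain ⟨⟨y, hy⟩, hy'⟩ := exists_prime_orderOf_dvd_card' (G := Y) p hYp.symm.dvd
  replace hy' : orderOf y = p := (orderOf_coe _).trans hy'
  have hYy : zpowers y = Y := eq_of_le_of_card_ge (zpowers_le.2 hy)
    (by rw [Nat.card_zpowers, hy', hYp])
  obtain ⟨c, h6, h7⟩ := gam_of_normal hσ (fun W hW => hi0 W fun g => hW (g : H)) hp.out h9 hy'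
    (by rwa [hYy])
  have hk' := card_conjClasses_le_of_surjective _ hμ
  rcases le_total (p ^ 3) (2 ^ (centralizer {y}).index) with h8 | h8
  · obtain ⟨n, hs, hn⟩ := kk_normal V
    rw [hker, index_eq_card, ← Nat.card_congr j] at hn
    exact ⟨3, h3, num_log ((Nat.add_le_add_right hk' _).trans hs) hn h6 h7 Nat.card_pos h2 h8⟩
  · obtain ⟨n, hs, hn⟩ := kk_normal Y
    rw [hYp, ← hYy, zpowers_eq_closure, centralizer_closure] at hn
    have h10 := kk_pos (G := H ⧸ Y)
    have h11 : 0 < (centralizer {y}).index := Nat.pos_of_ne_zero index_ne_zero_of_finite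
    refine ⟨_, h8, le_trans ?_ (Nat.mul_le_mul_left _
      ((show n + 1 ≤ kk H by omega).trans (hk'.trans hk)))⟩
    rw [mul_add, mul_comm]
    omega

end Cfsg.Agent.FG.HK
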