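import Mathlib
import Cfsg.Agent.FG.ItoB
import Cfsg.Agent.FG.ItoC
import Cfsg.Agent.S0852
import Cfsg.Agent.S0853
import Cfsg.Agent.S1534
import Cfsg.Agent.S3811

/-!
# A simple group is not the product of an element centralizer and a nilpotent Hall subgroup
that contains the centralizers of its elements
-/

set_option autoImplicit false

namespace Cfsg.Agent.FG.Ito

open Subgroup Cfsg Cfsg.Agent.Ch Cfsg.Agent.FG.CI Cfsg.Agent.FG.CT

variable {G : Type*} [Group G]

/-- `K` is a TI-subgroup containing the centralizers of its non-identity elements. -/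
structure WC (K : Subgroup G) : Prop where
  le : ∀ u ∈ K, u ≠ 1 → centralizer ({u} : Set G) ≤ K
  ti : ∀ g : G, g ∉ normalizer (K : Set G) → ∀ k ∈ K, g * k * g⁻¹ ∈ K → k = 1

theorem const_int {K : Type*} [Group K] [Fintype K] [Nontrivial K] {f : K → ℂ}
    (hf : IsGeneralizedCharacter K f) {c : ℂ} (h : ∀ k, k ≠ 1 → f k = c)
    (h1 : classInner f (fun _ => 1) = 0) : ∃ s : ℤ, c = -s ∧ f 1 = s * (Nat.card K - 1) := by
  classical
  have h2 : (Nat.card K : ℂ) - 1 ≠ 0 := sub_ne_zero.2 (by exact_mod_cast Finite.one_lt_card.ne')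
  rw [classInner_one_right, mul_eq_zero, inv_eq_zero, Fintype.sum_eq_add_sum_compl 1,
    Finset.sum_congr rfl (g := fun _ => c) fun k hk => h k (by simpa using hk), Finset.sum_const,
    Finset.card_compl, Finset.card_singleton, nsmul_eq_mul, Nat.cast_sub Fintype.card_pos,
    ← Nat.card_eq_fintype_card, Nat.cast_one] at h1
  have h3 := h1.resolve_left (Nat.cast_ne_zero.2 Nat.card_pos.ne')
  obtain ⟨n, hn⟩ := hf.exists_int_apply_one
  obtain ⟨k, hk⟩ := exists_ne (1 : K)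
  obtain ⟨m, hm⟩ := hf.exists_int_of_rat (g := k) (q := -n / (Nat.card K - 1)) (by
    rw [h k hk]
    push_cast
    rw [eq_div_iff h2, ← hn]
    linear_combination h3)
  rw [h k hk] at hm
  exact ⟨-m, by simp [hm], by push_cast; rw [hm]; linear_combination h3⟩

theorem WC.exists_sub [Finite G] {K : Subgroup G} (h : WC K) [Group.IsNilpotent K] {r : ℕ}
    (hr : r.Prime) (hd : r ∣ Nat.card K) : pCoreOf r K ≠ ⊥ ∧
      K.relIndex (normalizer (K : Set G)) < Nat.card (pCoreOf r K) := by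
  obtain ⟨u, hu, ho⟩ := exists_mem_orderOf hr hd
  have h1 := GT.le_pCoreOf_of_isNilpotent (zpowers_le.2 hu)
    (isPGroup_zpowers (p := r) ⟨1, by rw [ho, pow_one]⟩) (mem_zpowers u)
  have h2 := ne_one_of_prime hr ho
  exact ⟨fun e => h2 (mem_bot.1 (e ▸ h1)), (relIndex_le_of_le_left (h.le u hu h2)
    index_ne_zero_of_finite).trans_lt (S3811.relIndex_cent_lt
      (GT.normalizer_le_normalizer_pCoreOf K) h1 h2)⟩

set_option hygiene false in
local notation "N" => normalizer (K : Set G)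

theorem WC.le_degree [Fintype G] [IsSimpleGroup G] {K : Subgroup G} (h : WC K)
    [Group.IsNilpotent K] (hlt : K < normalizer (K : Set G)) {r s : ℕ} (hr : r.Prime)
    (hs : s.Prime) (hrs : r ≠ s) (hrd : r ∣ Nat.card K) (hsd : s ∣ Nat.card K)
    [Fintype (K.subgroupOf (normalizer (K : Set G)))] {χ : G → ℂ} (hχ : IsIrrCharacter G χ)
    (h0 : classInner (fun u : K.subgroupOf (normalizer (K : Set G)) => χ u) (fun _ => 1) = 0) :
    Nat.card K ≤ 2 * charDegree χ := by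
  classical
  have := Fact.mk hr
  have := Fact.mk hs
  obtain ⟨a1, a2⟩ := h.exists_sub hr hrd
  obtain ⟨b1, b2⟩ := h.exists_sub hs hsd
  have c1 := IsPGroup.coprime_card_of_ne r s hrs _ _ (GT.isPGroup_pCoreOf r K)
    (GT.isPGroup_pCoreOf s K)
  have c2 := Nat.le_of_dvd Nat.card_pos (c1.mul_dvd_of_dvd_of_dvd
    (card_dvd_of_le (GT.pCoreOf_le K)) (card_dvd_of_le (GT.pCoreOf_le K)))
  have c3 : Nat.card (pCoreOf r K) ≠ Nat.card (pCoreOf s K) := fun e =>
    b1 (card_eq_one.1 (Nat.eq_one_of_dvd_coprimes c1 e.symm.dvd dvd_rfl))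
  have := Fintype.ofFinite N
  have c4 : 4 * K.relIndex N + 2 ≤ Nat.card K := by
    have : 0 < K.relIndex N := Nat.pos_of_ne_zero index_ne_zero_of_finite
    rcases lt_or_gt_of_ne c3 with e | e <;> nlinarith
  have c5 : Nat.card (K.subgroupOf N) = Nat.card K :=
    Nat.card_congr (subgroupOfEquivOfLe hlt.le).toEquiv
  have : Nontrivial (K.subgroupOf N) := Finite.one_lt_card_iff_nontrivial.1 (by omega)
  have c6 : ∀ k : K.subgroupOf N, k ≠ 1 → ((k : N) : G) ≠ 1 := fun k hk e =>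
    hk (Subtype.ext (Subtype.ext e))
  have hres := (hχ.isCharacter.comp ((N).subtype.comp
    (K.subgroupOf N).subtype)).isGeneralizedCharacter
  have d1 := hχ.charDegree_pos
  by_cases hc : ∃ a ∈ K, ∃ b ∈ K, a ≠ 1 ∧ b ≠ 1 ∧ χ a ≠ χ b
  swap
  · push Not at hc
    obtain ⟨k, hk⟩ := exists_ne (1 : K.subgroupOf N)
    obtain ⟨t, -, ht⟩ := const_int hres (fun l hl => hc _ l.2 _ k.2 (c6 l hl) (c6 k hk)) h0
    rw [c5] at ht
    have h2 : (charDegree χ : ℤ) = t * (Nat.card K - 1) := by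
      exact_mod_cast hχ.coe_charDegree.trans ht
    have h3 : 0 < t := by nlinarith
    nlinarith
  obtain ⟨⟨α, hα, hα0⟩, star, hstar, hext⟩ := ((S1534.result K (fun e => a1 (le_bot_iff.1
    (e ▸ GT.pCoreOf_le K))) inferInstance h.ti hlt h.le).resolve_left (by
      rintro ⟨-, -, p, hp, e⟩
      have := Fact.mk hp
      obtain ⟨k, hk⟩ := IsPGroup.iff_card.1 e.isPGroup
      exact hrs (((Nat.prime_dvd_prime_iff_eq hr hp).1 (hr.dvd_of_dvd_pow (hk ▸ hrd))).trans
        ((Nat.prime_dvd_prime_iff_eq hs hp).1 (hs.dvd_of_dvd_pow (hk ▸ hsd))).symm))).resolve_left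
    fun ⟨hk, _⟩ => hrs (((Nat.prime_dvd_prime_iff_eq hr Nat.prime_two).1
      (hr.dvd_of_dvd_pow (hk ▸ hrd))).trans ((Nat.prime_dvd_prime_iff_eq hs Nat.prime_two).1
        (hs.dvd_of_dvd_pow (hk ▸ hsd))).symm)
  set S := {χ : N → ℂ | IsIrrCharacter N χ ∧ ∃ k : N, (k : G) ∈ K ∧ χ k ≠ χ 1} with hS
  have htwo : ∃ χ ∈ S, ∃ ξ ∈ S, χ ≠ ξ := by
    by_contra e
    push Not at e
    rcases (show S.Subsingleton from fun x hx y hy => e x hx y hy).eq_empty_or_singleton with
      e | ⟨φ, e⟩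
    · exact hα0 (by simpa [e, zspan] using hα.1)
    · obtain ⟨n, rfl⟩ := Submodule.mem_span_singleton.1 (e ▸ hα.1 : α ∈ zspan {φ})
      have h2 := hα.2 1 (by simp)
      have h3 := (e.ge rfl : φ ∈ S).1.apply_one_ne_zero
      rw [Pi.smul_apply, smul_eq_zero] at h2
      exact hα0 (by rw [h2.resolve_right h3, zero_smul])
  obtain ⟨m, hm⟩ := S0853.result K h.ti hlt h.le S rfl htwo star hstar hext
  obtain ⟨φ, hφ, hφ'⟩ := (S0852.result K h.ti hlt h.le S rfl htwo star hstar hext χ hχ).2 hc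
  obtain ⟨ε, hε, rfl⟩ : ∃ ε : ℤ, (ε = 1 ∨ ε = -1) ∧ χ = ε • star φ :=
    hφ'.elim (fun e => ⟨1, Or.inl rfl, by simpa⟩) fun e => ⟨-1, Or.inr rfl, by simpa⟩
  have h1 := hφ.1.classInner_restrict_one_eq_zero (K.subgroupOf N) fun e =>
    hφ.2.elim fun k hk => hk.2 (hφ.1.mem_charKer.1 (e hk.1))
  obtain ⟨t, ht, ht'⟩ := const_int (hres.sub ((hφ.1.isCharacter.restrict
    (K.subgroupOf N)).isGeneralizedCharacter.zsmul ε)) (c := ε * (m * φ 1 / (K.subgroupOf N).index))
    (fun k hk => by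
      rw [← hm φ hφ k k.2 fun e => hk (Subtype.ext e)]
      simp [mul_sub]) (by
      rw [classInner_sub_left, classInner_zsmul_left, h1, mul_zero, sub_zero]; exact h0)
  rw [c5] at ht'
  have h2 : (charDegree (ε • star φ) : ℤ) - ε * charDegree φ = t * (Nat.card K - 1) := by
    refine Int.cast_injective (α := ℂ) ?_
    push_cast
    rw [← ht', hχ.coe_charDegree, hφ.1.coe_charDegree]
    simp
  have h3 := hφ.1.charDegree_sq_le
  rw [← relIndex_mul_card hlt.le] at h3
  have h4 : 2 * charDegree φ + 2 ≤ Nat.card K := by nlinarith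
  have h5 : t ≠ 0 := by
    rintro rfl
    have hm0 : m = 0 := by
      have e1 := hφ.1.apply_one_ne_zero
      have e2 := (index_ne_zero_of_finite (H := K.subgroupOf N))
      rcases hε with rfl | rfl <;> simpa [e1, e2] using ht
    have h6 : star φ 1 = φ 1 := by
      rcases hε with rfl | rfl <;> simpa [sub_eq_zero, neg_add_eq_zero] using ht'
    have : ((pCoreOf r K).subgroupOf N).Normal :=
      normal_subgroupOf_of_le_normalizer (GT.normalizer_le_normalizer_pCoreOf K)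
    obtain ⟨u, hu, ho⟩ := exists_mem_orderOf hs hsd
    obtain ⟨ψ, h7, h8⟩ := exists_irr_le_charKer_not_mem ((pCoreOf r K).subgroupOf N)
      (g := ⟨u, hlt.le hu⟩) fun e => ne_one_of_prime hs ho (eq_one_of_primary hr hs hrs
        (orderOf_of_mem (GT.isPGroup_pCoreOf r K) e) ⟨1, by rw [ho, pow_one]⟩)
    have h9 : ψ.1 ∈ S := ⟨ψ.2, ⟨u, hlt.le hu⟩, hu, fun e => h8 (ψ.2.mem_charKer.2 e)⟩
    have s1 : φ ∈ zspan S := Submodule.subset_span hφ
    have s2 : ψ.1 ∈ zspan S := Submodule.subset_span h9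
    have s3 : (charDegree ψ.1 : ℤ) • φ ∈ zspan S := Submodule.smul_mem _ _ s1
    have s4 : -(charDegree φ : ℤ) • ψ.1 ∈ zspan S := Submodule.smul_mem _ _ s2
    have s5 : ((charDegree ψ.1 : ℤ) • φ + -(charDegree φ : ℤ) • ψ.1) 1 = 0 := by
      simp [ψ.2.coe_charDegree, hφ.1.coe_charDegree, mul_comm]
    have s6 := congrFun (hext _ ⟨Submodule.add_mem _ s3 s4, fun x hx => by
      rwa [show x = 1 by simpa using hx]⟩) 1
    beta_reduce at s6
    rw [indFun_one, s5, hstar.1 _ s3 _ s4, hstar.2.1 _ s1, hstar.2.1 _ s2] at s6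
    have s7 : star ψ.1 1 = ψ.1 1 := mul_left_cancel₀ hφ.1.apply_one_ne_zero (by
      rw [Pi.add_apply, Pi.smul_apply, Pi.smul_apply, h6, zsmul_eq_mul, zsmul_eq_mul, Int.cast_neg,
        Int.cast_natCast, Int.cast_natCast, ψ.2.coe_charDegree, hφ.1.coe_charDegree] at s6
      linear_combination -s6)
    have s8 := (hstar.2.2.2 _ s2).isIrr_of_norm_one (by
      rw [hstar.2.2.1 _ s2 _ s2, ψ.2.classInner_self]) (s7 ▸ ψ.2.re_apply_one_pos.le)
    have s9 : ∀ k : N, (k : G) ∈ K → star ψ.1 k = ψ.1 k := fun k hk => by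
      by_cases e : k = 1
      · rw [e]; exact s7
      · simpa [hm0, sub_eq_zero] using hm _ h9 k hk e
    refine a1 (le_bot_iff.1 fun v hv => ?_)
    rw [← s8.charKer_eq_bot_of_simple fun e => h8 (ψ.2.mem_charKer.2 (by
      rw [← s9 _ hu, ← s7, e]))]
    have hv' := GT.pCoreOf_le K hv
    exact s8.mem_charKer.2 (by
      rw [s7, ← ψ.2.mem_charKer.1 (h7 (show (⟨v, hlt.le hv'⟩ : N) ∈ _ from hv))]
      exact s9 ⟨v, hlt.le hv'⟩ hv')
  have h6 : 0 < t := lt_of_le_of_ne (by rcases hε with rfl | rfl <;> nlinarith) h5.symm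
  rcases hε with rfl | rfl <;> nlinarith

theorem WC.inner_eq_two [Fintype G] [IsSimpleGroup G] {K : Subgroup G} (h : WC K)
    [Group.IsNilpotent K] (hT : K ≠ ⊤) {r s : ℕ} (hr : r.Prime)
    (hs : s.Prime) (hrs : r ≠ s) (hrd : r ∣ Nat.card K) (hsd : s ∣ Nat.card K) {π : G → ℂ}
    (hπ : IsCharacter G π) (h1 : classInner π (fun _ => 1) = 1)
    (hr' : ∀ u : K, π u = regChar K u) : classInner π π = 2 := by
  have hK : 1 < Nat.card K := hr.one_lt.trans_le (Nat.le_of_dvd Nat.card_pos hrd)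
  have hlt : K < N := lt_of_le_of_ne le_normalizer fun e => by
    obtain ⟨M, hM, h2, h3⟩ := Wiel.frobenius_wielandt (K := (⊥ : Subgroup K)) fun g hg u hu =>
      mem_bot.2 (Subtype.ext (h.ti g (e ▸ hg) u u.2 hu))
    rcases hM.eq_bot_or_eq_top with rfl | rfl
    · exact hT (by simpa using h3)
    · rw [top_subgroupOf] at h2
      rw [← card_top, h2, card_bot] at hK
      exact hK.false
  have := Fintype.ofFinite (K.subgroupOf N)
  have c5 : Nat.card (K.subgroupOf N) = Nat.card K :=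
    Nat.card_congr (subgroupOfEquivOfLe hlt.le).toEquiv
  have h2 : π 1 = Nat.card K := (hr' 1).trans regChar_one
  have h3 : (fun u : K.subgroupOf N => π u) = regChar _ := funext fun u => by
    by_cases e : u = 1
    · rw [e, regChar_one, c5]; exact h2
    · rw [regChar_of_ne e]
      exact (hr' ⟨u, u.2⟩).trans (regChar_of_ne (G := K) fun e' => e (Subtype.ext (Subtype.ext
        (congrArg (fun k : K => (k : G)) e'))))
  have h4 : IsCharacter G (π - fun _ => 1) := hπ.sub_irr IsIrrCharacter.one (by rw [h1]; simp)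
  have key : ∀ χ, IsIrrCharacter G χ → IsCharacter G (π - (fun _ => 1) - χ) →
      Nat.card K ≤ 2 * charDegree χ := fun χ hχ h5 => by
    refine h.le_degree hlt hr hs hrs hrd hsd hχ ?_
    obtain ⟨a, ha⟩ := (hχ.isCharacter.comp ((N).subtype.comp
      (K.subgroupOf N).subtype)).exists_nat_classInner IsCharacter.one
    obtain ⟨b, hb⟩ := (h5.comp ((N).subtype.comp
      (K.subgroupOf N).subtype)).exists_nat_classInner IsCharacter.one
    have h6 := classInner_regChar_left (G := K.subgroupOf N) fun _ => 1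
    rw [← h3, show (fun u : K.subgroupOf N => π u) = (fun _ => 1) + (fun u : K.subgroupOf N => χ u) +
      fun u : K.subgroupOf N => (π - (fun _ => 1) - χ : G → ℂ) u by funext u; simp, classInner_add_left,
      classInner_add_left, classInner_one_one] at h6
    erw [ha, hb] at h6
    rw [map_one] at h6
    have h7 : 1 + a + b = 1 := by exact_mod_cast h6
    exact ha.trans (by rw [show a = 0 by omega, Nat.cast_zero])
  have h5 : charDegree (π - fun _ => 1) + 1 = Nat.card K := by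
    have := h4.coe_charDegree
    rw [Pi.sub_apply, h2, eq_sub_iff_add_eq] at this
    exact_mod_cast this
  obtain ⟨χ, hχ, h6⟩ := h4.exists_irr_constituent fun e => by
    rw [e] at h5
    simp [charDegree] at h5
    omega
  have h7 := h4.sub_irr hχ h6
  have hχ1 : χ ≠ fun _ => 1 := fun e => h6 (by
    rw [e, classInner_sub_left, h1, classInner_one_one, sub_self])
  by_cases e : π - (fun _ => 1) - χ = 0
  · rw [show π = (fun _ => 1) + χ by rw [← sub_eq_iff_eq_add', ← sub_eq_zero, e],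
      classInner_add_self_of_orthogonal (IsIrrCharacter.one.classInner_eq_zero hχ hχ1.symm),
      IsIrrCharacter.one.classInner_self, hχ.classInner_self]
    norm_num
  obtain ⟨ψ, hψ, h8⟩ := h7.exists_irr_constituent e
  have h9 := h7.sub_irr hψ h8
  have i1 := key χ hχ h7
  have i2 := key ψ hψ (by convert h9.add hχ.isCharacter using 1; abel)
  have i3 := (hχ.isCharacter.add hψ.isCharacter).charDegree_le_of_sub (χ := π - fun _ => 1)
    (by rwa [← sub_sub])
  rw [hχ.isCharacter.charDegree_add hψ.isCharacter] at i3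
  omega

theorem not_mem_normalizer [Finite G] [IsSimpleGroup G] {B : Subgroup G}
    (hG : B ≠ ⊤) (h0 : B ≠ ⊥) {x : G} (hx : x ≠ 1)
    (hc : B.index.Coprime (cidx x)) : x ∉ normalizer (B : Set G) := fun hn => by
  have h1 : normalizer (B : Set G) = ⊤ := eq_top_of_conj_mem hx fun g => by
    obtain ⟨a, ha, b, hb, rfl⟩ := exists_mul_of_coprime_index hc g
    rw [show a * b * x * (a * b)⁻¹ = a * (b * x * b⁻¹) * a⁻¹ by group, mem_cent'.1 hb]
    exact mul_mem (mul_mem (le_normalizer ha) hn) (inv_mem (le_normalizer ha))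
  exact hG ((normalizer_eq_top_iff.1 h1).eq_bot_or_eq_top.resolve_left h0)

theorem WC.le_cent [Finite G] [IsSimpleGroup G] {B : Subgroup G} (h : WC B)
    (hG : B ≠ ⊤) {x : G} {p : ℕ} (hp : p.Prime) (hx : orderOf x = p)
    (hc : B.index.Coprime (cidx x))
    (hT : ∀ y z, IsConj x y → IsConj x z → y ≠ x → z ≠ x → ∃ a, Commute a x ∧ a * y * a⁻¹ = z)
    {r : ℕ} (hr : r.Prime) (hrp : r ≠ p) {R : Subgroup G} (hR : IsPGroup r R)
    (hn : x ∈ normalizer (R : Set G)) : R ≤ centralizer {x} := by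
  have := Fact.mk hr
  have hx1 := ne_one_of_prime hp hx
  intro g hg
  by_contra hgx
  obtain ⟨P, hP⟩ := hR.exists_le_sylow
  by_cases e : r ∣ cidx x
  · obtain ⟨k, hk⟩ := (not_dvd_index_iff_conj P B).1 fun e' =>
      hr.one_lt.ne' (Nat.eq_one_of_dvd_coprimes hc e' e)
    have hg1 : k * g * k⁻¹ ≠ 1 := fun e => hgx (by
      rw [show g = 1 by simpa [mul_inv_eq_one] using e]; exact one_mem _)
    refine not_mem_normalizer hG (fun e => hg1 (mem_bot.1 (e ▸ hk g (hP hg))))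
      (x := k * x * k⁻¹) (fun e => hx1 (by simpa [mul_inv_eq_one] using e)) (by rwa [cidx_conj])
      (by_contra fun e' => hg1 (h.ti _ e' _ (hk g (hP hg)) ?_))
    have := hk _ (hP ((mem_normalizer_iff.1 hn g).1 hg))
    simpa [mul_assoc] using this
  obtain ⟨k, hk⟩ := (not_dvd_cidx_iff_conj P x).1 e
  have h1 : ∀ u ∈ R, Commute (k * x * k⁻¹) u := fun u hu => (mem_centralizer_iff.1 hk u (hP hu)).symm
  obtain ⟨a, ha, h2⟩ := hT (g * x * g⁻¹) (k * x * k⁻¹) (isConj_iff.2 ⟨g, rfl⟩)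
    (isConj_iff.2 ⟨k, rfl⟩) (fun e => hgx (mem_cent'.2 e))
    fun e => hgx (mem_cent_commute.2 (e ▸ h1 g hg).symm)
  obtain ⟨j, hj⟩ := orderOf_of_mem hR (mul_mem hg ((mem_normalizer_iff.1 hn _).1 (inv_mem hg)))
  have h3 : (k * x * k⁻¹ * x⁻¹) ^ r ^ j = 1 := by
    rw [← h2, show a * (g * x * g⁻¹) * a⁻¹ * x⁻¹ = a * (g * x * g⁻¹ * (a⁻¹ * x⁻¹ * a)) * a⁻¹ by group,
      ha.inv_inv.eq, conj_pow, show g * x * g⁻¹ * (x⁻¹ * a⁻¹ * a) = g * (x * g⁻¹ * x⁻¹) by group,
      ← hj, pow_orderOf_eq_one]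
    simp
  have h4 : ∀ n : ℕ, ∀ u ∈ R, (k * x * k⁻¹ * x⁻¹) ^ n * u * ((k * x * k⁻¹ * x⁻¹) ^ n)⁻¹ =
      (x ^ n)⁻¹ * u * x ^ n := fun n => by
    induction n with
    | zero => simp
    | succ n ih =>
      intro u hu
      have h5 : x⁻¹ * u * x⁻¹⁻¹ ∈ R := (mem_normalizer_iff.1 (inv_mem hn) u).1 hu
      have h6 := ih _ h5
      calc _ = (k * x * k⁻¹ * x⁻¹) ^ n * (k * x * k⁻¹ * (x⁻¹ * u * x⁻¹⁻¹) * (k * x * k⁻¹)⁻¹) *
            ((k * x * k⁻¹ * x⁻¹) ^ n)⁻¹ := by rw [pow_succ]; group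
        _ = _ := by rw [(h1 _ h5).eq, mul_inv_cancel_right, h6, pow_succ']; group
  have h5 := h4 (r ^ j) g hg
  rw [h3, one_mul, inv_one, mul_one] at h5
  have h6 : x ^ r ^ j ∈ centralizer ({g} : Set G) := mem_cent.2 (by
    conv_lhs => rw [h5]
    group)
  refine hgx (mem_cent_symm.1 (zpowers_le.2 h6 (mem_zpowers_pow_iff.2 ?_)))
  rw [hx]
  exact ((Nat.coprime_primes hr hp).2 hrp).pow_left j

theorem WC.not_factor [Finite G] [IsSimpleGroup G] {B : Subgroup G} (h : WC B)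
    [Group.IsNilpotent B] (hG : ¬ IsMulCommutative G) {x : G} {p : ℕ} (hp : p.Prime) (hx : orderOf x = p)
    (hc : B.index.Coprime (cidx x)) (hB : Nat.card B = cidx x) : False := by
  classical
  have := Fintype.ofFinite G
  have hx1 := ne_one_of_prime hp hx
  have hZ : center G = ⊥ := (Subgroup.Normal.eq_bot_or_eq_top inferInstance).resolve_right fun e =>
    hG ⟨⟨fun a b => mem_center_iff.1 (e ▸ mem_top b) a⟩⟩
  have hi : 1 < cidx x := one_lt_cidx_iff.2 (by rwa [hZ, mem_bot])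
  obtain ⟨q, hq, hqd⟩ := Nat.exists_prime_and_dvd hi.ne'
  have := Fact.mk hq
  set A := centralizer ({x} : Set G) with hA
  have hAB : Nat.card A = B.index := by
    have := (card_cent_mul_cidx x).trans B.index_mul_card.symm
    rw [hB] at this
    exact Nat.eq_of_mul_eq_mul_right (cidx_pos x) this
  have hBT : B ≠ ⊤ := fun e => by
    rw [e, index_top] at hAB
    exact hx1 (mem_bot.1 (card_eq_one.1 hAB ▸ self_mem_cent x))
  obtain ⟨s, hs, hsq, hsd⟩ : ∃ s : ℕ, s.Prime ∧ s ≠ q ∧ s ∣ cidx x := by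
    by_contra e
    push Not at e
    have := Fact.mk (burnside_prime_card_of_class hq hx1 (Nat.eq_prime_pow_of_unique_prime_dvd
      (cidx_ne_zero x) fun {p} hp h => by_contra fun e' => e p hp e' h))
    have := isCyclic_of_prime_card (α := G) rfl
    exact hG inferInstance
  have h2 := h.inner_eq_two hBT hs hq hsq (hB ▸ hsd) (hB ▸ hqd) (π := Perm.permChar G (G ⧸ A))
    (isCharacter_permChar _)
    Perm.classInner_permChar_one (fun u => by
      by_cases e : u = 1
      · rw [e, regChar_one, OneMemClass.coe_one, Perm.permChar_apply_one, hB]; rfl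
      rw [regChar_of_ne e, Perm.permChar, Nat.cast_eq_zero, Nat.card_eq_zero]
      refine Or.inl ⟨fun ⟨y, hy⟩ => e ?_⟩
      obtain ⟨g, rfl⟩ := QuotientGroup.mk_surjective y
      have h3 : (((u : G) * g : G) : G ⧸ A) = g := hy
      have h4 := orderOf_dvd_natCard _ (inv_mem (QuotientGroup.eq.1 h3))
      rw [show (((u : G) * g)⁻¹ * g)⁻¹ = g⁻¹ * u * g⁻¹⁻¹ by group, ← MulAut.conj_apply,
        MulEquiv.orderOf_eq, Subgroup.orderOf_coe, hAB] at h4
      exact orderOf_eq_one_iff.1 (Nat.eq_one_of_dvd_coprimes hc h4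
        (hB ▸ orderOf_dvd_natCard u)))
  have hT : ∀ y z y' z', IsConj x y → IsConj x z → IsConj x y' → IsConj x z' → y ≠ z → y' ≠ z' →
      ∃ a, a * y * a⁻¹ = y' ∧ a * z * a⁻¹ = z' := fun y z y' z' hy hz hy' hz' e e' => by
    obtain ⟨b, rfl⟩ := isConj_iff.1 hy
    obtain ⟨c, rfl⟩ := isConj_iff.1 hz
    obtain ⟨b', rfl⟩ := isConj_iff.1 hy'
    obtain ⟨c', rfl⟩ := isConj_iff.1 hz'
    have key : ∀ u v : G, (u : G ⧸ A) = v → u * x * u⁻¹ = v * x * v⁻¹ := fun u v e => by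
      conv_lhs => rw [← mem_cent'.1 (QuotientGroup.eq.1 e)]
      group
    obtain ⟨a, h3, h4⟩ := two_trans_of_rank h2 (a := (b : G ⧸ A)) (b := c) (c := b') (d := c')
      (fun e1 => e (key _ _ e1)) fun e1 => e' (key _ _ e1)
    exact ⟨a, by rw [← key (a * b) _ h3]; group, by rw [← key (a * c) _ h4]; group⟩
  have hI : ∀ g, Commute (g * x * g⁻¹) x → g * x * g⁻¹ = x := fun g hg => by
    by_contra e
    refine hi.ne' (index_eq_one.2 (eq_top_of_conj_mem hx1 fun k => ?_))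
    by_cases e' : k * x * k⁻¹ = x
    · rw [e']; exact self_mem_cent x
    obtain ⟨a, h3, h4⟩ := hT x _ x _ (IsConj.refl x) (isConj_iff.2 ⟨g, rfl⟩) (IsConj.refl x)
      (isConj_iff.2 ⟨k, rfl⟩) (Ne.symm e) (Ne.symm e')
    have h5 := mem_cent'.2 h3
    exact h4 ▸ mul_mem (mul_mem h5 (mem_cent_commute.2 hg)) (inv_mem h5)
  obtain ⟨k, hk⟩ : ∃ k, k ∉ A := by
    by_contra e
    push Not at e
    exact hi.ne' (index_eq_one.2 (eq_top_iff.2 fun a _ => e a))
  have hk1 : k * x * k⁻¹ ≠ x := fun e => hk (mem_cent'.2 e)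
  set E := A ⊓ centralizer {k * x * k⁻¹} with hE
  set H := centralizer (E : Set G) with hH
  have hxH : x ∈ H := le_cent_iff.1 inf_le_left
  have hyH : k * x * k⁻¹ ∈ H := le_cent_iff.1 inf_le_right
  have h3 := mem_center_of_frob (x := (⟨x, hxH⟩ : H)) hp (by rwa [Subgroup.orderOf_mk])
    (fun g hg => Subtype.ext (hI g (congrArg Subtype.val hg)))
    (fun g hg y hy hy' => ?_) fun r hr hrp R hR g hn y hy => ?_
  · exact hk1 (hI k (congrArg Subtype.val (mem_center_iff.1 h3 ⟨_, hyH⟩)))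
  · have h4 : (g : G)⁻¹ * x * (g : G)⁻¹⁻¹ ≠ x := fun e => hg (Subtype.ext
      (mem_cent.1 (inv_mem_iff.1 (mem_cent'.2 e))))
    obtain ⟨a, h5, h6⟩ := hT x _ x _ (IsConj.refl x) (isConj_iff.2 ⟨k, rfl⟩) (IsConj.refl x)
      (isConj_iff.2 ⟨(g : G)⁻¹, rfl⟩) hk1.symm h4.symm
    have h7 : E ≤ A ⊓ centralizer {(g : G)⁻¹ * x * (g : G)⁻¹⁻¹} :=
      le_inf inf_le_left (le_cent_iff.2 (mul_mem (mul_mem (inv_mem g.2) hxH) (inv_mem (inv_mem g.2))))
    have h8 : E.map (MulAut.conj a).toMonoidHom = A ⊓ centralizer {(g : G)⁻¹ * x * (g : G)⁻¹⁻¹} := by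
      rw [hE, map_inf _ _ _ (MulAut.conj a).injective, hA, ← cent_conj, ← cent_conj, h5, h6]
    have h9 : E = A ⊓ centralizer {(g : G)⁻¹ * x * (g : G)⁻¹⁻¹} := eq_of_le_of_card_ge h7 (by
      rw [← h8, card_map_of_injective (MulAut.conj a).injective])
    have h10 : (y : G) ∈ E := h9 ▸ ⟨mem_cent.2 (congrArg Subtype.val hy), mem_cent_conj.2 (by
      simpa using mem_cent.2 (congrArg Subtype.val hy'))⟩
    exact mem_center_iff.2 fun z => Subtype.ext (mem_centralizer_iff.1 z.2 _ h10).symm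
  · have h4 := h.le_cent hBT hp (x := g * x * (g : G)⁻¹) (by
      rwa [← MulAut.conj_apply, MulEquiv.orderOf_eq]) (by rwa [cidx_conj])
      (fun u v hu hv e e' => by
        have hg : IsConj x (g * x * (g : G)⁻¹) := isConj_iff.2 ⟨g, rfl⟩
        obtain ⟨a, h5, h6⟩ := hT _ u _ v hg (hg.trans hu) hg (hg.trans hv) e.symm e'.symm
        exact ⟨a, mem_cent_commute.1 (mem_cent'.2 h5), h6⟩) hr hrp (hR.map H.subtype)
      (le_normalizer_map H.subtype ⟨_, hn, rfl⟩) ⟨y, hy, rfl⟩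
    exact mem_cent.2 (Subtype.ext (mem_cent.1 h4))

end Cfsg.Agent.FG.Ito
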