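import Cfsg.Agent.S4262
import Cfsg.Agent.FG.H92Basic
import Cfsg.Agent.GT.ThompsonNilp
import Cfsg.Agent.GT.TransferFrobenius
import Cfsg.Agent.GT.CoprimeSylow
import Cfsg.Agent.GT.Frattini
import Cfsg.Agent.GT.PGroupFrattini
import Cfsg.Agent.GT.FrobeniusComplement

/-!
Normal subgroups `N` all of whose non-central elements have maximal centralizers in `G`.
-/

namespace Cfsg.Agent.FG.MaxCent

open Subgroup Cfsg.Agent.GT Cfsg.Agent.FG.H92
open scoped commutatorElement

variable {G : Type*} [Group G] [Finite G] {N : Subgroup G}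

/-- The hypothesis. -/
def Hyp (N : Subgroup G) : Prop :=
  ∀ x : G, x ∈ N → x ∉ centralizer (N : Set G) → IsCoatom (centralizer ({x} : Set G))

omit [Finite G] in
theorem cent_le {x : G} (hx : x ∈ N) : centralizer (N : Set G) ≤ centralizer {x} :=
  centralizer_le_centralizer_singleton hx

omit [Finite G] in
theorem not_le_cent {x : G} (hx : x ∉ centralizer (N : Set G)) : ¬ N ≤ centralizer {x} :=
  fun h => hx (le_centralizer_singleton_iff.mp h)

theorem mem_of_pow_mem {Z : Subgroup G} {y : G} {n : ℕ} (h : y ^ n ∈ Z)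
    (hc : (orderOf y).Coprime n) : y ∈ Z :=
  zpowers_le.mpr h (mem_zpowers_pow_iff.mpr hc.symm)

omit [Finite G] in
theorem Hyp.le_of_coprime (h : Hyp N) {x y : G} (hxN : x ∈ N) (hx : x ∉ centralizer (N : Set G))
    (hyN : y ∈ N) (hy : y ∈ centralizer ({x} : Set G)) (hcop : (orderOf x).Coprime (orderOf y)) :
    centralizer ({x} : Set G) ≤ centralizer ({y} : Set G) := by
  have hc : Commute x y := (mem_centralizer_singleton_iff.1 hy).symm
  have h1 := S4262.mem_zpowers_mul hc hcop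
  have h2 := S4262.mem_zpowers_mul hc.symm hcop.symm
  rw [← hc.eq] at h2
  have hxy : x * y ∉ centralizer (N : Set G) := fun hz => hx ((zpowers_le.2 hz) h1)
  rw [((h _ (N.mul_mem hxN hyN) hxy).le_iff_eq (h x hxN hx).1).mp
    (S4262.cent_le_of_mem_zpowers h1)]
  exact S4262.cent_le_of_mem_zpowers h2

omit [Finite G] in
theorem Hyp.eq_of_coprime (h : Hyp N) {x y : G} (hxN : x ∈ N) (hx : x ∉ centralizer (N : Set G))
    (hyN : y ∈ N) (hy' : y ∉ centralizer (N : Set G)) (hy : y ∈ centralizer ({x} : Set G))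
    (hcop : (orderOf x).Coprime (orderOf y)) :
    centralizer ({y} : Set G) = centralizer ({x} : Set G) :=
  ((h x hxN hx).le_iff_eq (h y hyN hy').1).mp (h.le_of_coprime hxN hx hyN hy hcop)

theorem Hyp.nilpotent (h : Hyp N) {p k : ℕ} (hp : p.Prime) {x : G} (hxN : x ∈ N)
    (hx : x ∉ centralizer (N : Set G)) (hk : orderOf x = p ^ k) :
    Group.IsNilpotent (N ⊓ centralizer ({x} : Set G) : Subgroup G) := by
  refine S4262.nilpotent_of_central hp fun y hy => mem_center_iff.mpr fun g => ?_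
  have := h.le_of_coprime hxN hx y.2.1 y.2.2
    (by rw [hk, Subgroup.orderOf_coe]; exact hy.symm.pow_left k) g.2.2
  exact Subtype.ext (mem_centralizer_singleton_iff.1 this)

omit [Finite G] in
theorem normal_or_eq {M W : Subgroup G} (hM : IsCoatom M) (h : M ≤ normalizer (W : Set G)) :
    W.Normal ∨ normalizer (W : Set G) = M := by
  by_cases h1 : normalizer (W : Set G) = ⊤
  · exact Or.inl (normalizer_eq_top_iff.mp h1)
  · exact Or.inr ((hM.le_iff_eq h1).mp h)

variable [N.Normal]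

theorem Hyp.exists_pCoreOf (h : Hyp N) (hN : ¬ N ≤ centralizer (N : Set G)) :
    ∃ p : ℕ, p.Prime ∧ ¬ pCoreOf p N ≤ centralizer (N : Set G) := by
  by_contra hcon
  push Not at hcon
  have hnorm : ∀ p : ℕ, p.Prime → ∀ W : Subgroup G, W.Normal → W ≤ N → IsPGroup p W →
      W ≤ centralizer (N : Set G) := fun p hp W _ hWN hW =>
    (le_pCoreOf hWN le_normalizer_of_normal hW).trans (hcon p hp)
  have hcen : ∀ (p : ℕ) [Fact p.Prime] (P : Sylow p N),
      (P : Subgroup N).map N.subtype ≤ centralizer (N : Set G) → HasNormalPComplement p N := by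
    intro p _ P hP
    refine Tr.hasNormalPComplement_of_sylow_le_center P fun x hx => ?_
    rw [center_eq_subgroupOf]
    exact hP ⟨x, hx, rfl⟩
  have hodd : ∀ (p : ℕ) [Fact p.Prime], p ≠ 2 → HasNormalPComplement p N := by
    intro p hp hp2
    obtain ⟨P⟩ : Nonempty (Sylow p N) := inferInstance
    by_cases hP : (P : Subgroup N).map N.subtype ≤ centralizer (N : Set G)
    · exact hcen p P hP
    obtain ⟨_, ⟨x, hxP, rfl⟩, hx⟩ := SetLike.not_le_iff_exists.mp hP
    obtain ⟨k, hk⟩ := (IsPGroup.iff_orderOf.mp P.isPGroup') ⟨x, hxP⟩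
    rw [Subgroup.orderOf_mk, ← Subgroup.orderOf_coe] at hk
    change (x : G) ∉ _ at hx
    set M := centralizer ({(x : G)} : Set G) with hM
    haveI := h.nilpotent hp.out x.2 hx hk
    have hco := h x x.2 hx
    have hxM : (x : G) ∈ M := mem_centralizer_singleton_iff.mpr rfl
    let R := pCoreOf p (N ⊓ M)
    have hRp : IsPGroup p R := isPGroup_pCoreOf p _
    have hxR : (x : G) ∈ R := le_pCoreOf_of_isNilpotent (K := zpowers (x : G))
      (zpowers_le.mpr (mem_inf.mpr ⟨x.2, hxM⟩)) (IsPGroup.of_card (by rw [Nat.card_zpowers, hk])) (mem_zpowers _)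
    have hRN : R ≤ N := (pCoreOf_le _).trans inf_le_left
    have hMR : M ≤ normalizer (R : Set G) :=
      ((le_inf le_normalizer_of_normal le_normalizer).trans inf_normalizer_le_normalizer_inf).trans
        (normalizer_le_normalizer_pCoreOf _)
    have hNR := (normal_or_eq hco hMR).resolve_left fun hn => hx (hnorm p hp.out R hn hRN hRp hxR)
    have hxW : (x : G) ∈ thZ 0 R := center_le_thZ_zero R
      ⟨hxR, le_centralizer_singleton_iff.mp ((pCoreOf_le _).trans inf_le_right)⟩
    have hNW := (normal_or_eq hco (hMR.trans (normalizer_le_normalizer_thZ 0 R))).resolve_left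
      fun hn => hx (hnorm p hp.out _ hn ((thZ_le 0 R).trans hRN) (hRp.to_le (thZ_le 0 R)) hxW)
    obtain ⟨S, hS⟩ := CopAct.exists_sylow_map_eq_of_normalizer hRN hRp fun Q hQ hQp _ =>
      le_pCoreOf_of_isNilpotent (by rwa [hNR] at hQ) hQp
    refine hasNormalPComplement_of_normalizer_thZ hp2 (Or.inl rfl) S
      (th_isStronglyClosed_self _) (Tr.hasNormalPComplement_of_isNilpotent ?_)
    rw [normalizer_eq_subgroupOf, ← thZ_map_of_injective _ N.subtype_injective, hS, hNW,
      ← inf_subgroupOf_left]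
    exact isNilpotent_subgroupOf _ _
  have hnil : Group.IsNilpotent N := by
    refine Tr.isNilpotent_of_forall_hasNormalPComplement fun q hq _ => ?_
    haveI := Fact.mk hq
    by_cases hq2 : q = 2
    swap
    · exact hodd q hq2
    subst hq2
    obtain ⟨T⟩ : Nonempty (Sylow 2 N) := inferInstance
    let K : Subgroup N := ⨅ p : {p : ℕ // p.Prime ∧ p ≠ 2}, pResidual p N
    haveI hK : K.Characteristic := by
      refine characteristic_iff_map_le.mpr fun φ => le_iInf fun p => ?_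
      exact (map_mono (iInf_le _ p)).trans (characteristic_iff_map_le.mp inferInstance φ)
    have hK2 : IsPGroup 2 K := by
      rw [isPGroup_iff_isPiNum Nat.prime_two]
      intro p hp hpK
      by_contra hp2
      haveI := Fact.mk hp
      exact (hodd p hp2).not_dvd_card_pResidual (hpK.trans (card_dvd_of_le
        (iInf_le (fun p : {p : ℕ // p.Prime ∧ p ≠ 2} => pResidual p N) ⟨p, hp, hp2⟩)))
    refine hcen 2 T ((map_mono ?_).trans
      (hnorm 2 hq (K.map N.subtype) inferInstance (map_subtype_le _) (hK2.map _)))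
    refine le_iInf fun p => ?_
    haveI := Fact.mk p.2.1
    refine Tr.le_pResidual_of_not_dvd fun hd => ?_
    obtain ⟨k, hk⟩ := IsPGroup.iff_card.mp T.isPGroup'
    rw [hk] at hd
    exact p.2.2 ((Nat.prime_dvd_prime_iff_eq p.2.1 hq).mp (p.2.1.dvd_of_dvd_pow hd))
  refine hN ((iSup_pCoreOf_eq N).ge.trans (iSup_le fun p => hcon p p.2))

theorem Hyp.frattini_le (h : Hyp N) {V : Subgroup G} [V.Normal] (hV : V ≤ N) :
    (frattini V).map V.subtype ≤ centralizer (N : Set G) := by
  rw [← le_centralizer_iff]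
  intro x hx
  by_cases hxc : x ∈ centralizer (N : Set G)
  · exact centralizer_anti ((map_subtype_le _).trans hV) hxc
  · exact le_centralizer_singleton_iff.mp
      ((map_frattini_le_frattini V).trans (frattini_le_coatom (h x hx hxc)))

omit [N.Normal] in
theorem mem_of_mem_sup {p : ℕ} [Fact p.Prime] {A : Subgroup G} (hA : IsPGroup p A) (hAN : A ≤ N)
    {y : G} (hy : y ∈ A ⊔ N ⊓ centralizer (N : Set G)) (hc : (orderOf y).Coprime p) :
    y ∈ centralizer (N : Set G) := by
  obtain ⟨a, ha, z, hz, rfl⟩ := (PG.mem_sup_of_le_normalizer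
    (le_normalizer_of_le_centralizer (inf_le_right.trans (centralizer_anti hAN)))).mp hy
  obtain ⟨k, hk⟩ := hA ⟨a, ha⟩
  have hk' : a ^ p ^ k = 1 := congrArg Subtype.val hk
  have hcm : Commute a z := hz.2 a (hAN ha)
  refine mem_of_pow_mem (n := p ^ k) ?_ (hc.pow_right k)
  rw [hcm.mul_pow, hk', one_mul]
  exact pow_mem hz.2 _

/-- Non-central `p'`-elements have no non-central fixed points in a normal `p`-subgroup. -/
theorem Hyp.fixed_le (h : Hyp N) {p : ℕ} [hp : Fact p.Prime] {V : Subgroup G} [V.Normal]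
    (hVN : V ≤ N) (hV : IsPGroup p V) {y : G} (hyN : y ∈ N) (hy : y ∉ centralizer (N : Set G))
    (hc : (orderOf y).Coprime p) : V ⊓ centralizer {y} ≤ centralizer (N : Set G) := by
  rintro x ⟨hxV, hxy⟩
  by_contra hx
  have hcop : ∀ a : G, (∃ k, orderOf a = p ^ k) → (orderOf y).Coprime (orderOf a) := by
    rintro a ⟨k, hk⟩
    rw [hk]; exact hc.pow_right k
  have hVo : ∀ a ∈ V, ∃ k, orderOf a = p ^ k := fun a ha => by
    simpa using (IsPGroup.iff_orderOf.mp hV) ⟨a, ha⟩
  set M := centralizer ({y} : Set G) with hM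
  have hco := h y hyN hy
  have hMW : M ≤ normalizer ((V ⊓ M : Subgroup G) : Set G) :=
    (le_inf le_normalizer_of_normal le_normalizer).trans inf_normalizer_le_normalizer_inf
  haveI hW : (V ⊓ M).Normal := by
    rcases normal_or_eq hco hMW with h1 | h1
    · exact h1
    by_cases h2 : V ≤ M
    · rw [inf_eq_left.mpr h2]; infer_instance
    haveI := hV.isNilpotent
    have h3 := PG.lt_inf_normalizer (N := V ⊓ M) (M := V)
      (lt_of_le_of_ne inf_le_left fun h => h2 (inf_eq_left.mp h))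
    rw [h1] at h3
    exact (lt_irrefl _ h3).elim
  have hxM := h.eq_of_coprime hyN hy (hVN hxV) hx hxy (hcop x (hVo x hxV))
  haveI hMn : M.Normal := by
    rw [normal_iff_forall_map_conj]
    intro g
    have h1 := hW.conj_mem x ⟨hxV, hxy⟩ g
    have h2 := h.eq_of_coprime hyN hy (hVN h1.1) (fun h => hx (by
      simpa [mul_assoc] using Normal.conj_mem inferInstance _ h g⁻¹)) h1.2 (hcop _ (hVo _ h1.1))
    rw [centralizer_singleton_conj, hxM] at h2
    exact h2
  have hab : N ⊓ M ≤ centralizer (M : Set G) := by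
    intro d hd
    obtain ⟨a, ha, b, hb, hao, hbo, rfl⟩ := Tr.exists_pPart_mul_pPrimePart (p := p) d
    have ha' := zpowers_le.mpr hd ha
    have hb' := zpowers_le.mpr hd hb
    refine mul_mem (le_centralizer_singleton_iff.mp ?_) (le_centralizer_singleton_iff.mp ?_)
    · exact h.le_of_coprime hyN hy ha'.1 ha'.2 (hcop a hao)
    · obtain ⟨k, hk⟩ := hVo x hxV
      exact hxM.ge.trans (h.le_of_coprime (hVN hxV) hx hb'.1 (hxM.ge hb'.2)
        (by rw [hk]; exact hbo.symm.pow_left k))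
  obtain ⟨t, htN, htM⟩ := SetLike.not_le_iff_exists.mp (not_le_cent hy)
  have ht : t ∉ centralizer (N : Set G) := fun h => htM (cent_le hyN h)
  have h1 : N = zpowers t ⊔ N ⊓ M := by
    rw [← inf_sup_eq_of_normal_right (zpowers_le.mpr htN), sup_comm,
      sup_eq_top_of_isCoatom hco (by rwa [zpowers_le]), inf_top_eq]
  have h2 : (N ⊓ M) ⊓ centralizer {t} ≤ N ⊓ centralizer (N : Set G) := by
    rintro d ⟨hd, hdt⟩
    refine ⟨hd.1, le_centralizer_singleton_iff.mp (h1.le.trans (sup_le ?_ ?_))⟩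
    · rw [zpowers_le, mem_centralizer_singleton_iff]
      exact (mem_centralizer_singleton_iff.mp hdt).symm
    · exact inf_le_right.trans (le_centralizer_singleton_iff.mpr (hab hd))
  have h3 : (V ⊓ M) ⊔ centralizer {t} = ⊤ := by
    rw [sup_comm]
    refine sup_eq_top_of_isCoatom (h t htN ht) fun hle => hx ?_
    exact (h2 ⟨⟨hVN hxV, hxy⟩, hle ⟨hxV, hxy⟩⟩).2
  have h4 := inf_sup_eq_of_normal_left (A := V ⊓ M) (H := N ⊓ M) (K := centralizer {t})
    (inf_le_inf_right _ hVN)
  rw [h3, inf_top_eq] at h4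
  refine hy (mem_of_mem_sup (A := V ⊓ M) hV.to_inf_left (inf_le_left.trans hVN) ?_ hc)
  exact sup_le_sup_left h2 _ (h4.le ⟨hyN, mem_centralizer_singleton_iff.mpr rfl⟩)

omit [Finite G] [N.Normal] in
theorem pow_conj {b v z : G} (h : b * v * b⁻¹ = z * v) (hz : Commute b z) (k : ℕ) :
    b ^ k * v * (b ^ k)⁻¹ = z ^ k * v := by
  induction k with
  | zero => simp
  | succ k ih =>
    calc b ^ (k + 1) * v * (b ^ (k + 1))⁻¹ = b * (b ^ k * v * (b ^ k)⁻¹) * b⁻¹ := by
          rw [pow_succ']; group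
      _ = b * z ^ k * v * b⁻¹ := by rw [ih]; group
      _ = z ^ k * (b * v * b⁻¹) := by rw [(hz.pow_right k).eq]; group
      _ = z ^ (k + 1) * v := by rw [h, pow_succ]; group

/-- The structure theorem, in the ambient group. -/
theorem Hyp.structure (h : Hyp N) :
    (∃ p : ℕ, p.Prime ∧ ⁅N, N⁆ ≤ centralizer (N : Set G) ∧ ∀ n ∈ N, n ^ p ∈ centralizer (N : Set G)) ∨
    ∃ (p r : ℕ) (V : Subgroup G) (y : G), p.Prime ∧ r.Prime ∧ V.Normal ∧ V ≤ N ∧
      ¬ V ≤ centralizer (N : Set G) ∧ IsMulCommutative V ∧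
      (∀ v ∈ V, v ^ p ∈ centralizer (N : Set G)) ∧ y ∈ N ∧ y ∉ centralizer (N : Set G) ∧
      V ⊔ N ⊓ centralizer {y} = N ∧ V ⊓ centralizer {y} ≤ centralizer (N : Set G) ∧
      (∀ d ∈ N ⊓ centralizer {y}, d ∉ centralizer (N : Set G) → ∀ v ∈ V,
        ⁅d, v⁆ ∈ centralizer (N : Set G) → v ∈ centralizer (N : Set G)) ∧
      ⁅N ⊓ centralizer {y}, N ⊓ centralizer {y}⁆ ≤ centralizer (N : Set G) ∧
      ∀ d ∈ N ⊓ centralizer {y}, d ^ r ∈ centralizer (N : Set G) := by
  by_cases hN : N ≤ centralizer (N : Set G)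
  · exact Or.inl ⟨2, Nat.prime_two, (commutator_le_left _ _).trans hN, fun n hn => pow_mem (hN hn) _⟩
  obtain ⟨p, hp, hV⟩ := h.exists_pCoreOf hN
  haveI := Fact.mk hp
  set V := pCoreOf p N with hVdef
  have hVN : V ≤ N := pCoreOf_le N
  have hVp : IsPGroup p V := isPGroup_pCoreOf p N
  obtain ⟨hVc, hVpow⟩ := (PG.map_frattini_subtype_le_iff hVp).mp (h.frattini_le hVN)
  by_cases hy : ∃ y ∈ N, y ∉ centralizer (N : Set G) ∧ (orderOf y).Coprime p
  swap
  · push Not at hy
    left
    haveI : Group.IsNilpotent N := by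
      refine S4262.nilpotent_of_central hp fun y hyc => ?_
      rw [center_eq_subgroupOf, mem_subgroupOf]
      by_contra h1
      exact hy y y.2 h1 (by rwa [Subgroup.orderOf_coe])
    have h1 : ∀ n ∈ N, ∃ a ∈ V, ∃ b ∈ N ⊓ centralizer (N : Set G), n = a * b := by
      intro n hn
      obtain ⟨a, ha, b, hb, ⟨k, hk⟩, hbo, rfl⟩ := Tr.exists_pPart_mul_pPrimePart (p := p) n
      have hb' := zpowers_le.mpr hn hb
      refine ⟨a, le_pCoreOf_of_isNilpotent (K := zpowers a) (zpowers_le.mpr (zpowers_le.mpr hn ha))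
        (IsPGroup.of_card (by rw [Nat.card_zpowers, hk])) (mem_zpowers a), b, ⟨hb', ?_⟩, rfl⟩
      by_contra h1
      exact hy b hb' h1 hbo
    refine ⟨p, hp, commutator_le.mpr fun m hm n hn => ?_, fun n hn => ?_⟩
    · obtain ⟨a, ha, b, hb, rfl⟩ := h1 m hm
      obtain ⟨c, hc, d, hd, rfl⟩ := h1 n hn
      rw [← QuotientGroup.eq_one_iff, ← QuotientGroup.mk'_apply, map_commutatorElement, map_mul,
        map_mul, show QuotientGroup.mk' _ b = 1 from (QuotientGroup.eq_one_iff b).mpr hb.2,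
        show QuotientGroup.mk' _ d = 1 from (QuotientGroup.eq_one_iff d).mpr hd.2, mul_one,
        mul_one, ← map_commutatorElement]
      exact (QuotientGroup.eq_one_iff _).mpr (hVc (commutator_mem_commutator ha hc))
    · obtain ⟨a, ha, b, hb, rfl⟩ := h1 n hn
      rw [(show Commute a b from hb.2 a (hVN ha)).mul_pow]
      exact mul_mem (hVpow a ha) (pow_mem hb.2 _)
  right
  obtain ⟨y, q, k, hq, hyN, hy, hyc, hk⟩ : ∃ (y : G) (q k : ℕ), q.Prime ∧ y ∈ N ∧
      y ∉ centralizer (N : Set G) ∧ (orderOf y).Coprime p ∧ orderOf y = q ^ k := by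
    obtain ⟨y, hyN, hy, hyc⟩ := hy
    by_contra hcon
    push Not at hcon
    refine hy (le_of_forall_isPGroup_le (K := zpowers y) (fun q hq _ Q hQ hQq g hg => ?_)
      (mem_zpowers y))
    by_contra hg'
    haveI := Fact.mk hq
    obtain ⟨k, hk⟩ := (IsPGroup.iff_orderOf.mp hQq) ⟨g, hg⟩
    exact hcon g q k hq (zpowers_le.mpr hyN (hQ hg)) hg'
      (hyc.coprime_dvd_left (orderOf_dvd_of_mem_zpowers (hQ hg))) (by simpa using hk)
  set M := centralizer ({y} : Set G) with hM
  have hco := h y hyN hy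
  have hfix := h.fixed_le hVN hVp hyN hy hyc
  have hVM : V ⊔ M = ⊤ := by
    rw [sup_comm]
    exact sup_eq_top_of_isCoatom hco fun hle => hV (le_trans (le_inf le_rfl hle) hfix)
  have hsup : V ⊔ N ⊓ M = N := by rw [← inf_sup_eq_of_normal_left hVN, hVM, inf_top_eq]
  haveI hD := h.nilpotent hq hyN hy hk
  have hMD : M ≤ normalizer ((N ⊓ M : Subgroup G) : Set G) :=
    (le_inf le_normalizer_of_normal le_normalizer).trans inf_normalizer_le_normalizer_inf
  have hR : pCoreOf p (N ⊓ M) ≤ V := by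
    have h1 : (pCoreOf p (N ⊓ M) ⊔ V).Normal := by
      refine normal_of_sup_eq_top hVM (le_sup_right.trans le_normalizer) ?_
      exact PG.le_normalizer_sup (hMD.trans (normalizer_le_normalizer_pCoreOf _))
        le_normalizer_of_normal
    exact le_sup_left.trans (le_pCoreOf (sup_le ((pCoreOf_le _).trans inf_le_left) hVN)
      le_normalizer_of_normal ((isPGroup_pCoreOf p _).to_sup_of_normal_right hVp))
  have hdec : ∀ d ∈ N ⊓ M, ∃ a ∈ V ⊓ centralizer (N : Set G), ∃ b ∈ N ⊓ M,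
      (orderOf b).Coprime p ∧ d = a * b := by
    intro d hd
    obtain ⟨a, ha, b, hb, ⟨j, hj⟩, hbo, rfl⟩ := Tr.exists_pPart_mul_pPrimePart (p := p) d
    have ha' := zpowers_le.mpr hd ha
    have h1 : a ∈ V := hR (le_pCoreOf_of_isNilpotent (K := zpowers a) (zpowers_le.mpr ha')
      (IsPGroup.of_card (by rw [Nat.card_zpowers, hj])) (mem_zpowers a))
    exact ⟨a, ⟨h1, hfix ⟨h1, ha'.2⟩⟩, b, zpowers_le.mpr hd hb, hbo, rfl⟩
  have hsyl : ∀ a ∈ N, (∃ j, orderOf a = p ^ j) → a ∈ V := by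
    rintro a ha ⟨j, hj⟩
    obtain ⟨v, hv, d, hd, rfl⟩ := (PG.mem_sup_of_le_normalizer le_normalizer_of_normal).mp
      (hsup.ge ha)
    obtain ⟨a', ha', b, hb, hbo, rfl⟩ := hdec d hd
    refine mul_mem hv (mul_mem ha'.1 (mem_of_pow_mem (n := p ^ j) ?_ (hbo.pow_right j)))
    have h1 : (QuotientGroup.mk' V) (v * (a' * b)) ^ p ^ j = 1 := by
      rw [← map_pow, ← hj, pow_orderOf_eq_one, map_one]
    rw [map_mul, map_mul, show QuotientGroup.mk' _ v = 1 from (QuotientGroup.eq_one_iff v).mpr hv,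
      show QuotientGroup.mk' _ a' = 1 from (QuotientGroup.eq_one_iff a').mpr ha'.1, one_mul,
      one_mul, ← map_pow] at h1
    exact (QuotientGroup.eq_one_iff _).mp h1
  have hyF : y ∉ V ⊔ N ⊓ centralizer (N : Set G) := fun h1 => hy (mem_of_mem_sup hVp hVN h1 hyc)
  have hCx : ∀ x ∈ V, x ∉ centralizer (N : Set G) →
      N ⊓ centralizer {x} ≤ V ⊔ N ⊓ centralizer (N : Set G) := by
    intro x hxV hx n hn
    obtain ⟨a, ha, b, hb, hao, hbo, rfl⟩ := Tr.exists_pPart_mul_pPrimePart (p := p) n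
    have hb' := zpowers_le.mpr hn hb
    refine mul_mem_sup (hsyl a (zpowers_le.mpr hn ha).1 hao) ⟨hb'.1, ?_⟩
    by_contra h1
    exact hx (h.fixed_le hVN hVp hb'.1 h1 hbo ⟨hxV, mem_centralizer_singleton_iff.mpr
      (mem_centralizer_singleton_iff.mp hb'.2).symm⟩)
  have hVx : ∀ x ∈ V, V ≤ centralizer {x} := by
    intro x hxV
    by_cases hx : x ∈ centralizer (N : Set G)
    · exact hVN.trans (le_centralizer_singleton_iff.mpr hx)
    by_contra hle
    have h1 := inf_sup_eq_of_normal_left (K := centralizer {x}) hVN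
    rw [sup_comm, sup_eq_top_of_isCoatom (h x (hVN hxV) hx) hle, inf_top_eq] at h1
    exact hyF (sup_le le_sup_left (hCx x hxV hx) (h1.le hyN))
  have hVab : IsMulCommutative V :=
    isMulCommutative_of_comm fun a ha b hb => mem_centralizer_singleton_iff.mp (hVx b hb ha)
  obtain ⟨x, hxV, hx⟩ := SetLike.not_le_iff_exists.mp hV
  have hFN : V ⊔ N ⊓ centralizer (N : Set G) ≤ N := sup_le hVN inf_le_left
  have hchief : IsChiefFactor N (V ⊔ N ⊓ centralizer (N : Set G)) := by
    refine ⟨lt_of_le_of_ne hFN fun he => hyF (he.ge hyN), inferInstance, inferInstance, ?_⟩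
    intro L _ h1 h2
    by_cases h3 : L ≤ centralizer {x}
    · exact Or.inl (le_antisymm ((le_inf h2 h3).trans (hCx x hxV hx)) h1)
    · right
      have h4 := inf_sup_eq_of_normal_left (K := centralizer {x}) h2
      rw [sup_comm, sup_eq_top_of_isCoatom (h x (hVN hxV) hx) h3, inf_top_eq] at h4
      exact le_antisymm h2 (h4.le.trans (sup_le le_rfl ((hCx x hxV hx).trans h1)))
  haveI : Group.IsSolvable N := by
    haveI := hVp.isNilpotent
    rw [← hsup, sup_comm]
    exact isSolvable_sup _ _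
  obtain ⟨hcomm, r, hr, hrpow, -⟩ := hchief.elementary
  have hDF : (N ⊓ M) ⊓ (V ⊔ N ⊓ centralizer (N : Set G)) ≤ centralizer (N : Set G) := by
    rw [sup_comm, inf_sup_eq_of_normal_right (inf_le_inf_left _ (cent_le hyN))]
    exact sup_le inf_le_right (le_trans (le_inf inf_le_right (inf_le_left.trans inf_le_right)) hfix)
  refine ⟨p, r, V, y, hp, hr, inferInstance, hVN, hV, hVab, hVpow, hyN, hy, hsup, hfix, ?_, ?_, ?_⟩
  · intro d hd hdc v hv hdv
    obtain ⟨a, ha, b, hb, hbo, rfl⟩ := hdec d hd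
    have hb' : b ∉ centralizer (N : Set G) := fun h1 => hdc (mul_mem ha.2 h1)
    have h1 : ⁅a * b, v⁆ = ⁅b, v⁆ := by
      have h2 : b * v * b⁻¹ * a = a * (b * v * b⁻¹) :=
        ha.2 _ (N.mul_mem (N.mul_mem hb.1 (hVN hv)) (N.inv_mem hb.1))
      calc ⁅a * b, v⁆ = a * (b * v * b⁻¹) * a⁻¹ * v⁻¹ := by group
        _ = ⁅b, v⁆ := by rw [← h2]; group
    rw [h1] at hdv
    have h3 := pow_conj (b := b) (v := v) (z := ⁅b, v⁆) (by group) (hdv b hb.1) (orderOf b)
    rw [pow_orderOf_eq_one, one_mul, inv_one, mul_one, right_eq_mul] at h3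
    have h4 : ⁅b, v⁆ ∈ V := commutator_le_right ⊤ V (commutator_mem_commutator (mem_top b) hv)
    have h5 := Tr.eq_one_of_coprime_of_isPGroup hVp h4
      (hbo.coprime_dvd_left (orderOf_dvd_of_pow_eq_one h3))
    exact h.fixed_le hVN hVp hb.1 hb' hbo ⟨hv, mem_centralizer_singleton_iff.mpr
      (commutatorElement_eq_one_iff_mul_comm.mp h5).symm⟩
  · exact le_trans (le_inf (commutator_le_self _)
      ((commutator_mono inf_le_left inf_le_left).trans hcomm)) hDF
  · exact fun d hd => hDF ⟨pow_mem hd _, hrpow d hd.1⟩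

/-- Passing to the central quotient. -/
theorem frob_quot {H : Type*} [Group H] [Finite H] {p r : ℕ} (hr : r.Prime) {V D : Subgroup H}
    [V.Normal] (hsup : V ⊔ D = ⊤) (hZD : center H ≤ D) (hinf : V ⊓ D ≤ center H)
    (hV : ¬ V ≤ center H) (hD : ¬ D ≤ center H)
    (hfpf : ∀ d ∈ D, d ∉ center H → ∀ v ∈ V, ⁅d, v⁆ ∈ center H → v ∈ center H)
    (hVc : IsMulCommutative V) (hVp : ∀ v ∈ V, v ^ p ∈ center H) (hDc : ⁅D, D⁆ ≤ center H)
    (hDr : ∀ d ∈ D, d ^ r ∈ center H) :
    IsFrobeniusComplement (D.map (QuotientGroup.mk' (center H))) ∧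
      Nat.card (D.map (QuotientGroup.mk' (center H))) = r ∧
      (V.map (QuotientGroup.mk' (center H))).IsComplement' (D.map (QuotientGroup.mk' (center H))) ∧
      IsElementaryAbelian p (V.map (QuotientGroup.mk' (center H))) := by
  set π := QuotientGroup.mk' (center H) with hπ
  haveI : (V.map π).Normal := normal_map_mk' V
  have hone : ∀ x : H, π x = 1 ↔ x ∈ center H := fun x => QuotientGroup.eq_one_iff x
  have hc : (V.map π).IsComplement' (D.map π) := by
    refine isComplement'_iff_of_normal.mpr ⟨?_, ?_⟩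
    · rw [eq_bot_iff]
      rintro _ ⟨⟨v, hv, rfl⟩, d, hd, hdv⟩
      have h1 : d⁻¹ * v ∈ center H := QuotientGroup.eq.mp hdv
      have h2 : v ∈ D := by simpa using D.mul_mem hd (hZD h1)
      exact (hone v).mpr (hinf ⟨hv, h2⟩)
    · rw [← Subgroup.map_sup, hsup, map_top_of_surjective _ (QuotientGroup.mk'_surjective _)]
  have hVb : V.map π ≠ ⊥ := by rwa [Ne, map_mk'_eq_bot_iff]
  have hDb : D.map π ≠ ⊥ := by rwa [Ne, map_mk'_eq_bot_iff]
  have hf : ∀ d ∈ D.map π, d ≠ 1 → V.map π ⊓ centralizer {d} = ⊥ := by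
    rintro _ ⟨d, hd, rfl⟩ hd1
    rw [eq_bot_iff]
    rintro _ ⟨⟨v, hv, rfl⟩, hvd⟩
    refine (hone v).mpr (hfpf d hd (fun h => hd1 ((hone d).mpr h)) v hv ((hone _).mp ?_))
    rw [map_commutatorElement, commutatorElement_eq_one_iff_mul_comm]
    exact (mem_centralizer_singleton_iff.mp hvd).symm
  refine ⟨Frob.isFrobeniusComplement_of_fpf hc hVb hDb hf, ?_, hc, th_comm_map π hVc, ?_⟩
  · haveI : IsMulCommutative (D.map π) :=
      commutator_self_eq_bot_iff.mp (commutator_le_iff_map_mk'.mp hDc)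
    haveI := (Frob.hasFpfAction_of_fpf hVb le_normalizer_of_normal hf).isCyclic_of_comm
    have h1 : Nat.card (D.map π) ∣ r := by
      rw [← IsCyclic.exponent_eq_card, Monoid.exponent_dvd_iff_forall_pow_eq_one]
      rintro ⟨_, d, hd, rfl⟩
      refine Subtype.ext ?_
      change π d ^ r = 1
      rw [← map_pow]
      exact (hone _).mpr (hDr d hd)
    exact ((Nat.dvd_prime hr).mp h1).resolve_left fun h => hDb (card_eq_one.mp h)
  · rintro _ ⟨v, hv, rfl⟩
    rw [← map_pow]
    exact (hone _).mpr (hVp v hv)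

end Cfsg.Agent.FG.MaxCent
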