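import Mathlib
import Cfsg.Agent.GT.TransferFrobenius
import Cfsg.Agent.GT.HallTools
import Cfsg.Agent.GT.Fitting
import Cfsg.Agent.GT.Conj
import Cfsg.Agent.FG.ClassIdx

/-!
# Wielandt's theorem on Hall subgroups with a nilpotent direct factor
-/

set_option autoImplicit false

namespace Cfsg.Agent.FG.NH

open Cfsg Cfsg.Agent.GT Subgroup

variable {G : Type*} [Group G] [Finite G]

local notation:75 H " ^ᶜ " g:76 => Subgroup.map (MulEquiv.toMonoidHom (MulAut.conj g)) H

/-- every subgroup whose order involves only primes of `|T|` is conjugate into `T` -/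
def Dom (T : Subgroup G) : Prop :=
  ∀ K : Subgroup G, (∀ p : ℕ, p.Prime → p ∣ Nat.card K → p ∣ Nat.card T) → ∃ g : G, K ^ᶜ g ≤ T

omit [Finite G] in
theorem mem_centralizer_of_coprime {B : Subgroup G} {g : G} (hg : g ∈ normalizer (B : Set G))
    (hc : (orderOf g).Coprime (centralizer (B : Set G)).index) : g ∈ centralizer (B : Set G) :=
  CI.mem_of_pow_mem_of_coprime_index (normalizer_le_normalizer_set_centralizer _ hg)
    (by rw [pow_orderOf_eq_one]; exact one_mem _) hc

omit [Finite G] in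
theorem index_centralizer_dvd {A B C : Subgroup G} {g : G} (h : B ^ᶜ g ≤ C)
    (hA : A ≤ centralizer (C : Set G)) : (centralizer (B : Set G)).index ∣ A.index := by
  rw [← index_map_conj _ g, ← centralizer_map_conj]
  exact index_dvd_of_le (hA.trans (centralizer_anti h))

theorem step {p : ℕ} [hp : Fact p.Prime] {P T : Subgroup G} (hP : IsPGroup p P)
    (hPi : ¬ p ∣ P.index) (hT : (Nat.card T).Coprime T.index)
    (hc : P ≤ centralizer (T : Set G)) (hD : Dom T) (K : Subgroup G)
    (hK : ∀ q : ℕ, q.Prime → q ∣ Nat.card K → q = p ∨ q ∣ Nat.card T) :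
    ∃ g : G, K ^ᶜ g ≤ P ⊔ T := by
  have hconj : ∀ {R L : Subgroup G}, IsPGroup p R → R ≤ L → P ≤ L → ∃ g ∈ L, R ^ᶜ g ≤ P :=
    fun hR h1 h2 => HT.exists_conj_le_of_isPGroup h1 hR hP
      fun h => hPi (h.trans (relIndex_dvd_index_of_le h2))
  obtain ⟨S, N, hN, hNS⟩ : HasNormalPComplement p K := by
    rw [Tr.frobenius_iff]
    intro Q hQ _ g hg hgp
    obtain ⟨x, -, hx⟩ := hconj (hQ.map K.subtype) le_top le_top
    rw [centralizer_eq_subgroupOf, mem_subgroupOf]
    rw [normalizer_eq_subgroupOf, mem_subgroupOf] at hg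
    refine mem_centralizer_of_coprime hg (Nat.Coprime.coprime_dvd_right
      (index_centralizer_dvd hx (le_centralizer_iff.1 hc)) ?_)
    rw [Subgroup.orderOf_coe]
    refine Nat.coprime_of_dvd fun q hq h1 h2 => ?_
    rcases hK q hq (h1.trans (orderOf_dvd_natCard g)) with rfl | h3
    · exact hq.one_lt.ne' (Nat.eq_one_of_dvd_coprimes hgp h1 dvd_rfl)
    · exact hq.one_lt.ne' (Nat.eq_one_of_dvd_coprimes hT h3 h2)
  obtain ⟨g, hg⟩ := hD (N.map K.subtype) fun q hq h1 => by
    rw [card_map_subtype] at h1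
    refine (hK q hq (h1.trans (card_subgroup_dvd_card N))).resolve_left ?_
    rintro rfl
    rw [← hNS.index_eq_card] at h1
    exact S.not_dvd_index h1
  have hS : IsPGroup p ((S : Subgroup K).map K.subtype) := S.isPGroup'.map _
  have h1 : (S : Subgroup K).map K.subtype ≤ centralizer (N.map K.subtype : Set G) := by
    intro x hx
    refine mem_centralizer_of_coprime (le_normalizer_map_subtype K N (map_subtype_le _ hx))
      (Nat.Coprime.coprime_dvd_right (index_centralizer_dvd hg hc) ?_)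
    obtain ⟨k, hk⟩ := CI.orderOf_of_mem hS hx
    rw [hk]
    exact ((Nat.Prime.coprime_iff_not_dvd hp.out).2 hPi).pow_left k
  obtain ⟨c, hc1, hc2⟩ := hconj (L := centralizer ((N.map K.subtype ^ᶜ g : Subgroup G) : Set G))
    (hS.map (MulAut.conj g).toMonoidHom)
    (by rw [centralizer_map_conj]; exact map_conj_le_map_conj_iff.2 h1)
    (hc.trans (centralizer_anti hg))
  refine ⟨c * g, ?_⟩
  have h2 : K = (S : Subgroup K).map K.subtype ⊔ N.map K.subtype := by
    rw [← Subgroup.map_sup, hNS.symm.sup_eq_top, ← MonoidHom.range_eq_map, range_subtype]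
  rw [h2, map_conj_mul, map_conj_sup, map_conj_sup]
  refine sup_le_sup hc2 ?_
  rw [map_conj_eq_of_mem_norm (centralizer_le_normalizer _ hc1)]
  exact hg

/-- Wielandt: adjoining a commuting nilpotent factor keeps the property `Dom` -/
theorem dom_sup (n : ℕ) : ∀ S T : Subgroup G, Nat.card S = n → Group.IsNilpotent S →
    S ≤ centralizer (T : Set G) → (Nat.card S).Coprime (Nat.card T) →
    (Nat.card (S ⊔ T : Subgroup G)).Coprime (S ⊔ T).index → Dom T → Dom (S ⊔ T) := by
  induction n using Nat.strong_induction_on with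
  | _ n ih =>
  intro S T hn hS hc hST hH hD
  by_cases hS0 : S = ⊥
  · rwa [hS0, bot_sup_eq]
  obtain ⟨p, hp, hpS⟩ := exists_prime_dvd_card_of_ne_bot hS0
  have := Fact.mk hp
  obtain ⟨P, hP⟩ : ∃ P, P = pCoreOf p S := ⟨_, rfl⟩
  obtain ⟨R, hR⟩ : ∃ R, R = pPrimeCoreOf p S := ⟨_, rfl⟩
  have hPR : P ⊔ R = S := by rw [hP, hR]; exact pCoreOf_sup_pPrimeCoreOf p S
  have hPp : IsPGroup p P := hP ▸ isPGroup_pCoreOf p S
  have hRp : (Nat.card R).Coprime p := hR ▸ coprime_card_pPrimeCoreOf p S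
  have hPS : P ≤ S := hPR ▸ le_sup_left
  have hRS : R ≤ S := hPR ▸ le_sup_right
  have hTp : (Nat.card T).Coprime p := (hST.coprime_dvd_left hpS).symm
  have hRT : (Nat.card R).Coprime (Nat.card T) := hST.coprime_dvd_left (card_dvd_of_le hRS)
  have hcard : Nat.card (R ⊔ T : Subgroup G) = Nat.card R * Nat.card T :=
    card_sup_of_inf_eq_bot (le_normalizer_of_le_centralizer (hRS.trans hc))
      (disjoint_of_coprime_natCard hRT).eq_bot
  have hUp : (Nat.card (R ⊔ T : Subgroup G)).Coprime p := hcard ▸ Nat.Coprime.mul_left hRp hTp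
  have hPU : (Nat.card P).Coprime (Nat.card (R ⊔ T : Subgroup G)) :=
    coprime_card_of_isPGroup hp hPp hUp
  have hcP : P ≤ centralizer ((R ⊔ T : Subgroup G) : Set G) := by
    rw [centralizer_sup]
    exact le_inf (le_centralizer_of_coprime_of_isNilpotent hPS hRS
      (coprime_card_of_isPGroup hp hPp hRp)) (hPS.trans hc)
  have hH' : S ⊔ T = P ⊔ (R ⊔ T) := by rw [← hPR, sup_assoc]
  have hcard2 : Nat.card (S ⊔ T : Subgroup G) = Nat.card P * Nat.card (R ⊔ T : Subgroup G) :=
    hH' ▸ card_sup_of_inf_eq_bot (le_normalizer_of_le_centralizer hcP) (disjoint_of_coprime_natCard hPU).eq_bot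
  have hG := (S ⊔ T).card_mul_index
  have hi1 : P.index = Nat.card (R ⊔ T : Subgroup G) * (S ⊔ T).index := by
    have h1 := P.card_mul_index
    rw [← hG, hcard2, mul_assoc] at h1
    exact Nat.eq_of_mul_eq_mul_left Nat.card_pos h1
  have hi2 : (R ⊔ T).index = Nat.card P * (S ⊔ T).index := by
    have h1 := (R ⊔ T).card_mul_index
    rw [← hG, hcard2, mul_comm (Nat.card P), mul_assoc] at h1
    exact Nat.eq_of_mul_eq_mul_left Nat.card_pos h1
  have hU : (Nat.card (R ⊔ T : Subgroup G)).Coprime (R ⊔ T).index := by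
    rw [hi2]
    exact hPU.symm.mul_right (hH.coprime_dvd_left (hcard2 ▸ Dvd.intro_left _ rfl))
  have hpH : p ∣ Nat.card (S ⊔ T : Subgroup G) := hpS.trans (card_dvd_of_le le_sup_left)
  have hD' : Dom (R ⊔ T) := by
    refine ih _ (hn ▸ card_lt_of_lt (lt_of_le_of_ne hRS ?_)) R T rfl
      (isNilpotent_of_le hRS) (hRS.trans hc) hRT hU hD
    rintro rfl
    exact hp.one_lt.ne' (Nat.eq_one_of_dvd_coprimes hRp hpS dvd_rfl)
  intro K hK
  rw [hH']
  refine step hPp ?_ hU hcP hD' K fun q hq h1 => ?_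
  · rw [hi1, hp.dvd_mul]
    rintro (h | h)
    · exact hp.one_lt.ne' (Nat.eq_one_of_dvd_coprimes hUp h dvd_rfl)
    · exact hp.one_lt.ne' (Nat.eq_one_of_dvd_coprimes hH hpH h)
  · have h2 := hK q hq h1
    rw [hcard2, hq.dvd_mul] at h2
    refine h2.imp_left fun h => ?_
    obtain ⟨k, hk⟩ := hPp.exists_card_eq
    exact (Nat.prime_dvd_prime_iff_eq hq hp).1 (hq.dvd_of_dvd_pow (hk ▸ h))

theorem dom_bot : Dom (⊥ : Subgroup G) := by
  intro K hK
  refine ⟨1, ?_⟩
  by_contra h
  rw [map_conj_one, le_bot_iff] at h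
  obtain ⟨p, hp, hpK⟩ := exists_prime_dvd_card_of_ne_bot h
  have h1 := hK p hp hpK
  rw [card_bot, Nat.dvd_one] at h1
  exact hp.one_lt.ne' h1

/-- Wielandt's theorem on nilpotent Hall subgroups -/
theorem dom_of_isNilpotent {H : Subgroup G} (hH : Group.IsNilpotent H)
    (hc : (Nat.card H).Coprime H.index) : Dom H := by
  have h := dom_sup _ H ⊥ rfl hH (by rw [centralizer_bot]; exact le_top) (by simp)
    (by rwa [sup_bot_eq]) dom_bot
  rwa [sup_bot_eq] at h

end Cfsg.Agent.FG.NH
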