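import Mathlib
import Cfsg.Agent.FG.CsL2A
import Cfsg.Agent.S3993
import Cfsg.Agent.Perm.ZassField

/-!
# Groups with the order and the same-order counts of `PGL₂(q)`, `q` odd
-/

set_option autoImplicit false

namespace Cfsg.Agent.FG.NsePGL

open Subgroup MulAction Cfsg.Agent.FG.CI Cfsg.Agent.Perm.Zass
open scoped MatrixGroups

variable {G : Type*} [Group G]

/-- The number of elements of order `n`. -/
noncomputable abbrev mo (G : Type*) [Group G] (n : ℕ) : ℕ := Nat.card {g : G // orderOf g = n}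

theorem card_split {G : Type*} [Finite G] (Q R : G → Prop) :
    Nat.card {g : G // Q g} = Nat.card {g : G // Q g ∧ R g} + Nat.card {g : G // Q g ∧ ¬ R g} := by
  classical
  rw [← Nat.card_sum]
  refine (Nat.card_congr ((Equiv.sumCongr (Equiv.subtypeSubtypeEquivSubtypeInter Q R).symm
    (Equiv.subtypeSubtypeEquivSubtypeInter Q fun g => ¬ R g).symm).trans
    (Equiv.sumCompl fun g : {g : G // Q g} => R g))).symm

theorem dvd_card_order [Finite G] (d : ℕ) (Q : ℕ → Prop) (h : ∀ n, Q n → d ∣ mo G n) :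
    d ∣ Nat.card {g : G // Q (orderOf g)} := by
  classical
  have := Fintype.ofFinite G
  rw [Nat.subtype_card (Finset.univ.filter fun g : G => Q (orderOf g)) (by simp),
    Finset.card_eq_sum_card_fiberwise (f := fun g : G => orderOf g)
      (t := (Finset.univ.filter fun g : G => Q (orderOf g)).image fun g => orderOf g)
      fun x hx => Finset.mem_image_of_mem _ hx]
  refine Finset.dvd_sum fun n hn => ?_
  obtain ⟨x, hx, rfl⟩ := Finset.mem_image.mp hn
  have hQ := (Finset.mem_filter.mp hx).2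
  have := h _ hQ
  rwa [mo, Nat.subtype_card ((Finset.univ.filter fun g : G => Q (orderOf g)).filter
    fun g => orderOf g = orderOf x) fun g => by
      simp only [Finset.mem_filter, Finset.mem_univ, true_and]
      exact ⟨fun h => h.2, fun h => ⟨h ▸ hQ, h⟩⟩] at this

theorem mo_one : mo G 1 = 1 := by
  simp [mo]

theorem even_mo [Finite G] {n : ℕ} (hn : 2 < n) : 2 ∣ mo G n := by
  classical
  have := Fintype.ofFinite G
  rw [mo, Nat.subtype_card (Finset.univ.filter fun g : G => orderOf g = n) (by simp),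
    ← ZMod.natCast_eq_zero_iff, Finset.card_eq_sum_ones, Nat.cast_sum]
  refine Finset.sum_involution (fun g _ => g⁻¹) (fun _ _ => by decide) (fun g hg _ e => ?_)
    (fun g hg => by simpa using hg) fun g _ => inv_inv g
  have h1 : orderOf g = n := by simpa using hg
  have h2 : g ^ 2 = 1 := by rw [pow_two]; nth_rw 1 [← e]; exact inv_mul_cancel g
  have := Nat.le_of_dvd two_pos (orderOf_dvd_of_pow_eq_one h2)
  omega

theorem prime_dvd_mo_add_one [Finite G] {p : ℕ} (hp : p.Prime) (hd : p ∣ Nat.card G) :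
    p ∣ mo G p + 1 := by
  have h := S3993.result (G := G) p hd
  rw [card_split (fun g : G => g ^ p = 1) fun g => orderOf g = p] at h
  have e1 : Nat.card {g : G // g ^ p = 1 ∧ orderOf g = p} = mo G p :=
    Nat.card_congr (Equiv.subtypeEquivRight fun g =>
      ⟨fun h => h.2, fun h => ⟨h ▸ pow_orderOf_eq_one g, h⟩⟩)
  have e2 : Nat.card {g : G // g ^ p = 1 ∧ ¬ orderOf g = p} = mo G 1 :=
    Nat.card_congr (Equiv.subtypeEquivRight fun g =>
      ⟨fun h => ((Nat.dvd_prime hp).mp (orderOf_dvd_of_pow_eq_one h.1)).resolve_right h.2,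
        fun h => ⟨by rw [orderOf_eq_one_iff.mp h, one_pow], fun e => hp.one_lt.ne (h.symm.trans e)⟩⟩)
  rwa [e1, e2, mo_one] at h

theorem eq_mo_two [Finite G] {n c : ℕ} (hc : Odd c) (h1 : c ≠ 1) (h : c = mo G n) : n = 2 := by
  rcases lt_trichotomy n 2 with hn | hn | hn
  · exfalso
    have : n = 0 ∨ n = 1 := by omega
    rcases this with rfl | rfl
    · have : IsEmpty {g : G // orderOf g = 0} := ⟨fun g => (orderOf_pos g.1).ne' g.2⟩
      rw [mo, Nat.card_of_isEmpty] at h
      simp [h] at hc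
    · exact h1 (h.trans mo_one)
  · exact hn
  · exact absurd (h ▸ even_mo hn) hc.not_two_dvd_nat

/-- The numerical hypothesis. -/
structure Hyp (G : Type*) [Group G] (p q : ℕ) : Prop where
  prime : p.Prime
  odd : p ≠ 2
  pow : ∃ f, q = p ^ (f + 1)
  card : Nat.card G = q * (q ^ 2 - 1)
  mem : ∀ n, mo G n = 1 ∨ mo G n = q ^ 2 - 1 ∨ q ∣ mo G n
  two : q ^ 2 ≤ mo G 2

namespace Hyp

variable [Finite G] {p q : ℕ} (h : Hyp G p q)
include h

omit [Finite G] in
theorem p_dvd : p ∣ q := by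
  obtain ⟨f, rfl⟩ := h.pow
  exact dvd_pow_self p f.succ_ne_zero

omit [Finite G] in
theorem three_le_p : 3 ≤ p := by
  have := h.prime.two_le
  have := h.odd
  omega

omit [Finite G] in
theorem three_le : 3 ≤ q := by
  obtain ⟨f, hf⟩ := h.pow
  exact h.three_le_p.trans (hf ▸ Nat.le_self_pow f.succ_ne_zero p)

omit [Finite G] in
theorem cop : q.Coprime (q ^ 2 - 1) := by
  have := h.three_le
  have e : q ^ 2 - 1 + 1 = q * q := by rw [Nat.sub_add_cancel (by nlinarith), pow_two]
  have : (q * q).Coprime (q ^ 2 - 1) := e ▸ (Nat.coprime_self_add_left.mpr (by simp))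
  exact Nat.Coprime.coprime_mul_left this

theorem dvd_mo {n : ℕ} (h1 : n ≠ 1) (h2 : mo G n ≠ q ^ 2 - 1) : q ∣ mo G n := by
  rcases h.mem n with e | e | e
  · exfalso
    rcases lt_trichotomy n 2 with hn | hn | hn
    · have hn0 : n = 0 := by omega
      subst hn0
      have : IsEmpty {g : G // orderOf g = 0} := ⟨fun g => (orderOf_pos g.1).ne' g.2⟩
      rw [mo, Nat.card_of_isEmpty] at e
      omega
    · have := h.two
      have := h.three_le
      rw [hn] at e
      nlinarith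
    · have := even_mo (G := G) hn
      omega
  · exact absurd e h2
  · exact e

theorem mo_p : mo G p = q ^ 2 - 1 := by
  by_contra hne
  have h1 := h.p_dvd.trans (h.dvd_mo h.prime.one_lt.ne' hne)
  have h2 := prime_dvd_mo_add_one (G := G) h.prime (h.card ▸ h.p_dvd.mul_right _)
  exact h.prime.one_lt.ne' (Nat.dvd_one.mp ((Nat.dvd_add_right h1).mp h2))

omit [Finite G] in
theorem arith {k j : ℕ} (hk : k < q) (h1 : 1 ≤ k) (e : (k - 1) * (q ^ 2 - 1) = q * j) : k = 1 := by
  have := h.cop.dvd_of_dvd_mul_right (Dvd.intro _ e.symm)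
  have := Nat.eq_zero_of_dvd_of_lt this (by omega)
  omega

theorem eq_p_of_mo {x : G} (hx : mo G (orderOf x) = q ^ 2 - 1) : orderOf x = p := by
  have h3 := h.three_le
  have h8 : 8 ≤ q ^ 2 - 1 := by
    have : 9 ≤ q ^ 2 := by nlinarith
    omega
  obtain ⟨k, hk⟩ := dvd_card_order (G := G) (q ^ 2 - 1) (fun n => mo G n = q ^ 2 - 1)
    fun n hn => hn ▸ dvd_rfl
  obtain ⟨j, hj⟩ := dvd_card_order (G := G) q (fun n => mo G n ≠ q ^ 2 - 1 ∧ n ≠ 1)
    fun n hn => h.dvd_mo hn.2 hn.1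
  have e1 := card_split (fun _ : G => True) fun g => mo G (orderOf g) = q ^ 2 - 1
  have e2 := card_split (fun g : G => mo G (orderOf g) ≠ q ^ 2 - 1) fun g => orderOf g = 1
  have e3 : Nat.card {g : G // mo G (orderOf g) ≠ q ^ 2 - 1 ∧ orderOf g = 1} = mo G 1 :=
    Nat.card_congr (Equiv.subtypeEquivRight fun g =>
      ⟨fun h => h.2, fun h => ⟨by rw [h, mo_one]; omega, h⟩⟩)
  simp only [true_and] at e1
  rw [Nat.card_congr (Equiv.subtypeUnivEquiv fun _ => trivial), h.card, hk] at e1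
  rw [e3, mo_one, hj] at e2
  have e4 := card_split (fun g : G => mo G (orderOf g) = q ^ 2 - 1) fun g => orderOf g = p
  have e5 : Nat.card {g : G // mo G (orderOf g) = q ^ 2 - 1 ∧ orderOf g = p} = mo G p :=
    Nat.card_congr (Equiv.subtypeEquivRight fun g =>
      ⟨fun h => h.2, fun hg => ⟨by rw [hg, h.mo_p], hg⟩⟩)
  rw [e5, h.mo_p, hk] at e4
  have e6 : q * (q ^ 2 - 1) = (q ^ 2 - 1) * k + (1 + q * j) := e1.trans (by rw [← e2])
  have hk1 : 1 ≤ k := by
    rcases k with _ | k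
    · omega
    · omega
  have hkq : k < q := by
    by_contra hle
    push Not at hle
    have : (q ^ 2 - 1) * q ≤ (q ^ 2 - 1) * k := by gcongr
    nlinarith
  have hq2 : q ^ 2 - 1 + 1 = q * q := by rw [Nat.sub_add_cancel (by nlinarith), pow_two]
  obtain ⟨k, rfl⟩ : ∃ k', k = k' + 1 := ⟨k - 1, by omega⟩
  have e7 : k * (q ^ 2 - 1) + q * (q + j) = q * (q ^ 2 - 1) := by
    rw [e6, mul_add q q, ← hq2]; ring
  have hd : q ∣ k * (q ^ 2 - 1) :=
    (Nat.dvd_add_left (Dvd.intro _ rfl)).mp (e7 ▸ Dvd.intro _ rfl)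
  obtain ⟨i, hi⟩ := hd
  have hk0 : k + 1 = 1 := h.arith hkq hk1 (by simpa using hi)
  rw [hk0, mul_one] at e4
  by_contra hne
  have : Nonempty {g : G // mo G (orderOf g) = q ^ 2 - 1 ∧ ¬ orderOf g = p} := ⟨⟨x, hx, hne⟩⟩
  have := Nat.card_pos (α := {g : G // mo G (orderOf g) = q ^ 2 - 1 ∧ ¬ orderOf g = p})
  omega

/-- Every `p`-singular element has order `p`. -/
theorem eq_p_of_dvd {x : G} (hx : p ∣ orderOf x) : orderOf x = p := by
  have h3 := h.three_le
  have h8 : 8 ≤ q ^ 2 - 1 := by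
    have : 9 ≤ q ^ 2 := by nlinarith
    omega
  obtain ⟨c, hc⟩ := S3993.result (G := G) (q ^ 2 - 1) (h.card ▸ Dvd.intro_left _ rfl)
  have hp := h.prime
  have e0 : Nat.card {g : G // ¬ p ∣ orderOf g} = Nat.card {g : G // g ^ (q ^ 2 - 1) = 1} := by
    refine Nat.card_congr (Equiv.subtypeEquivRight fun g => ⟨fun hg => ?_, fun hg hd => ?_⟩)
    · obtain ⟨f, hf⟩ := h.pow
      have h1 : (orderOf g).Coprime q :=
        hf ▸ ((hp.coprime_iff_not_dvd.mpr hg).symm.pow_right _)
      exact orderOf_dvd_iff_pow_eq_one.mp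
        (h1.dvd_of_dvd_mul_left (h.card ▸ orderOf_dvd_natCard g))
    · exact hp.one_lt.ne' (Nat.eq_one_of_dvd_coprimes h.cop h.p_dvd
        (hd.trans (orderOf_dvd_of_pow_eq_one hg)))
  have e1 := card_split (fun _ : G => True) fun g => p ∣ orderOf g
  simp only [true_and] at e1
  rw [Nat.card_congr (Equiv.subtypeUnivEquiv fun _ => trivial), h.card, e0, hc] at e1
  have e2 := card_split (fun g : G => p ∣ orderOf g) fun g => orderOf g = p
  have e3 : Nat.card {g : G // p ∣ orderOf g ∧ orderOf g = p} = mo G p :=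
    Nat.card_congr (Equiv.subtypeEquivRight fun g => ⟨fun h => h.2, fun hg => ⟨hg ▸ dvd_rfl, hg⟩⟩)
  obtain ⟨j, hj⟩ := dvd_card_order (G := G) q
    (fun n => p ∣ n ∧ ¬ n = p) fun n hn => by
      by_cases hz : mo G n = 0
      · rw [hz]; exact dvd_zero _
      obtain ⟨⟨g, rfl⟩⟩ := (Nat.card_ne_zero.mp hz).1
      refine h.dvd_mo (fun e => hp.one_lt.ne' (Nat.dvd_one.mp (e ▸ hn.1))) fun e =>
        hn.2 (h.eq_p_of_mo e)
  rw [e3, h.mo_p, hj] at e2
  have hc1 : 1 ≤ c := by
    have : Nonempty {g : G // g ^ (q ^ 2 - 1) = 1} := ⟨⟨1, one_pow _⟩⟩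
    have := Nat.card_pos (α := {g : G // g ^ (q ^ 2 - 1) = 1})
    rcases c with _ | c
    · omega
    · omega
  have hcq : c + 1 ≤ q := by
    by_contra hle
    push Not at hle
    have : (q ^ 2 - 1) * q ≤ (q ^ 2 - 1) * c := by gcongr; omega
    nlinarith
  obtain ⟨d, hd⟩ : ∃ d, q = c + 1 + d := ⟨q - (c + 1), by omega⟩
  have e4 : (d + 1 - 1) * (q ^ 2 - 1) = q * j := by
    rw [Nat.add_sub_cancel]
    have : (c + 1 + d) * (q ^ 2 - 1) = (q ^ 2 - 1) + q * j + (q ^ 2 - 1) * c := by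
      rw [← hd, e1, e2]
    nlinarith
  have hd0 := h.arith (k := d + 1) (by omega) (by omega) e4
  have hj0 : j = 0 := by
    rw [hd0] at e4
    simp only [Nat.sub_self, zero_mul] at e4
    rcases j with _ | j
    · rfl
    · nlinarith
  by_contra hne
  have : Nonempty {g : G // p ∣ orderOf g ∧ ¬ orderOf g = p} := ⟨⟨x, hx, hne⟩⟩
  have := Nat.card_pos (α := {g : G // p ∣ orderOf g ∧ ¬ orderOf g = p})
  rw [hj, hj0] at this
  omega

theorem pow_p_of_commute {x y : G} (hx : orderOf x = p) (hy : Commute y x) : y ^ p = 1 := by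
  by_cases hd : p ∣ orderOf y
  · rw [← h.eq_p_of_dvd hd, pow_orderOf_eq_one]
  · have hc : (orderOf y).Coprime (orderOf x) :=
      hx ▸ (h.prime.coprime_iff_not_dvd.mpr hd).symm
    have e := hy.orderOf_mul_eq_mul_orderOf_of_coprime hc
    rw [hx] at e
    have e2 := h.eq_p_of_dvd (x := y * x) (e ▸ Dvd.intro_left _ rfl)
    rw [e] at e2
    have : orderOf y = 1 := Nat.eq_of_mul_eq_mul_right h.prime.pos (by rw [e2, one_mul])
    rw [orderOf_eq_one_iff.mp this, one_pow]

theorem isPGroup_cent {x : G} (hx : orderOf x = p) : IsPGroup p (centralizer ({x} : Set G)) :=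
  fun y => ⟨1, Subtype.ext (by
    rw [pow_one]; exact h.pow_p_of_commute hx (mem_cent_commute.mp y.2))⟩

theorem card_cent_isConj {x : G} (hx : orderOf x = p) :
    Nat.card (centralizer ({x} : Set G)) = q ∧ ∀ y : G, orderOf y = p → IsConj x y := by
  have := Fact.mk h.prime
  have h3 := h.three_le
  have h8 : 8 ≤ q ^ 2 - 1 := by
    have : 9 ≤ q ^ 2 := by nlinarith
    omega
  obtain ⟨i, hi⟩ := IsPGroup.iff_card.mp (h.isPGroup_cent hx)
  have e := card_cent_mul_cidx x
  rw [h.card] at e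
  have h1 : Nat.card (centralizer ({x} : Set G)) ∣ q := by
    have hc : (p ^ i).Coprime (q ^ 2 - 1) :=
      (Nat.Coprime.coprime_dvd_left h.p_dvd h.cop).pow_left i
    rw [hi] at e ⊢
    exact hc.dvd_of_dvd_mul_right (Dvd.intro _ e)
  have h2 := Nat.le_of_dvd (by omega) h1
  have hsub : (ConjClasses.mk x).carrier ⊆ {y : G | orderOf y = p} := fun y hy => by
    obtain ⟨c, rfl⟩ := isConj_iff.mp
      (ConjClasses.mk_eq_mk_iff_isConj.mp (ConjClasses.mem_carrier_iff_mk_eq.mp hy)).symm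
    have := (MulAut.conj c).orderOf_eq x
    rw [MulAut.conj_apply] at this
    exact this.trans hx
  have h4 : {y : G | orderOf y = p}.ncard = q ^ 2 - 1 := h.mo_p
  have h5 := Set.ncard_le_ncard hsub
  rw [h4, ncard_carrier_mk] at h5
  have h6 : Nat.card (centralizer ({x} : Set G)) = q := by
    by_contra hne
    have : Nat.card (centralizer ({x} : Set G)) * cidx x ≤ (q - 1) * (q ^ 2 - 1) :=
      Nat.mul_le_mul (by omega) h5
    have h7 : (q - 1) * (q ^ 2 - 1) < q * (q ^ 2 - 1) :=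
      Nat.mul_lt_mul_of_pos_right (by omega) (by omega)
    omega
  refine ⟨h6, fun y hy => ?_⟩
  rw [h6] at e
  have h7 : cidx x = q ^ 2 - 1 := Nat.eq_of_mul_eq_mul_left (by omega) e
  have h9 := Set.eq_of_subset_of_ncard_le hsub (by rw [h4, ncard_carrier_mk]; exact h7.ge)
  have : y ∈ (ConjClasses.mk x).carrier := h9 ▸ hy
  exact (ConjClasses.mk_eq_mk_iff_isConj.mp (ConjClasses.mem_carrier_iff_mk_eq.mp this)).symm

theorem sq_of_inverts {x g : G} (hx : orderOf x = p) (hg : g * x * g⁻¹ = x⁻¹) : g * g = 1 := by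
  have hc : Commute (g * g) x := by
    rw [← mem_cent_commute, mem_cent']
    calc g * g * x * (g * g)⁻¹ = g * (g * x * g⁻¹) * g⁻¹ := by group
      _ = g * x⁻¹ * g⁻¹ := by rw [hg]
      _ = (g * x * g⁻¹)⁻¹ := by group
      _ = x := by rw [hg, inv_inv]
  have h1 := h.pow_p_of_commute hx hc
  by_cases hd : p ∣ orderOf g
  · exfalso
    have h2 := h.eq_p_of_dvd hd
    have h3 : g ∈ zpowers (g ^ 2) := mem_zpowers_pow_iff.mpr
      (by rw [h2]; exact (Nat.coprime_primes Nat.prime_two h.prime).mpr h.odd.symm)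
    have h4 : g ∈ centralizer ({x} : Set G) :=
      (zpowers_le.mpr (by rw [pow_two]; exact mem_cent_commute.mpr hc)) h3
    rw [mem_cent'.mp h4] at hg
    have h5 : x ^ 2 = 1 := by rw [pow_two]; nth_rw 1 [hg]; exact inv_mul_cancel x
    have := Nat.le_of_dvd two_pos (orderOf_dvd_of_pow_eq_one h5)
    have := h.three_le_p
    omega
  · rw [← pow_two, ← pow_mul] at h1
    rw [← pow_two]
    exact orderOf_dvd_iff_pow_eq_one.mp
      ((h.prime.coprime_iff_not_dvd.mpr hd).symm.dvd_of_dvd_mul_right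
        (orderOf_dvd_of_pow_eq_one h1))

theorem cent_comm {x u v : G} (hx : orderOf x = p) (hu : u ∈ centralizer ({x} : Set G))
    (hv : v ∈ centralizer ({x} : Set G)) : u * v = v * u := by
  obtain ⟨g, hg⟩ := isConj_iff.mp ((h.card_cent_isConj hx).2 x⁻¹ (by rw [orderOf_inv, hx]))
  have hg2 := h.sq_of_inverts hx hg
  refine mul_comm_of_conj_eq_inv (t := g) (fun w hw => ?_) hu hv
  have h1 : (w * g) * x * (w * g)⁻¹ = x⁻¹ := by
    calc (w * g) * x * (w * g)⁻¹ = w * (g * x * g⁻¹) * w⁻¹ := by group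
      _ = (w * x * w⁻¹)⁻¹ := by rw [hg]; group
      _ = x⁻¹ := by rw [mem_cent'.mp hw]
  have h2 := h.sq_of_inverts hx h1
  rw [← eq_inv_of_mul_eq_one_right hg2]
  calc g * w * g = w⁻¹ * (w * g * (w * g)) := by group
    _ = w⁻¹ := by rw [h2, mul_one]

variable [Fact p.Prime]

theorem orderOf_mem {S : Sylow p G} {x : G} (hx : x ∈ (S : Subgroup G)) (h1 : x ≠ 1) :
    orderOf x = p := by
  obtain ⟨k, hk⟩ := orderOf_of_mem S.isPGroup' hx
  refine h.eq_p_of_dvd ?_
  rcases k with _ | k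
  · exact absurd (orderOf_eq_one_iff.mp (by simpa using hk)) h1
  · exact hk ▸ dvd_pow_self p k.succ_ne_zero

theorem exists_sylow {x : G} (hx : orderOf x = p) :
    ∃ S : Sylow p G, (S : Subgroup G) = centralizer {x} := by
  obtain ⟨S, hS⟩ := (h.isPGroup_cent hx).exists_le_sylow
  refine ⟨S, (eq_of_le_of_card_ge hS ?_).symm⟩
  obtain ⟨i, hi⟩ := IsPGroup.iff_card.mp S.isPGroup'
  have hc : (p ^ i).Coprime (q ^ 2 - 1) :=
    (Nat.Coprime.coprime_dvd_left h.p_dvd h.cop).pow_left i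
  rw [(h.card_cent_isConj hx).1, hi]
  have := h.three_le
  exact Nat.le_of_dvd (by omega)
    (hc.dvd_of_dvd_mul_right (h.card ▸ hi ▸ card_subgroup_dvd_card (S : Subgroup G)))

theorem exists_order_p : ∃ x : G, orderOf x = p :=
  exists_prime_orderOf_dvd_card' p (h.card ▸ h.p_dvd.mul_right _)

theorem card_sylow (S : Sylow p G) : Nat.card S = q := by
  obtain ⟨x, hx⟩ := h.exists_order_p
  obtain ⟨T, hT⟩ := h.exists_sylow hx
  rw [← (h.card_cent_isConj hx).1, ← hT]
  exact Nat.card_congr (S.equiv T).toEquiv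

theorem sylow_comm (S : Sylow p G) {u v : G} (hu : u ∈ (S : Subgroup G))
    (hv : v ∈ (S : Subgroup G)) : u * v = v * u := by
  obtain ⟨x, hx⟩ := h.exists_order_p
  obtain ⟨T, hT⟩ := h.exists_sylow hx
  have e := S.equiv T
  have : e ⟨u, hu⟩ * e ⟨v, hv⟩ = e ⟨v, hv⟩ * e ⟨u, hu⟩ :=
    Subtype.ext (h.cent_comm hx (hT ▸ (e ⟨u, hu⟩).2) (hT ▸ (e ⟨v, hv⟩).2))
  rw [← map_mul, ← map_mul] at this
  exact congrArg Subtype.val (e.injective this)

theorem cent_eq {S : Sylow p G} {x : G} (hx : x ∈ (S : Subgroup G)) (h1 : x ≠ 1) :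
    centralizer ({x} : Set G) = S :=
  (eq_of_le_of_card_ge (fun u hu => mem_cent.mpr (h.sylow_comm S hu hx))
    (by rw [(h.card_cent_isConj (h.orderOf_mem hx h1)).1, h.card_sylow S])).symm

theorem eq_of_smul {S T : Sylow p G} {u : G} (hu : u ∈ (S : Subgroup G)) (h1 : u ≠ 1)
    (e : u • T = T) : T = S := by
  have h2 : u ∈ zpowers u ⊓ normalizer (T : Set G) :=
    ⟨mem_zpowers u, Sylow.smul_eq_iff_mem_normalizer.mp e⟩
  rw [IsPGroup.inf_normalizer_sylow
    (isPGroup_zpowers ⟨1, by rw [pow_one, h.orderOf_mem hu h1]⟩)] at h2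
  exact Sylow.ext ((h.cent_eq h2.2 h1).symm.trans (h.cent_eq hu h1))

theorem card_points : Nat.card (Sylow p G) = q + 1 := by
  classical
  have := Fintype.ofFinite (Sylow p G)
  have h3 := h.three_le
  let f : (Σ S : Sylow p G, {x : (S : Subgroup G) // x ≠ 1}) → {g : G // orderOf g = p} :=
    fun z => ⟨z.2.1, h.orderOf_mem z.2.1.2 fun e => z.2.2 (Subtype.ext e)⟩
  have hf : Function.Bijective f := by
    constructor
    · rintro ⟨S, ⟨x, hx⟩, hx1⟩ ⟨T, ⟨y, hy⟩, hy1⟩ e
      have e1 : x = y := congrArg Subtype.val e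
      subst e1
      have e2 : S = T := Sylow.ext ((h.cent_eq hx fun e => hx1 (Subtype.ext e)).symm.trans
        (h.cent_eq hy fun e => hy1 (Subtype.ext e)))
      subst e2
      rfl
    · rintro ⟨x, hx⟩
      obtain ⟨S, hS⟩ := h.exists_sylow hx
      refine ⟨⟨S, ⟨x, hS ▸ self_mem_cent x⟩, fun e => ?_⟩, rfl⟩
      have : x = 1 := congrArg Subtype.val e
      rw [this, orderOf_one] at hx
      exact h.prime.one_lt.ne hx
  have e := (Nat.card_congr (Equiv.ofBijective f hf)).trans h.mo_p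
  rw [Nat.card_sigma] at e
  have e2 : ∀ S : Sylow p G, Nat.card {x : (S : Subgroup G) // x ≠ 1} = q - 1 := fun S => by
    have := Fintype.ofFinite (S : Subgroup G)
    rw [← h.card_sylow S]
    simp
  simp only [e2, Finset.sum_const, Finset.card_univ, smul_eq_mul] at e
  rw [Nat.card_eq_fintype_card]
  refine Nat.eq_of_mul_eq_mul_right (show 0 < q - 1 by omega) (e.trans ?_)
  obtain ⟨r, rfl⟩ : ∃ r, q = r + 1 := ⟨q - 1, by omega⟩
  exact Nat.sub_eq_of_eq_add (by simp only [Nat.add_sub_cancel]; ring)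

theorem exists_smul {a b c : Sylow p G} (hb : b ≠ a) (hc : c ≠ a) :
    ∃ u ∈ (a : Subgroup G), u • b = c := by
  classical
  let f : ↥(a : Subgroup G) → {d : Sylow p G // d ≠ a} := fun u => ⟨(u : G) • b, fun e => hb (by
    have : (u : G) • a = a := Sylow.smul_eq_iff_mem_normalizer.mpr (le_normalizer u.2)
    exact smul_left_cancel (u : G) (e.trans this.symm))⟩
  have hf : Function.Injective f := fun u v e => by
    have e1 : (u : G) • b = (v : G) • b := congrArg Subtype.val e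
    by_contra hne
    refine hb (h.eq_of_smul (u := (v : G)⁻¹ * u) (mul_mem (inv_mem v.2) u.2)
      (fun e => hne (Subtype.ext (inv_mul_eq_one.mp e).symm)) ?_)
    rw [mul_smul, e1, inv_smul_smul]
  have hb' := hf.bijective_of_nat_card_le (by
    have := Fintype.ofFinite (Sylow p G)
    have := h.card_points
    rw [Nat.card_eq_fintype_card] at this
    rw [h.card_sylow a]
    simp [this])
  obtain ⟨u, hu⟩ := hb'.2 ⟨c, hc⟩
  exact ⟨u, u.2, congrArg Subtype.val hu⟩

theorem isZT : IsZT G (Sylow p G) where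
  two := fun {a b c d} hab hcd => by
    obtain ⟨g, hg⟩ := exists_smul_eq G a c
    obtain ⟨u, hu, e⟩ := h.exists_smul (a := c) (b := g • b) (c := d)
      (fun e => hab (smul_left_cancel g (hg.trans e.symm))) hcd.symm
    refine ⟨u * g, ?_, by rw [mul_smul, e]⟩
    rw [mul_smul, hg]
    exact Sylow.smul_eq_iff_mem_normalizer.mpr (le_normalizer hu)
  three := fun {g a b c} hab hbc hac ha hb hc => by
    obtain ⟨u, hu, e⟩ := h.exists_smul hab.symm hac.symm
    have hu1 : u ≠ 1 := by rintro rfl; exact hbc (by simpa using e)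
    have h1 : g * u * g⁻¹ ∈ (a : Subgroup G) :=
      (mem_normalizer_iff.mp (Sylow.smul_eq_iff_mem_normalizer.mp ha) u).mp hu
    have h2 : u⁻¹ * (g * u * g⁻¹) = 1 := by
      by_contra hne
      refine hab (h.eq_of_smul (mul_mem (inv_mem hu) h1) hne ?_).symm
      rw [mul_smul, mul_smul, mul_smul, inv_smul_eq_iff.mpr hb.symm, e, hc, ← e, inv_smul_smul]
    have h3 : g ∈ (a : Subgroup G) := h.cent_eq hu hu1 ▸ mem_cent'.mpr (inv_mul_eq_one.mp h2).symm
    by_contra hne
    exact hab (h.eq_of_smul h3 hne hb).symm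
  third := fun a b => by
    by_contra hne
    push Not at hne
    have h1 : (Set.univ : Set (Sylow p G)) ⊆ {a, b} := fun c _ => by
      by_cases hc : c = a
      · exact Or.inl hc
      · exact Or.inr (hne c hc)
    have h2 := Set.ncard_le_ncard h1
    rw [Set.ncard_univ, h.card_points] at h2
    have h3 := Set.ncard_insert_le a {b}
    rw [Set.ncard_singleton] at h3
    have := h.three_le
    omega
  nonempty := inferInstance

theorem isKer (a : Sylow p G) : IsKer a (a : Subgroup G) :=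
  h.isZT.isKer_of_card
    (fun _ hu => Sylow.smul_eq_iff_mem_normalizer.mpr (le_normalizer hu))
    (by rw [h.card_points, h.card_sylow]) fun _ hu h1 _ hc => h.eq_of_smul hu h1 hc

theorem card_stab2 {a b : Sylow p G} (hb : b ≠ a) :
    Nat.card ↥(stabilizer G a ⊓ stabilizer G b) = q - 1 := by
  have e := (h.isKer a).card_eq h.isZT hb
  rw [h.card, h.card_sylow] at e
  have h3 := h.three_le
  obtain ⟨r, rfl⟩ : ∃ r, q = r + 1 := ⟨q - 1, by omega⟩
  rw [show (r + 1) ^ 2 - 1 = r * (r + 2) from Nat.sub_eq_of_eq_add (by ring)] at e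
  refine Nat.eq_of_mul_eq_mul_left (show 0 < (r + 1 + 1) * (r + 1) by positivity) ?_
  rw [mul_assoc, ← e, Nat.add_sub_cancel]; ring

theorem inverts {a : Sylow p G} {t u : G} (ht : orderOf t = 2) (hta : t • a = a)
    (hu : u ∈ (a : Subgroup G)) : t * u * t⁻¹ = u⁻¹ := by
  have h1 : t * u * t⁻¹ ∈ (a : Subgroup G) :=
    (mem_normalizer_iff.mp (Sylow.smul_eq_iff_mem_normalizer.mp hta) u).mp hu
  have ht2 : t * t = 1 := by rw [← pow_two, ← ht, pow_orderOf_eq_one]
  by_contra hne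
  have h2 : u * (t * u * t⁻¹) ≠ 1 := fun e => hne (eq_inv_of_mul_eq_one_right e)
  have h3 : t ∈ (a : Subgroup G) := by
    rw [← h.cent_eq (mul_mem hu h1) h2, mem_cent', h.sylow_comm a hu h1]
    calc t * (t * u * t⁻¹ * u) * t⁻¹ = (t * t) * u * (t⁻¹ * u * t⁻¹) := by group
      _ = u * (t * u * t⁻¹) := by rw [ht2, one_mul, ← eq_inv_of_mul_eq_one_right ht2]
      _ = _ := h.sylow_comm a hu h1
  have := h.orderOf_mem h3 (by rintro rfl; simp at ht)
  exact h.odd (this.symm.trans ht)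

theorem card_fix_le (a : Sylow p G) : Nat.card {t : G // orderOf t = 2 ∧ t • a = a} ≤ q := by
  rcases isEmpty_or_nonempty {t : G // orderOf t = 2 ∧ t • a = a} with he | ⟨⟨s, hs, hsa⟩⟩
  · simp
  have h3 := h.three_le
  have : Nontrivial (a : Subgroup G) := Finite.one_lt_card_iff_nontrivial.mp
    (by rw [h.card_sylow]; omega)
  obtain ⟨⟨u, hu⟩, hu1⟩ := exists_ne (1 : (a : Subgroup G))
  have hu1' : u ≠ 1 := fun e => hu1 (Subtype.ext e)
  rw [← h.card_sylow a]
  refine Nat.card_le_card_of_injective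
    (fun t => (⟨s * t.1, ?_⟩ : (a : Subgroup G))) fun t t' e =>
      Subtype.ext (mul_left_cancel (congrArg Subtype.val e))
  rw [← h.cent_eq hu hu1', mem_cent']
  calc s * t.1 * u * (s * t.1)⁻¹ = s * (t.1 * u * t.1⁻¹) * s⁻¹ := by group
    _ = u := by rw [h.inverts t.2.1 t.2.2 hu, h.inverts hs hsa (inv_mem hu), inv_inv]

theorem exists_swap (a : Sylow p G) : ∃ b : Sylow p G, b ≠ a ∧ ∃ t : G, t * t = 1 ∧ t • a = b ∧
    t • b = a ∧ ∀ x ∈ stabilizer G a ⊓ stabilizer G b, t * x * t⁻¹ = x⁻¹ := by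
  classical
  have := Fintype.ofFinite G
  have := Fintype.ofFinite (Sylow p G)
  have h3 := h.three_le
  have e1 := card_split (fun t : G => orderOf t = 2) fun t => t • a = a
  have e2 := h.card_fix_le a
  have e3 := h.two
  have e4 := h.card_points
  rw [Nat.card_eq_fintype_card] at e4
  rw [Nat.subtype_card (p := fun t : G => orderOf t = 2 ∧ ¬ t • a = a)
    (Finset.univ.filter fun t : G => orderOf t = 2 ∧ ¬ t • a = a) (by simp)] at e1
  obtain ⟨b, hb, hcard⟩ := Finset.exists_lt_card_fiber_of_mul_lt_card_of_maps_to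
    (s := Finset.univ.filter fun t : G => orderOf t = 2 ∧ ¬ t • a = a)
    (t := Finset.univ.erase a) (f := fun t => t • a) (n := q - 2)
    (fun t ht => by simpa using (Finset.mem_filter.mp ht).2.2) (by
      rw [Finset.card_erase_of_mem (Finset.mem_univ _), Finset.card_univ, e4, Nat.add_sub_cancel]
      obtain ⟨r, rfl⟩ : ∃ r, q = r + 2 := ⟨q - 2, by omega⟩
      rw [Nat.add_sub_cancel]
      have : mo G 2 = Nat.card {t : G // orderOf t = 2} := rfl
      nlinarith)
  have hba : b ≠ a := by simpa using hb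
  set Fb := (Finset.univ.filter fun t : G => orderOf t = 2 ∧ ¬ t • a = a).filter
    fun t => t • a = b with hFb
  have mem : ∀ t ∈ Fb, t * t = 1 ∧ t • a = b ∧ t • b = a := fun t ht => by
    simp only [hFb, Finset.mem_filter, Finset.mem_univ, true_and] at ht
    have ht2 : t * t = 1 := by rw [← pow_two, ← ht.1.1, pow_orderOf_eq_one]
    exact ⟨ht2, ht.2, by rw [← ht.2, ← mul_smul, ht2, one_smul]⟩
  obtain ⟨s, hs⟩ := Finset.card_pos.mp (show 0 < Fb.card by omega)
  obtain ⟨s1, s2, s3⟩ := mem s hs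
  let f : Fb → ↥(stabilizer G a ⊓ stabilizer G b) := fun t => ⟨s * t.1, mem_stab2.mpr
    ⟨by rw [mul_smul, (mem _ t.2).2.1, s3], by rw [mul_smul, (mem _ t.2).2.2, s2]⟩⟩
  have hf : Function.Injective f := fun t t' e =>
    Subtype.ext (mul_left_cancel (congrArg Subtype.val e))
  have hb' := hf.bijective_of_nat_card_le (by
    rw [h.card_stab2 hba, Nat.card_eq_finsetCard]; omega)
  refine ⟨b, hba, s, s1, s2, s3, fun x hx => ?_⟩
  obtain ⟨t, ht⟩ := hb'.2 ⟨x, hx⟩
  have ht' : s * t.1 = x := congrArg Subtype.val ht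
  rw [← ht', ← mul_assoc, s1, one_mul, mul_inv_rev, ← eq_inv_of_mul_eq_one_right (mem _ t.2).1]

theorem exists_iso : ∃ (F : Type) (_ : Field F) (_ : Fintype F), Fintype.card F = q ∧
    Nonempty (G ≃* PGL(2, F)) := by
  obtain ⟨a⟩ : Nonempty (Sylow p G) := inferInstance
  obtain ⟨b, hb, t, ht, hta, htb, hinv⟩ := h.exists_swap a
  have h3 := h.three_le
  have e1 := h.card_stab2 hb
  have e2 := h.card_sylow a
  obtain ⟨F, _, _, hF, hh⟩ := (h.isKer a).exists_iso h.isZT hb.symm (by omega) ht hta htb hinv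
  refine ⟨F, inferInstance, inferInstance, hF.trans e2, ?_⟩
  rcases hh with ⟨-, h4, -⟩ | ⟨h4, -⟩
  · exact h4
  · omega

end Hyp

end Cfsg.Agent.FG.NsePGL
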