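import Mathlib
import Cfsg.Agent.FG.PermEnum

/-! Element orders of one of the groups in the example of a solvable and a non-solvable group of the
same order type. -/

set_option autoImplicit false
set_option maxRecDepth 4000

namespace Cfsg.Agent.FG.OT

open Cfsg.Agent.FG.PE

/-! ### G1 -/


def G1g0 : ℕ := 213814152193

def G1S0 : List ℕ := G1g0 :: []

def G1T0 : List (List ℕ × List ℕ) := [([], []), ([G1g0], [G1g0])]

def G1C0 : List ℕ := [247132686368, 213814152193]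

theorem G1E0 : Enum 8 G1S0 G1C0 := by
  have h : next 8 G1T0 [idc 8] = G1C0 := by decide +kernel
  exact h ▸ Enum.step (by norm_num) enum_nil (by decide +kernel)

theorem G1sol0 : Group.IsSolvable (grp 8 G1S0) :=
  Enum.isSolvable_cons (by norm_num) enum_nil isSolvable_nil G1g0 (by decide +kernel) (by decide +kernel)

def G1g1 : ℕ := 176334864482

def G1S1 : List ℕ := G1g1 :: G1S0

def G1T1 : List (List ℕ × List ℕ) := [([], []), ([G1g1], [G1g1])]

def G1C1 : List ℕ := [247132686368, 213814152193, 176334864482, 143016330307]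

theorem G1E1 : Enum 8 G1S1 G1C1 := by
  have h : next 8 G1T1 G1C0 = G1C1 := by decide +kernel
  exact h ▸ Enum.step (by norm_num) G1E0 (by decide +kernel)

theorem G1sol1 : Group.IsSolvable (grp 8 G1S1) :=
  Enum.isSolvable_cons (by norm_num) G1E0 G1sol0 G1g1 (by decide +kernel) (by decide +kernel)

def G1g2 : ℕ := 105260488868

def G1S2 : List ℕ := G1g2 :: G1S1

def G1T2 : List (List ℕ × List ℕ) := [([], []), ([G1g2], [G1g2])]

def G1C2 : List ℕ := [247132686368, 213814152193, 176334864482, 143016330307, 105260488868, 71941954693,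
    34462666982, 1144132807]

theorem G1E2 : Enum 8 G1S2 G1C2 := by
  have h : next 8 G1T2 G1C1 = G1C2 := by decide +kernel
  exact h ▸ Enum.step (by norm_num) G1E1 (by decide +kernel)

theorem G1sol2 : Group.IsSolvable (grp 8 G1S2) :=
  Enum.isSolvable_cons (by norm_num) G1E1 G1sol1 G1g2 (by decide +kernel) (by decide +kernel)

def G1g3 : ℕ := 179351785536

def G1S3 : List ℕ := G1g3 :: G1S2

def G1T3 : List (List ℕ × List ℕ) := [([], []), ([G1g3], [G1g3, G1g3, G1g3, G1g3, G1g3, G1g3]), ([G1g3, G1g3],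
    [G1g3, G1g3, G1g3, G1g3, G1g3, G1g3, G1g3, G1g3, G1g3, G1g3, G1g3, G1g3]), ([G1g3, G1g3, G1g3], [G1g3,
    G1g3, G1g3, G1g3, G1g3, G1g3, G1g3, G1g3, G1g3, G1g3, G1g3, G1g3, G1g3, G1g3, G1g3, G1g3, G1g3, G1g3]),
    ([G1g3, G1g3, G1g3, G1g3], [G1g3, G1g3, G1g3, G1g3, G1g3, G1g3, G1g3, G1g3, G1g3, G1g3, G1g3, G1g3, G1g3,
    G1g3, G1g3, G1g3, G1g3, G1g3, G1g3, G1g3, G1g3, G1g3, G1g3, G1g3]), ([G1g3, G1g3, G1g3, G1g3, G1g3],
    [G1g3, G1g3, G1g3, G1g3, G1g3, G1g3, G1g3, G1g3, G1g3, G1g3, G1g3, G1g3, G1g3, G1g3, G1g3, G1g3, G1g3,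
    G1g3, G1g3, G1g3, G1g3, G1g3, G1g3, G1g3, G1g3, G1g3, G1g3, G1g3, G1g3, G1g3]), ([G1g3, G1g3, G1g3, G1g3,
    G1g3, G1g3], [G1g3, G1g3, G1g3, G1g3, G1g3, G1g3, G1g3, G1g3, G1g3, G1g3, G1g3, G1g3, G1g3, G1g3, G1g3,
    G1g3, G1g3, G1g3, G1g3, G1g3, G1g3, G1g3, G1g3, G1g3, G1g3, G1g3, G1g3, G1g3, G1g3, G1g3, G1g3, G1g3,
    G1g3, G1g3, G1g3, G1g3])]

def G1C3 : List ℕ := [247132686368, 213814152193, 176334864482, 143016330307, 105260488868, 71941954693,
    34462666982, 1144132807, 179351785536, 245988726786, 37756141764, 104393083014, 210520677411,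
    143883736161, 68925033639, 2288092389, 39802080384, 173075962884, 75200856291, 208474738791, 243873649734,
    110599767234, 137677051941, 4403169441, 69934946400, 36746499075, 145023402150, 244848790725,
    178341872775, 211530320100, 103253417025, 3428028450, 139692383424, 73185592326, 108584435751,
    175091226849, 42077390949, 241598271651, 206199428226, 6678547524, 107576628448, 140700190727,
    207337259077, 40939560098, 74323169473, 173953649702, 240590718052, 7686101123, 209616766112,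
    109596151813, 242870288513, 76342629412, 138680667362, 38660053063, 171934189763, 5406530662]

theorem G1E3 : Enum 8 G1S3 G1C3 := by
  have h : next 8 G1T3 G1C2 = G1C3 := by decide +kernel
  exact h ▸ Enum.step (by norm_num) G1E2 (by decide +kernel)

theorem G1sol3 : Group.IsSolvable (grp 8 G1S3) :=
  Enum.isSolvable_cons (by norm_num) G1E2 G1sol2 G1g3 (by decide +kernel) (by decide +kernel)

def G1g4 : ℕ := 105468039200

def G1S4 : List ℕ := G1g4 :: G1S3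

def G1T4 : List (List ℕ × List ℕ) := [([], []), ([G1g4], [G1g4, G1g4]), ([G1g4, G1g4], [G1g4, G1g4, G1g4,
    G1g4])]

theorem G1E4 : Enum 8 G1S4 (next 8 G1T4 G1C3) :=
  Enum.step (by norm_num) G1E3 (by decide +kernel)

def G1O : List ℕ := [1, 2, 2, 2, 2, 2, 2, 2, 7, 7, 7, 7, 7, 7, 7, 7, 7, 7, 7, 7, 7, 7, 7, 7, 7, 7, 7, 7, 7, 7,
    7, 7, 7, 7, 7, 7, 7, 7, 7, 7, 7, 7, 7, 7, 7, 7, 7, 7, 7, 7, 7, 7, 7, 7, 7, 7, 3, 6, 3, 6, 3, 6, 3, 6, 3,
    3, 6, 6, 3, 3, 6, 6, 3, 3, 6, 6, 6, 6, 3, 3, 3, 6, 6, 3, 3, 6, 6, 3, 3, 3, 3, 3, 6, 6, 6, 6, 3, 6, 3, 6,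
    6, 3, 6, 3, 3, 6, 6, 3, 6, 3, 3, 6, 3, 6, 3, 6, 3, 6, 3, 6, 3, 6, 6, 3, 3, 6, 6, 3, 3, 6, 6, 3, 6, 3, 3,
    6, 3, 3, 6, 6, 6, 6, 3, 3, 3, 6, 3, 6, 6, 3, 6, 3, 3, 3, 6, 6, 3, 3, 6, 6, 3, 3, 3, 3, 6, 6, 6, 6]

theorem G1_card (d : ℕ) : Nat.card {g : grp 8 G1S4 // g ^ d = 1} = G1O.countP fun m => decide (m ∣ d) :=
  Enum.card_pow_eq_one (by norm_num) G1E4 (by decide +kernel) (by decide +kernel) d

theorem G1sol4 : Group.IsSolvable (grp 8 G1S4) :=
  Enum.isSolvable_cons (by norm_num) G1E3 G1sol3 G1g4 (by decide +kernel) (by decide +kernel)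

end Cfsg.Agent.FG.OT
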