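import Mathlib
import Cfsg.Agent.FG.PermEnum

/-! Element orders of one of the groups in the example of a solvable and a non-solvable group of the
same order type. -/

set_option autoImplicit false
set_option maxRecDepth 4000

namespace Cfsg.Agent.FG.OT

open Cfsg.Agent.FG.PE

/-! ### H4 -/


def H4g0 : ℕ := 240724872257

def H4S0 : List ℕ := H4g0 :: []

def H4T0 : List (List ℕ × List ℕ) := [([], []), ([H4g0], [H4g0, H4g0, H4g0, H4g0, H4g0, H4g0]), ([H4g0, H4g0],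
    [H4g0, H4g0, H4g0, H4g0, H4g0, H4g0, H4g0, H4g0, H4g0, H4g0, H4g0, H4g0]), ([H4g0, H4g0, H4g0], [H4g0,
    H4g0, H4g0, H4g0, H4g0, H4g0, H4g0, H4g0, H4g0, H4g0, H4g0, H4g0, H4g0, H4g0, H4g0, H4g0, H4g0, H4g0]),
    ([H4g0, H4g0, H4g0, H4g0], [H4g0, H4g0, H4g0, H4g0, H4g0, H4g0, H4g0, H4g0, H4g0, H4g0, H4g0, H4g0, H4g0,
    H4g0, H4g0, H4g0, H4g0, H4g0, H4g0, H4g0, H4g0, H4g0, H4g0, H4g0]), ([H4g0, H4g0, H4g0, H4g0, H4g0],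
    [H4g0, H4g0, H4g0, H4g0, H4g0, H4g0, H4g0, H4g0, H4g0, H4g0, H4g0, H4g0, H4g0, H4g0, H4g0, H4g0, H4g0,
    H4g0, H4g0, H4g0, H4g0, H4g0, H4g0, H4g0, H4g0, H4g0, H4g0, H4g0, H4g0, H4g0]), ([H4g0, H4g0, H4g0, H4g0,
    H4g0, H4g0], [H4g0, H4g0, H4g0, H4g0, H4g0, H4g0, H4g0, H4g0, H4g0, H4g0, H4g0, H4g0, H4g0, H4g0, H4g0,
    H4g0, H4g0, H4g0, H4g0, H4g0, H4g0, H4g0, H4g0, H4g0, H4g0, H4g0, H4g0, H4g0, H4g0, H4g0, H4g0, H4g0,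
    H4g0, H4g0, H4g0, H4g0])]

def H4C0 : List ℕ := [247132686368, 240724872257, 241598369890, 242699408515, 243807557796, 244915929285,
    246024307718]

theorem H4E0 : Enum 8 H4S0 H4C0 := by
  have h : next 8 H4T0 [idc 8] = H4C0 := by decide +kernel
  exact h ▸ Enum.step (by norm_num) enum_nil (by decide +kernel)

def H4g1 : ℕ := 244852004960

def H4S1 : List ℕ := H4g1 :: H4S0

def H4T1 : List (List ℕ × List ℕ) := [([], []), ([H4g1], [H4g1, H4g1, H4g1, H4g1, H4g1]), ([H4g1, H4g1],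
    [H4g1, H4g1, H4g1, H4g1, H4g1, H4g1, H4g1, H4g1, H4g1, H4g1]), ([H4g1, H4g1, H4g1], [H4g1, H4g1, H4g1,
    H4g1, H4g1, H4g1, H4g1, H4g1, H4g1, H4g1, H4g1, H4g1, H4g1, H4g1, H4g1]), ([H4g1, H4g1, H4g1, H4g1],
    [H4g1, H4g1, H4g1, H4g1, H4g1, H4g1, H4g1, H4g1, H4g1, H4g1, H4g1, H4g1, H4g1, H4g1, H4g1, H4g1, H4g1,
    H4g1, H4g1, H4g1]), ([H4g1, H4g1, H4g1, H4g1, H4g1], [H4g1, H4g1, H4g1, H4g1, H4g1, H4g1, H4g1, H4g1,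
    H4g1, H4g1, H4g1, H4g1, H4g1, H4g1, H4g1, H4g1, H4g1, H4g1, H4g1, H4g1, H4g1, H4g1, H4g1, H4g1, H4g1])]

def H4C1 : List ℕ := [247132686368, 240724872257, 241598369890, 242699408515, 243807557796, 244915929285,
    246024307718, 244852004960, 240653600963, 243743626310, 247061415074, 242870128677, 245960376449,
    241761979396, 245988790336, 240689125506, 242670994628, 244880411686, 247096939617, 241797496995,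
    243779373061, 241662301376, 240553922726, 246961736837, 246088239204, 244987200579, 243879051298,
    242770679809, 243942982784, 240625194020, 244816480417, 241726232645, 245924629698, 242834604134,
    247033008131, 242806197408, 240589669477, 245889112099, 243907236033, 241697818758, 246997483588,
    245015614466]

theorem H4E1 : Enum 8 H4S1 H4C1 := by
  have h : next 8 H4T1 H4C0 = H4C1 := by decide +kernel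
  exact h ▸ Enum.step (by norm_num) H4E0 (by decide +kernel)

def H4g2 : ℕ := 1213271239

def H4S2 : List ℕ := H4g2 :: H4S1

def H4T2 : List (List ℕ × List ℕ) := [([], []), ([H4g2], [H4g2]), ([H4g0, H4g2], [H4g2, H4g0, H4g0, H4g0,
    H4g0, H4g0, H4g0]), ([H4g2, H4g0, H4g2], [H4g2, H4g0, H4g0, H4g0, H4g0, H4g0, H4g0, H4g2]), ([H4g1, H4g0,
    H4g2], [H4g2, H4g0, H4g0, H4g0, H4g0, H4g0, H4g0, H4g1, H4g1, H4g1, H4g1, H4g1]), ([H4g0, H4g0, H4g2],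
    [H4g2, H4g0, H4g0, H4g0, H4g0, H4g0, H4g0, H4g0, H4g0, H4g0, H4g0, H4g0, H4g0]), ([H4g1, H4g2, H4g0,
    H4g2], [H4g2, H4g0, H4g0, H4g0, H4g0, H4g0, H4g0, H4g2, H4g1, H4g1, H4g1, H4g1, H4g1]), ([H4g2, H4g1,
    H4g2, H4g0, H4g2], [H4g2, H4g0, H4g0, H4g0, H4g0, H4g0, H4g0, H4g2, H4g1, H4g1, H4g1, H4g1, H4g1, H4g2])]

theorem H4E2 : Enum 8 H4S2 (next 8 H4T2 H4C1) :=
  Enum.step (by norm_num) H4E1 (by decide +kernel)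

def H4O : List ℕ := [1, 7, 7, 7, 7, 7, 7, 6, 6, 6, 6, 6, 6, 6, 3, 3, 3, 3, 3, 3, 3, 2, 2, 2, 2, 2, 2, 2, 3, 3,
    3, 3, 3, 3, 3, 6, 6, 6, 6, 6, 6, 6, 2, 3, 7, 4, 4, 7, 3, 2, 6, 8, 8, 8, 8, 6, 2, 4, 3, 7, 7, 3, 4, 2, 8,
    6, 8, 8, 6, 8, 2, 7, 4, 3, 3, 4, 7, 2, 8, 8, 6, 6, 8, 8, 3, 7, 4, 4, 7, 3, 2, 6, 8, 8, 8, 8, 6, 2, 4, 3,
    7, 7, 3, 4, 2, 8, 6, 8, 8, 6, 8, 2, 7, 4, 3, 3, 4, 7, 2, 8, 8, 6, 6, 8, 8, 2, 7, 3, 2, 3, 7, 4, 4, 6, 8,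
    8, 8, 8, 6, 2, 3, 7, 7, 3, 4, 2, 4, 2, 8, 6, 8, 8, 6, 8, 3, 4, 7, 2, 7, 4, 3, 6, 6, 8, 8, 2, 8, 8, 6, 6,
    8, 8, 2, 8, 8, 4, 4, 7, 3, 2, 3, 7, 8, 8, 8, 6, 2, 6, 8, 7, 7, 3, 4, 2, 4, 3, 8, 8, 6, 8, 2, 8, 6, 3, 3,
    4, 7, 2, 7, 4, 7, 4, 4, 7, 3, 2, 3, 8, 8, 8, 8, 6, 2, 6, 3, 7, 7, 3, 4, 2, 4, 6, 8, 8, 6, 8, 2, 8, 4, 3,
    3, 4, 7, 2, 7, 8, 6, 6, 8, 8, 2, 8, 6, 6, 8, 8, 2, 8, 8, 3, 2, 3, 7, 4, 4, 7, 2, 6, 8, 8, 8, 8, 6, 3, 4,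
    2, 4, 3, 7, 7, 6, 8, 8, 6, 8, 2, 8, 7, 4, 3, 3, 4, 7, 2, 8, 6, 2, 6, 8, 8, 8, 3, 4, 2, 4, 3, 7, 7, 6, 8,
    2, 8, 6, 8, 8, 4, 7, 2, 7, 4, 3, 3, 8, 8, 2, 8, 8, 6, 6, 7, 3, 2, 3, 7, 4, 4]

theorem H4_card (d : ℕ) : Nat.card {g : grp 8 H4S2 // g ^ d = 1} = H4O.countP fun m => decide (m ∣ d) :=
  Enum.card_pow_eq_one (by norm_num) H4E2 (by decide +kernel) (by decide +kernel) d

end Cfsg.Agent.FG.OT
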