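import Mathlib
import Cfsg.Agent.GT.Hall
import Cfsg.Agent.GT.Conj
import Cfsg.Agent.GT.MinNormal
import Cfsg.Agent.GT.CoprimeProd
import Cfsg.Agent.Loc.MssSyl

/-!
# π-homogeneous and π-closed groups

`Closed π G`: `G` has a normal Hall π-subgroup. `Hom π G`: every π'-element normalising a
π-subgroup centralises it (`N(H)/C(H)` is a π-group).
-/

set_option autoImplicit false
set_option linter.unusedSectionVars false

namespace Cfsg.Agent.FG.PH

open Subgroup Cfsg.Agent.GT Cfsg.Agent.Loc.Mss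

universe u

variable {G : Type*} [Group G] {G' : Type*} [Group G'] {π : Set ℕ}

/-- `G` has a normal Hall π-subgroup. -/
def Closed (π : Set ℕ) (G : Type*) [Group G] : Prop := ∃ K : Subgroup G, K.Normal ∧ IsPiHall π K

/-- `G` is π-homogeneous. -/
def Hom (π : Set ℕ) (G : Type*) [Group G] : Prop :=
  ∀ H : Subgroup G, IsPiNum π (Nat.card H) → ∀ x ∈ normalizer (H : Set G),
    IsPiNum πᶜ (orderOf x) → x ∈ centralizer (H : Set G)

theorem eq_of_map_piPart {f : G →* G'} {x a b : G} (ha : a ∈ zpowers x)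
    (ha' : IsPiNum π (orderOf a)) (e : x = a * b) (hx : IsPiNum πᶜ (orderOf (f x))) :
    f x = f b := by
  obtain ⟨k, rfl⟩ := mem_zpowers_iff.1 ha
  have h1 : orderOf (f (x ^ k)) = 1 := (ha'.of_dvd (orderOf_map_dvd f _)).eq_one
    (hx.of_dvd (by rw [map_zpow]; exact orderOf_dvd_of_mem_zpowers (zpow_mem_zpowers _ _)))
  conv_lhs => rw [e, map_mul, orderOf_eq_one_iff.1 h1, one_mul]

variable [Finite G]

theorem exists_lift {f : G →* G'} (x : G) (hx : IsPiNum π (orderOf (f x))) :
    ∃ b ∈ zpowers x, IsPiNum π (orderOf b) ∧ f b = f x := by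
  obtain ⟨a, b, ha, hb, ha', hb', -, e⟩ := exists_piPart_elem πᶜ x
  rw [compl_compl] at hb'
  exact ⟨b, hb, hb', (eq_of_map_piPart ha ha' e (by rwa [compl_compl])).symm⟩

theorem closed_iff : Closed π G ↔ ∃ K : Subgroup G, ∀ x : G, x ∈ K ↔ IsPiNum π (orderOf x) := by
  constructor
  · rintro ⟨K, hn, hK⟩
    exact ⟨K, fun x => ⟨hK.card.orderOf_mem, hK.mem_of_normal⟩⟩
  · rintro ⟨K, hK⟩
    have hn : K.Normal := ⟨fun x hx g => by rw [hK, orderOf_conj, ← hK]; exact hx⟩
    refine ⟨K, hn, isPiHall_iff.2 ⟨isPiNum_card_subgroup_iff_orderOf.2 fun x => (hK x).1, ?_⟩⟩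
    intro p hp hd hpπ
    have := Fact.mk hp
    obtain ⟨y, hy⟩ := exists_prime_orderOf_dvd_card' (G := G ⧸ K) p hd
    obtain ⟨x, rfl⟩ := QuotientGroup.mk'_surjective K y
    obtain ⟨b, -, hb, e⟩ := exists_lift (π := π) (f := QuotientGroup.mk' K) x
      (hy ▸ isPiNum_of_prime_mem hp hpπ)
    rw [← e, QuotientGroup.mk'_apply, (QuotientGroup.eq_one_iff b).2 ((hK b).2 hb),
      orderOf_one] at hy
    exact hp.one_lt.ne hy

theorem closed_of_isPiNum (h : IsPiNum π (Nat.card G)) : Closed π G :=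
  ⟨⊤, inferInstance, isPiHall_iff.2 ⟨by rwa [card_top], by rw [index_top]; exact isPiNum_one _⟩⟩

theorem closed_of_isPiNum_compl (h : IsPiNum πᶜ (Nat.card G)) : Closed π G :=
  ⟨⊥, inferInstance, isPiHall_iff.2 ⟨isPiNum_card_bot _, by rwa [index_bot]⟩⟩

theorem Closed.of_surjective (h : Closed π G) {f : G →* G'} (hf : Function.Surjective f) :
    Closed π G' := by
  obtain ⟨K, hn, hK⟩ := h
  exact ⟨K.map f, hn.map f hf, hK.map_of_surjective hf⟩

theorem Closed.of_injective [Finite G'] (h : Closed π G) {f : G' →* G} (hf : Function.Injective f) :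
    Closed π G' := by
  obtain ⟨K, hK⟩ := closed_iff.1 h
  exact closed_iff.2 ⟨K.comap f, fun x => by rw [mem_comap, hK, orderOf_injective f hf]⟩

theorem Closed.subgroup (h : Closed π G) (H : Subgroup G) : Closed π H :=
  h.of_injective H.subtype_injective

theorem Closed.quotient (h : Closed π G) (N : Subgroup G) [N.Normal] : Closed π (G ⧸ N) :=
  h.of_surjective (QuotientGroup.mk'_surjective N)

theorem Closed.isPiNum_or [IsSimpleGroup G] (h : Closed π G) :
    IsPiNum π (Nat.card G) ∨ IsPiNum πᶜ (Nat.card G) := by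
  obtain ⟨K, hn, hK⟩ := h
  rcases hn.eq_bot_or_eq_top with rfl | rfl
  · exact Or.inr (by simpa using hK.index)
  · exact Or.inl (by simpa using hK.card)

theorem Closed.isPiSeparable (h : Closed π G) : IsPiSeparable π G := by
  obtain ⟨K, hn, hK⟩ := h
  exact IsPiSeparable.extension K (isPiSeparable_of_isPiNum hK.card)
    (isPiSeparable_of_isPiNum_compl hK.index)

/-- A normal Hall π-subgroup of a subgroup `M`, in the ambient group. -/
theorem Closed.exists_sub {M : Subgroup G} (h : Closed π M) :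
    ∃ K : Subgroup G, IsPiHallOf π K M ∧ ∀ x ∈ M, x ∈ K ↔ IsPiNum π (orderOf x) := by
  obtain ⟨K, hn, hK⟩ := h
  refine ⟨K.map M.subtype, hK.map_subtype, fun x hx =>
    ⟨hK.map_subtype.card.orderOf_mem, fun h => ?_⟩⟩
  exact ⟨⟨x, hx⟩, hK.mem_of_normal (by rwa [← orderOf_mk x hx] at h), rfl⟩

theorem Closed.hom (h : Closed πᶜ G) : Hom π G := by
  obtain ⟨K, hn, hK⟩ := h
  intro H hH x hx ho y hy
  have h1 : x * y * x⁻¹ * y⁻¹ ∈ H ⊓ K := ⟨H.mul_mem (conj_mem_of_mem_normalizer hx hy)
      (H.inv_mem hy), by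
    rw [mul_assoc, mul_assoc, ← mul_assoc y]
    exact K.mul_mem (hK.mem_of_normal ho) (hn.conj_mem _ (K.inv_mem (hK.mem_of_normal ho)) y)⟩
  rw [hH.inf_eq_bot hK.card, mem_bot, mul_inv_eq_one, mul_inv_eq_iff_eq_mul] at h1
  exact h1.symm

theorem hom_iff : Hom π G ↔ ∀ H : Subgroup G, H ≠ ⊥ → IsPiNum π (Nat.card H) →
    IsPiNum π ((centralizer (H : Set G)).relIndex (normalizer (H : Set G))) := by
  constructor
  · intro h H _ hH p hp hd
    by_contra hpπ
    have := Fact.mk hp
    have : ((centralizer (H : Set G)).subgroupOf (normalizer (H : Set G))).Normal :=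
      inferInstance
    obtain ⟨y, hy⟩ := exists_prime_orderOf_dvd_card'
      (G := normalizer (H : Set G) ⧸ (centralizer (H : Set G)).subgroupOf _) p hd
    obtain ⟨x, rfl⟩ := QuotientGroup.mk'_surjective _ y
    obtain ⟨b, -, hb, e⟩ := exists_lift (π := πᶜ) (f := QuotientGroup.mk' _) x
      (hy ▸ isPiNum_of_prime_mem hp hpπ)
    rw [← e, QuotientGroup.mk'_apply, (QuotientGroup.eq_one_iff b).2
      (h H hH b b.2 (by rwa [orderOf_coe])), orderOf_one] at hy
    exact hp.one_lt.ne hy
  · intro h H hH x hx ho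
    by_cases hb : H = ⊥
    · rw [hb, centralizer_bot]; trivial
    have : ((centralizer (H : Set G)).subgroupOf (normalizer (H : Set G))).Normal :=
      inferInstance
    exact mem_of_coprime_orderOf_index (N := (centralizer (H : Set G)).subgroupOf _)
      (g := ⟨x, hx⟩) (by rw [orderOf_mk]; exact ((h H hb hH).coprime ho).symm)

theorem hom_of_pgroup (h : ∀ p : ℕ, p.Prime → p ∈ π → ∀ P : Subgroup G, IsPGroup p P →
    ∀ x ∈ normalizer (P : Set G), IsPiNum πᶜ (orderOf x) → x ∈ centralizer (P : Set G)) :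
    Hom π G := by
  intro H hH x hx ho
  have h1 : H ⊓ centralizer {x} = H := by
    by_contra hne
    obtain ⟨p, hp, hd⟩ := Nat.exists_prime_and_dvd
      (show (H ⊓ centralizer {x}).relIndex H ≠ 1 from fun e =>
        hne (le_antisymm inf_le_left (relIndex_eq_one.1 e)))
    have := Fact.mk hp
    obtain ⟨P, hPH, hP, hi, hn⟩ := CopAct.exists_invariant_sylowIn (A := zpowers x) (K := H)
      (zpowers_le.2 hx) (by rw [Nat.card_zpowers]; exact (hH.coprime ho).symm)
      (Or.inl inferInstance) p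
    have hc := h p hp (hH p hp (hd.trans (relIndex_dvd_card _ _))) P hP x (hn (mem_zpowers x)) ho
    exact hi (hd.trans (relIndex_dvd_of_le_left H
      (le_inf hPH (le_centralizer_singleton_iff.2 hc))))
  exact le_centralizer_singleton_iff.1 (h1 ▸ inf_le_right)

theorem Hom.of_injective (h : Hom π G) {f : G' →* G} (hf : Function.Injective f) : Hom π G' := by
  intro H hH x hx ho y hy
  refine hf ?_
  rw [map_mul, map_mul]
  exact h (H.map f) (hH.card_map f) (f x) (map_le_normalizer_map (zpowers_le.2 hx) f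
    ⟨x, mem_zpowers x, rfl⟩) (by rwa [orderOf_injective f hf]) _ ⟨y, hy, rfl⟩

theorem Hom.subgroup (h : Hom π G) (H : Subgroup G) : Hom π H :=
  h.of_injective H.subtype_injective

theorem Hom.of_surjective (h : Hom π G) {f : G →* G'} (hf : Function.Surjective f) : Hom π G' := by
  have : Finite G' := Finite.of_surjective f hf
  refine hom_of_pgroup fun p hp hpπ P hP y hy ho => ?_
  have := Fact.mk hp
  obtain ⟨x, rfl⟩ := hf y
  obtain ⟨T, hT⟩ := Syl.exists p (P.comap f)
  have hTP : T.map f = P := by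
    have h1 := hT.map f
    rw [map_comap_eq_self_of_surjective hf] at h1
    exact (h1.eq_of_le hP h1.le le_rfl).symm
  have hx : x ∈ normalizer (P.comap f : Set G) :=
    le_normalizer_comap_of_map_le (H := zpowers x) (by rwa [MonoidHom.map_zpowers, zpowers_le])
      (mem_zpowers x)
  obtain ⟨m, hm, k, hk, rfl⟩ := hT.frattini hx
  obtain ⟨t, ht, e⟩ : f m ∈ T.map f := hTP ▸ hm
  rw [map_mul, ← e, ← map_mul] at ho ⊢
  obtain ⟨b, hb, hb', e'⟩ := exists_lift (t * k) ho
  rw [← e', ← hTP]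
  exact map_le_centralizer_map (H := zpowers b) (zpowers_le.2
    (h T (isPiNum_of_isPGroup hp hT.pg hpπ) b
      (zpowers_le.2 (mul_mem (le_normalizer ht) hk) hb) hb')) f ⟨b, mem_zpowers b, rfl⟩

theorem Hom.quotient (h : Hom π G) (N : Subgroup G) [N.Normal] : Hom π (G ⧸ N) :=
  h.of_surjective (QuotientGroup.mk'_surjective N)

theorem closed_of_ker {N : Subgroup G} [N.Normal] (hN : IsPiNum π (Nat.card N))
    (h : Closed π (G ⧸ N)) : Closed π G := by
  obtain ⟨K, hn, hK⟩ := h
  exact ⟨K.comap (QuotientGroup.mk' N), hn.comap _, hK.comap_of_surjective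
    (QuotientGroup.mk'_surjective N) (by rwa [QuotientGroup.ker_mk'])⟩

theorem Hom.closed_of_ker (hG : Hom π G) {N : Subgroup G} [N.Normal] (hN : IsPiNum π (Nat.card N))
    (h : Closed πᶜ (G ⧸ N)) : Closed πᶜ G := by
  obtain ⟨L, hL⟩ := (IsPiSeparable.extension N (isPiSeparable_of_isPiNum hN).compl
    h.isPiSeparable).exists_isPiHall
  obtain ⟨K, hn, hK⟩ := h
  have h1 : L.map (QuotientGroup.mk' N) = K :=
    (hL.map_of_surjective (QuotientGroup.mk'_surjective N)).eq_of_le hK.card
      (hK.le_of_normal (hL.card.card_map _))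
  have h2 : (L ⊔ N).Normal := by rw [← comap_map_mk', h1]; exact hn.comap _
  have h3 : N ≤ centralizer (L : Set G) := le_centralizer_iff.1 fun x hx =>
    hG N hN x (by rw [normalizer_eq_top]; trivial) (hL.card.orderOf_mem hx)
  have h4 : L ⊔ N ≤ normalizer (L : Set G) :=
    sup_le le_normalizer (le_normalizer_of_le_centralizer h3)
  refine ⟨L, normal_iff_forall_map_conj.2 fun g => ?_, hL⟩
  exact eq_of_le_of_card_eq (hL.le_of_normalizes (hL.map_conj g).card
    ((map_conj_le_of_normal le_sup_left g).trans h4)) (card_map_conj _ _)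

/-- The extension theorem. -/
theorem Hom.closed_extension (hG : Hom π G) (N : Subgroup G) [N.Normal] (hN : Closed πᶜ N)
    (h : Closed πᶜ (G ⧸ N)) : Closed πᶜ G := by
  obtain ⟨L, hL, hL'⟩ := hN.exists_sub
  have : L.Normal := ⟨fun x hx g => (hL' _ (Normal.conj_mem inferInstance x (hL.le hx) g)).2 (by
    rw [orderOf_conj]; exact hL.card.orderOf_mem hx)⟩
  refine PH.closed_of_ker hL.card ((hG.quotient L).closed_of_ker
    (N := N.map (QuotientGroup.mk' L)) ?_ ?_)
  · rw [card_map_mk'_eq_relIndex, ← compl_compl π]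
    exact hL.relIndex
  · exact h.of_surjective (f := (QuotientGroup.quotientQuotientEquivQuotient L N hL.le).symm)
      (MulEquiv.surjective _)

/-- Reduction to simple sections. -/
theorem closed_of_simple {P : ∀ (G : Type u) [Group G], Prop}
    (hsub : ∀ (G : Type u) [Group G] [Finite G] (H : Subgroup G), P G → P H)
    (hquot : ∀ (G : Type u) [Group G] [Finite G] (N : Subgroup G) [N.Normal], P G → P (G ⧸ N))
    (hs : ∀ (G : Type u) [Group G] [Finite G] [IsSimpleGroup G], P G → Hom π G →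
      (∀ M : Subgroup G, M ≠ ⊤ → Closed πᶜ M) → Closed πᶜ G)
    (G : Type u) [Group G] [Finite G] : P G → Hom π G → Closed πᶜ G := by
  refine subgroup_quotient_induction (P := fun G _ _ => P G → Hom π G → Closed πᶜ G) ?_ G
  intro G _ _ ih1 ih2 hP hG
  have h1 : ∀ M : Subgroup G, M ≠ ⊤ → Closed πᶜ M := fun M hM =>
    ih1 M hM (hsub G M hP) (hG.subgroup M)
  by_cases hn : ∃ N : Subgroup G, N.Normal ∧ N ≠ ⊥ ∧ N ≠ ⊤
  · obtain ⟨N, hN, hb, ht⟩ := hn
    exact hG.closed_extension N (h1 N ht) (ih2 N hb (hquot G N hP) (hG.quotient N))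
  · rcases subsingleton_or_nontrivial G with h0 | h0
    · exact closed_of_isPiNum (by rw [Nat.card_of_subsingleton (1 : G)]; exact isPiNum_one _)
    · have : IsSimpleGroup G := ⟨fun N hN => by
        by_contra hc
        exact hn ⟨N, hN, fun e => hc (Or.inl e), fun e => hc (Or.inr e)⟩⟩
      exact hs G hP hG h1

/-- Baer's theorem. -/
theorem Hom.closed_of_isPiSeparable (hG : Hom π G) (h : IsPiSeparable π G) : Closed πᶜ G :=
  closed_of_simple (P := fun G _ => IsPiSeparable π G) (fun _ _ _ H h => h.subgroup H)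
    (fun _ _ _ N _ h => h.quotient N) (fun G _ _ _ h _ _ => by
      obtain ⟨M, hM, h1, h2⟩ := h.exists_step ⊥ bot_ne_top
      obtain rfl := hM.eq_bot_or_eq_top.resolve_left h1.ne'
      rw [relIndex_top_right, index_bot] at h2
      exact h2.elim (fun h => closed_of_isPiNum_compl (by rwa [compl_compl])) closed_of_isPiNum)
    G h hG

end Cfsg.Agent.FG.PH
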