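import Mathlib
import Cfsg.Agent.FG.PiHomog
import Cfsg.Agent.GT.TransferFrobenius
import Cfsg.Agent.GT.TransferAbelian
import Cfsg.Agent.Cl.PSL2Fields
import Cfsg.Agent.GT.TransferSylow
import Cfsg.Agent.GT.SchurZassenhaus
import Cfsg.Agent.Chev.SzPart
import Cfsg.Agent.Chev.SzLie
import Cfsg.Agent.S0877

/-!
# π-homogeneous groups: simple groups, and groups with the property `D_π`
-/

set_option autoImplicit false
set_option linter.unusedSectionVars false

namespace Cfsg.Agent.FG.PH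

open Subgroup Cfsg.Agent.GT Cfsg.Agent.Loc.Mss

universe u

variable {G : Type*} [Group G] [Finite G] {G' : Type*} [Group G'] {π : Set ℕ}

theorem isPiNum_compl_of_mul_self (h2 : 2 ∉ π) {t : G} (ht : t * t = 1) :
    IsPiNum πᶜ (orderOf t) :=
  (isPiNum_of_prime_mem (π := πᶜ) Nat.prime_two h2).of_dvd
    (orderOf_dvd_of_pow_eq_one (by rwa [pow_two]))

theorem Hom.commute (h : Hom π G) {t x : G} (hx : IsPiNum π (orderOf x))
    (ht : IsPiNum πᶜ (orderOf t)) (hi : t * x * t⁻¹ ∈ zpowers x) : x * t = t * x :=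
  h (zpowers x) (by rwa [Nat.card_zpowers]) t (mem_normalizer_of_map_conj_le (by
    rwa [map_conj_zpowers, zpowers_le])) ht x (mem_zpowers x)

theorem Hom.eq_one_of_inverted (h : Hom π G) (h2 : 2 ∉ π) {t x : G} (hx : IsPiNum π (orderOf x))
    (ht : IsPiNum πᶜ (orderOf t)) (hi : t * x * t⁻¹ = x⁻¹) : x = 1 := by
  have h1 := h.commute hx ht (hi ▸ inv_mem (mem_zpowers x))
  rw [← h1, mul_inv_cancel_right, eq_inv_iff_mul_eq_one] at hi
  exact orderOf_eq_one_iff.1 (hx.eq_one (isPiNum_compl_of_mul_self h2 hi))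

theorem closed_of_comm [IsSimpleGroup G] (h : IsMulCommutative G) : Closed π G := by
  have hp : (Nat.card G).Prime := by
    let := IsMulCommutative.instCommGroup (G := G)
    exact IsSimpleGroup.prime_card
  by_cases h1 : Nat.card G ∈ π
  · exact closed_of_isPiNum (isPiNum_of_prime_mem hp h1)
  · exact closed_of_isPiNum_compl (isPiNum_of_prime_mem (π := πᶜ) hp h1)

/-- The smallest prime of π dividing the order cannot have cyclic Sylow subgroups. -/
theorem Hom.isPiNum_compl_of_cyclic [IsSimpleGroup G] (h : Hom π G) (hG : ¬ IsMulCommutative G)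
    (hc : ∀ p : ℕ, p.Prime → p ∈ π → ∀ P : Subgroup G, IsPGroup p P → IsCyclic P) :
    IsPiNum πᶜ (Nat.card G) := by
  classical
  by_contra hne
  have hex : ∃ p : ℕ, p.Prime ∧ p ∣ Nat.card G ∧ p ∈ π := by
    by_contra h1
    exact hne fun p hp hd hπ => h1 ⟨p, hp, hd, hπ⟩
  obtain ⟨hp, hd, hπ⟩ := Nat.find_spec hex
  set p := Nat.find hex
  have := Fact.mk hp
  let P : Sylow p G := default
  have hP := hc p hp hπ P P.2
  have hb : (P : Subgroup G) ≠ ⊥ := P.ne_bot_of_dvd_card hd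
  have h1 := hom_iff.1 h P hb (isPiNum_of_isPGroup hp P.2 hπ)
  have key := card_dvd_of_injective _
    (QuotientGroup.kerLift_injective (P : Subgroup G).normalizerMonoidHom)
  rw [normalizerMonoidHom_ker, ← index, ← relIndex] at key
  have h2 : normalizer ((P : Subgroup G) : Set G) ≤ centralizer ((P : Subgroup G) : Set G) := by
    refine relIndex_eq_one.1 ?_
    by_contra h3
    obtain ⟨r, hr, hrd⟩ := Nat.exists_prime_and_dvd h3
    have h4 : p ≤ r := Nat.find_min' hex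
      ⟨hr, hrd.trans ((relIndex_dvd_card _ _).trans (card_subgroup_dvd_card _)), h1 r hr hrd⟩
    have h5 : r ≠ p := by
      rintro rfl
      exact P.not_dvd_index (hrd.trans ((relIndex_dvd_of_le_left _ (P : Subgroup G).le_centralizer).trans
        (relIndex_dvd_index_of_le le_normalizer)))
    obtain ⟨k, hk⟩ := P.2.exists_card_eq
    have h6 := hrd.trans key
    rcases Nat.eq_zero_or_pos k with h0 | h0
    · rw [hP.card_mulAut, hk, h0, pow_zero, Nat.totient_one] at h6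
      exact hr.one_lt.ne' (Nat.dvd_one.1 h6)
    rw [hP.card_mulAut, hk, Nat.totient_prime_pow hp h0] at h6
    rcases (Nat.Prime.dvd_mul hr).1 h6 with h7 | h7
    · exact h5 ((Nat.prime_dvd_prime_iff_eq hr hp).1 (hr.dvd_of_dvd_pow h7))
    · have := Nat.le_of_dvd (by have := hp.two_le; omega) h7
      have := hp.two_le
      omega
  have h3 := (Tr.hasNormalPComplement_of_normalizer_le_centralizer P h2).card_eq_of_isSimpleGroup hd
  exact hG (isCyclic_of_prime_card h3).isMulCommutative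

theorem isCyclic_of_not_sq_dvd {p : ℕ} (hp : p.Prime) (h : ¬ p ^ 2 ∣ Nat.card G) {P : Subgroup G}
    (hP : IsPGroup p P) : IsCyclic P := by
  have := Fact.mk hp
  obtain ⟨k, hk⟩ := hP.exists_card_eq
  have h1 : k ≤ 1 := by
    by_contra h1
    exact h ((pow_dvd_pow p (by omega)).trans (hk ▸ card_subgroup_dvd_card P))
  exact isCyclic_of_card_dvd_prime (p := p) (hk ▸ (pow_dvd_pow p h1).trans (by rw [pow_one]))

theorem isPiNum_compl_of_prime (h : ∀ x : G, (orderOf x).Prime → orderOf x ∉ π) :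
    IsPiNum πᶜ (Nat.card G) := fun p hp hd => by
  have := Fact.mk hp
  obtain ⟨x, rfl⟩ := exists_prime_orderOf_dvd_card' p hd
  exact h x hp

section L2

open Cl.L2 Matrix MulAction
open scoped MatrixGroups

theorem Hom.psl2 {F : Type*} [Field F] [Finite F] (h : Hom π PSL(2, F)) (h2 : 2 ∉ π)
    (hF : 3 < Nat.card F) : IsPiNum πᶜ (Nat.card PSL(2, F)) := by
  have key : ∀ g : PSL(2, F), tau (emb g) ≠ 4 → ¬ IsPiNum π (orderOf g) := fun g ht hg => by
    obtain ⟨n, hn, hn'⟩ := exists_mem_ntorS_not_mem ht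
    exact ne_one_of_tauS ht (h.eq_one_of_inverted h2 hg
      (isPiNum_compl_of_mul_self h2 (mul_self_of_mem_ntorS ht hn hn'))
      (conj_eq_inv_of_mem_ntorS ht hn hn' (self_mem_torS g)))
  refine isPiNum_compl_of_prime fun x hx hπ => ?_
  have h1 : tau (emb x) = 4 := by
    by_contra h1
    exact key x h1 (isPiNum_of_prime_mem hx hπ)
  obtain ⟨y, hy⟩ := exists_mem_uniS h1
  have hx1 : x ≠ 1 := by rintro rfl; simp [Nat.not_prime_one] at hx
  obtain ⟨p, hp, _⟩ := exists_char (F := F)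
  have := Fact.mk hp
  have hU : IsPiNum π (Nat.card (uniS y)) := isPiNum_of_isPGroup hp (isPGroup_uniS p y)
    (orderOf_of_mem_uniS p hy hx1 ▸ hπ)
  have h3 : stabilizer PSL(2, F) y ≤ uniS y := fun g hg => by
    obtain ⟨a, b, ha, hb, ha', hb', -, rfl⟩ := exists_piPart_elem π g
    refine mul_mem (mem_uniS.2 ⟨zpowers_le.2 hg ha, by_contra fun e => key a e ha'⟩) ?_
    have h4 := h _ hU b (by rw [normalizer_uniS]; exact zpowers_le.2 hg hb) hb' x hy
    rw [← torS_eq_uniS hy hx1, ← centralizer_eq_torS (Or.inl h1)]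
    exact mem_centralizer_singleton_iff.2 h4.symm
  have h4 := card_le_of_le h3
  have h5 := card_stabilizerS_mul y
  rw [card_uniS] at h4
  have h6 : Nat.gcd 2 (Nat.card F - 1) ≤ 2 := Nat.gcd_le_left _ two_pos
  have h7 : Nat.card F * 3 ≤ Nat.card F * (Nat.card F - 1) := Nat.mul_le_mul_left _ (by omega)
  have h8 := Nat.mul_le_mul h4 h6
  omega

theorem Hom.psl3 {F : Type*} [Field F] (h : Hom π PSL(3, F)) [Finite F] (h2 : 2 ∉ π)
    (h3 : (3 : F) = 0) : 3 ∉ π := fun hπ => by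
  let x : SL(3, F) := ⟨!![1, 1, 0; 0, 1, 0; 0, 0, 1], by simp [det_fin_three]⟩
  let t : SL(3, F) := ⟨!![-1, 0, 0; 0, 1, 0; 0, 0, -1], by simp [det_fin_three]⟩
  let y : SL(3, F) := ⟨!![1, 0, 0; 1, 1, 0; 0, 0, 1], by simp [det_fin_three]⟩
  have hx : x * x * x = 1 := by
    refine Subtype.ext ?_
    change x.1 * x.1 * x.1 = 1
    ext i j
    fin_cases i <;> fin_cases j <;> simp [x]
    linear_combination h3
  have ht : t * t = 1 := by
    refine Subtype.ext ?_
    change t.1 * t.1 = 1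
    ext i j
    fin_cases i <;> fin_cases j <;> simp [t]
  have hi : t * x * t⁻¹ = x⁻¹ := by
    rw [eq_inv_iff_mul_eq_one, ← eq_inv_of_mul_eq_one_left ht]
    refine Subtype.ext ?_
    change t.1 * x.1 * t.1 * x.1 = 1
    ext i j
    fin_cases i <;> fin_cases j <;> simp [t, x]
  let f : SL(3, F) →* PSL(3, F) := QuotientGroup.mk' _
  have h4 : f x = 1 := h.eq_one_of_inverted h2 (t := f t)
    ((isPiNum_of_prime_mem Nat.prime_three hπ).of_dvd
      (orderOf_dvd_of_pow_eq_one (by rw [← map_pow, pow_three', hx, map_one])))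
    (isPiNum_compl_of_mul_self h2 (by rw [← map_mul, ht, map_one]))
    (by rw [← map_inv, ← map_mul, ← map_mul, hi, map_inv])
  have h5 := congrArg (fun A : SL(3, F) => A.1 0 0)
    (mem_center_iff.1 ((QuotientGroup.eq_one_iff x).1 h4) y)
  change (y.1 * x.1) 0 0 = (x.1 * y.1) 0 0 at h5
  simp [x, y] at h5

end L2

theorem Hom.isPiNum_compl_of_card [IsSimpleGroup G] (h : Hom π G) {a b n : ℕ}
    (hc : Nat.card G = 2 ^ a * 3 ^ b * n) (hn : Squarefree n) (hnp : ¬ (2 ^ a * 3 ^ b * n).Prime)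
    (h2 : 2 ∉ π) (h3 : 3 ∉ π ∨ (b = 1 ∧ ¬ 3 ∣ n)) : IsPiNum πᶜ (Nat.card G) := by
  refine h.isPiNum_compl_of_cyclic (fun hc' => hnp ?_) fun p hp hπ P hP =>
    isCyclic_of_not_sq_dvd hp (fun hd => ?_) hP
  · let := IsMulCommutative.instCommGroup (G := G)
    exact hc ▸ IsSimpleGroup.prime_card
  have h4 : (p ^ 2).Coprime (2 ^ a) := Nat.Coprime.pow _ _
    ((Nat.coprime_primes hp Nat.prime_two).2 fun e => h2 (e ▸ hπ))
  rw [hc, mul_assoc] at hd
  have h5 := h4.dvd_of_dvd_mul_left hd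
  by_cases h6 : p = 3
  · subst h6
    obtain ⟨rfl, h7⟩ := h3.resolve_left fun e => e hπ
    omega
  · exact hp.one_lt.ne' (Nat.isUnit_iff.1 (hn p (pow_two p ▸ (Nat.Coprime.pow _ _
      ((Nat.coprime_primes hp Nat.prime_three).2 h6)).dvd_of_dvd_mul_left h5)))

theorem Hom.alt7 (h : Hom π (alternatingGroup (Fin 7))) (h2 : 2 ∉ π) :
    IsPiNum πᶜ (Nat.card (alternatingGroup (Fin 7))) := by
  have h3 : 3 ∉ π := fun hπ => by
    let x : alternatingGroup (Fin 7) := ⟨Equiv.swap 0 1 * Equiv.swap 1 2, by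
      rw [Equiv.Perm.mem_alternatingGroup]; decide⟩
    let t : alternatingGroup (Fin 7) := ⟨Equiv.swap 0 1 * Equiv.swap 3 4, by
      rw [Equiv.Perm.mem_alternatingGroup]; decide⟩
    exact absurd (h.eq_one_of_inverted h2 (t := t) (x := x)
      ((isPiNum_of_prime_mem Nat.prime_three hπ).of_dvd (orderOf_dvd_of_pow_eq_one (by decide)))
      (isPiNum_compl_of_mul_self h2 (by decide)) (by decide)) (by decide)
  have : IsSimpleGroup (alternatingGroup (Fin 7)) := alternatingGroup.isSimpleGroup (by simp)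
  exact h.isPiNum_compl_of_card (a := 3) (b := 2) (n := 5 * 7)
    (by rw [nat_card_alternatingGroup]; simp [Nat.factorial]) (by decide +kernel) (by norm_num) h2 (Or.inl h3)

/-- Every π-subgroup lies in a Hall π-subgroup. -/
def EP (π : Set ℕ) (G : Type*) [Group G] : Prop :=
  ∀ K : Subgroup G, IsPiNum π (Nat.card K) → ∃ H : Subgroup G, IsPiHall π H ∧ K ≤ H

theorem EP.normal (h : EP π G) (N : Subgroup G) [N.Normal] : EP π N := fun K hK => by
  obtain ⟨H, hH, hle⟩ := h (K.map N.subtype) (hK.card_map _)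
  exact ⟨H.subgroupOf N, hH.subgroupOf_normal N, map_le_iff_le_comap.1 hle⟩

theorem exists_isPiNum_map_eq (f : G →* G') (K : Subgroup G) :
    IsPiNum π (Nat.card (K.map f)) →
      ∃ L : Subgroup G, IsPiNum π (Nat.card L) ∧ L.map f = K.map f := by
  induction K using WellFoundedLT.induction with
  | ind K ih =>
  intro hK
  by_cases h : IsPiNum π (Nat.card K)
  · exact ⟨K, h, rfl⟩
  have key : ∀ L < K, L ⊔ K ⊓ f.ker = K →
      ∃ L : Subgroup G, IsPiNum π (Nat.card L) ∧ L.map f = K.map f := fun L hL e => by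
    have h1 : L.map f = K.map f := by
      rw [← e, Subgroup.map_sup, (Subgroup.map_eq_bot_iff _).2 inf_le_right, sup_bot_eq]
    exact h1 ▸ ih L hL (h1 ▸ hK)
  obtain ⟨p, hp, hd, hπ⟩ : ∃ p : ℕ, p.Prime ∧ p ∣ Nat.card K ∧ p ∉ π := by
    by_contra h1
    exact h fun p hp hd => by_contra fun e => h1 ⟨p, hp, hd, e⟩
  have := Fact.mk hp
  obtain ⟨P, hP⟩ := Syl.exists p K
  have hP' : IsPiNum πᶜ (Nat.card P) := isPiNum_of_isPGroup hp hP.pg hπ
  have hPk : P ≤ K ⊓ f.ker := le_inf hP.le ((Subgroup.map_eq_bot_iff _).1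
    ((hK.card_of_le (map_mono hP.le)).eq_bot (hP'.card_map f)))
  rcases (inf_le_left : K ⊓ 𝐍[P] ≤ K).eq_or_lt with e | hlt
  · obtain ⟨L, hL, h1, h2, -⟩ := exists_complement_of_coprime_relIndex hP.le (e.ge.trans inf_le_right)
      (coprime_card_of_isPGroup hp hP.pg ((Nat.Prime.coprime_iff_not_dvd hp).2 hP.nd).symm)
    refine key L (lt_of_le_of_ne hL fun e' => ?_)
      (le_antisymm (sup_le hL inf_le_left) (h1.ge.trans (sup_le (hPk.trans le_sup_right) le_sup_left)))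
    rw [e', inf_eq_left.2 hP.le, hP.eq_bot_iff] at h2
    exact (Nat.Prime.coprime_iff_not_dvd hp).1 h2.symm hd
  · exact key _ hlt ((sup_comm _ _).trans ((hP.mono hPk inf_le_left).frattini_sup inf_le_left
      (norm_inf le_normalizer (norm_normal _ _))))

theorem EP.of_surjective (h : EP π G) {f : G →* G'} (hf : Function.Surjective f) : EP π G' :=
  fun K hK => by
  have e := map_comap_eq_self_of_surjective hf K
  obtain ⟨L, hL, e'⟩ := exists_isPiNum_map_eq (π := π) f (K.comap f) (by rwa [e])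
  obtain ⟨H, hH, hle⟩ := h L hL
  exact ⟨H.map f, hH.map_of_surjective hf, e ▸ e' ▸ map_mono hle⟩

section Sz

open Chev.Sz MulAction

variable {F : Type*} [Field F] {m : ℕ} [SzF F m]

theorem Hom.sz (h : Hom π (Cfsg.Sz F m)) (h2 : 2 ∉ π) : IsPiNum πᶜ (Nat.card (Cfsg.Sz F m)) :=
  h.isPiNum_compl_of_cyclic (fun hc => by
      obtain ⟨k, hk⟩ := exists_units_ne_one (F := F)
      have h1 := we_conj_he (F := F) (m := m) k
      rw [hc.is_comm.comm we, mul_assoc, we_mul_we, mul_one, he_inj, eq_inv_iff_mul_eq_one,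
        ← pow_two] at h1
      exact hk (units_eq_one_of_sq h1))
    fun p hp hπ P hP => by
      have := Fact.mk hp
      exact isCyclic_of_isPGroup_odd (fun e => h2 (e ▸ hπ)) hP

theorem Hom.sz_two (h : Hom π (Cfsg.Sz F m)) (hE : EP π (Cfsg.Sz F m)) (h2 : 2 ∈ π) :
    IsPiNum π (Nat.card (Cfsg.Sz F m)) := by
  have hT : IsPiNum π (Nat.card (torH F m)) := by
    refine isPiNum_card_subgroup_iff_orderOf.2 fun g hg => ?_
    obtain ⟨a, b, -, hb, ha', hb', -, rfl⟩ := exists_piPart_elem π g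
    have hbT : b ∈ torH F m := zpowers_le.2 hg hb
    have h1 := h _ (isPiNum_of_isPGroup Nat.prime_two isPGroup_sylU h2) b
      (normalizer_sylU.ge (torH_le_borel hbT)) hb' (ue 1 0) (ue_mem_sylU 1 0)
    obtain ⟨k, rfl⟩ := mem_torH.1 hbT
    rw [he_mem_sylU.1 (mem_sylU_of_commute (ue_mem_sylU 1 0) (by simp) h1.symm), he_one, mul_one]
    exact ha'
  obtain ⟨H, hH, hle⟩ := hE (normalizer (torH F m : Set (Cfsg.Sz F m))) (by
    rw [card_normalizer_torH, ← card_torH (m := m)]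
    exact (isPiNum_of_prime_mem Nat.prime_two h2).mul hT)
  obtain ⟨S, hS⟩ := Syl.exists 2 H
  obtain ⟨S', hS'⟩ := Syl.exists_sylow_top (T := S) ⟨le_top, hS.pg, by
    rw [relIndex_top_right, ← relIndex_mul_index hS.le, Nat.prime_two.dvd_mul, not_or]
    exact ⟨hS.nd, fun e => hH.index 2 Nat.prime_two e h2⟩⟩
  obtain ⟨P, hP⟩ := exists_sylAt S'
  have h3 : H = ⊤ := eq_top_of_sylAt_le (hP ▸ hS' ▸ hS.le) fun h4 => by
    obtain ⟨k, hk⟩ := exists_units_ne_one (F := F)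
    have h5 : (we : Cfsg.Sz F m) • P = P := h4 (hle we_mem_normalizer_torH)
    have h6 := fix_of_mem_torH (he_mem_torH (m := m) k) (by simpa using hk)
      (h4 (hle (le_normalizer (he_mem_torH k))))
    refine we_not_mem_borel (F := F) (m := m) ?_
    rcases h6 with rfl | rfl
    · exact h5
    · rw [mem_stabilizer_iff, ← we_smul_zero, we_smul_we_smul, h5]
  have := hH.card
  rwa [h3, card_top] at this

end Sz

section Fusion

theorem Hom.le_sup (hG : Hom π G) {Q K : Subgroup G} (hQ : IsPiNum π (Nat.card Q))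
    (hK : IsPiHallOf π K 𝐍[Q]) {n : G} (hn : n ∈ 𝐍[Q]) : ∃ k ∈ K, ∃ c ∈ 𝐂[Q], k * c = n := by
  refine (mem_sup_norm' (hK.le.trans (norm_cent le_rfl))).1 (relIndex_eq_one.1 ?_ hn)
  by_cases hb : Q = ⊥
  · rw [hb, cent_bot, sup_top_eq, relIndex_top_left]
  exact ((hom_iff.1 hG Q hb hQ).of_dvd (relIndex_dvd_of_le_left _ le_sup_right)).eq_one
    (hK.relIndex.of_dvd (relIndex_dvd_of_le_left _ le_sup_left))

variable (hG : Hom π G) {H : Subgroup G} (hH : IsPiHall π H)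
  (hD : ∀ K : Subgroup G, IsPiNum π (Nat.card K) → ∃ g : G, cj(g, K) ≤ H)
  (hM : ∀ M : Subgroup G, M ≠ ⊤ → Closed πᶜ M)
include hH hD

theorem exists_hall_ge {K : Subgroup G} (hK : IsPiNum π (Nat.card K)) :
    ∃ L : Subgroup G, IsPiHall π L ∧ K ≤ L :=
  let ⟨g, hg⟩ := hD K hK
  ⟨_, hH.map_conj g⁻¹, cj_le_iff_le_inv.1 hg⟩

theorem exists_hall_conj {K L : Subgroup G} (hK : IsPiHall π K) (hL : IsPiHall π L) :
    ∃ g : G, cj(g, K) = L := by
  obtain ⟨g, hg⟩ := hD K hK.card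
  obtain ⟨g', hg'⟩ := hD L hL.card
  refine ⟨g'⁻¹ * g, ?_⟩
  rw [← cj_cj, (hK.map_conj g).eq_of_le hH.card hg, ← (hL.map_conj g').eq_of_le hH.card hg',
    cj_inv_cj]

include hM

omit hD in
theorem exists_hallOf (M : Subgroup G) : ∃ K : Subgroup G, IsPiHallOf π K M := by
  by_cases h : M = ⊤
  · exact ⟨H, h ▸ isPiHallOf_top_iff.2 hH⟩
  · obtain ⟨K, hK⟩ := (isPiSeparable_compl_iff.1 (hM M h).isPiSeparable).exists_isPiHall
    exact ⟨_, hK.map_subtype⟩

include hG

theorem exists_cent_conj {p : ℕ} (hp : p.Prime) (hπ : p ∈ π) (Q : Subgroup G) :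
    IsPGroup p Q → ∀ H₁ H₂ : Subgroup G, IsPiHall π H₁ → IsPiHall π H₂ → Q ≤ H₁ → Q ≤ H₂ →
      ∃ c ∈ 𝐂[Q], cj(c, H₁) = H₂ := by
  have := Fact.mk hp
  have hsyl : ∀ {S K M : Subgroup G}, IsPiHallOf π K M → Syl p S K → Syl p S M := fun hK hS =>
    ⟨hS.le.trans hK.le, hS.pg, by
      rw [← relIndex_mul_relIndex _ _ _ hS.le hK.le, hp.dvd_mul, not_or]
      exact ⟨hS.nd, fun e => hK.relIndex p hp e hπ⟩⟩
  induction Q using WellFoundedGT.induction with
  | ind Q ih =>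
  intro hQ
  have hQ' := isPiNum_of_isPGroup hp hQ hπ
  obtain ⟨K, hK⟩ := exists_hallOf hH hM 𝐍[Q]
  obtain ⟨L, hL, hKL⟩ := exists_hall_ge hH hD hK.card
  have key : ∀ H₁, IsPiHall π H₁ → Q ≤ H₁ → ∃ c ∈ 𝐂[Q], cj(c, H₁) = L := fun H₁ h1 hle => by
    obtain ⟨P, hQP, hP⟩ := Syl.exists_ge hQ hle
    rcases hQP.eq_or_lt with rfl | hlt
    · obtain ⟨g, hg⟩ := exists_hall_conj hH hD h1 hL
      have hQL : Q ≤ L := (hK.le_of_le_normalizer hQ' le_normalizer hK.le).trans hKL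
      obtain ⟨l, hl, e⟩ := (hg ▸ hP.cj g).conj_eq
        ((hsyl (isPiHallOf_top_iff.2 h1) hP).mono hQL le_top)
      rw [cj_cj, cj_eq_iff] at e
      obtain ⟨k, hk, c, hc, e'⟩ := hG.le_sup hQ' hK e
      refine ⟨c, hc, cj_eq_cj (g := k).1 ?_⟩
      rw [cj_cj, e', ← cj_cj, hg, cj_of_mem hl, cj_of_mem (hKL hk)]
    · have h2 := Tr.lt_inf_normalizer hP.pg hlt
      obtain ⟨S, hS⟩ := Syl.exists p K
      obtain ⟨n, hn, hle'⟩ := (hsyl hK hS).conj_le (hP.pg.to_le (inf_le_left : P ⊓ 𝐍[Q] ≤ P))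
        inf_le_right
      obtain ⟨k, hk, c, hc, rfl⟩ := hG.le_sup hQ' hK hn
      have h3 : Q < cj(c, P ⊓ 𝐍[Q]) := (cj_of_cent hc).symm.trans_lt (cj_lt_cj.2 h2)
      rw [← cj_cj, cj_le_iff_le_inv] at hle'
      obtain ⟨d, hd, e⟩ := ih _ h3 (pg_cj (hP.pg.to_le inf_le_left) c) _ L (h1.map_conj c) hL
        (cj_mono c (inf_le_left.trans hP.le))
        (hle'.trans (cj_le_of_mem (hS.le.trans hKL) (inv_mem (hKL hk))))
      exact ⟨d * c, mul_mem (cent_anti h3.le hd) hc, by rw [← cj_cj, e]⟩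
  intro H₁ H₂ h1 h2 hle1 hle2
  obtain ⟨c, hc, e⟩ := key H₁ h1 hle1
  obtain ⟨d, hd, e'⟩ := key H₂ h2 hle2
  exact ⟨d⁻¹ * c, mul_mem (inv_mem hd) hc, by rw [← cj_cj, e, ← e', cj_inv_cj]⟩

theorem fusion {x g : G} (hx : x ∈ H) (hg : g * x * g⁻¹ ∈ H) :
    ∃ h ∈ H, h * x * h⁻¹ = g * x * g⁻¹ := by
  by_cases hz : x ∈ center G
  · exact ⟨1, one_mem _, by rw [mem_center_iff.1 hz g]; simp⟩
  obtain ⟨p, hp, hd⟩ := Nat.exists_prime_and_dvd
    (show orderOf (QuotientGroup.mk' (center G) x) ≠ 1 from fun e =>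
      hz ((QuotientGroup.eq_one_iff x).1 (orderOf_eq_one_iff.1 e)))
  have := Fact.mk hp
  have hπ : p ∈ π := hH.card.orderOf_mem hx p hp (hd.trans (orderOf_map_dvd _ _))
  obtain ⟨z, b, hzx, -, hz', hb, -, e⟩ := exists_piPart_elem {p} x
  have hzc : 𝐂[zpowers z] ≠ ⊤ := fun h1 => by
    have h2 : z ∈ center G := mem_center_iff.2 fun y => (h1.ge (mem_top y) z (mem_zpowers z)).symm
    rw [e, map_mul, QuotientGroup.mk'_apply, (QuotientGroup.eq_one_iff z).2 h2, one_mul] at hd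
    exact hb p hp (hd.trans (orderOf_map_dvd _ _)) rfl
  have hQ : IsPGroup p (zpowers z) := (isPGroup_iff_isPiNum hp).2 (by rwa [Nat.card_zpowers])
  have hQ' := isPiNum_of_isPGroup hp hQ hπ
  have hzH : zpowers z ≤ H := zpowers_le.2 (zpowers_le.2 hx hzx)
  have hxC : x ∈ 𝐂[zpowers z] := 
    cent_anti (zpowers_le.2 hzx) ((zpowers x).le_centralizer (mem_zpowers x))
  obtain ⟨c, hc, e1⟩ := exists_cent_conj hG hH hD hM hp hπ _ hQ H cj(g⁻¹, H) hH (hH.map_conj _) hzH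
    ((zpowers_le.2 hzx).trans (zpowers_le.2 (by rwa [mem_cj, inv_inv])))
  obtain ⟨h, hh, c', hc', e2⟩ := hG.le_sup hH.card (hH.isPiHallOf le_normalizer) (n := g * c)
    (by rw [← cj_eq_iff, ← cj_cj, e1, cj_cj_inv])
  have hg' : h⁻¹ * g ∈ 𝐂[zpowers z] := by
    rw [show h⁻¹ * g = c' * c⁻¹ by rw [eq_mul_inv_iff_mul_eq, mul_assoc, ← e2]; group]
    exact mul_mem (cent_anti hzH hc') (inv_mem hc)
  obtain ⟨O, hO, hO'⟩ := (hM _ hzc).exists_sub
  obtain ⟨K, hK⟩ := exists_hallOf hH hM 𝐂[zpowers z]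
  obtain ⟨L, hL, hKL⟩ := exists_hall_ge hH hD hK.card
  obtain ⟨d, hd', e3⟩ := exists_cent_conj hG hH hD hM hp hπ _ hQ L H hL hH
    ((hK.le_of_le_normalizer hQ' (zpowers z).le_centralizer (norm_of_cent hK.le)).trans hKL) hzH
  have hK' := hK.map_conj (le_normalizer hd')
  have hKH : cj(d, K) ≤ H := e3 ▸ cj_mono d hKL
  have hOn : 𝐂[zpowers z] ≤ 𝐍[O] := norm_of_forall_cj_le fun y hy => cj_le_iff.2 fun o ho =>
    (hO' _ (mul_mem (mul_mem hy (hO.le ho)) (inv_mem hy))).2 (by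
      rw [orderOf_conj]; exact hO.card.orderOf_mem ho)
  obtain ⟨k, hk, o, ho, e4⟩ := (mem_sup_norm' (hK'.le.trans hOn)).1 (relIndex_eq_one.1
    (((compl_compl π ▸ hO.relIndex).of_dvd (relIndex_dvd_of_le_left _ le_sup_right)).eq_one
      (hK'.relIndex.of_dvd (relIndex_dvd_of_le_left _ le_sup_left))) hg')
  have e5 : g = h * k * o := by rw [mul_assoc, e4]; group
  have hhk : h * k ∈ H := mul_mem hh (hKH hk)
  have h1 : o * x * o⁻¹ * x⁻¹ ∈ H ⊓ O := ⟨H.mul_mem (by
      have := H.mul_mem (H.mul_mem (H.inv_mem hhk) hg) hhk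
      rwa [show (h * k)⁻¹ * (g * x * g⁻¹) * (h * k) = o * x * o⁻¹ by rw [e5]; group] at this)
    (H.inv_mem hx), by
      rw [mul_assoc, mul_assoc, ← mul_assoc x]
      exact O.mul_mem ho (conj_mem_of_norm (hOn hxC) (O.inv_mem ho))⟩
  rw [hH.card.inf_eq_bot hO.card, mem_bot, mul_inv_eq_one] at h1
  refine ⟨h * k, hhk, ?_⟩
  conv_lhs => rw [← h1]
  rw [e5]; group

theorem closed_of_dpi : Closed πᶜ G := by
  obtain ⟨K, hK, h1, h2⟩ := S0877.result H hH.coprime
    (fun x hx y hy hxy => by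
      obtain ⟨g, rfl⟩ := isConj_iff.1 hxy
      exact fusion hG hH hD hM hx hy)
    fun E p _ _ hE => hD E (hH.card.of_dvd hE)
  exact ⟨K, hK, hH.of_isComplement' (isComplement'_iff_of_normal.2 ⟨h2, h1⟩).symm⟩

end Fusion

/-- Reduction to simple sections, for properties inherited by normal subgroups only. -/
theorem closed_of_simple_normal {P : ∀ (G : Type u) [Group G], Prop}
    (hsub : ∀ (G : Type u) [Group G] [Finite G] (N : Subgroup G) [N.Normal], P G → P N)
    (hquot : ∀ (G : Type u) [Group G] [Finite G] (N : Subgroup G) [N.Normal], P G → P (G ⧸ N))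
    (hs : ∀ (G : Type u) [Group G] [Finite G] [IsSimpleGroup G], P G → Hom π G → Closed πᶜ G)
    (G : Type u) [Group G] [Finite G] : P G → Hom π G → Closed πᶜ G := by
  refine subgroup_quotient_induction (P := fun G _ _ => P G → Hom π G → Closed πᶜ G) ?_ G
  intro G _ _ ih1 ih2 hP hG
  by_cases hn : ∃ N : Subgroup G, N.Normal ∧ N ≠ ⊥ ∧ N ≠ ⊤
  · obtain ⟨N, hN, hb, ht⟩ := hn
    exact hG.closed_extension N (ih1 N ht (hsub G N hP) (hG.subgroup N))
      (ih2 N hb (hquot G N hP) (hG.quotient N))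
  · rcases subsingleton_or_nontrivial G with h0 | h0
    · exact closed_of_isPiNum (by rw [Nat.card_of_subsingleton (1 : G)]; exact isPiNum_one _)
    · have : IsSimpleGroup G := ⟨fun N hN => by
        by_contra hc
        exact hn ⟨N, hN, fun e => hc (Or.inl e), fun e => hc (Or.inr e)⟩⟩
      exact hs G hP hG

theorem Hom.closed_of_equiv {X : Type*} [Group X] (h : Hom π G) (e : G ≃* X)
    (hX : Hom π X → IsPiNum πᶜ (Nat.card X)) : Closed πᶜ G :=
  closed_of_isPiNum (Nat.card_congr e.toEquiv ▸ hX (h.of_injective (f := e.symm) e.symm.injective))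

end Cfsg.Agent.FG.PH
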