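import Mathlib
import Cfsg.Agent.FG.PiClasses
import Cfsg.Agent.FG.H94PiClasses
import Cfsg.Agent.FG.NilpHall
import Cfsg.Agent.GT.CoprimeSylow
import Cfsg.Agent.GT.TransferFrobenius
import Cfsg.Agent.Loc.MssSyl
import Cfsg.Agent.S4067

/-! Many classes of `π`-elements force a nilpotent Hall `π`-subgroup. -/

set_option autoImplicit false

namespace Cfsg.Agent.FG.PM

open Cfsg Subgroup Cfsg.Agent.GT Cfsg.Agent.FG.PC Cfsg.Agent.Loc.Mss

universe u

variable {G : Type*} [Group G] [Finite G] {π σ : Set ℕ} {p : ℕ}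

omit [Finite G] in
theorem kPi_eq : kPi π G = Nat.card (PiCl.PiClass π G) :=
  Nat.card_congr (Equiv.subtypeEquivRight fun c => by
    obtain ⟨x, rfl⟩ := ConjClasses.mk_surjective c
    rw [PiCl.mk_pi_iff]
    exact ⟨fun h => h x ConjClasses.mem_carrier_mk, piCl_mk⟩)

theorem kPi_le_sum {ρ : Set ℕ} (hπ : ∀ r, r.Prime → r ∈ π → r ∉ ρ → r ∈ σ) (f : ConjClasses G → G)
    (hf : ∀ c, ConjClasses.mk (f c) = c) [Fintype (PiCl ρ G)] :
    kPi π G ≤ ∑ c : PiCl ρ G, kPi σ (centralizer ({f c.1} : Set G)) := by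
  refine le_trans ?_ (Nat.card_sigma (β := fun c : PiCl ρ G => PiCl σ (centralizer ({f c.1} : Set G)))).le
  apply kPi_le_of_cover
    (fun b : (Σ c : PiCl ρ G, PiCl σ (centralizer ({f c.1} : Set G))) =>
      f b.1.1 * (rep b.2.1 : centralizer ({f b.1.1} : Set G)))
  intro z hz
  obtain ⟨x, y, -, hyz, hx, hy, hc, rfl⟩ := exists_piPart_elem ρ z
  have hy' : IsPiNum σ (orderOf y) := fun r hr hry =>
    hπ r hr (hz r hr (hry.trans (orderOf_dvd_of_mem_zpowers hyz))) (hy r hr hry)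
  obtain ⟨g, hg⟩ := isConj_iff.1 (ConjClasses.mk_eq_mk_iff_isConj.1 (hf (ConjClasses.mk x)).symm)
  have h2 : g * y * g⁻¹ ∈ centralizer ({f (ConjClasses.mk x)} : Set G) := by
    rw [← hg, CI.mem_cent_conj, CI.mem_cent]
    simpa [mul_assoc] using hc.symm.eq
  have h3 : IsPiNum σ (orderOf (⟨_, h2⟩ : centralizer ({f (ConjClasses.mk x)} : Set G))) := by
    rw [← Subgroup.orderOf_coe, orderOf_conj]; exact hy'
  refine ⟨⟨⟨_, piCl_mk hx⟩, ⟨_, piCl_mk h3⟩⟩, ?_⟩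
  obtain ⟨u, hu⟩ := isConj_iff.1
    (isConj_rep_mk (⟨_, h2⟩ : centralizer ({f (ConjClasses.mk x)} : Set G)))
  refine isConj_iff.2 ⟨u * g, ?_⟩
  have hu1 := congrArg Subtype.val hu
  have hu2 := CI.mem_cent'.1 u.2
  simp only [Subgroup.coe_mul, Subgroup.coe_inv] at hu1
  simp only
  rw [← hu1]
  calc (u : G) * g * (x * y) * ((u : G) * g)⁻¹
      = (u * (g * x * g⁻¹) * (u : G)⁻¹) * (u * (g * y * g⁻¹) * (u : G)⁻¹) := by group
    _ = _ := by rw [hg, hu2]

theorem le_of_dvd (hp : ∀ r ∈ π, p ≤ r) {n : ℕ} (h : IsPiNum π n) (hn : n ≠ 0) (d : ℕ) (hd : d ∣ n) (h1 : d ≠ 1) :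
    p ≤ d :=
  (hp _ (h _ (Nat.minFac_prime h1) ((Nat.minFac_dvd d).trans hd))).trans
    (Nat.minFac_le (Nat.pos_of_dvd_of_pos hd (Nat.pos_of_ne_zero hn)))

theorem mul_le_of_dvd (hp : ∀ r ∈ π, p ≤ r) {a n : ℕ} (h : IsPiNum π n) (hn : n ≠ 0) (hd : a ∣ n) (h1 : a ≠ n) :
    p * a ≤ n := by
  obtain ⟨d, rfl⟩ := hd
  rw [mul_comm a]
  exact Nat.mul_le_mul_right a (le_of_dvd hp h hn d (Dvd.intro_left a rfl) fun e => h1 (by rw [e, mul_one]))

/-- Wielandt's theorem inside a subgroup. -/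
theorem dom_in {W U X : Subgroup G} (hU : IsPiHallOf σ U W) (hn : Group.IsNilpotent U) (hX : X ≤ W)
    (h : IsPiNum σ (Nat.card X)) : ∃ c ∈ W, cj(c, X) ≤ U := by
  obtain ⟨c, hc⟩ := NH.dom_of_isNilpotent (H := U.subgroupOf W)
    (Group.nilpotent_of_mulEquiv (subgroupOfEquivOfLe hU.le).symm) hU.subgroupOf.coprime (X.subgroupOf W)
    fun r _ hr => by
      rw [card_subgroupOf_of_le hX] at hr
      rw [card_subgroupOf_of_le hU.le]
      exact hr.trans (hU.card_dvd hX h)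
  exact ⟨c, c.2, cj_le_iff.2 fun a ha => cj_le_iff.1 hc ⟨a, hX ha⟩ ha⟩

theorem elt_in {W U : Subgroup G} (hU : IsPiHallOf σ U W) (hn : Group.IsNilpotent U) {x : G} (hx : x ∈ W)
    (h : IsPiNum σ (orderOf x)) : ∃ c ∈ W, c * x * c⁻¹ ∈ U := by
  obtain ⟨c, hc, e⟩ := dom_in hU hn (zpowers_le.2 hx) (by rwa [Nat.card_zpowers])
  exact ⟨c, hc, cj_le_iff.1 e x (mem_zpowers x)⟩

theorem elt_sub {W U : Subgroup G} (hU : IsPiHallOf σ U W) (hn : Group.IsNilpotent U) (x : W)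
    (h : IsPiNum σ (orderOf x)) : ∃ c : W, c * x * c⁻¹ ∈ U.subgroupOf W := by
  obtain ⟨c, hc, e⟩ := elt_in hU hn x.2 (by rwa [Subgroup.orderOf_coe])
  exact ⟨⟨c, hc⟩, e⟩

theorem kPi_le_cc {M : Subgroup G} (h : ∀ x : G, IsPiNum π (orderOf x) → ∃ g : G, g * x * g⁻¹ ∈ M) :
    kPi π G ≤ Nat.card (ConjClasses M) := (kPi_le_subgroup M h).trans kPi_le_card_conjClasses

theorem kPi_le_hall {W U : Subgroup G} (hU : IsPiHallOf σ U W) (hn : Group.IsNilpotent U) :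
    kPi σ W ≤ Nat.card U := by
  rw [← card_subgroupOf_of_le hU.le]
  exact (kPi_le_cc (elt_sub hU hn)).trans card_conjClasses_le_card

/-- An element acting nontrivially on `R` fuses many elements. -/
theorem two_mul_le (hp : ∀ r ∈ σ, p ≤ r) {R : Subgroup G} (hR : IsPiNum σ (Nat.card R))
    (h : ∀ x : G, IsPiNum π (orderOf x) → ∃ g : G, g * x * g⁻¹ ∈ R) {e : G} (he : e ∈ 𝐍[R]) (he' : e ∉ 𝐂[R]) :
    2 * (p * kPi π G) ≤ (p + 1) * Nat.card R := by
  have h1 := mul_kPi_le_of_normalizer (π := π) R (zpowers e) (zpowers_le.2 he) 2 (fun d hd h1 => by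
    have := Nat.pos_of_dvd_of_pos hd Nat.card_pos
    omega) h
  have h2 := mul_le_of_dvd hp hR Nat.card_pos.ne' (card_dvd_of_le (inf_le_left : R ⊓ 𝐂[zpowers e] ≤ R)) fun e1 =>
    he' (cent_comm (inf_eq_left.1 (eq_of_le_of_card_eq inf_le_left e1)) (mem_zpowers e))
  nlinarith [Nat.mul_le_mul_left p h1]

theorem comm_le (X : Type*) [Group X] [Finite X] (hp : ∀ d, d ∣ Nat.card X → d ≠ 1 → p ≤ d)
    (h : Nat.card X < p * Nat.card (ConjClasses X)) : Nat.card (commutator X) ≤ p := by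
  by_contra h0
  have h1 := S4067.sq_mul_card_conjClasses_le X hp
  have h2 : (p + 1) * (commutator X).index ≤ Nat.card X :=
    (commutator X).card_mul_index ▸ Nat.mul_le_mul_right _ (by omega)
  obtain ⟨t, rfl⟩ : ∃ t, p = t + 1 := ⟨p - 1, by rcases p with _ | p <;> simp at h ⊢⟩
  nlinarith [Nat.mul_le_mul_left t h2, Nat.mul_le_mul_left (t + 1) (Nat.succ_le_of_lt h)]

theorem nil_of (X : Type*) [Group X] [Finite X] (hp : ∀ d, d ∣ Nat.card X → d ≠ 1 → p ≤ d)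
    (h : Nat.card X < p * Nat.card (ConjClasses X)) : Group.IsNilpotent X := by
  have h1 : commutator X ≤ center X := by
    by_cases e : Nat.card (commutator X) = 1
    · rw [card_eq_one.1 e]; exact bot_le
    · exact S4067.comm_le_center hp (le_antisymm (comm_le X hp h) (hp _ (card_subgroup_dvd_card _) e))
  refine ⟨⟨2, eq_top_iff.2 fun x _ => Subgroup.mem_upperCentralSeries_succ_iff.2 fun y => ?_⟩⟩
  rw [Subgroup.upperCentralSeries_one]
  exact h1 (commutator_mem_commutator (mem_top x) (mem_top y))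

theorem comm_of (X : Type*) [Group X] [Finite X] (hp : ∀ d, d ∣ Nat.card X → d ≠ 1 → p ≤ d)
    (h : Nat.card X * (p ^ 2 + p - 1) < p ^ 3 * Nat.card (ConjClasses X)) : IsMulCommutative X := by
  by_contra h0
  have h1 := S4067.sq_mul_card_conjClasses_le X hp
  have h2 : p * (commutator X).index ≤ Nat.card X :=
    (commutator X).card_mul_index ▸ Nat.mul_le_mul_right _ (hp _ (card_subgroup_dvd_card _) fun e =>
      h0 ⟨⟨fun a b => commutatorElement_eq_one_iff_mul_comm.1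
        (mem_bot.1 (card_eq_one.1 e ▸ commutator_mem_commutator (mem_top a) (mem_top b)))⟩⟩)
  obtain ⟨t, rfl⟩ : ∃ t, p = t + 1 := ⟨p - 1, by rcases p with _ | p <;> simp at h ⊢⟩
  rw [show (t + 1) ^ 2 + (t + 1) - 1 = (t + 1) ^ 2 + t by omega] at h
  nlinarith [Nat.mul_le_mul_left (t * (t + 2)) h2, Nat.mul_le_mul_left (t + 1) h1]

/-- The case of a normal `r`-complement. -/
theorem compl_case {r : ℕ} [hr : Fact r.Prime] (hπ : r ∈ π) (h : HasNormalPComplement r G) {L : Subgroup G}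
    (hL : IsPiHall (π \ {r}) L) (hn : Group.IsNilpotent L) :
    ∃ M : Subgroup G, IsPiHall π M ∧ ∀ z : G, IsPiNum π (orderOf z) → ∃ g : G, g * z * g⁻¹ ∈ M := by
  obtain ⟨S, K, _, hK⟩ := h
  have c1 : IsPiNum {r} K.index := by
    rw [hK.symm.index_eq_card]; exact (isPGroup_iff_isPiNum hr.out).1 S.isPGroup'
  have c2 : ¬ r ∣ Nat.card K := hK.index_eq_card ▸ S.not_dvd_index
  have c3 : IsPiNum {r}ᶜ (Nat.card L) := hL.card.mono fun _ h => h.2
  have LK : L ≤ K := le_of_coprime_card_index (c1.coprime c3).symm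
  have hLK := hL.isPiHallOf LK
  have fr : 𝐍[L] ⊔ K = ⊤ := eq_top_iff.2 fun g _ => by
    obtain ⟨k, hk, e⟩ := dom_in hLK hn (cj_le_of_norm LK (norm_normal ⊤ K (mem_top g))) (by rw [card_cj]; exact hL.card)
    rw [cj_cj] at e
    exact (mul_mem_cancel_left (mem_sup_right hk)).1 (mem_sup_left (mem_norm_of_cj_le e))
  obtain ⟨T, hT⟩ := Syl.exists r 𝐍[L]
  have nT : ¬ r ∣ T.index := by
    rw [← relIndex_mul_index hT.le, hr.out.dvd_mul, index_eq_relIndex_of_sup_eq_top fr]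
    exact fun h => h.elim hT.nd fun h => c2 (h.trans (relIndex_dvd_card _ _))
  have sT : Syl r T ⊤ := ⟨le_top, hT.pg, by rwa [relIndex_top_right]⟩
  refine ⟨T ⊔ L, ⟨(isPiNum_of_isPGroup hr.out hT.pg hπ).card_sup_of_le_normalizer (hL.card.mono fun _ h => h.1) hT.le,
    fun t ht h1 h2 => ?_⟩, fun z hz => ?_⟩
  · by_cases e : t = r
    · exact nT (e ▸ h2.trans (index_dvd_of_le le_sup_left))
    · exact hL.2 t ht ⟨h1, e⟩ (h2.trans (index_dvd_of_le le_sup_right))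
  obtain ⟨y, x, -, hxz, hy, hx, hc, rfl⟩ := exists_piPart_elem {r} z
  have py : IsPGroup r (zpowers y) := (isPGroup_iff_isPiNum hr.out).2 (by rwa [Nat.card_zpowers])
  obtain ⟨g, -, hg⟩ := sT.conj_le py le_top
  have yT := cj_le_iff.1 hg y (mem_zpowers y)
  have AT : zpowers (g * y * g⁻¹) ≤ T := zpowers_le.2 yT
  have cop : (Nat.card (zpowers (g * y * g⁻¹))).Coprime (Nat.card K) :=
    coprime_card_of_isPGroup hr.out (hT.pg.to_le AT) ((Nat.Prime.coprime_iff_not_dvd hr.out).2 c2).symm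
  have hall : IsPiHallOf (π \ {r}) (L ⊓ 𝐂[zpowers (g * y * g⁻¹)]) (K ⊓ 𝐂[zpowers (g * y * g⁻¹)]) := by
    refine ⟨inf_le_inf_right _ LK, hL.card.card_of_le inf_le_left, fun t ht h1 h2 => ?_⟩
    haveI := Fact.mk ht
    obtain ⟨P, hP⟩ := Syl.exists t L
    have sP : Syl t P K := ⟨hP.le.trans LK, hP.pg, by
      rw [← relIndex_mul_relIndex P L K hP.le LK, ht.dvd_mul]
      exact fun h => h.elim hP.nd (hLK.2.2 t ht h1)⟩
    have eP : P = pCoreOf t L := le_antisymm (le_pCoreOf_of_isNilpotent hP.le hP.pg) hP.core_le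
    obtain ⟨P', -, e'⟩ := sP.exists_sylow
    obtain ⟨Q, hQ⟩ := CopAct.exists_sylow_inf_centralizer (norm_normal _ K) cop (.inl inferInstance) P'
      (by rw [e', eP]; exact norm_core (AT.trans hT.le))
    have := (Syl.of_sylow_sub Q).nd
    rw [hQ, e'] at this
    exact this (h2.trans (relIndex_dvd_of_le_left _ (inf_le_inf_right _ hP.le)))
  obtain ⟨c, hc1, hc2⟩ := elt_in hall (isNilpotent_of_le inf_le_left) (x := g * x * g⁻¹)
    (mem_inf.2 ⟨mem_of_coprime_orderOf_index (by rw [orderOf_conj]; exact (c1.coprime hx).symm), by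
      rw [centralizer_zpowers, CI.mem_cent_conj, CI.mem_cent]
      simpa [mul_assoc] using hc.symm.eq⟩)
    (by rw [orderOf_conj]; exact fun t ht h => ⟨hz t ht (h.trans (orderOf_dvd_of_mem_zpowers hxz)), hx t ht h⟩)
  refine ⟨c * g, ?_⟩
  have e := mem_cent.1 hc1.2 _ (mem_zpowers _)
  rw [show c * g * (y * x) * (c * g)⁻¹ = c * (g * y * g⁻¹) * (g * x * g⁻¹) * c⁻¹ by group, ← e, mul_assoc, mul_assoc,
    ← mul_assoc c]
  exact mul_mem (mem_sup_left yT) (mem_sup_right hc2.1)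

/-- More than `|G|_π / p` classes of `π`-elements. -/
def Many (p : ℕ) (π : Set ℕ) (G : Type*) [Group G] : Prop :=
  ∀ d, IsPiNum π d → d ∣ Nat.card G → d < p * kPi π G

theorem Many.erase (h : Many p π G) {r : ℕ} [hr : Fact r.Prime] (hπ : r ∈ π) : Many p (π \ {r}) G := by
  intro d hd hG
  obtain ⟨T, hT⟩ := Syl.exists r (⊤ : Subgroup G)
  have h1 := h (d * Nat.card T) ((hd.mono fun _ h => h.1).mul (isPiNum_of_isPGroup hr.out hT.pg hπ))
    ((((isPGroup_iff_isPiNum hr.out).1 hT.pg).coprime (hd.mono fun _ h => h.2)).symm.mul_dvd_of_dvd_of_dvd hG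
      (card_subgroup_dvd_card T))
  have h2 := kPi_le_mul (G := G) (π := π) (ρ := π \ {r}) (σ := {r})
    (fun t _ h1 h2 => by_contra fun h3 => h2 ⟨h1, h3⟩) (Nat.card T) fun H => by
      obtain ⟨P⟩ : Nonempty (Sylow r H) := inferInstance
      obtain ⟨g, -, hg⟩ := hT.conj_le (P.isPGroup'.map H.subtype) le_top
      have := card_le_of_le hg
      rw [card_cj, card_map_subtype] at this
      exact (kPi_le_card_sylow P).trans this
  exact lt_of_mul_lt_mul_right (h1.trans_le (by rw [mul_assoc]; exact Nat.mul_le_mul_left p h2)) (Nat.zero_le _)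

theorem Many.nil (h : Many p π G) (hp : ∀ r ∈ π, p ≤ r) {M : Subgroup G} (hM : IsPiHall π M)
    (hz : ∀ z : G, IsPiNum π (orderOf z) → ∃ g : G, g * z * g⁻¹ ∈ M) : Group.IsNilpotent M :=
  nil_of M (le_of_dvd hp hM.card Nat.card_pos.ne')
    ((h _ hM.card (card_subgroup_dvd_card M)).trans_le (Nat.mul_le_mul_left p (kPi_le_cc hz)))

/-- The counting step. -/
theorem count {q : ℕ} [hq : Fact q.Prime] (hp : ∀ r ∈ π, p ≤ r) (hπ : q ∈ π) {H Q Q0 : Subgroup G}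
    (hH : IsPiHall (π \ {q}) H) (hn : Group.IsNilpotent H) (hQ : Syl q Q ⊤) (h0 : Syl q Q0 𝐂[H])
    (hlt : q * Nat.card Q0 ≤ Nat.card Q) (nQ : ¬ 𝐍[Q] ≤ 𝐂[Q]) (nH : ¬ 𝐍[H] ≤ 𝐂[H])
    (ih : ∀ C : Subgroup G, Many p (π \ {q}) C → ∃ U : Subgroup C, IsPiHall (π \ {q}) U ∧ Group.IsNilpotent U) :
    p * kPi π G ≤ Nat.card H * Nat.card Q := by
  classical
  have hp' : ∀ r ∈ π \ {q}, p ≤ r := fun r h => hp r h.1
  obtain ⟨e, eQ, eH, eC⟩ : ∃ e ∈ 𝐍[Q0], e ∈ 𝐍[H] ∧ e ∉ 𝐂[H] := by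
    obtain ⟨n, h1, h2⟩ := SetLike.not_le_iff_exists.1 nH
    obtain ⟨m, hm, k, hk, rfl⟩ := h0.frattini (norm_cent le_rfl h1)
    exact ⟨k, hk, (mul_mem_cancel_left (cent_le_norm H hm)).1 h1, fun h => h2 (mul_mem hm h)⟩
  obtain ⟨f, hf, hf'⟩ : ∃ f : ConjClasses G → G, (∀ c, ConjClasses.mk (f c) = c) ∧
      ∀ y ∈ Q0, f (ConjClasses.mk y) ∈ Q0 := by
    have : ∀ c : ConjClasses G, ∃ x, ConjClasses.mk x = c ∧ ∀ y ∈ Q0, ConjClasses.mk y = c → x ∈ Q0 := fun c => by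
      by_cases h : ∃ y ∈ Q0, ConjClasses.mk y = c
      · obtain ⟨y, h1, h2⟩ := h
        exact ⟨y, h2, fun _ _ _ => h1⟩
      · exact ⟨rep c, mk_rep c, fun y h1 h2 => absurd ⟨y, h1, h2⟩ h⟩
    choose f h1 h2 using this
    exact ⟨f, h1, fun y hy => h2 _ y hy rfl⟩
  have := Fintype.ofFinite (PiCl {q} G)
  have := Fintype.ofFinite G
  let w : ConjClasses G → ℕ := fun c => (Finset.univ.filter fun y => y ∈ Q0 ∧ ConjClasses.mk y = c).card
  have hw : ∑ c : PiCl {q} G, w c.1 ≤ Nat.card Q0 := by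
    rw [← Finset.card_biUnion (fun c _ d _ h => Finset.disjoint_filter.2 fun y _ h1 h2 =>
      h (Subtype.ext (h1.2.symm.trans h2.2))), Nat.card_eq_fintype_card, Fintype.card_subtype]
    refine Finset.card_le_card fun y hy => ?_
    obtain ⟨c, -, h⟩ := Finset.mem_biUnion.1 hy
    exact Finset.mem_filter.2 ⟨Finset.mem_univ _, (Finset.mem_filter.1 h).2.1⟩
  obtain ⟨t, rfl⟩ | rfl : (∃ t, p = t + 1) ∨ p = 0 := by rcases p with _ | p <;> simp
  swap
  · simp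
  have key : ∀ c : PiCl {q} G, 2 * ((t + 1) * kPi (π \ {q}) (centralizer ({f c.1} : Set G))) ≤
      2 * Nat.card H + w c.1 * (Nat.card H * t) := by
    intro c
    by_cases hc : f c.1 ∈ Q0
    · have hC : IsPiHallOf (π \ {q}) H (centralizer {f c.1}) :=
        hH.isPiHallOf (le_centralizer_singleton_iff.2 (h0.le hc))
      have m1 : f c.1 ∈ Finset.univ.filter fun y => y ∈ Q0 ∧ ConjClasses.mk y = c.1 :=
        Finset.mem_filter.2 ⟨Finset.mem_univ _, hc, hf _⟩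
      by_cases h1 : e * f c.1 * e⁻¹ = f c.1
      · have h2 := two_mul_le hp' (R := H.subgroupOf (centralizer {f c.1})) hC.subgroupOf.card (elt_sub hC hn)
          (e := ⟨e, CI.mem_cent'.2 h1⟩) (by rw [← subgroupOf_normalizer_eq hC.le]; exact eH)
          (by rw [centralizer_subgroupOf_of_le hC.le]; exact eC)
        rw [card_subgroupOf_of_le hC.le] at h2
        have h3 : 1 ≤ w c.1 := Finset.card_pos.2 ⟨_, m1⟩
        nlinarith [Nat.mul_le_mul_right (Nat.card H * t) h3]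
      · have h3 : 2 ≤ w c.1 := Finset.one_lt_card.2 ⟨_, Finset.mem_filter.2 ⟨Finset.mem_univ _, conj_mem_of_norm eQ hc,
          (ConjClasses.mk_eq_mk_iff_isConj.2 (isConj_iff.2 ⟨e, rfl⟩)).symm.trans (hf _)⟩, _, m1, h1⟩
        nlinarith [Nat.mul_le_mul_right (Nat.card H * t) h3, Nat.mul_le_mul_left (t + 1) (kPi_le_hall hC hn)]
    · refine le_trans (Nat.mul_le_mul_left 2 (not_lt.1 fun h1 => hc ?_)) (Nat.le_add_right _ _)
      obtain ⟨U, hU, nU⟩ := ih (centralizer {f c.1}) fun d hd h => (Nat.le_of_dvd Nat.card_pos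
        (hd.dvd_of_dvd_mul hH.index (H.card_mul_index ▸ h.trans (card_subgroup_dvd_card _)))).trans_lt h1
      have hU' := hU.map_subtype
      have nU' : Group.IsNilpotent (U.map (centralizer {f c.1}).subtype) :=
        Group.nilpotent_of_mulEquiv (U.equivMapOfInjective _ (subtype_injective _))
      obtain ⟨g, -, hg⟩ := dom_in (isPiHallOf_top_iff.2 hH) hn le_top hU'.card
      have e1 : cj(g, U.map (centralizer {f c.1}).subtype) = H := eq_of_le_of_card_eq hg (by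
        rw [card_cj]
        by_contra h2
        exact h1.not_ge ((Nat.mul_le_mul_left _ (kPi_le_hall hU' nU')).trans
          (mul_le_of_dvd hp' hH.card Nat.card_pos.ne' (hH.card_dvd hU'.card) h2)))
      have h2 : g * f c.1 * g⁻¹ ∈ 𝐂[H] := by
        rw [← e1, ← cj_cent]
        exact conj_mem_cj (le_centralizer_singleton_iff.1 hU'.le)
      obtain ⟨k, -, hk⟩ := h0.conj_le (P := zpowers (g * f c.1 * g⁻¹)) ((isPGroup_iff_isPiNum hq.out).2 (by
        rw [Nat.card_zpowers, orderOf_conj]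
        exact c.2 _ (ConjClasses.mem_carrier_iff_mk_eq.2 (hf _)))) (zpowers_le.2 h2)
      have h3 := hf' _ (cj_le_iff.1 hk _ (mem_zpowers _))
      rwa [← ConjClasses.mk_eq_mk_iff_isConj.2 ((isConj_iff.2 ⟨g, rfl⟩).trans (isConj_iff.2 ⟨k, rfl⟩)), hf] at h3
  have h1 : 2 * ((t + 1) * kPi π G) ≤ kPi {q} G * (2 * Nat.card H) + Nat.card Q0 * (Nat.card H * t) := by
    refine (Nat.mul_le_mul_left 2 (Nat.mul_le_mul_left _ (kPi_le_sum (ρ := {q}) (σ := π \ {q})
      (fun r _ h1 h2 => ⟨h1, h2⟩) f hf))).trans ?_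
    rw [Finset.mul_sum, Finset.mul_sum]
    refine (Finset.sum_le_sum fun c _ => key c).trans ?_
    rw [Finset.sum_add_distrib, ← Finset.sum_mul _ _ (Nat.card H * t), Finset.sum_const, smul_eq_mul, Finset.card_univ,
      ← Nat.card_eq_fintype_card]
    exact Nat.add_le_add_left (Nat.mul_le_mul_right _ hw) _
  obtain ⟨n, n1, n2⟩ := SetLike.not_le_iff_exists.1 nQ
  have h2 := two_mul_le (π := {q}) (σ := {q}) (p := q) (fun r h => h.ge) ((isPGroup_iff_isPiNum hq.out).1 hQ.pg)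
    (fun x hx => by
      obtain ⟨g, -, hg⟩ := hQ.conj_le (P := zpowers x) ((isPGroup_iff_isPiNum hq.out).2
        (by rwa [Nat.card_zpowers])) le_top
      exact ⟨g, cj_le_iff.1 hg x (mem_zpowers x)⟩) n1 n2
  have h3 := hp q hπ
  refine Nat.le_of_mul_le_mul_left ?_ (Nat.mul_pos two_pos hq.out.pos)
  nlinarith [Nat.mul_le_mul_left q h1, Nat.mul_le_mul_left (Nat.card H) h2,
    Nat.mul_le_mul_left (Nat.card H * t) hlt, Nat.mul_le_mul_left (Nat.card H * Nat.card Q) h3]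

theorem main (s : Finset ℕ) : ∀ (π : Set ℕ), π ⊆ s → (∀ r ∈ π, r.Prime ∧ p ≤ r) → ∀ (G : Type u) [Group G] [Finite G],
    Many p π G → ∃ H : Subgroup G, IsPiHall π H ∧ Group.IsNilpotent H := by
  induction s using Finset.strongInduction with
  | _ s ih =>
  intro π hs hπ G _ _ h
  have hp : ∀ r ∈ π, p ≤ r := fun r h => (hπ r h).2
  have ih' : ∀ r ∈ π, ∀ (X : Type u) [Group X] [Finite X], Many p (π \ {r}) X →
      ∃ H : Subgroup X, IsPiHall (π \ {r}) H ∧ Group.IsNilpotent H := fun r hr =>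
    ih (s.erase r) (Finset.erase_ssubset (hs hr)) _ (fun t ht => Finset.mem_erase.2 ⟨ht.2, hs ht.1⟩)
      fun t ht => hπ t ht.1
  have D : ∀ r ∈ π, ∀ R : Subgroup G, Syl r R ⊤ → 𝐍[R] ≤ 𝐂[R] →
      ∃ H : Subgroup G, IsPiHall π H ∧ Group.IsNilpotent H := fun r hr R hR hN => by
    haveI := Fact.mk (hπ r hr).1
    obtain ⟨P, rfl⟩ := hR.exists_sylow_top
    obtain ⟨L, hL, nL⟩ := ih' r hr G (h.erase hr)
    obtain ⟨M, hM, hz⟩ := compl_case hr (Tr.hasNormalPComplement_of_normalizer_le_centralizer P hN) hL nL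
    exact ⟨M, hM, h.nil hp hM hz⟩
  rcases π.eq_empty_or_nonempty with rfl | ⟨q, hq⟩
  · exact ⟨⊥, ⟨isPiNum_card_bot _, fun _ _ h => h.elim⟩, inferInstance⟩
  haveI := Fact.mk (hπ q hq).1
  obtain ⟨H, hH, nH⟩ := ih' q hq G (h.erase hq)
  obtain ⟨Q0, h0⟩ := Syl.exists q 𝐂[H]
  obtain ⟨Q, le, hQ⟩ := Syl.exists_ge h0.pg le_top
  have pQ := (isPGroup_iff_isPiNum (hπ q hq).1).1 hQ.pg
  by_cases e : Nat.card Q0 = Nat.card Q
  · obtain rfl := eq_of_le_of_card_eq le e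
    have := hQ.pg.isNilpotent
    refine ⟨Q0 ⊔ H, ⟨(isPiNum_of_isPGroup (hπ q hq).1 hQ.pg hq).card_sup_of_le_normalizer
      (hH.card.mono fun _ h => h.1) (norm_of_cent h0.le), fun t ht h1 h2 => ?_⟩, isNilpotent_sup_of_le_centralizer h0.le⟩
    by_cases e : t = q
    · exact hQ.nd (by rw [relIndex_top_right]; exact e ▸ h2.trans (index_dvd_of_le le_sup_left))
    · exact hH.2 t ht ⟨h1, e⟩ (h2.trans (index_dvd_of_le le_sup_right))
  by_cases nQ : 𝐍[Q] ≤ 𝐂[Q]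
  · exact D q hq Q hQ nQ
  by_cases cH : 𝐍[H] ≤ 𝐂[H]
  · obtain ⟨r, hr, hd⟩ := exists_prime_dvd_card_of_ne_bot (H := H) (by
      rintro rfl
      rw [cent_bot] at h0
      exact e (h0.card_eq hQ))
    have h1 := hH.1 r hr hd
    haveI := Fact.mk hr
    obtain ⟨R, hR⟩ := Syl.exists r H
    refine D r h1.1 R ⟨le_top, hR.pg, ?_⟩ fun g hg => ?_
    · rw [relIndex_top_right, ← relIndex_mul_index hR.le, hr.dvd_mul]
      exact fun h => h.elim hR.nd (hH.2 r hr h1)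
    · have HC : H ≤ 𝐂[R] := (le_normalizer.trans cH).trans (cent_anti hR.le)
      obtain ⟨c, hc, e1⟩ := dom_in (hH.isPiHallOf HC) nH (cj_le_of_norm HC (norm_cent le_rfl hg))
        (by rw [card_cj]; exact hH.card)
      rw [cj_cj] at e1
      exact (mul_mem_cancel_left hc).1 (cent_anti hR.le (cH (mem_norm_of_cj_le e1)))
  exact absurd (count hp hq hH nH hQ h0 (mul_le_of_dvd (π := {q}) (fun _ h => h.ge) pQ Nat.card_pos.ne'
    (card_dvd_of_le le) e) nQ cH fun C => ih' q hq C) (h _ ((hH.card.mono fun _ h => h.1).mul (pQ.mono (by simpa)))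
      ((pQ.coprime (hH.card.mono fun _ h => h.2)).symm.mul_dvd_of_dvd_of_dvd (card_subgroup_dvd_card H)
        (card_subgroup_dvd_card Q))).not_ge

omit [Finite G] in
theorem kPi_congr (h : ∀ r, r ∣ Nat.card G → (r ∈ π ↔ r ∈ σ)) : kPi π G = kPi σ G :=
  Nat.card_congr (Equiv.subtypeEquivRight fun _ => forall₂_congr fun x _ => forall₃_congr fun r _ hr =>
    h r (hr.trans (orderOf_dvd_natCard x)))

theorem exists_hall (hπ : ∀ q ∈ π, q.Prime) (hp : ∀ q ∈ π, p ≤ q) {m : ℕ} (hm : m ∣ Nat.card G) (h1 : IsPiNum π m)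
    (h2 : ∀ q ∈ π, ¬ q ∣ Nat.card G / m) (h : m < p * kPi π G) :
    ∃ H : Subgroup G, Nat.card H = m ∧ Group.IsNilpotent H ∧ (∀ d, d ∣ Nat.card H → d ≠ 1 → p ≤ d) ∧
      kPi π G ≤ Nat.card (ConjClasses H) := by
  have c : IsPiNum πᶜ (Nat.card G / m) := isPiNum_compl_iff.2 fun q _ => h2 q
  have e := Nat.mul_div_cancel' hm
  obtain ⟨H, hH, n⟩ := main (p := p) (Nat.card G).primeFactors (π ∩ (Nat.card G).primeFactors) Set.inter_subset_right
    (fun r h => ⟨hπ r h.1, hp r h.1⟩) G fun d hd hG => by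
      rw [← kPi_congr (π := π) (σ := π ∩ (Nat.card G).primeFactors) fun r hr =>
        ⟨fun h => ⟨h, Nat.mem_primeFactors.2 ⟨hπ r h, hr, Nat.card_pos.ne'⟩⟩, (·.1)⟩]
      exact (Nat.le_of_dvd (Nat.pos_of_dvd_of_pos hm Nat.card_pos)
        ((hd.mono Set.inter_subset_left).dvd_of_dvd_mul c (e.symm ▸ hG))).trans_lt h
  have hH' : IsPiHall π H := ⟨hH.card.mono Set.inter_subset_left, fun r hr h1 h2 =>
    hH.2 r hr ⟨h1, Nat.mem_primeFactors.2 ⟨hr, h2.trans H.index_dvd_card, Nat.card_pos.ne'⟩⟩ h2⟩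
  exact ⟨H, piPart_unique hH'.card hH'.index h1 c (H.card_mul_index.trans e.symm), n,
    le_of_dvd hp hH'.card Nat.card_pos.ne', kPi_le_cc fun x hx =>
      (elt_in (isPiHallOf_top_iff.2 hH') n (mem_top x) hx).imp fun _ h => h.2⟩

end Cfsg.Agent.FG.PM
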