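import Mathlib
import Cfsg.Agent.FG.CKE

/-!
# Pyramidal groups, I: anisotropic quadratic maps over `F₂`
-/

set_option autoImplicit false

namespace Cfsg.Agent.FG.Pyr

open Subgroup Module MulAction CK

variable {U W : Type*} [AddCommGroup U] [Module (ZMod 2) U] [AddCommGroup W] [Module (ZMod 2) W]

/-- polarisation -/
def pol (σ : U → W) (a b : U) : W := σ (a + b) + σ a + σ b

/-- an anisotropic quadratic map -/
structure Quad (σ : U → W) : Prop where
  add : ∀ a a' b, pol σ (a + a') b = pol σ a b + pol σ a' b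
  aniso : ∀ u, σ u = 0 → u = 0

variable {σ : U → W}

omit [Module (ZMod 2) U] [Module (ZMod 2) W] in
theorem pol_comm (a b : U) : pol σ a b = pol σ b a := by
  rw [pol, pol, add_comm a, add_right_comm]

omit [Module (ZMod 2) U] in
theorem sigma_add (σ : U → W) (a b : U) : σ (a + b) = σ a + σ b + pol σ a b := by
  rw [pol, add_assoc (σ (a + b)), add_comm (σ (a + b)), add_add_cancel']

omit [Module (ZMod 2) U] in
theorem Quad.zero (h : Quad σ) : σ 0 = 0 := by
  have := h.add 0 0 0
  rwa [add_zero, add_self (pol σ 0 0), pol, add_zero, add_add_cancel] at this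

theorem degLt_const {A : Type*} [AddCommGroup A] (c : ZMod 2) : DegLt 1 fun _ : A => c :=
  fun _ _ => CharTwo.add_self_eq_zero _

theorem degLt_mul {A : Type*} [AddCommGroup A] {i j : ℕ} {f g : A → ZMod 2} (hf : DegLt (i + 1) f)
    (hg : DegLt (j + 1) g) : DegLt (i + j + 1) fun t => f t * g t := by
  have := (degLt_prod (i + j + 1) (i + 1) (j + 1) (fun a b => f a * g b) (by omega)
    (fun b => by
      rcases z2 (g b) with e | e
      · exact degLt_of_zero _ fun t => by rw [e, mul_zero]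
      · simpa only [e, mul_one] using hf)
    fun a => by
      rcases z2 (f a) with e | e
      · exact degLt_of_zero _ fun t => by rw [e, zero_mul]
      · simpa only [e, one_mul] using hg).comp ((AddMonoidHom.id A).prod (AddMonoidHom.id A)) 0
  simpa using this

omit [Module (ZMod 2) U] in
theorem Quad.degLt (h : Quad σ) (η : Dual (ZMod 2) W) : DegLt 3 fun u => η (σ u) := by
  intro s s' s'' t
  simp only [← map_add]
  have e : ∀ t, σ (t + s) + σ t = σ s + pol σ t s := fun t => by
    rw [sigma_add σ t s, add_right_comm, add_right_comm (σ t), add_self, zero_add]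
  have e' : ∀ t, σ (t + s' + s) + σ (t + s') + (σ (t + s) + σ t) = pol σ s' s := fun t => by
    rw [e, e, h.add, add_add_add_comm, add_self, zero_add, add_right_comm, add_self, zero_add]
  rw [e', e', add_self, map_zero]

variable [Finite U] [Finite W]

/-- Chevalley-Warning -/
theorem Quad.finrank_le (h : Quad σ) : finrank (ZMod 2) U ≤ 2 * finrank (ZMod 2) W := by
  classical
  have := Fintype.ofFinite U
  let b := Module.finBasis (ZMod 2) W
  have h1 : ∀ s : Finset (Fin (finrank (ZMod 2) W)),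
      DegLt (2 * s.card + 1) fun u => ∏ i ∈ s, (1 + b.coord i (σ u)) := fun s => by
    induction s using Finset.induction_on with
    | empty => simpa using degLt_const 1
    | insert i s hi ih =>
      simp only [Finset.prod_insert hi, Finset.card_insert_of_notMem hi]
      exact (degLt_mul (((degLt_const 1).mono (by omega)).add (h.degLt (b.coord i))) ih).mono
        (by omega)
  by_contra h2
  have h3 := DegLt.sum_eq_zero _ (h1 Finset.univ) (by rw [Finset.card_univ, Fintype.card_fin]; omega)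
  rw [Finset.sum_eq_single 0] at h3
  · simp [h.zero] at h3
  · intro u _ hu
    obtain ⟨i, hi⟩ : ∃ i, b.coord i (σ u) ≠ 0 := by
      by_contra e
      simp only [not_exists, not_not] at e
      exact hu (h.aniso u (b.forall_coord_eq_zero_iff.mp e))
    exact Finset.prod_eq_zero (Finset.mem_univ i) (by rw [(z2 _).resolve_left hi]; rfl)
  · simp

/-- the fibres of `σ` over nonzero vectors are permuted transitively -/
def Fib (σ : U → W) : Prop := ∀ v w, v ≠ 0 → w ≠ 0 → ∃ θ : U ≃ U, ∀ u, σ u = v ↔ σ (θ u) = w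

omit [Module (ZMod 2) U] in
theorem Quad.sum_comp [Fintype U] [Fintype W] (h : Quad σ) (hf : Fib σ) : ∃ f : ℕ, ∀ g : W → ℤ,
    ∑ u, g (σ u) = g 0 + f * (∑ w, g w - g 0) := by
  classical
  obtain ⟨f, h1⟩ : ∃ f, ∀ w ≠ 0, (Finset.univ.filter (σ · = w)).card = f := by
    by_cases e : ∃ v : W, v ≠ 0
    · obtain ⟨v, hv⟩ := e
      refine ⟨(Finset.univ.filter (σ · = v)).card, fun w hw => ?_⟩
      obtain ⟨θ, e⟩ := hf w v hw hv
      exact Finset.card_equiv θ (by simpa using e)
    · exact ⟨0, fun w hw => absurd ⟨w, hw⟩ e⟩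
  refine ⟨f, fun g => ?_⟩
  rw [← Finset.sum_fiberwise Finset.univ σ, ← Finset.add_sum_erase _ _ (Finset.mem_univ 0),
    ← Finset.add_sum_erase _ g (Finset.mem_univ 0), add_sub_cancel_left, Finset.mul_sum,
    show Finset.univ.filter (σ · = 0) = {0} by
      ext u; simpa using ⟨h.aniso u, fun e => e ▸ h.zero⟩, Finset.sum_singleton, h.zero]
  congr 1
  refine Finset.sum_congr rfl fun w hw => ?_
  rw [Finset.sum_congr rfl fun u hu => congrArg g (Finset.mem_filter.mp hu).2, Finset.sum_const,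
    h1 w (Finset.mem_erase.mp hw).1, nsmul_eq_mul]

theorem Quad.not_sq (h : Quad σ) (hf : Fib σ) (hn : finrank (ZMod 2) U = 2 * finrank (ZMod 2) W)
    {η : Dual (ZMod 2) W} (hη : η ≠ 0) {A : Submodule (ZMod 2) U}
    (hA : finrank (ZMod 2) W ≤ finrank (ZMod 2) A) (h0 : ∀ a ∈ A, η (σ a) = 0) : False := by
  classical
  have := Fintype.ofFinite U
  have := Fintype.ofFinite W
  obtain ⟨f, h1⟩ := h.sum_comp hf
  obtain ⟨y, hy⟩ := exists_one hη
  have h2 := h1 fun _ => 1
  have h3 := h1 fun w => χ (η w)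
  rw [sum_eq_zero_of_shift (fun w => χ (η w)) y fun w => by rw [map_add, hy, χ_add, χ_one]; ring,
    map_zero, χ_zero] at h3
  simp only [Finset.sum_const, Finset.card_univ, ← Nat.card_eq_fintype_card, card_V, hn, smul_eq_mul,
    nsmul_eq_mul, mul_one, two_mul, pow_add] at h2
  have h4 : 1 < 2 ^ finrank (ZMod 2) W := Nat.one_lt_two_pow fun e => hη (by
    have := Module.finrank_zero_iff.mp e
    exact Subsingleton.elim _ _)
  obtain ⟨k, hk⟩ := Nat.exists_eq_add_of_le hA
  have h5 : (f : ℤ) = (2 ^ finrank (ZMod 2) W : ℕ) + 1 := by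
    push_cast at h2 ⊢
    have : (1 : ℤ) < 2 ^ finrank (ZMod 2) W := by exact_mod_cast h4
    exact mul_right_cancel₀ (b := 2 ^ finrank (ZMod 2) W - 1) (by omega) (by linear_combination -h2)
  let B : Submodule (ZMod 2) U :=
    { carrier := {u | ∀ a ∈ A, η (pol σ u a) = 0}
      add_mem' := fun h1 h2 a ha => by rw [h.add, map_add, h1 a ha, h2 a ha, add_zero]
      zero_mem' := fun a _ => by rw [pol, zero_add, h.zero, add_zero, add_self, map_zero]
      smul_mem' := fun r u hu a ha => by
        rcases z2 r with rfl | rfl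
        · rw [zero_smul, pol, zero_add, h.zero, add_zero, add_self, map_zero]
        · rw [one_smul]; exact hu a ha }
  have h6 : A ≤ B := fun a ha b hb => by
    rw [pol, map_add, map_add, h0 a ha, h0 b hb, h0 _ (add_mem ha hb)]; rfl
  have h7 : ∀ u, ∀ a ∈ A, η (σ (u + a)) = η (σ u) + η (pol σ u a) := fun u a ha => by
    rw [sigma_add σ, map_add, map_add, h0 a ha, add_zero]
  have h8 : ∑ u, χ (η (σ u)) = ∑ u, if u ∈ B then χ (η (σ u)) else 0 := by
    refine mul_left_cancel₀ (a := (Fintype.card A : ℤ)) (by exact_mod_cast Fintype.card_ne_zero) ?_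
    rw [← Finset.card_univ, ← nsmul_eq_mul, ← Finset.sum_const, Finset.sum_congr rfl
      fun (a : A) _ => (Equiv.sum_comp (Equiv.addRight (a : U)) fun u => χ (η (σ u))).symm,
      Finset.sum_comm, Finset.mul_sum]
    refine Finset.sum_congr rfl fun u _ => ?_
    simp only [Equiv.coe_addRight, h7 u _ (Subtype.prop _), χ_add, ← Finset.mul_sum]
    split_ifs with e
    · rw [Finset.sum_congr rfl fun (a : A) _ => congrArg χ (e a a.2)]
      simp [χ_zero, mul_comm]
    · obtain ⟨a, ha, e⟩ : ∃ a ∈ A, η (pol σ u a) ≠ 0 := by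
        by_contra e'
        exact e fun a ha => by_contra fun e'' => e' ⟨a, ha, e''⟩
      rw [sum_eq_zero_of_shift (fun a : A => χ (η (pol σ u a))) ⟨a, ha⟩ fun b => by
        rw [Submodule.coe_add, pol_comm, h.add, map_add, χ_add, pol_comm a, (z2 _).resolve_left e,
          χ_one, pol_comm]; ring]
      simp
  have h9 : ∀ u, (if u ∈ B then χ (η (σ u)) else 0) = (if u ∈ B then 1 else 0) -
      2 * if u ∈ B ∧ η (σ u) = 1 then 1 else 0 := fun u => by
    by_cases e : u ∈ B <;> rcases z2 (η (σ u)) with e' | e' <;> simp [e, e', χ_zero, χ_one]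
  simp only [h9, Finset.sum_sub_distrib, ← Finset.mul_sum, Finset.sum_boole] at h8
  rw [← Fintype.card_subtype, ← Nat.card_eq_fintype_card, card_sub, ← Set.ncard_coe_finset,
    Finset.coe_filter_univ] at h8
  obtain ⟨m, hm⟩ := dvd_ncard_of_orb (G := Multiplicative U) A.toAddSubgroup.toSubgroup
    (m := 2 ^ finrank (ZMod 2) A) {u : U | u ∈ B ∧ η (σ u) = 1} (fun g hg u hu =>
      ⟨add_mem (h6 hg) hu.1, show η (σ (g.toAdd + u)) = 1 by
        rw [add_comm, h7 u g.toAdd hg, hu.2, hu.1 g.toAdd hg, add_zero]⟩) fun u _ => by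
      rw [ncard_orb, show stabilizer (Multiplicative U) u = ⊥ from eq_bot_iff.mpr fun g hg =>
        show g.toAdd = 0 from add_eq_right.mp (show g.toAdd + u = u from hg), relIndex_bot_left, ← card_sub]
      exact dvd_of_eq rfl
  rw [hm, h3, h5] at h8
  rcases h6.eq_or_lt with e | e
  · rw [show {u : U | u ∈ B ∧ η (σ u) = 1} = ∅ from Set.eq_empty_of_forall_notMem fun u hu =>
      zero_ne_one ((h0 u (e.ge hu.1)).symm.trans hu.2), Set.ncard_empty] at hm
    rw [← hm] at h8
    have := Nat.one_le_two_pow (n := finrank (ZMod 2) B)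
    omega
  obtain ⟨l, hl⟩ := Nat.exists_eq_add_of_lt (Submodule.finrank_lt_finrank_of_lt e)
  rw [hl, hk] at h8
  push_cast at h8
  have h10 : (2 : ℤ) ^ finrank (ZMod 2) W * (1 + 2 * (2 ^ k * 2 ^ l - 2 ^ k * m)) = 0 := by
    linear_combination -h8
  rcases mul_eq_zero.mp h10 with e | e
  · exact pow_ne_zero _ two_ne_zero e
  · omega

theorem Quad.pol_eq_zero (h : Quad σ) (hf : Fib σ) (hn : finrank (ZMod 2) U = finrank (ZMod 2) W)
    (ht : ∀ η : Dual (ZMod 2) W, η ≠ 0 → ∃ (θ : U →ₗ[ZMod 2] U) (τ : W → W),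
      (∀ u, σ (θ u) = τ (σ u)) ∧ ∀ w, τ w = w ↔ η w = 0) (a b : U) : pol σ a b = 0 := by
  by_contra h0
  have h1 : Function.Bijective σ := by
    refine (Function.Surjective.bijective_of_nat_card_le (fun w => ?_) (by rw [card_V, card_V, hn]))
    by_cases e : w = 0
    · exact ⟨0, h.zero.trans e.symm⟩
    have : a ≠ 0 := fun e => h0 (by rw [e, pol, zero_add, h.zero, add_zero, add_self])
    obtain ⟨θ, e⟩ := hf (σ a) w (fun e => this (h.aniso a e)) e
    exact ⟨_, (e a).mp rfl⟩
  obtain ⟨η, hη⟩ := exists_dual_one h0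
  have h2 : η ≠ 0 := fun e => by rw [e] at hη; exact zero_ne_one hη
  obtain ⟨θ, τ, e1, e2⟩ := ht η h2
  have h3 : ∀ u, u ∈ LinearMap.ker (θ + 1) ↔ η (σ u) = 0 := fun u => by
    rw [← e2, ← e1, h1.1.eq_iff, ← CK.add_eq_zero']; rfl
  have h4 : finrank (ZMod 2) (LinearMap.ker (θ + 1)) + 1 = finrank (ZMod 2) U := by
    have e3 := Nat.card_congr ((Equiv.ofBijective σ h1).subtypeEquiv
      (p := (· ∈ LinearMap.ker (θ + 1))) (q := (· ∈ LinearMap.ker η)) h3)
    rw [card_sub, card_sub] at e3
    rw [Nat.pow_right_injective le_rfl e3, hn, Module.Dual.finrank_ker_add_one_of_ne_zero h2]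
  have h5 : ∀ x y, η (σ x) = 1 → η (σ y) = 1 → η (σ (x + y)) = 0 := fun x y hx hy => by
    have e3 : x ∉ LinearMap.ker (θ + 1) := fun e => zero_ne_one (((h3 x).mp e).symm.trans hx)
    obtain ⟨c, hc, _, e4, rfl⟩ := Submodule.mem_sup.mp ((Submodule.eq_top_of_finrank_eq
      ((Submodule.finrank_sup_span_singleton e3).trans h4)).ge (trivial : y ∈ ⊤))
    obtain ⟨r, rfl⟩ := Submodule.mem_span_singleton.mp e4
    rcases z2 r with rfl | rfl
    · rw [zero_smul, add_zero, (h3 c).mp hc] at hy; exact absurd hy zero_ne_one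
    · rw [one_smul, add_comm c, add_add_cancel']; exact (h3 c).mp hc
  have h6 : ∀ x y, η (σ x) = 0 → η (σ y) = 0 → η (σ (x + y)) = 0 := fun x y hx hy =>
    (h3 _).mp (add_mem ((h3 x).mpr hx) ((h3 y).mpr hy))
  rw [pol, map_add, map_add] at hη
  rcases z2 (η (σ a)) with e3 | e3 <;> rcases z2 (η (σ b)) with e4 | e4 <;>
    rcases z2 (η (σ (a + b))) with e5 | e5 <;> rw [e3, e4, e5] at hη <;> try exact absurd hη (by decide)
  · exact zero_ne_one ((h6 a b e3 e4).symm.trans e5)
  · exact zero_ne_one ((by simpa only [add_add_cancel'] using h6 a _ e3 e5 : η (σ b) = 0).symm.trans e4)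
  · exact zero_ne_one ((by simpa only [add_add_cancel] using h6 _ b e5 e4 : η (σ a) = 0).symm.trans e3)
  · exact zero_ne_one ((h5 a b e3 e4).symm.trans e5)

end Cfsg.Agent.FG.Pyr
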