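import Mathlib
import Cfsg.Agent.FG.CKE

/-!
# Pyramidal groups, II: extensions of homocyclic 2-groups by `GL(n, 2)` have outer involutions
-/

set_option autoImplicit false

namespace Cfsg.Agent.FG.Pyr

open Module CK

/-- an extension of `GL(W)` by a homocyclic group `M` without involutions outside `M` -/
structure Ext (G M W : Type*) [Group G] [AddCommGroup M] [DistribMulAction G M] [AddCommGroup W]
    [Module (ZMod 2) W] where
  ι : M → G
  π : G →* (W ≃ₗ[ZMod 2] W)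
  j : W →+ M
  ε : M →+ W
  ι_add : ∀ a b, ι (a + b) = ι a * ι b
  ι_inj : Function.Injective ι
  ι_smul : ∀ g a, ι (g • a) = g * ι a * g⁻¹
  π_surj : Function.Surjective π
  π_ker : ∀ g, π g = 1 ↔ ∃ a, g = ι a
  j_inj : Function.Injective j
  j_range : ∀ a, a + a = 0 → ∃ w, j w = a
  j_smul : ∀ g w, g • j w = j (π g w)
  ε_surj : Function.Surjective ε
  ε_ker : ∀ a, ε a = 0 → ∃ x, a = x + x
  ε_smul : ∀ g a, ε (g • a) = π g (ε a)
  two : ∃ k, ∀ a : M, 2 ^ k • a = 0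
  noinv : ∀ g : G, g * g = 1 → ∃ a, g = ι a

variable {G M W : Type*} [Group G] [AddCommGroup M] [DistribMulAction G M] [AddCommGroup W]
  [Module (ZMod 2) W]

namespace Ext

variable (E : Ext G M W)

theorem ι_zero : E.ι 0 = 1 := by simpa using E.ι_add 0 0

theorem mul_ι (g : G) (a : M) : g * E.ι a = E.ι (g • a) * g := by rw [E.ι_smul]; group

theorem smul_eq {g g' : G} (h : E.π g = E.π g') (a : M) : g • a = g' • a := by
  obtain ⟨b, hb⟩ := (E.π_ker (g * g'⁻¹)).mp (by rw [map_mul, map_inv, h, mul_inv_cancel])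
  rw [mul_inv_eq_iff_eq_mul.mp hb, mul_smul]
  exact E.ι_inj (by rw [E.ι_smul, ← E.ι_add, add_comm, E.ι_add, mul_inv_cancel_right])

theorem sq_mul {t : G} {a : M} (h : t * t = E.ι a) (b : M) :
    E.ι b * t * (E.ι b * t) = E.ι (b + t • b + a) := by
  rw [E.ι_add, E.ι_add, ← h, mul_assoc, ← mul_assoc t, E.mul_ι]; group

theorem smul_sq {t : G} {a : M} (h : t * t = E.ι a) : t • a = a :=
  E.ι_inj (by rw [E.ι_smul, ← h]; group)

theorem smul_smul_self {t : G} {a : M} (h : t * t = E.ι a) (b : M) : t • t • b = b := by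
  rw [smul_smul, E.smul_eq (g' := 1) (by rw [(E.π_ker _).mpr ⟨a, h⟩, map_one]), one_smul]

theorem conj_rel {g t t' : G} {a a' : M} (h : t * t = E.ι a) (h' : t' * t' = E.ι a')
    (e : E.π g * E.π t = E.π t' * E.π g) : ∃ b, g • a = b + t' • b + a' := by
  obtain ⟨b, hb⟩ := (E.π_ker (g * t * g⁻¹ * t'⁻¹)).mp (by simp [e])
  exact ⟨b, E.ι_inj (by rw [← E.sq_mul h', E.ι_smul, ← h, ← hb]; group)⟩

/-- `t` induces a transvection -/
def Ov (t : G) (η : Dual (ZMod 2) W) (u : W) : Prop := η u = 0 ∧ ∀ v, E.π t v = v + η v • u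

variable {η : Dual (ZMod 2) W} {u : W} {t : G} {a : M}

theorem exists_ov (h : η u = 0) : ∃ t, E.Ov t η u :=
  (E.π_surj (LinearEquiv.transvection h)).imp fun _ e => ⟨h, fun v => by rw [e]; rfl⟩

variable {E}

theorem Ov.fix (ht : E.Ov t η u) (hu : u ≠ 0) {w : W} : E.π t w = w ↔ η w = 0 := by
  rw [ht.2, add_eq_left, smul_eq_zero_iff_left hu]

theorem Ov.mul (ht : E.Ov t η u) (b : M) : E.Ov (E.ι b * t) η u :=
  ⟨ht.1, by rw [map_mul, (E.π_ker _).mpr ⟨_, rfl⟩, one_mul]; exact ht.2⟩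

theorem Ov.exists_sq (ht : E.Ov t η u) : ∃ a, t * t = E.ι a :=
  (E.π_ker _).mp (LinearEquiv.ext fun v => by simp [ht.2, ht.1, add_add_cancel])

theorem Ov.ε_norm (ht : E.Ov t η u) (b : M) : E.ε (b + t • b) = η (E.ε b) • u := by
  rw [map_add, E.ε_smul, ht.2, add_add_cancel']

theorem Ov.j_norm (ht : E.Ov t η u) (w : W) : E.j w + t • E.j w = E.j (η w • u) := by
  rw [E.j_smul, ← map_add, ht.2, add_add_cancel']

theorem Ov.ε_sq (ht : E.Ov t η u) (hu : u ≠ 0) (h : t * t = E.ι a) : η (E.ε a) = 0 :=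
  (ht.fix hu).mp (by rw [← E.ε_smul, E.smul_sq h])

theorem Ov.not_norm (ht : E.Ov t η u) (hu : u ≠ 0) (hη : η ≠ 0) (h : t * t = E.ι a)
    (b : M) : a ≠ b + t • b := fun e => by
  have h1 := (E.π_ker _).mpr (E.noinv (E.ι (-b) * t) (by
    rw [E.sq_mul h, e, smul_neg, ← neg_add, neg_add_cancel, E.ι_zero]))
  obtain ⟨v, hv⟩ := exists_one hη
  exact one_ne_zero (hv.symm.trans (((ht.mul (-b)).fix hu).mp (by rw [h1]; rfl)))

theorem Ov.modify (ht : E.Ov t η u) (hu : u ≠ 0) (hη : η ≠ 0) (h : t * t = E.ι a)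
    (ha : E.ε a = 0 ∨ E.ε a = u) :
    ∃ b w, a = b + t • b + E.j w ∧ η w = 0 ∧ ¬ (w = 0 ∨ w = u) := by
  obtain ⟨v, hv⟩ := exists_one hη
  obtain ⟨c, hc⟩ : ∃ c, E.ε (a - (c + t • c)) = 0 := by
    rcases ha with e | e
    · exact ⟨0, by simpa using e⟩
    obtain ⟨c, rfl⟩ := E.ε_surj v
    exact ⟨c, by rw [map_sub, ht.ε_norm, hv, one_smul, e, sub_self]⟩
  obtain ⟨x, hx⟩ := E.ε_ker _ hc
  have h1 : t • x + t • x = x + x := by
    rw [← smul_add, ← hx, smul_sub, smul_add, E.smul_sq h, E.smul_smul_self h, add_comm]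
  obtain ⟨w, hw⟩ := E.j_range (x - t • x) (by rw [← add_sub_add_comm, h1, sub_self])
  have h2 : a = c + x + t • (c + x) + E.j w := by
    rw [hw, smul_add, sub_eq_iff_eq_add.mp hx]; abel
  refine ⟨_, w, h2, (ht.fix hu).mp (E.j_inj ?_), fun e => e.elim (fun e => ?_) fun e => ?_⟩
  · rw [← E.j_smul, hw, smul_sub, E.smul_smul_self h, sub_eq_sub_iff_add_eq_add, h1]
  · exact ht.not_norm hu hη h (c + x) (by rw [h2, e, map_zero, add_zero])
  · refine ht.not_norm hu hη h (c + x + E.j v) ?_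
    rw [h2, e, smul_add t (c + x), add_add_add_comm, ht.j_norm, hv, one_smul]

theorem Ov.iff (ht : E.Ov t η u) {g s : G} {b : M} (e2 : s * s = E.ι b) (e3 : t * t = E.ι a)
    (e4 : E.π g * E.π s = E.π t * E.π g) (e5 : E.π g u = u) :
    E.ε b = 0 ∨ E.ε b = u ↔ E.ε a = 0 ∨ E.ε a = u := by
  obtain ⟨d, hd⟩ := E.conj_rel e2 e3 e4
  have := congrArg E.ε hd
  rw [E.ε_smul, map_add, ht.ε_norm] at this
  rw [← (E.π g).map_eq_zero_iff, ← (E.π g).injective.eq_iff (b := u), this, e5]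
  rcases z2 (η (E.ε d)) with e | e
  · rw [e, zero_smul, zero_add]
  · rw [e, one_smul, CK.add_eq_zero', add_eq_left, or_comm, eq_comm (a := u)]

end Ext

variable [Finite W]

theorem mem_of_tv (hn : 4 ≤ finrank (ZMod 2) W) {η : Dual (ZMod 2) W} (hη : η ≠ 0) {u v : W}
    (hu : u ≠ 0) (hv : η v = 0) {A : AddSubgroup W} (hA : u ∈ A)
    (h : ∀ (ζ : Dual (ZMod 2) W) w, ζ u = 0 → η w = 0 → ζ w = 0 → ζ v • w ∈ A) : v ∈ A := by
  by_contra e
  obtain ⟨w, hw, i⟩ := exists_out (F := LinearMap.ker η)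
    (by have := Dual.finrank_ker_add_one_of_ne_zero hη; omega) u v
  replace i : Ind3 u v w := ⟨⟨hu, fun e' => e (e' ▸ zero_mem _), fun e' => e (e' ▸ hA)⟩, i⟩
  have key : ∀ w, η w = 0 → Ind3 u v w → w ∈ A := fun w hw i => by
    obtain ⟨ζ, h1, h2⟩ := exists_dual_of_not_mem fun e => mem_span_pair'.mp e i.s23.2
    simpa [h2] using h ζ w (h1 u (Submodule.subset_span (by simp))) hw
      (h1 w (Submodule.subset_span (by simp)))
  exact e ((add_mem_cancel_left (key w hw i)).mp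
    (key _ (by rw [map_add, hv, add_zero]; exact hw) i.s12.add.s12))

theorem Ext.not_four (E : Ext G M W) (hn : 4 ≤ finrank (ZMod 2) W) : False := by
  obtain ⟨u, x, i⟩ : ∃ u x : W, u ≠ 0 ∧ x ∉ Submodule.span (ZMod 2) {u} := by
    obtain ⟨u, -, h1⟩ := exists_out (F := ⊤) (by rw [finrank_top]; omega) (0 : W) 0
    obtain ⟨x, -, h2⟩ := exists_out (F := ⊤) (by rw [finrank_top]; omega) u u
    exact ⟨u, x, h1.1, fun e => mem_span_pair'.mp (by simpa using e) h2⟩
  obtain ⟨η, h1, h2⟩ := exists_dual_of_not_mem i.2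
  have h0 := h1 u (Submodule.mem_span_singleton_self u)
  have hη : η ≠ 0 := fun e => by rw [e] at h2; exact zero_ne_one h2
  obtain ⟨t, ht⟩ := E.exists_ov h0
  obtain ⟨a, ha⟩ := ht.exists_sq
  have key : ∀ (ζ : Dual (ZMod 2) W) w, ζ u = 0 → η w = 0 → ζ w = 0 → ∃ g : G,
      (∀ v, E.π g v = v + ζ v • w) ∧ E.π g * E.π t = E.π t * E.π g := fun ζ w e1 e2 e3 => by
    obtain ⟨g, hg⟩ := E.exists_ov e3
    exact ⟨g, hg.2, LinearEquiv.ext fun v => by simp [hg.2, ht.2, e1, e2, add_right_comm]⟩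
  have h3 := mem_of_tv hn hη i.1 (ht.ε_sq i.1 ha)
    (A := (Submodule.span (ZMod 2) {u}).toAddSubgroup) (Submodule.mem_span_singleton_self u)
    fun ζ w e1 e2 e3 => by
      obtain ⟨g, g1, g2⟩ := key ζ w e1 e2 e3
      obtain ⟨b, hb⟩ := E.conj_rel ha ha g2
      have := congrArg E.ε hb
      rw [E.ε_smul, g1, map_add, ht.ε_norm, add_comm, add_left_inj] at this
      exact this ▸ Submodule.smul_mem _ _ (Submodule.mem_span_singleton_self u)
  obtain ⟨b, w, h4, h5, -⟩ := ht.modify i.1 hη ha (by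
    obtain ⟨r, e⟩ := Submodule.mem_span_singleton.mp h3
    rcases z2 r with rfl | rfl
    exacts [.inl (by rw [← e, zero_smul]), .inr (by rw [← e, one_smul])])
  let A : AddSubgroup W := (AddMonoidHom.id M + DistribSMul.toAddMonoidHom M t).range.comap E.j
  obtain ⟨c, hc⟩ := mem_of_tv hn hη i.1 h5 (A := A) ⟨E.j x, (ht.j_norm x).trans (by
    rw [h2, one_smul])⟩ fun ζ w' e1 e2 e3 => by
      obtain ⟨g, g1, g2⟩ := key ζ w' e1 e2 e3
      obtain ⟨d, hd⟩ := E.conj_rel ha ha g2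
      have e4 : g • t • b = t • g • b := by
        rw [smul_smul, smul_smul]; exact E.smul_eq (by rw [map_mul, map_mul, g2]) b
      rw [h4, smul_add, smul_add, E.j_smul, g1, map_add, e4] at hd
      refine ⟨d + b - g • b, show d + b - g • b + t • (d + b - g • b) = _ from ?_⟩
      rw [smul_sub, smul_add, eq_sub_of_add_eq' (eq_sub_of_add_eq' hd)]
      abel
  refine ht.not_norm i.1 hη ha (b + c) ?_
  rw [h4, ← hc, smul_add, add_add_add_comm]; rfl

theorem Ext.not_three (E : Ext G M W) (hn : finrank (ZMod 2) W = 3) : False := by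
  obtain ⟨u, -, h1⟩ := exists_out (F := ⊤) (by rw [finrank_top]; omega) (0 : W) 0
  obtain ⟨x, -, h2⟩ := exists_out (F := ⊤) (by rw [finrank_top]; omega) u u
  obtain ⟨y, -, h3⟩ := exists_out (F := ⊤) (by rw [finrank_top]; omega) u x
  have i : Ind3 u x y := ⟨⟨h1.1, h2.1, h2.2.1.symm⟩, h3⟩
  have hu := h1.1
  obtain ⟨η, e1, ηx⟩ := exists_dual_of_not_mem fun e => mem_span_pair'.mp e i.s23.2
  obtain ⟨ζ, e2, ζy⟩ := exists_dual_of_not_mem fun e => mem_span_pair'.mp e i.2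
  have ηu := e1 u (Submodule.subset_span (by simp))
  have ηy := e1 y (Submodule.subset_span (by simp))
  have ζu := e2 u (Submodule.subset_span (by simp))
  have ζx := e2 x (Submodule.subset_span (by simp))
  have hη : η ≠ 0 := fun e => by rw [e] at ηx; exact zero_ne_one ηx
  have hζ : ζ ≠ 0 := fun e => by rw [e] at ζy; exact zero_ne_one ζy
  have hθ : η + ζ ≠ 0 := fun e => by simpa [ηx, ζx] using LinearMap.congr_fun e x
  have hS : ∀ A : Submodule (ZMod 2) W, u ∈ A → x ∈ A → y ∈ A → ∀ v, v ∈ A := fun A a1 a2 a3 v =>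
    (Submodule.eq_top_of_finrank_eq (le_antisymm (Submodule.finrank_le _)
      (hn ▸ three_le_finrank a1 a2 a3 i))).ge trivial
  have hk : ∀ v, η v = 0 → ζ v = 0 → v = 0 ∨ v = u := fun v v1 v2 => by
    obtain ⟨r, e⟩ := Submodule.mem_span_singleton.mp (hS ((Submodule.span (ZMod 2) {u}).comap
      (LinearMap.id + η.smulRight x + ζ.smulRight y)) (by simp [ηu, ζu])
      (by simp [ηx, ζx, add_self]) (by simp [ηy, ζy, add_self]) v)
    rcases z2 r with rfl | rfl <;> simp [v1, v2] at e <;> simp [e]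
  obtain ⟨g, hg⟩ := E.exists_ov ζx
  obtain ⟨k, hk'⟩ := E.exists_ov ηy
  have gu : E.π g u = u := (hg.fix h2.1).mpr ζu
  have ku : E.π k u = u := (hk'.fix h3.1).mpr ηu
  have main : ∀ s t : G, E.Ov s η u → E.Ov t ζ u →
      E.Ov (s * t) (η + ζ) u ∧ E.π s * E.π t = E.π t * E.π s ∧
      E.π g * E.π s = E.π (s * t) * E.π g ∧ E.π g * E.π t = E.π t * E.π g ∧
      E.π k * E.π t = E.π (s * t) * E.π k ∧ E.π k * E.π s = E.π s * E.π k := fun s t hs ht => by
    refine ⟨⟨by simp [ηu, ζu], fun v => ?_⟩, LinearEquiv.ext fun v => ?_, LinearEquiv.ext fun v => ?_,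
      LinearEquiv.ext fun v => ?_, LinearEquiv.ext fun v => ?_, LinearEquiv.ext fun v => ?_⟩ <;>
      simp only [map_mul, hs.2, ht.2, hg.2, hk'.2, LinearEquiv.mul_apply, map_add,
        map_smul, ηu, ζu, ηx, ζx, ηy, ζy, smul_eq_mul, mul_zero, mul_one, add_zero,
        LinearMap.add_apply, add_smul, zero_smul] <;>
      rcases z2 (η v) with e | e <;> rcases z2 (ζ v) with e' | e' <;>
      simp [e, e', add_assoc, add_self, add_comm u]
  have rel : ∀ (s t : G) (a b : M), E.Ov s η u → E.Ov t ζ u →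
      s * s = E.ι a → t * t = E.ι b → ∃ c, c + s • c = a - t • a ∧ c + t • c = s • b - b ∧
        s * t * (s * t) = E.ι (c + t • a + b) := fun s t a b hs ht ha hb => by
    obtain ⟨c, hc⟩ := (E.π_ker (s * t * s⁻¹ * t⁻¹)).mp (by simp [(main s t hs ht).2.1])
    refine ⟨c, eq_sub_of_add_eq (E.ι_inj ?_), eq_sub_of_add_eq (E.ι_inj ?_), ?_⟩
    · rw [add_comm c]; simp only [E.ι_add, E.ι_smul, ← hc, ← ha]; group
    · simp only [E.ι_add, E.ι_smul, ← hc, ← hb]; group
    · simp only [E.ι_add, E.ι_smul, ← hc, ← ha, ← hb]; group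
  obtain ⟨s, hs⟩ := E.exists_ov ηu
  obtain ⟨t, ht⟩ := E.exists_ov ζu
  obtain ⟨a, ha⟩ := hs.exists_sq
  obtain ⟨b, hb⟩ := ht.exists_sq
  obtain ⟨c, c1, c2, c3⟩ := rel s t a b hs ht ha hb
  obtain ⟨m1, -, m2, -, m3, -⟩ := main s t hs ht
  have P1 := m1.iff ha c3 m2 gu
  have P2 := m1.iff hb c3 m3 ku
  have one : ∀ {ξ : Dual (ZMod 2) W} {v : W}, ξ v • u = u → ξ v = 1 := fun h =>
    (z2 _).resolve_left fun e => hu (by rw [← h, e, zero_smul])
  by_cases hP : E.ε a = 0 ∨ E.ε a = u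
  swap
  · have a1 := hs.ε_sq hu ha
    have b2 := ht.ε_sq hu hb
    have a2 := (z2 _).resolve_left fun e => hP (hk _ a1 e)
    have b1 := (z2 _).resolve_left fun e => hP (P1.mpr (P2.mp (hk _ e b2)))
    have d1 := congrArg E.ε c1
    have d2 := congrArg E.ε c2
    rw [hs.ε_norm, map_sub, sub_eq, ← map_add, ht.ε_norm, a2, one_smul] at d1
    rw [ht.ε_norm, map_sub, sub_eq, ← map_add, add_comm, hs.ε_norm, b1, one_smul] at d2
    refine hP (P1.mpr (hk _ ?_ ?_)) <;>
      simp [E.ε_smul, ht.2, one d1, one d2, a1, a2, b1, b2, ηu, ζu] <;> rfl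
  obtain ⟨a', w1, a0, a1, a2⟩ := hs.modify hu hη ha hP
  obtain ⟨b', w2, b0, b2, b1⟩ := ht.modify hu hζ hb (P2.mpr (P1.mp hP))
  have hs' := hs.mul (-a')
  have ht' := ht.mul (-b')
  have ha' := E.sq_mul ha (-a')
  have hb' := E.sq_mul hb (-b')
  rw [a0, smul_neg, ← neg_add, neg_add_cancel_left] at ha'
  rw [b0, smul_neg, ← neg_add, neg_add_cancel_left] at hb'
  replace hP := (hs'.iff (g := 1) ha ha' (by simp [(E.π_ker _).mpr ⟨_, rfl⟩]) (by simp)).mp hP
  clear c1 c2 c3 P1 P2 m1 m2 m3 c a0 b0 ha hb hs ht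
  generalize E.ι (-a') * s = s at *
  generalize E.ι (-b') * t = t at *
  obtain ⟨c, c1, -, c3⟩ := rel s t _ _ hs' ht' ha' hb'
  obtain ⟨m1, m0, m2, m4, m3, m5⟩ := main s t hs' ht'
  obtain ⟨d, w3, d0, d1, d2⟩ := m1.modify hu hθ c3 ((m1.iff ha' c3 m2 gu).mp hP)
  let N : M →+ M := AddMonoidHom.id M + DistribSMul.toAddMonoidHom M s +
    (DistribSMul.toAddMonoidHom M (s * t) + DistribSMul.toAddMonoidHom M t)
  have hN : ∀ m, N m = m + s • m + ((s * t) • m + t • m) := fun _ => rfl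
  have sw : ∀ {p q r : G}, E.π p * E.π q = E.π r * E.π p → ∀ m : M, p • q • m = r • p • m :=
    fun e m => by rw [smul_smul, smul_smul]; exact E.smul_eq (by rw [map_mul, map_mul, e]) m
  have sw' : ∀ {p q r : G} {a b : M}, E.π p * E.π q = E.π r * E.π p → q * q = E.ι a →
      p * p = E.ι b → ∀ m : M, p • r • m = q • p • m := fun {p q r a b} e e1 e2 m => by
    rw [← E.smul_smul_self e2 m, ← sw e, E.smul_smul_self e2, E.smul_smul_self e2]
  obtain ⟨_, hg2⟩ := hg.exists_sq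
  obtain ⟨_, hk2⟩ := hk'.exists_sq
  have Ns : ∀ m, N (s • m) = N m := fun m => by
    rw [hN, hN, mul_smul, mul_smul, ← sw m0, E.smul_smul_self ha', E.smul_smul_self ha']; abel
  have sN : ∀ m, s • N m = N m := fun m => by
    rw [hN, smul_add, smul_add, smul_add, mul_smul, E.smul_smul_self ha', E.smul_smul_self ha']; abel
  have tN : ∀ m, t • N m = N m := fun m => by
    rw [hN, smul_add, smul_add, smul_add, mul_smul, ← sw m0, ← sw m0, E.smul_smul_self hb']; abel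
  have gN : ∀ m, g • N m = N (g • m) := fun m => by
    rw [hN, hN, smul_add, smul_add, smul_add, sw m2, sw m4, sw' m2 ha' hg2]; abel
  have kN : ∀ m, k • N m = N (k • m) := fun m => by
    rw [hN, hN, smul_add, smul_add, smul_add, sw m3, sw m5, sw' m3 hb' hk2]; abel
  have key : ∀ l : ℕ, (∀ m, 2 ^ l • N m = 0) → ∀ m, N m = 0 := fun l => by
    induction l with
    | zero => simp
    | succ l ih =>
    refine fun hl => ih fun m => ?_
    have f1 : ∀ m, 2 ^ l • N m + 2 ^ l • N m = 0 := fun m => by rw [← two_nsmul, smul_smul, ← pow_succ', hl]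
    have f2 : ∀ m, ∀ p : G, E.π p u = u → p • (2 ^ l • N m) = 2 ^ l • N m := fun m p hp => by
      obtain ⟨w, hw⟩ := E.j_range _ (f1 m)
      rw [← hw, E.j_smul]
      rcases hk w ((hs'.fix hu).mp (E.j_inj (by rw [← E.j_smul, hw, smul_comm, sN])))
        ((ht'.fix hu).mp (E.j_inj (by rw [← E.j_smul, hw, smul_comm, tN]))) with rfl | rfl
      · rw [map_zero]
      · rw [hp]
    have f3 : ∀ m m', E.ε m = E.ε m' → 2 ^ l • N m = 2 ^ l • N m' := fun m m' e => by
      obtain ⟨z, hz⟩ := E.ε_ker (m - m') (by rw [map_sub, e, sub_self])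
      rw [← sub_eq_zero, ← smul_sub, ← map_sub, hz, map_add, smul_add, f1]
    let S : Submodule (ZMod 2) W :=
      { carrier := {v | ∀ m, E.ε m = v → 2 ^ l • N m = 0}
        add_mem' := fun {v w} hv hw m e => by
          obtain ⟨p, rfl⟩ := E.ε_surj v
          obtain ⟨q, rfl⟩ := E.ε_surj w
          rw [f3 m (p + q) (by rw [e, map_add]), map_add, smul_add, hv p rfl, hw q rfl, add_zero]
        zero_mem' := fun m e => by rw [f3 m 0 (by rw [e, map_zero]), map_zero, smul_zero]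
        smul_mem' := fun r v hv m e => by
          rcases z2 r with rfl | rfl
          · rw [f3 m 0 (by rw [e, map_zero, zero_smul]), map_zero, smul_zero]
          · exact hv m (by rw [e, one_smul]) }
    have f4 : ∀ (p : G) (v : W), (∀ m, 2 ^ l • N (p • m) = 2 ^ l • N m) → v + E.π p v ∈ S :=
      fun p v hp m e => by
      obtain ⟨q, rfl⟩ := E.ε_surj v
      rw [f3 m (q + p • q) (by rw [e, map_add, E.ε_smul]), map_add, smul_add, hp, f1]
    refine hS S ?_ ?_ ?_ _ m rfl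
    · simpa [hs'.2, ηx, add_add_cancel'] using f4 s x fun m => by rw [Ns]
    · simpa [hg.2, ζy, add_add_cancel'] using f4 g y fun m => by rw [← gN, smul_comm, f2 m g gu]
    · simpa [hk'.2, ηx, add_add_cancel'] using f4 k x fun m => by rw [← kN, smul_comm, f2 m k ku]
  obtain ⟨l, hl⟩ := E.two
  have a3 := (z2 _).resolve_left fun e => a2 (hk _ a1 e)
  have b3 := (z2 _).resolve_left fun e => b1 (hk _ e b2)
  have d3 : η w3 = 1 := (z2 _).resolve_left fun e => d2 (hk _ e (by simpa [e] using d1))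
  have e3 : c = d + (s * t) • d + E.j (w3 + (E.π t w1 + w2)) := by
    rw [map_add, map_add, ← add_assoc, ← d0, ← E.j_smul, add_assoc c, add_assoc c,
      E.j_smul, ← map_add, ← map_add, add_self, map_zero, add_zero]
  have e4 : c + s • c = N d + E.j (η (w3 + (E.π t w1 + w2)) • u) := by
    rw [← hs'.j_norm, hN, e3, smul_add, smul_add, mul_smul, E.smul_smul_self ha']; abel
  rw [key l (fun m => hl _), c1, zero_add, E.j_smul, ← map_sub, E.j_inj.eq_iff, sub_eq, ht'.2] at e4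
  simp [a1, a3, b3, d3, ηu, add_add_cancel', CharTwo.add_self_eq_zero, hu] at e4

end Cfsg.Agent.FG.Pyr
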