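import Mathlib
import Cfsg.Agent.FG.PyA
import Cfsg.Agent.FG.PyB
import Cfsg.Agent.GT.HallHigmanA
import Cfsg.Agent.S4126
import Cfsg.Agent.Chev.Sz2Main

/-!
# Pyramidal groups, III: 2-groups with a cyclic group of automorphisms transitive on involutions
-/

set_option autoImplicit false

namespace Cfsg.Agent.FG.Pyr

open Subgroup Module MulAction CK GT

variable {G : Type*} [Group G] {V K : Subgroup G}

theorem ea_of_sq (h : ∀ x ∈ K, x * x = 1) : IsElementaryAbelian 2 K :=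
  ⟨⟨⟨fun a b => Subtype.ext (by
    have i : ∀ x ∈ K, x⁻¹ = x := fun x hx => inv_eq_of_mul_eq_one_right (h x hx)
    rw [coe_mul, coe_mul, ← i _ (mul_mem a.2 b.2), mul_inv_rev, i _ a.2, i _ b.2])⟩⟩,
    fun a ha => by rw [pow_two, h a ha]⟩

/-- `K` is a central extension by `V` of an elementary group, with all involutions in `V` -/
structure Spe (V K : Subgroup G) : Prop where
  ea : IsElementaryAbelian 2 V
  le : V ≤ K
  cen : ∀ v ∈ V, ∀ x ∈ K, v * x = x * v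
  sq : ∀ x ∈ K, x * x ∈ V
  inv : ∀ x ∈ K, x * x = 1 → x ∈ V

namespace Spe

variable [V.Normal] (h : Spe V K)
include h

omit [V.Normal] in
theorem self {v : G} (hv : v ∈ V) : v * v = 1 := by rw [← pow_two, h.ea.2 v hv]

theorem eaQ : IsElementaryAbelian 2 (K.map (QuotientGroup.mk' V)) :=
  ea_of_sq (by
    rintro _ ⟨x, hx, rfl⟩
    rw [← map_mul]; exact (QuotientGroup.eq_one_iff _).mpr (h.sq x hx))

/-- the squaring map -/
noncomputable def σ (u : EAV h.eaQ) : EAV h.ea :=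
  EAV.mk h.ea _ (h.sq _ u.val_mem.choose_spec.1)

theorem σ_val {u : EAV h.eaQ} {x : G} (hx : x ∈ K) (e : (x : G ⧸ V) = u.val) :
    (h.σ u).val = x * x := by
  obtain ⟨h1, h2⟩ := u.val_mem.choose_spec
  change u.val_mem.choose * u.val_mem.choose = _
  generalize u.val_mem.choose = y at h1 h2
  obtain ⟨v, hv, rfl⟩ : ∃ v ∈ V, x = y * v :=
    ⟨y⁻¹ * x, QuotientGroup.eq.mp (h2.trans e.symm), by group⟩
  rw [mul_assoc, ← mul_assoc v, h.cen v hv y h1, mul_assoc y v, h.self hv, mul_one]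

theorem pol_val {a b : EAV h.eaQ} {x y : G} (hx : x ∈ K) (hy : y ∈ K) (e : (x : G ⧸ V) = a.val)
    (e' : (y : G ⧸ V) = b.val) : (pol h.σ a b).val = x⁻¹ * y * x * y⁻¹ := by
  rw [pol, EAV.val_add, EAV.val_add, h.σ_val hx e, h.σ_val hy e',
    h.σ_val (mul_mem hx hy) (by rw [EAV.val_add, ← e, ← e']; rfl),
    inv_eq_of_mul_eq_one_right (a := x) (b := x * (x * x)) (by rw [← mul_assoc, h.self (h.sq x hx)]),
    inv_eq_of_mul_eq_one_right (a := y) (b := y * (y * y)) (by rw [← mul_assoc, h.self (h.sq y hy)])]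
  have c1 := h.cen _ (h.sq x hx) y hy
  have c2 := h.cen _ (h.sq x hx) x hx
  generalize x * x = s at c1 c2
  calc _ = x * y * x * (y * s) * (y * y) := by simp only [mul_assoc]
    _ = x * y * (x * s) * y * (y * y) := by rw [← c1]; simp only [mul_assoc]
    _ = x * (y * s) * x * y * (y * y) := by rw [← c2]; simp only [mul_assoc]
    _ = _ := by rw [← c1]; simp only [mul_assoc]

theorem quad : Quad h.σ where
  add a a' b := by
    obtain ⟨x, hx, e⟩ := a.val_mem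
    obtain ⟨x', hx', e'⟩ := a'.val_mem
    obtain ⟨y, hy, e''⟩ := b.val_mem
    refine EAV.ext ?_
    have c := h.cen _ (pol h.σ a b).val_mem _ (inv_mem hx')
    rw [EAV.val_add, h.pol_val hx' hy e' e'', mul_assoc x'⁻¹, mul_assoc x'⁻¹, ← mul_assoc _ x'⁻¹, c,
      h.pol_val hx hy e e'',
      h.pol_val (mul_mem hx hx') hy (by rw [EAV.val_add, ← e, ← e']; rfl) e'']
    group
  aniso u e := by
    obtain ⟨x, hx, e'⟩ := u.val_mem
    rw [← EAV.val_eq_one_iff, h.σ_val hx e'] at e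
    rw [← EAV.val_eq_one_iff, ← e']
    exact (QuotientGroup.eq_one_iff _).mpr (h.inv x hx e)

theorem card_eq : Nat.card K = Nat.card V * Nat.card (EAV h.eaQ) := by
  rw [EAV.card_eq, ← relIndex_ker, QuotientGroup.ker_mk', card_mul_relIndex h.le]

theorem card_eq' [Finite G] : Nat.card K =
    2 ^ (finrank (ZMod 2) (EAV h.ea) + finrank (ZMod 2) (EAV h.eaQ)) := by
  rw [h.card_eq, pow_add, ← card_V, ← card_V, EAV.card_eq (hV := h.ea)]

/-- the action of the normaliser on `K / V` -/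
noncomputable def rho : Representation (ZMod 2) (normalizer (K : Set G)) (EAV h.eaQ) :=
  (eaRep h.eaQ (le_normalizer_map (QuotientGroup.mk' V))).comp
    ((QuotientGroup.mk' V).subgroupMap (normalizer (K : Set G)))

theorem val_rho (g : normalizer (K : Set G)) (u : EAV h.eaQ) :
    (h.rho g u).val = ((g : G) : G ⧸ V) * u.val * ((g : G) : G ⧸ V)⁻¹ := rfl

theorem equi (g : normalizer (K : Set G)) (u : EAV h.eaQ) :
    h.σ (h.rho g u) = eaRepN h.ea (g : G) (h.σ u) := by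
  obtain ⟨x, hx, e⟩ := u.val_mem
  refine EAV.ext ?_
  rw [val_eaRepN, h.σ_val hx e, h.σ_val ((mem_normalizer_iff.mp g.2 x).mp hx)
    (by rw [val_rho, ← e]; rfl)]
  group

theorem rho_eq_one {g : normalizer (K : Set G)} (hg : (g : G) ∈ K) : h.rho g = 1 :=
  LinearMap.ext fun u => EAV.ext (by
    rw [val_rho, h.eaQ.comm (a := ((g : G) : G ⧸ V)) ⟨_, hg, rfl⟩ u.val_mem, mul_inv_cancel_right]; rfl)

end Spe

theorem arith {p n a b : ℕ} (hp : p + 1 = 2 ^ n) (hn : 2 ≤ n) (hab : b ≤ a) (h2 : a ≤ b + 2 * n)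
    (h : p ^ 2 ∣ 2 ^ a - 2 ^ b) : a = b := by
  obtain ⟨j, rfl⟩ := Nat.exists_eq_add_of_le hab
  obtain ⟨n, rfl⟩ := Nat.exists_eq_add_of_le hn
  have ho : Odd p := by rw [pow_add] at hp; exact ⟨2 ^ n * 2 - 1, by omega⟩
  rw [pow_add, ← Nat.mul_sub_one] at h
  obtain ⟨m, hm⟩ := (((Nat.coprime_two_right.mpr ho).pow 2 b).dvd_of_dvd_mul_left h)
  have h3 : 2 ^ j ≤ (p + 1) ^ 2 := by
    rw [hp, ← pow_mul]; exact Nat.pow_le_pow_right two_pos (by omega)
  have h4 : 3 ≤ p := by have := Nat.one_le_two_pow (n := n); rw [pow_add] at hp; omega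
  have h5 := Nat.one_le_two_pow (n := j)
  rcases m with _ | _ | m
  · have : 2 ^ j = 2 ^ 0 := by omega
    rw [Nat.pow_right_injective le_rfl this, add_zero]
  · obtain ⟨k, rfl⟩ := ho
    rcases j with _ | _ | j
    · rfl
    · exfalso; norm_num at hm; nlinarith
    · exfalso
      have : (2 * k + 1) ^ 2 = 4 * (k ^ 2 + k) + 1 := by ring
      rw [pow_add, pow_add] at hm h5; omega
  · exfalso
    have : 2 ^ j = p ^ 2 * (m + 1 + 1) + 1 := by omega
    nlinarith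

/-- an automorphism of `p`-power order, `p = |Ω₁| - 1`, has order `p` -/
theorem pow_eq_one {P : Type*} [Group P] [Finite P] (hP : IsPGroup 2 P) {V : Subgroup P}
    (hV : ∀ x, x ∈ V ↔ x * x = 1) (hc : ∀ v ∈ V, ∀ x, v * x = x * v) {p k n : ℕ} (hp : p.Prime)
    (hn : p + 1 = 2 ^ n) (hv : Nat.card V = 2 ^ n) {ξ : MulAut P} (h1 : ξ ^ p ^ k = 1)
    (h2 : ∀ v ∈ V, (ξ ^ p) v = v) : ξ ^ p = 1 := by
  have h2n : 2 ≤ n := by
    by_contra e
    have := hp.two_le
    interval_cases n <;> omega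
  have ho : Odd p := by
    obtain ⟨n, rfl⟩ := Nat.exists_eq_add_of_le h2n
    rw [pow_add] at hn; exact ⟨2 ^ n * 2 - 1, by omega⟩
  obtain ⟨D, hD, hD4, hD'⟩ := S4126.exists_small_char hP
  haveI : V.Normal := ⟨fun v hv g => by rwa [← hc v hv g, mul_inv_cancel_right]⟩
  have hm : ∀ x ∈ D ⊔ V, ∃ d ∈ D, ∃ v ∈ V, d * v = x := fun x hx => mem_sup_of_normal_right.mp hx
  have hS : Spe V (D ⊔ V) := ⟨ea_of_sq fun x => (hV x).mp, le_sup_right, fun v hv x _ => hc v hv x,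
    fun x hx => by
      obtain ⟨d, hd, v, hv, rfl⟩ := hm x hx
      rw [mul_assoc, ← mul_assoc v, hc v hv d, mul_assoc d v, (hV v).mp hv, mul_one, hV]
      rcases hD4 d hd with e | e
      · rw [← pow_two d, e, one_mul]
      · rw [← e.2, ← pow_two d, ← pow_add], fun x _ => (hV x).mpr⟩
  let F : Subgroup P := (D ⊔ V) ⊓ MonoidHom.eqLocus (ξ ^ p).toMonoidHom (MonoidHom.id P)
  obtain ⟨b, hb⟩ := (hP.to_subgroup F).exists_card_eq
  have hK := hS.card_eq'
  have hW : finrank (ZMod 2) (EAV hS.ea) = n :=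
    Nat.pow_right_injective le_rfl (card_V.symm.trans hv)
  have hb1 : n ≤ b := (Nat.pow_le_pow_iff_right one_lt_two).mp (by
    rw [← hv, ← hb]; exact card_le_of_le (le_inf le_sup_right h2))
  have hb2 : b ≤ n + finrank (ZMod 2) (EAV hS.eaQ) := (Nat.pow_le_pow_iff_right one_lt_two).mp (by
    rw [← hW, ← hK, ← hb]; exact card_le_of_le inf_le_left)
  have hinv : ∀ g : MulAut P, ∀ x ∈ D ⊔ V, g x ∈ D ⊔ V := fun g x hx => by
    obtain ⟨d, hd, v, hv, rfl⟩ := hm x hx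
    rw [map_mul]
    exact mul_mem_sup (characteristic_iff_map_le.mp hD g ⟨d, hd, rfl⟩)
      ((hV _).mpr (by rw [← map_mul, (hV v).mp hv, map_one]))
  have hd := dvd_ncard_of_orb (zpowers ξ) (m := p ^ 2) ((D ⊔ V : Subgroup P) \ F : Set P)
    (fun g hg y hy => ⟨hinv g y hy.1, fun e => hy.2 ⟨hy.1, g.injective (by
      obtain ⟨j, rfl⟩ := hg
      exact (DFunLike.congr_fun ((Commute.refl ξ).zpow_left j |>.pow_right p).eq y).trans e.2)⟩⟩)
    fun y hy => by
      have e : (orb (zpowers ξ) y).ncard = Function.minimalPeriod (ξ • ·) y := by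
        classical
        haveI := Fintype.ofFinite (orbit (zpowers ξ) y)
        rw [minimalPeriod_eq_card, ← Nat.card_eq_fintype_card, Nat.card_coe_set_eq]
        exact congrArg _ (Set.ext fun y => ⟨fun ⟨g, h1, h2⟩ => ⟨⟨g, h1⟩, h2⟩, fun ⟨g, h⟩ => ⟨g, g.2, h⟩⟩)
      obtain ⟨j, -, hj⟩ := (Nat.dvd_prime_pow hp).mp
        (pow_smul_eq_iff_minimalPeriod_dvd.mp (show ξ ^ p ^ k • y = y by rw [h1, one_smul]))
      rw [e, hj]
      refine pow_dvd_pow _ (not_lt.mp fun hl => hy.2 ⟨hy.1, ?_⟩)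
      exact (pow_smul_eq_iff_minimalPeriod_dvd (n := p)).mpr
        (by rw [hj]; simpa using pow_dvd_pow p (Nat.le_of_lt_succ hl))
  rw [Set.ncard_diff (show (F : Set P) ⊆ (D ⊔ V : Subgroup P) from inf_le_left),
    ← Nat.card_coe_set_eq, ← Nat.card_coe_set_eq, SetLike.coe_sort_coe, SetLike.coe_sort_coe, hK,
    hb, hW] at hd
  have hle := hS.quad.finrank_le
  have hF : F = D ⊔ V := eq_of_le_of_card_ge inf_le_left (by
    rw [hK, hb, hW, arith hn h2n hb2 (by omega) hd])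
  refine hD' _ ((Nat.coprime_two_right.mpr (ho.pow (n := k))).coprime_dvd_left
    (orderOf_dvd_of_pow_eq_one ?_)) fun x hx => (hF.ge (mem_sup_left hx)).2
  rw [← pow_mul, mul_comm, pow_mul, h1, one_pow]

theorem card_inv {P : Type*} [Group P] [Finite P] {V : Subgroup P} (hV : ∀ x, x ∈ V ↔ x * x = 1) :
    Nat.card {x : P // x ≠ 1 ∧ x * x = 1} + 1 = Nat.card V := by
  rw [show Nat.card {x : P // x ≠ 1 ∧ x * x = 1} = ((V : Set P) \ {1}).ncard from
    (Nat.card_congr (Equiv.subtypeEquivRight fun x => by simp [hV, and_comm])).trans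
      (Nat.card_coe_set_eq _), Set.ncard_diff_singleton_add_one V.one_mem]
  rfl

/-- Higman's theorem -/
theorem higman {P : Type*} [Group P] [Finite P] (hP : IsPGroup 2 P) {V : Subgroup P}
    (hV : ∀ x, x ∈ V ↔ x * x = 1) (hc : ∀ v ∈ V, ∀ x, v * x = x * v) {p k n : ℕ} (hp : p.Prime)
    (hn : p + 1 = 2 ^ n) (hv : Nat.card V = 2 ^ n) {ξ : MulAut P} (h1 : ξ ^ p ^ k = 1)
    (h2 : ∀ v ∈ V, (ξ ^ p) v = v) (h3 : ∀ x ∈ V, ∀ y ∈ V, x ≠ 1 → y ≠ 1 → ∃ j : ℕ, (ξ ^ j) x = y)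
    (h4 : ∃ x y : P, x * y ≠ y * x) : (∀ x : P, x * x ∈ V) ∧
      (Nat.card P = Nat.card V ^ 2 ∨ Nat.card P = Nat.card V ^ 3) := by
  have h5 : Nat.card {x : P // x ≠ 1 ∧ x * x = 1} = p := by have := card_inv hV; omega
  obtain ⟨F, _, _, _, S, -⟩ := Chev.Sz2.exists_hig hP ξ (by
    obtain ⟨x, y, e⟩ := (Finite.one_lt_card_iff_nontrivial.mp (h5 ▸ hp.one_lt)).exists_pair_ne
    exact ⟨x, y, fun e' => e (Subtype.ext e'), x.2.1, x.2.2, y.2⟩)
    (fun x y a b c d => h3 x ((hV x).mpr b) y ((hV y).mpr d) a c)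
    (by rw [h5, pow_eq_one hP hV hc hp hn hv h1 h2])
  have e : S.Om = V := Subgroup.ext fun x => by rw [S.mem_Om, hV]
  rw [← e, S.card_Om]
  exact ⟨S.mul_self_mem_Om h4, S.card_eq h4⟩

end Cfsg.Agent.FG.Pyr
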