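import Mathlib
import Cfsg.Agent.FG.MaxClassUnif
import Cfsg.Agent.FG.TwoMax
import Cfsg.Agent.S3865
import Cfsg.Agent.GT.PGroupAlperin

/-! Blackburn: a `3`-group without normal subgroups of exponent `3` and order `27` is metacyclic or
of maximal class. -/

set_option autoImplicit false

namespace Cfsg.Agent.FG.R2

open Subgroup Cfsg.Agent.GT Cfsg.Agent.Loc.H78.Lie Cfsg.Agent.FG
open scoped commutatorElement

universe u

variable {G : Type u} [Group G]

/-- every normal subgroup of exponent `3` has order at most `9` -/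
def H3 (G : Type u) [Group G] : Prop :=
  ∀ N : Subgroup G, N.Normal → (∀ x ∈ N, x ^ 3 = 1) → Nat.card N ≤ 9

theorem cube_mul {x y : G} (hx : Commute x ⁅y, x⁆) (hy : Commute y ⁅y, x⁆)
    (h3 : Commute (y ^ 3) x) : (x * y) ^ 3 = x ^ 3 * y ^ 3 := by
  have e : y * x = x * y * ⁅y, x⁆ := by
    rw [(hx.mul_left hy).eq]; simp only [commutatorElement_def]; group
  rw [PG.mul_pow_eq_of_swap e hx.symm hy.symm, show Nat.choose 3 2 = 3 from rfl,
    ← PG.commutator_pow_left_of_commute hy, commutatorElement_eq_one_iff_commute.2 h3, mul_one]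

variable [Finite G]

theorem H3.card_le (h : H3 G) {K Z : Subgroup G} [hK : K.Normal] (hZ : Z ≤ center G)
    (hc : ∀ x ∈ K, ∀ y ∈ K, ∀ w ∈ K, Commute w ⁅x, y⁆) (h3 : ∀ x ∈ K, x ^ 3 ∈ Z) :
    Nat.card K ≤ 9 * Nat.card Z := by
  let f : K →* G := MonoidHom.mk' (fun x => (x : G) ^ 3) fun x y =>
    cube_mul (hc _ y.2 _ x.2 _ x.2) (hc _ y.2 _ x.2 _ y.2)
      (PG.commute_of_mem_center (hZ (h3 _ y.2)) _).symm
  have hr : Nat.card f.range ≤ Nat.card Z :=
    card_le_of_le (by rintro _ ⟨x, rfl⟩; exact h3 _ x.2)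
  have hk : Nat.card f.ker ≤ 9 := by
    rw [← card_subtype K f.ker]
    refine h _ ⟨?_⟩ ?_
    · rintro _ ⟨x, hx, rfl⟩ g
      refine ⟨⟨g * x * g⁻¹, hK.conj_mem _ x.2 g⟩, ?_, rfl⟩
      have hx' : (x : G) ^ 3 = 1 := hx
      show (g * x * g⁻¹) ^ 3 = 1
      rw [conj_pow, hx']; group
    · rintro _ ⟨x, hx, rfl⟩
      exact hx
  rw [← f.ker.card_mul_index, index_ker]
  exact Nat.mul_le_mul hk hr

/-- `G'` central of exponent `3` and cyclic -/
theorem H3.isMetacyclic_of_commutator (h : H3 G) (hG : IsPGroup 3 G) {z : G} (hz : z ∈ center G)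
    (hz3 : z ^ 3 = 1) (hc : _root_.commutator G = zpowers z) : IsMetacyclic G := by
  have hcz : _root_.commutator G ≤ center G := hc ▸ zpowers_le.2 hz
  have h3 : ∀ x y : G, ⁅x, y⁆ ^ 3 = 1 := fun x y => by
    obtain ⟨k, hk⟩ : ⁅x, y⁆ ∈ zpowers z := hc ▸ commutator_mem_commutator (mem_top x) (mem_top y)
    rw [← hk]; dsimp only; rw [← zpow_natCast, ← zpow_mul, mul_comm, zpow_mul, zpow_natCast, hz3,
      one_zpow]
  let f : G →* G := MonoidHom.mk' (fun x => x ^ 3) fun x y => by
    rw [PG.mul_pow_of_class_two hcz, show Nat.choose 3 2 = 3 from rfl, h3, mul_one]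
  have hk : Nat.card f.ker ≤ 9 := h _ inferInstance fun x hx => hx
  haveI hn : f.range.Normal := ⟨by
    rintro _ ⟨x, rfl⟩ g
    exact ⟨g * x * g⁻¹, conj_pow⟩⟩
  have hi : f.range.index ≤ 9 := by
    have h1 := f.range.card_mul_index
    rw [← f.ker.card_mul_index, index_ker, mul_comm (Nat.card f.ker)] at h1
    rw [Nat.eq_of_mul_eq_mul_left Nat.card_pos h1]; exact hk
  have hU : _root_.commutator G ≤ f.range := by
    obtain ⟨k, hk⟩ := IsPGroup.iff_card.1 (hG.to_quotient f.range)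
    have hk2 : k ≤ 2 := by
      by_contra hlt
      have : 3 ^ 3 ≤ 3 ^ k := Nat.pow_le_pow_right (by norm_num) (by omega)
      rw [← hk] at this
      exact absurd (this.trans hi) (by norm_num)
    have hcomm : ∀ a b : G ⧸ f.range, a * b = b * a := by
      interval_cases k
      · haveI := (Nat.card_eq_one_iff_unique.1 hk).1
        exact fun a b => Subsingleton.elim _ _
      · haveI := isCyclic_of_prime_card (p := 3) (by simpa using hk)
        exact fun a b => (IsCyclic.commGroup (α := G ⧸ f.range)).mul_comm a b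
      · exact fun a b => (IsPGroup.commGroupOfCardEqPrimeSq hk).mul_comm a b
    rw [commutator_def, commutator_le]
    intro a _ b _
    rw [← QuotientGroup.eq_one_iff, ← QuotientGroup.mk'_apply, map_commutatorElement,
      commutatorElement_eq_one_iff_mul_comm]
    exact hcomm _ _
  have hΦ : frattini G ≤ f.range := PG.frattini_le (p := 3) (by norm_num) hU fun y => ⟨y, rfl⟩
  have hΦi : (frattini G).index ≤ 3 ^ 2 := by
    refine le_trans (Nat.le_of_dvd (Nat.pos_of_ne_zero index_ne_zero_of_finite)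
      (index_dvd_of_le ?_)) hi
    rintro _ ⟨y, rfl⟩
    exact PG.pow_mem_frattini hG y
  obtain ⟨c, hc1, hc2⟩ := Set.exists_max_image {c : G | z ∈ zpowers c} orderOf (Set.toFinite _)
    ⟨z, mem_zpowers z⟩
  have hn : (zpowers c).Normal :=
    Subgroup.Normal.of_commutator_le G (hc ▸ zpowers_le.2 hc1)
  by_cases hcΦ : c ∈ frattini G
  · obtain ⟨d, hd⟩ := hΦ hcΦ
    have hd' : d ^ 3 = c := hd
    have h1 : orderOf d ≤ orderOf c :=
      hc2 d (zpowers_le.2 (hd' ▸ pow_mem (mem_zpowers d) 3) hc1)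
    have hd1 : d = 1 := by
      by_contra hne
      obtain ⟨k, hk⟩ := IsPGroup.iff_orderOf.1 hG d
      have : 3 ∣ orderOf d := by
        rw [hk]; refine dvd_pow_self _ ?_
        rintro rfl; exact hne (orderOf_eq_one_iff.1 (by simpa using hk))
      rw [← hd', orderOf_pow_of_dvd (by norm_num) this] at h1
      have := orderOf_pos d
      omega
    have hc0 : c = 1 := by rw [← hd', hd1, one_pow]
    have hz1 : z = 1 := by simpa [hc0] using hc1
    refine TM.isMetacyclic_iff.2 ⟨1, 1, hc0 ▸ hn, top_unique fun g _ => ?_⟩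
    have := hc2 g (by simp [hz1])
    rw [hc0, orderOf_one] at this
    have h2 := orderOf_pos g
    rw [orderOf_eq_one_iff.1 (le_antisymm this h2)]
    exact one_mem _
  · obtain ⟨y, hy⟩ := TM.exists_sup_eq_top hG hΦi hcΦ
    exact TM.isMetacyclic_iff.2 ⟨c, y, hn, hy⟩

/-- metacyclic quotient by a central subgroup of order `3` in `G'` -/
theorem H3.isMetacyclic_of_quotient (h : H3 G) (hG : IsPGroup 3 G) {z : G} (hz : z ∈ center G)
    (hz3 : z ^ 3 = 1) (hzc : z ∈ _root_.commutator G) [(zpowers z).Normal]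
    (hm : IsMetacyclic (G ⧸ zpowers z)) : IsMetacyclic G := by
  obtain ⟨a', b', hn, hab⟩ := TM.isMetacyclic_iff.1 hm
  obtain ⟨a, rfl⟩ := QuotientGroup.mk_surjective a'
  obtain ⟨b, rfl⟩ := QuotientGroup.mk_surjective b'
  have hgen : zpowers a ⊔ zpowers b = ⊤ := by
    apply frattini_nongenerating
    have h1 : (zpowers a ⊔ zpowers b).map (QuotientGroup.mk' (zpowers z)) = ⊤ := by
      rw [Subgroup.map_sup, MonoidHom.map_zpowers, MonoidHom.map_zpowers]; exact hab
    have h2 := congrArg (comap (QuotientGroup.mk' (zpowers z))) h1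
    rw [comap_map_eq, QuotientGroup.ker_mk', comap_top] at h2
    exact top_unique (h2 ▸ sup_le_sup_left
      (zpowers_le.2 (PG.commutator_le_frattini hG hzc)) _)
  obtain ⟨r, hr⟩ := hn.conj_mem _ (mem_zpowers _) (b : G ⧸ zpowers z)
  obtain ⟨e, he⟩ : (a ^ r)⁻¹ * (b * a * b⁻¹) ∈ zpowers z := by
    rw [← QuotientGroup.eq]; simpa using hr
  dsimp only at he
  have hcz : ∀ g, Commute g z := PG.commute_of_mem_center hz
  have hb : b * a * b⁻¹ = a ^ r * z ^ e := by rw [he]; group
  have hc : ⁅b, a⁆ = a ^ (r - 1) * z ^ e := by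
    rw [commutatorElement_def, hb, mul_assoc, ← ((hcz a⁻¹).zpow_right e).eq]; group
  have hN : (zpowers ⁅b, a⁆).Normal := by
    refine TM.normal_of_two_generators hgen ?_ ?_
    · rw [hc, ((Commute.refl a).zpow_right _ |>.mul_right ((hcz a).zpow_right e)).eq,
        mul_inv_cancel_right]
      exact mem_zpowers _
    · refine ⟨r, ?_⟩
      dsimp only
      have : b * ⁅b, a⁆ * b⁻¹ = (b * a * b⁻¹) ^ (r - 1) * z ^ e := by
        rw [hc, conj_zpow, mul_assoc, mul_assoc, ← ((hcz b⁻¹).zpow_right e).eq]; group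
      rw [this, hb, hc, ((hcz _).zpow_right e).mul_zpow, ((hcz _).zpow_right e).mul_zpow]
      group
  have hle := TM.commutator_le_of_two_generators hgen _ (mem_zpowers ⁅b, a⁆)
  obtain ⟨k, hk⟩ := hle hzc
  dsimp only at hk
  by_cases h3 : (3 : ℤ) ∣ k
  · obtain ⟨l, rfl⟩ := h3
    have hza : z ∈ zpowers a := by
      rw [← hk, zpow_mul]
      refine zpow_mem ?_ _
      rw [hc, ((hcz _).zpow_right e).mul_zpow, ← zpow_mul z, mul_comm e, zpow_mul z,
        show z ^ (3 : ℤ) = 1 from by exact_mod_cast hz3, one_zpow, mul_one]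
      exact zpow_mem (zpow_mem (mem_zpowers a) _) _
    refine TM.isMetacyclic_iff.2 ⟨a, b, TM.normal_of_two_generators hgen (by simp) ?_, hgen⟩
    rw [hb]
    exact mul_mem (zpow_mem (mem_zpowers a) _) (zpow_mem hza _)
  · refine h.isMetacyclic_of_commutator hG hz hz3 (le_antisymm (hle.trans (zpowers_le.2 ?_))
      (zpowers_le.2 hzc))
    rw [← hk, mem_zpowers_zpow_iff]
    obtain ⟨j, hj⟩ := IsPGroup.iff_orderOf.1 hG ⁅b, a⁆
    rw [hj, Nat.cast_pow]
    exact Int.isCoprime_iff_gcd_eq_one.1 (IsCoprime.pow_right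
      ((Int.prime_three.coprime_iff_not_dvd.2 h3).symm))

/-- a uniform element of a group of maximal class has commutators at every level -/
theorem exists_comm_level {Q : Type u} [Group Q] [Finite Q] {p n : ℕ} [hp : Fact p.Prime]
    (hn : Nat.card Q = p ^ (n + 3)) (hc : Group.nilpotencyClass Q = n + 2) {x : Q}
    (hx1 : x ∉ γ Q 1) (hx : ∀ i, 1 ≤ i → i ≤ n → x ∉ MxC.C Q i) :
    ∀ i, i ≤ n → ∃ t : Q, ⁅t, x⁆ ∈ γ Q (i + 1) ∧ ⁅t, x⁆ ∉ γ Q (i + 2)
  | 0, _ => by
    by_contra hcon
    push Not at hcon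
    have h1 := PG.card_centralizer_mk_le (γ Q 2) x
    rw [MxC.card_centralizer_eq hn hc hx1 hx] at h1
    have h2 : centralizer {(x : Q ⧸ γ Q 2)} = ⊤ := by
      refine top_unique fun t _ => mem_centralizer_singleton_iff.2 ?_
      obtain ⟨t, rfl⟩ := QuotientGroup.mk_surjective t
      rw [← commutatorElement_eq_one_iff_mul_comm, ← QuotientGroup.mk'_apply,
        ← QuotientGroup.mk'_apply, ← map_commutatorElement, QuotientGroup.mk'_apply,
        QuotientGroup.eq_one_iff]
      exact hcon t (comm_mem_γ_succ (mem_top t) x)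
    have h3 := (γ Q 2).card_mul_index
    rw [S3865.card_γ hn hc (by norm_num) (by omega), hn, show n + 2 - 2 = n from rfl, pow_add]
      at h3
    have h4 := Nat.eq_of_mul_eq_mul_left (pow_pos hp.out.pos n) h3
    rw [h2, card_top, ← index_eq_card, h4] at h1
    exact absurd ((Nat.pow_le_pow_iff_right hp.out.one_lt).1 h1) (by norm_num)
  | i + 1, hi => by
    obtain ⟨t, h1, h2⟩ := exists_comm_level hn hc hx1 hx i (by omega)
    refine ⟨⁅t, x⁆, comm_mem_γ_succ h1 x, fun h3 => hx (i + 1) (by omega) hi ?_⟩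
    refine MxC.mem_C_of hn hc (by omega) (by omega) h1 h2 ?_
    rw [MxC.lie_ι_zero h1, ι_eq_zero_iff (comm_mem_γ_succ h1 x)]
    exact h3

/-- quotient of maximal class -/
theorem H3.maxClass_of_quotient (h : H3 G) {z : G} (hz : z ∈ center G) (ho : orderOf z = 3)
    [(zpowers z).Normal] {m : ℕ} (hn : Nat.card (G ⧸ zpowers z) = 3 ^ (m + 4))
    (hc : Group.nilpotencyClass (G ⧸ zpowers z) = m + 3) (hG : Nat.card G = 3 ^ (m + 5)) :
    Group.nilpotencyClass G = m + 4 := by
  haveI : Fact (Nat.Prime 3) := ⟨by norm_num⟩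
  haveI : Group.IsNilpotent G := (IsPGroup.of_card hG).isNilpotent
  refine le_antisymm (PG.nilpotencyClass_le_of_card (p := 3) (n := m + 3) hG) ?_
  by_contra hlt
  have hbot : γ G (m + 3) = ⊥ :=
    Subgroup.lowerCentralSeries_eq_bot_iff_nilpotencyClass_le.2 (by omega)
  set Q := G ⧸ zpowers z
  set π : G →* Q := QuotientGroup.mk' (zpowers z) with hπ
  have hπs : Function.Surjective π := QuotientGroup.mk'_surjective _
  have hz3 : z ^ 3 = 1 := ho ▸ pow_orderOf_eq_one z
  have hker : ∀ g, π g = 1 → g ∈ zpowers z := fun g hg => (QuotientGroup.eq_one_iff g).1 hg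
  have hn' : Nat.card Q = 3 ^ (m + 1 + 3) := hn
  have hc' : Group.nilpotencyClass Q = m + 1 + 2 := hc
  have hlast := MxC.γ_last_eq_center hn' hc'
  have hcen : ∀ g, π g ∈ center Q → g ∈ center G := by
    intro g hg
    rw [← hlast] at hg
    have : γ Q (m + 1 + 1) = (γ G (m + 2)).map π := by
      rw [Subgroup.map_lowerCentralSeries, ← MonoidHom.range_eq_map,
        MonoidHom.range_eq_top.2 hπs]
    rw [this] at hg
    obtain ⟨g', hg', e⟩ := hg
    have h1 : g' ∈ center G := mem_center_iff.2 fun y => by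
      have := comm_mem_γ_succ hg' y
      rw [hbot, mem_bot, commutatorElement_eq_one_iff_mul_comm] at this
      exact this.symm
    have h2 : g'⁻¹ * g ∈ center G := zpowers_le.2 hz (hker _ (by rw [map_mul, map_inv, e]; simp))
    simpa using mul_mem h1 h2
  obtain ⟨x', -, hx1, hx⟩ := MxC.exists_uniform hn' hc' (M := γ Q 1) (by
    intro e
    have := S3865.card_γ hn' hc' le_rfl (by omega)
    rw [e, card_top, hn'] at this
    exact absurd (Nat.pow_right_injective (by norm_num : 2 ≤ 3) this) (by omega))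
  obtain ⟨t', h1, h2⟩ := exists_comm_level hn' hc' hx1 hx m (by omega)
  obtain ⟨x, rfl⟩ := hπs x'
  obtain ⟨t, rfl⟩ := hπs t'
  rw [← map_commutatorElement] at h1 h2
  set u := ⁅t, x⁆ with hu
  have hcQ : Nat.card (center Q) = 3 := PG.card_center_of_maxClass hn' hc'
  have hx3 : x ^ 3 ∈ center G := by
    apply hcen
    rw [map_pow]
    have hle : center Q ≤ centralizer {π x} := center_le_centralizer _
    have hi : (center Q).relIndex (centralizer {π x}) = 3 := by
      have := PG.relIndex_mul_card hle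
      rw [MxC.card_centralizer_eq hn' hc' hx1 hx, hcQ] at this
      omega
    have := pow_index_mem (H := (center Q).subgroupOf (centralizer {π x}))
      ⟨π x, mem_centralizer_singleton_iff.2 rfl⟩
    rw [show ((center Q).subgroupOf (centralizer {π x})).index = 3 from hi] at this
    exact this
  have hwQ : π ⁅u, x⁆ ∈ center Q := by
    rw [← hlast, map_commutatorElement]; exact comm_mem_γ_succ h1 _
  set w := ⁅u, x⁆ with hw
  have hwc := PG.commute_of_mem_center (hcen _ hwQ)
  have hw1 : π w ≠ 1 := fun e => h2 (hlast ▸ MxC.mem_center_of_commute hn' hc' hx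
    (S3806.anti (by omega) h1) (by rwa [← commutatorElement_eq_one_iff_commute,
      ← map_commutatorElement]))
  have hw3 : w ^ 3 = 1 := by
    rw [hw, ← PG.commutator_pow_right_of_commute (hwc x), commutatorElement_eq_one_iff_commute]
    exact PG.commute_of_mem_center hx3 u
  have hu3 : u ^ 3 = 1 := by
    have e1 : x * t⁻¹ * x⁻¹ = t⁻¹ * u := by rw [hu, commutatorElement_def]; group
    have e2 : x * u * x⁻¹ = w⁻¹ * u := by rw [hw, commutatorElement_def]; group
    have e3 : x * w⁻¹ * x⁻¹ = w⁻¹ := by rw [(hwc x).inv_right.eq]; group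
    have e4 : x ^ 3 * t⁻¹ * (x ^ 3)⁻¹ = t⁻¹ := by
      rw [← (PG.commute_of_mem_center hx3 _).eq]; group
    have e5 : x ^ 3 * t⁻¹ * (x ^ 3)⁻¹ = x * (x * (x * t⁻¹ * x⁻¹) * x⁻¹) * x⁻¹ := by
      simp only [pow_succ, pow_zero, one_mul, mul_inv_rev, mul_assoc]
    have e6 : ∀ a b : G, x * (a * b) * x⁻¹ = (x * a * x⁻¹) * (x * b * x⁻¹) := fun a b => by group
    rw [e5, e1, e6 t⁻¹ u, e1, e2, e6 (t⁻¹ * u), e6 t⁻¹ u, e6 w⁻¹ u, e1, e2, e3] at e4
    have hcu := (hwc u).inv_right
    have e7 : t⁻¹ * u * (w⁻¹ * u) * (w⁻¹ * (w⁻¹ * u)) = t⁻¹ * (u ^ 3 * (w ^ 3)⁻¹) := by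
      rw [← inv_pow, ← hcu.mul_pow, ← hcu.eq]
      simp only [pow_succ, pow_zero, one_mul, mul_assoc]
      simp only [hcu.symm.left_comm]
    rw [e7, hw3] at e4
    simpa using e4
  have hW : ∀ g, π g ∈ center Q → g ^ 3 = 1 := by
    intro g hg
    have e : zpowers (π w) = center Q := by
      have := S3806.eq_sup_of_card (p := 3) (A := ⊥) bot_le (by rw [hcQ]; simp) hwQ hw1
        (IsPGroup.of_card (n := 1) (by simpa using hcQ))
      rwa [bot_sup_eq] at this
    rw [← e] at hg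
    obtain ⟨j, hj⟩ := hg
    obtain ⟨l, hl⟩ := hker ((w ^ j)⁻¹ * g) (by rw [map_mul, map_inv, map_zpow, ← hj]; simp)
    dsimp only at hl
    have : g = w ^ j * z ^ l := by rw [hl]; group
    rw [this, ((hwc _).symm.zpow_left j).mul_pow, ← zpow_natCast, ← zpow_natCast, zpow_comm,
      zpow_comm z, zpow_natCast, zpow_natCast, hw3, hz3]
    simp
  have hU := h ((γ Q (m + 1)).comap π) inferInstance fun g hg => by
    have e : center Q ⊔ zpowers (π u) = γ Q (m + 1) :=
      S3806.eq_sup_of_card (p := 3) (hlast ▸ S3806.anti (by omega))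
        (by rw [hcQ, S3865.card_γ hn' hc' (by omega) (by omega)]; simp) h1 (hlast ▸ h2)
        ((IsPGroup.of_card hn').to_subgroup _)
    rw [mem_comap, ← e, PG.mem_sup_zpowers_of_mem_normalizer (by rw [normalizer_eq_top]; trivial)] at hg
    obtain ⟨c, hc, i, hi⟩ := hg
    have h3 : π (g * (u ^ i)⁻¹) ∈ center Q := by
      rw [map_mul, map_inv, map_zpow, ← hi]; simpa using hc
    have : g = (g * (u ^ i)⁻¹) * u ^ i := by group
    rw [this, (PG.commute_of_mem_center (hcen _ h3) _).symm.mul_pow, hW _ h3, ← zpow_natCast,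
      zpow_comm, zpow_natCast, hu3]
    simp
  rw [hπ, PG.card_comap_mk', S3865.card_γ hn' hc' (by omega) (by omega), Nat.card_zpowers, ho,
    show m + 1 + 2 - (m + 1) = 2 by omega] at hU
  omega

/-- a normal subgroup of order `81` with cubes in a central subgroup of order `3` -/
theorem H3.exists_card_centralizer_le (h : H3 G) (hG : IsPGroup 3 G) {Z M : Subgroup G}
    (hZ : Z ≤ center G) (hZc : Nat.card Z = 3) [M.Normal] (hZM : Z ≤ M) (hM : Nat.card M = 81)
    (h3 : ∀ m ∈ M, m ^ 3 ∈ Z) : ∃ x : G, Nat.card (centralizer ({x} : Set G)) ≤ 3 ^ 2 := by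
  haveI : Fact (Nat.Prime 3) := ⟨by norm_num⟩
  haveI : Z.Normal := ⟨fun n hn g => by
    rw [mem_center_iff.1 (hZ hn) g, mul_inv_cancel_right]; exact hn⟩
  have hcZ : ∀ w ∈ Z, ∀ g, Commute g w := fun w hw => PG.commute_of_mem_center (hZ hw)
  have hZ3 : ∀ w ∈ Z, w ^ 3 = 1 := fun w hw => by
    have := pow_card_eq_one' (x := (⟨w, hw⟩ : Z))
    rw [hZc] at this
    exact congrArg Subtype.val this
  have hlt : ∀ {A B : Subgroup G}, A ≤ B → Nat.card A < Nat.card B → ∃ y ∈ B, y ∉ A :=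
    fun hAB hc => SetLike.exists_of_lt (lt_of_le_of_ne hAB (by rintro rfl; omega))
  obtain ⟨V, hVn, hZV, hVM, hV, hVc⟩ := PG.exists_normal_card_eq_mul hG Z M
    (lt_of_le_of_ne hZM (by rintro rfl; omega))
  have hVZ : ∀ v ∈ V, ∀ g, ⁅v, g⁆ ∈ Z := fun v hv g =>
    hVc (commutator_mem_commutator hv (mem_top g))
  have hsup : ∀ {A B : Subgroup G}, A ≤ B → Nat.card B = 3 * Nat.card A → ∀ y ∈ B, y ∉ A →
      A ⊔ zpowers y = B := fun hAB hc y hy hyA =>
    S3806.eq_sup_of_card hAB hc hy hyA (hG.to_subgroup _)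
  have hcV : ∀ v ∈ V, v ∉ Z → ∀ g, Commute v g → g ∈ centralizer (V : Set G) := by
    intro v hv hvZ g hg
    rw [← hsup hZV hV v hv hvZ, PG.centralizer_sup_zpowers]
    exact ⟨mem_centralizer_iff.2 fun w hw => (hcZ w hw g).symm.eq,
      mem_centralizer_singleton_iff.2 hg.symm.eq⟩
  obtain ⟨v, hv, hvZ⟩ := hlt hZV (by omega)
  set A := centralizer (V : Set G) with hA
  have hAi : A.index ≤ 3 := by
    have h1 := PG.relIndex_centralizer_le (H := ⊤) (B := Z) (x := v) fun g _ => by
      rw [← commutatorElement_inv]; exact inv_mem (hVZ v hv g)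
    rw [relIndex_top_right, hZc] at h1
    refine le_trans (Nat.le_of_dvd (Nat.pos_of_ne_zero index_ne_zero_of_finite)
      (index_dvd_of_le fun g hg => hcV v hv hvZ g ?_)) h1
    exact (mem_centralizer_singleton_iff.1 hg).symm
  have hMV : ∀ a ∈ M, ∀ b ∈ M, ⁅a, b⁆ ∈ V := by
    have hi : (V.subgroupOf M).index = 3 ^ 2 := by
      have := PG.relIndex_mul_card hVM
      rw [hM, hV, hZc] at this
      show V.relIndex M = _
      omega
    intro a ha b hb
    exact PG.commutator_le_of_index_sq hi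
      (commutator_mem_commutator (mem_top (⟨a, ha⟩ : M)) (mem_top ⟨b, hb⟩))
  obtain ⟨x, hxM, hxA⟩ : ∃ x ∈ M, x ∉ A := by
    by_contra hcon
    push Not at hcon
    have := h.card_le hZ (K := M) (fun a ha b hb w hw =>
      (mem_centralizer_iff.1 (hcon w hw) _ (hMV a ha b hb)).symm) h3
    omega
  have key : ∀ w ∈ V, Commute w x → w ∈ Z := fun w hw hc => by
    by_contra hwZ
    exact hxA (hcV w hw hwZ x hc)
  have hAi' : A.index = 3 := by
    obtain ⟨k, hk⟩ := hG.index A
    have h1 : A.index ≠ 1 := fun e => hxA (index_eq_one.1 e ▸ mem_top x)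
    rw [hk] at hAi h1 ⊢
    have : k ≤ 1 := (Nat.pow_le_pow_iff_right (by norm_num : 1 < 3)).1 (by simpa using hAi)
    interval_cases k
    · simp at h1
    · rfl
  have hM1 : Nat.card ↥(A ⊓ M) = 27 := by
    have h1 := PG.relIndex_mul_card_inf A M
    have h2 := relIndex_dvd_index_of_normal A M
    rw [hAi'] at h2
    rcases (Nat.dvd_prime Nat.prime_three).1 h2 with e | e
    · exact absurd (relIndex_eq_one.1 e hxM) hxA
    · rw [e, hM] at h1; omega
  have hVA : V ≤ A ⊓ M := le_inf (fun w hw => by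
    by_cases hwZ : w ∈ Z
    · exact mem_centralizer_iff.2 fun g _ => (hcZ w hwZ g).eq
    · exact hcV w hw hwZ w (Commute.refl w)) hVM
  set π : G →* G ⧸ Z := QuotientGroup.mk' Z with hπ
  have hπc : ∀ a b, Commute (π a) (π b) ↔ ⁅a, b⁆ ∈ Z := fun a b => by
    rw [← commutatorElement_eq_one_iff_commute, ← map_commutatorElement]
    exact QuotientGroup.eq_one_iff _
  let D : G → Subgroup G := fun g => (centralizer {π g}).comap π
  have hD : ∀ g a, a ∈ D g ↔ Commute (π a) (π g) := fun g a => mem_centralizer_singleton_iff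
  have hVD : ∀ g, V ≤ D g := fun g w hw => (hD g w).2 ((hπc _ _).2 (hVZ w hw g))
  have hMD : ∀ y ∈ A ⊓ M, y ∉ V → ∀ g, y ∈ D g → x ∈ D g → M ≤ D g := by
    intro y hy hyV g h1 h2
    rw [← hsup (inf_le_right (a := A)) (by rw [hM, hM1]) x hxM fun e => hxA e.1,
      ← hsup hVA (by rw [hM1, hV, hZc]) y hy hyV]
    exact sup_le (sup_le (hVD g) (zpowers_le.2 h1)) (zpowers_le.2 h2)
  haveI : (M.map π).Normal := Subgroup.Normal.map inferInstance π (QuotientGroup.mk'_surjective Z)
  have hDV : (centralizer (M.map π : Set (G ⧸ Z))).comap π ≤ V := by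
    by_contra hcon
    obtain ⟨D1, hD1n, hVD1, hD1, hD1c, -⟩ := PG.exists_normal_card_eq_mul hG V
      ((centralizer (M.map π : Set (G ⧸ Z))).comap π) (lt_of_le_of_ne (fun w hw =>
        mem_centralizer_iff.2 (by
          rintro _ ⟨m, -, rfl⟩; exact ((hD m w).1 (hVD m hw)).symm.eq)) fun e => hcon e.ge)
    obtain ⟨d, hd, hdV⟩ := hlt hVD1 (by omega)
    have hdM : ∀ m ∈ M, Commute (π m) (π d) := fun m hm =>
      mem_centralizer_iff.1 (hD1 hd) _ ⟨m, hm, rfl⟩
    have hd3 : d ^ 3 ∈ Z := by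
      have hi : (V.subgroupOf D1).index = 3 := by
        have := PG.relIndex_mul_card hVD1
        rw [hD1c, hV, hZc] at this
        show V.relIndex D1 = _
        omega
      have h1 := pow_index_mem (H := V.subgroupOf D1) ⟨d, hd⟩
      rw [hi] at h1
      have h2 : ⁅d, x⁆ ∈ Z := (hπc _ _).1 (hdM x hxM).symm
      refine key _ h1 ?_
      rw [← commutatorElement_eq_one_iff_commute, PG.commutator_pow_left_of_commute (hcZ _ h2 d)]
      exact hZ3 _ h2
    have hdA : d ∉ A ⊓ M := fun e => by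
      have h1 : M ≤ D x := hMD d e hdV x ((hD _ _).2 (hdM x hxM).symm) ((hD _ _).2 (.refl _))
      have h2 : ∀ g ∈ M, M ≤ D g := fun g hg =>
        hMD d e hdV g ((hD _ _).2 (hdM g hg).symm) ((hD _ _).2 ((hD _ _).1 (h1 hg)).symm)
      have := h.card_le hZ (K := M) (fun a ha b hb w _ =>
        hcZ _ ((hπc _ _).1 ((hD _ _).1 (h2 b hb ha))) w) h3
      omega
    obtain ⟨y, hy, hyV⟩ := hlt hVA (by omega)
    have hab : IsMulCommutative ↥(A ⊓ M) := by
      rw [← hsup hVA (by rw [hM1, hV, hZc]) y hy hyV]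
      exact PG.isMulCommutative_sup_zpowers
        (PG.isMulCommutative_iff_le_centralizer.2 (hVA.trans inf_le_left)) hy.1
    have hK : A ⊓ M ⊔ D1 = A ⊓ M ⊔ zpowers d := by
      rw [← hsup hVD1 hD1c d hd hdV, ← sup_assoc, sup_eq_left.2 hVA]
    have hmem : ∀ k ∈ A ⊓ M ⊔ D1, ∃ m ∈ A ⊓ M, ∃ i : ℤ, m * d ^ i = k := fun k hk => by
      rwa [hK, PG.mem_sup_zpowers_of_mem_normalizer (by rw [normalizer_eq_top]; trivial)] at hk
    have h1 := h.card_le hZ (K := A ⊓ M ⊔ D1) (fun a ha b hb w _ => by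
      obtain ⟨m, hm, i, rfl⟩ := hmem a ha
      obtain ⟨m', hm', j, rfl⟩ := hmem b hb
      refine hcZ _ ((hπc _ _).1 ?_) w
      simp only [map_mul, map_zpow]
      have e : Commute m m' := PG.isMulCommutative_iff_forall.1 hab m hm m' hm'
      exact ((e.map π).mul_right ((hdM m hm.2).zpow_right j)).mul_left
        (((hdM m' hm'.2).symm.zpow_left i).mul_right ((Commute.refl _).zpow_zpow i j)))
      fun k hk => by
        obtain ⟨m, hm, i, rfl⟩ := hmem k hk
        have e : ∀ g ∈ Z, π g = 1 := fun g hg => (QuotientGroup.eq_one_iff g).2 hg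
        refine (QuotientGroup.eq_one_iff _).1 (show π _ = 1 from ?_)
        rw [map_pow, map_mul, map_zpow, ((hdM m hm.2).zpow_right i).mul_pow, ← map_pow,
          e _ (h3 m hm.2), ← zpow_natCast, zpow_comm, zpow_natCast, ← map_pow, e _ hd3]
        simp
    have h2 := PG.card_lt_of_lt (lt_of_le_of_ne (le_sup_left (a := A ⊓ M) (b := D1))
      fun e => hdA (e ▸ mem_sup_right hd))
    omega
  refine ⟨x, ?_⟩
  have hle : A ⊓ centralizer {x} ≤ Z := by
    rintro a ⟨haA, hax⟩
    have hax' : Commute a x := mem_centralizer_singleton_iff.1 hax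
    refine key a (hDV (mem_centralizer_iff.2 ?_)) hax'
    rintro _ ⟨m, hm, rfl⟩
    obtain ⟨y, hy, hyV⟩ := hlt hVA (by omega)
    refine ((hD a m).1 (hMD y hy hyV a ((hD _ _).2 ((hπc _ _).2 ?_))
      ((hD _ _).2 (hax'.symm.map π)) hm)).eq
    obtain ⟨K, hKn, hVK, hK, hKc, hKV⟩ := PG.exists_normal_card_eq_mul hG V (A ⊓ M)
      (lt_of_le_of_ne hVA fun e => hyV (e ▸ hy))
    have hKe : K = A ⊓ M := PG.eq_of_le_of_card_le hK (by rw [hKc, hM1, hV, hZc])
    have hw : ⁅a, y⁆ ∈ V := by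
      rw [← commutatorElement_inv]
      exact inv_mem (hKV (commutator_mem_commutator (hKe ▸ hy) (mem_top a)))
    have hc : ⁅y, x⁆ ∈ V := hMV y hy.2 x hxM
    have e1 : a * ⁅y, x⁆ * a⁻¹ = ⁅⁅a, y⁆ * y, x⁆ := by
      rw [conjugate_commutatorElement, hax'.eq, mul_inv_cancel_right, commutatorElement_def a y,
        inv_mul_cancel_right]
    rw [← mem_centralizer_iff.1 haA _ hc, mul_inv_cancel_right,
      PG.commutator_mul_left_of_commute (mem_centralizer_iff.1 (hVA hc).1 _ hw)] at e1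
    rw [← commutatorElement_inv]
    exact inv_mem (key _ hw (commutatorElement_eq_one_iff_commute.1 (by simpa using e1)))
  rw [← PG.relIndex_mul_card_inf A]
  have h1 := Nat.le_of_dvd (by omega) (relIndex_dvd_index_of_normal A (centralizer {x}))
  have h2 := card_le_of_le hle
  rw [hZc] at h2
  calc _ ≤ 3 * 3 := Nat.mul_le_mul (hAi' ▸ h1) h2
    _ = 3 ^ 2 := rfl

/-- **Blackburn**: a `3`-group all of whose normal subgroups of exponent `3` have order at most `9`
is metacyclic or of maximal class. -/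
theorem H3.metacyclic_or_maxClass (n : ℕ) : ∀ (G : Type u) [Group G] [Finite G],
    Nat.card G = 3 ^ n → H3 G →
    IsMetacyclic G ∨ ∃ m, n = m + 4 ∧ Group.nilpotencyClass G = m + 3 := by
  haveI : Fact (Nat.Prime 3) := ⟨by norm_num⟩
  induction n with
  | zero =>
    intro G _ _ hn h
    haveI := (Nat.card_eq_one_iff_unique.1 hn).1
    exact .inl (TM.isMetacyclic_iff.2 ⟨1, 1, ⟨fun _ _ _ => by simp [Subsingleton.elim _ (1 : G)]⟩,
      Subsingleton.elim _ _⟩)
  | succ n ih =>
    intro G _ _ hn h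
    have hG : IsPGroup 3 G := IsPGroup.of_card hn
    haveI := hG.isNilpotent
    by_cases hc : _root_.commutator G = ⊥
    · exact .inl (h.isMetacyclic_of_commutator hG (one_mem _) (one_pow 3) (by simpa using hc))
    obtain ⟨z, hz, hz1, hz3⟩ := PG.exists_mem_ne_one_pow_eq_one (hG.to_subgroup _)
      (PG.inf_center_ne_bot _ hc)
    have ho : orderOf z = 3 := orderOf_eq_prime hz3 hz1
    haveI := TM.normal_zpowers_of_mem_center hz.2
    have hq : Nat.card (G ⧸ zpowers z) = 3 ^ n := by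
      have := (zpowers z).card_mul_index
      rw [Nat.card_zpowers, ho, hn, pow_succ'] at this
      exact Nat.eq_of_mul_eq_mul_left (by norm_num) this
    by_cases hH : H3 (G ⧸ zpowers z)
    · rcases ih _ hq hH with hm | ⟨m, rfl, hm⟩
      · exact .inl (h.isMetacyclic_of_quotient hG hz.2 hz3 hz.1 hm)
      · exact .inr ⟨m + 1, rfl, h.maxClass_of_quotient hz.2 ho hq hm hn⟩
    · simp only [H3, not_forall, not_le] at hH
      obtain ⟨N, hNn, hN3, hN⟩ := hH
      have hQ := hG.to_quotient (zpowers z)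
      obtain ⟨K, hKn, hKN, hK⟩ := PG.exists_normal_le_card_eq_pow hQ N (k := 3) (by
        obtain ⟨k, hk⟩ := PG.card_eq_pow_of_isPGroup (hQ.to_subgroup N)
        rw [hk] at hN ⊢
        exact Nat.pow_le_pow_right (by norm_num)
          ((Nat.pow_lt_pow_iff_right (by norm_num : 1 < 3)).1 (show 3 ^ 2 < 3 ^ k from hN)))
      have hM : Nat.card (K.comap (QuotientGroup.mk' (zpowers z))) = 81 := by
        rw [PG.card_comap_mk', hK, Nat.card_zpowers, ho]; rfl
      obtain ⟨x, hx⟩ := h.exists_card_centralizer_le hG (zpowers_le.2 hz.2)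
        (by rw [Nat.card_zpowers, ho]) (fun w hw => by
          rw [mem_comap, QuotientGroup.mk'_apply, (QuotientGroup.eq_one_iff w).2 hw]
          exact one_mem _) hM fun m hm => (QuotientGroup.eq_one_iff _).1 (hN3 _ (hKN hm))
      have h4 : 4 ≤ n + 1 := by
        have := card_le_card_group (K.comap (QuotientGroup.mk' (zpowers z)))
        rw [hM, hn] at this
        exact (Nat.pow_le_pow_iff_right (by norm_num : 1 < 3)).1 this
      obtain ⟨m, rfl⟩ : ∃ m, n = m + 3 := ⟨n - 3, by omega⟩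
      exact .inr ⟨m, rfl, PG.nilpotencyClass_eq_of_card_centralizer_le (n := m + 2) hn hx⟩

end Cfsg.Agent.FG.R2
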