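import Mathlib
import Cfsg.Agent.FG.RealElts
import Cfsg.Agent.S0200

/-!
# Groups without nontrivial real elements of odd order have a normal Sylow `2`-subgroup
-/

namespace Cfsg.Agent.FG.CI

open Subgroup

variable {G : Type*} [Group G] [Finite G]

theorem odd_index_pCore_two_of_no_inverted
    (h : ∀ t x : G, (∃ k : ℕ, orderOf t = 2 ^ k) → Odd (orderOf x) → t * x * t⁻¹ = x⁻¹ → x = 1) :
    Odd (pCore 2 G).index := by
  by_contra hodd
  rw [Nat.not_odd_iff_even, even_iff_two_dvd] at hodd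
  obtain ⟨t, ht⟩ := exists_prime_orderOf_dvd_card' (G := G ⧸ pCore 2 G) 2 hodd
  obtain ⟨x, hx1, hx, hinv⟩ := Cfsg.Agent.S0200.result t ht (by
    intro N hN hp htN
    have := GT.pCore_eq_bot_iff.1 (GT.pCore_quotient_pCore (p := 2) (G := G)) N hN hp
    rw [this, mem_bot] at htN
    rw [htN, orderOf_one] at ht
    omega)
  exact hx1 (no_inverted_of_surjective (QuotientGroup.mk'_surjective _) h t x hx hinv)

theorem sylow_two_eq_pCore_of_no_inverted
    (h : ∀ t x : G, (∃ k : ℕ, orderOf t = 2 ^ k) → Odd (orderOf x) → t * x * t⁻¹ = x⁻¹ → x = 1)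
    (S : Sylow 2 G) : (S : Subgroup G) = pCore 2 G := by
  have h1 := odd_index_pCore_two_of_no_inverted h
  apply le_antisymm _ (GT.pCore_le_sylow S)
  apply GT.Tr.le_of_sylowIn_le (p := 2) (H := ⊤) _ S.isPGroup' (GT.pCore_le_sylow S) le_top
  rw [relIndex_top_right, ← even_iff_two_dvd, Nat.not_even_iff_odd]
  exact h1

end Cfsg.Agent.FG.CI
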