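import Mathlib
import Cfsg.Agent.S1159
import Cfsg.Agent.Chev.ReeAut
import Cfsg.Agent.FG.NsePGL

/-! Numerical data of the small Ree groups. -/

set_option autoImplicit false

namespace Cfsg.Agent.FG.Ree

open Subgroup Cfsg.Agent.FG.NsePGL

/-- `q = 3^(2m+1)`, `u = (q-1)/2`, `v = (q+1)/4`, `a, b = q ∓ √(3q) + 1`, `t = q³/3`. -/
structure Par (q u v a b t : ℕ) : Prop where
  hu : q = 2 * u + 1
  hv : q + 1 = 4 * v
  ht : q ^ 3 = 3 * t
  pw : ∃ m, 1 ≤ m ∧ q = 3 ^ (2 * m + 1) ∧ a + 3 ^ (m + 1) = q + 1 ∧ b = q + 3 ^ (m + 1) + 1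

theorem exists_par {m : ℕ} (hm : 1 ≤ m) : ∃ u v a b t, Par (3 ^ (2 * m + 1)) u v a b t := by
  have h8 : 3 ^ (2 * m + 1) % 8 = 3 := by
    rw [pow_succ, pow_mul, Nat.mul_mod, Nat.pow_mod]; norm_num
  have h1 : 3 ^ (m + 1) ≤ 3 ^ (2 * m + 1) := Nat.pow_le_pow_right (by norm_num) (by omega)
  refine ⟨3 ^ (2 * m + 1) / 2, (3 ^ (2 * m + 1) + 1) / 4, 3 ^ (2 * m + 1) - 3 ^ (m + 1) + 1, _,
    3 ^ (6 * m + 2), by omega, by omega, by ring, m, hm, rfl, by omega, rfl⟩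

namespace Par

variable {q u v a b t : ℕ} (h : Par q u v a b t)
include h

theorem ex : ∃ s, 3 ≤ s ∧ 3 ∣ s ∧ Odd s ∧ q = 3 * s ^ 2 ∧ a + 3 * s = q + 1 ∧ b = q + 3 * s + 1 := by
  obtain ⟨m, hm, h1, h2, h3⟩ := h.pw
  exact ⟨3 ^ m, Nat.le_self_pow (by omega) 3, dvd_pow_self 3 (by omega), Odd.pow (by decide),
    by rw [h1]; ring, by rw [← h2]; ring, by rw [h3]; ring⟩

theorem hs : a + b = 2 * q + 2 := by
  obtain ⟨s, -, -, -, -, h2, h3⟩ := h.ex
  omega

theorem hm : a * b + q = q ^ 2 + 1 := by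
  obtain ⟨s, -, -, -, h1, h2, h3⟩ := h.ex
  zify at *
  rw [show (a : ℤ) = q + 1 - 3 * s by linarith, h3]
  linear_combination (3 : ℤ) * h1

theorem mod8 : q % 8 = 3 := by
  obtain ⟨m, -, h1, -⟩ := h.pw
  rw [h1, pow_succ, pow_mul, Nat.mul_mod, Nat.pow_mod]; norm_num

theorem q27 : 27 ∣ q := by
  obtain ⟨m, hm, h1, -⟩ := h.pw
  exact h1 ▸ pow_dvd_pow 3 (show 3 ≤ 2 * m + 1 by omega)

theorem le_q : 27 ≤ q := Nat.le_of_dvd (by have := h.hu; omega) h.q27

theorem odd_u : Odd u := by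
  have := h.mod8; have := h.hu; exact Nat.odd_iff.2 (by omega)

theorem odd_v : Odd v := by
  have := h.mod8; have := h.hv; exact Nat.odd_iff.2 (by omega)

theorem odd_a : Odd a := by
  obtain ⟨s, -, -, ⟨k, hk⟩, -, h2, -⟩ := h.ex
  have := h.mod8; exact Nat.odd_iff.2 (by omega)

theorem odd_b : Odd b := by
  obtain ⟨s, -, -, ⟨k, hk⟩, -, -, h2⟩ := h.ex
  have := h.mod8; exact Nat.odd_iff.2 (by omega)

theorem odd_q : Odd q := ⟨u, h.hu⟩

theorem odd_t : Odd t := by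
  have := h.ht ▸ h.odd_q.pow (n := 3)
  exact (Nat.odd_mul.1 this).2

theorem u3 : u % 3 = 1 := by have := h.q27; have := h.hu; omega
theorem v3 : v % 3 = 1 := by have := h.q27; have := h.hv; omega
theorem a3 : a % 3 = 1 := by
  obtain ⟨s, -, -, -, -, h2, -⟩ := h.ex
  have := h.q27; omega
theorem b3 : b % 3 = 1 := by
  obtain ⟨s, -, -, -, -, -, h2⟩ := h.ex
  have := h.q27; omega

theorem le_u : 13 ≤ u := by have := h.le_q; have := h.hu; omega
theorem le_v : 7 ≤ v := by have := h.le_q; have := h.hv; omega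
theorem le_a : 19 ≤ a := by
  obtain ⟨s, h0, -, -, h1, h2, -⟩ := h.ex
  nlinarith
theorem a_lt_b : a < b := by
  obtain ⟨s, h0, -, -, h1, h2, h3⟩ := h.ex
  omega
theorem q_lt_b : q < b := by
  obtain ⟨s, h0, -, -, h1, h2, h3⟩ := h.ex
  omega
theorem t_pos : 0 < t := h.odd_t.pos

theorem q_pow : ∃ n, 3 ≤ n ∧ q = 3 ^ n := by
  obtain ⟨m, hm, h1, -⟩ := h.pw
  exact ⟨_, by omega, h1⟩

theorem eq_three {p : ℕ} (hp : p.Prime) (hd : p ∣ q) : p = 3 := by
  obtain ⟨n, -, e⟩ := h.q_pow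
  exact (Nat.prime_dvd_prime_iff_eq hp Nat.prime_three).1 (hp.dvd_of_dvd_pow (e ▸ hd))

theorem cop_uv : u.Coprime v := by
  have := h.hu; have := h.hv
  exact Nat.isCoprime_iff_coprime.1 ⟨-1, 2, by zify at *; linarith⟩

theorem cop_uw : u.Coprime (a * b) := by
  have := h.hu; have := h.hm
  refine Nat.isCoprime_iff_coprime.1 ⟨-2 * q, 1, ?_⟩
  zify at *
  linear_combination this + (q : ℤ) * ‹(q : ℤ) = _›

theorem cop_vw : v.Coprime (a * b) := by
  have h1 := h.hv; have h2 := h.hm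
  refine Nat.Coprime.symm (Nat.coprime_of_dvd' fun p hp d1 d2 => ?_)
  have h3 : (p : ℤ) ∣ 3 := by
    zify at *
    have : (3 : ℤ) = a * b - 4 * (q - 2) * v := by linear_combination (-1) * h2 - (q - 2 : ℤ) * h1
    rw [this]
    exact d1.sub (d2.mul_left _)
  obtain rfl := (Nat.prime_dvd_prime_iff_eq hp Nat.prime_three).1 (by exact_mod_cast h3)
  have := h.v3
  omega

theorem cop_ab : a.Coprime b := by
  refine Nat.coprime_of_dvd' fun p hp d1 d2 => ?_
  have h1 : p ∣ 8 * v := by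
    have := h.hs; have := h.hv
    exact (show a + b = 8 * v by omega) ▸ d1.add d2
  rcases (hp.dvd_mul).1 h1 with h2 | h2
  · obtain rfl := (Nat.prime_dvd_prime_iff_eq hp Nat.prime_two).1
      (hp.dvd_of_dvd_pow (show p ∣ 2 ^ 3 from h2))
    exact absurd d1 h.odd_a.not_two_dvd_nat
  · exact h.cop_vw ▸ Nat.dvd_gcd h2 (d1.mul_right _)

theorem cop_three {k : ℕ} (hk : k % 3 = 1) : (q ^ 3).Coprime k := by
  obtain ⟨n, -, e⟩ := h.q_pow
  rw [e, ← pow_mul]
  exact Nat.Coprime.pow_left _ ((Nat.prime_three.coprime_iff_not_dvd).2 (by omega))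

omit h in
theorem three_lt {k p : ℕ} (ho : Odd k) (hk : k % 3 = 1) (hp : p.Prime) (hd : p ∣ k) : 3 < p := by
  have := hp.two_le
  have h2 : p ≠ 2 := by rintro rfl; exact ho.not_two_dvd_nat hd
  have h3 : p ≠ 3 := by rintro rfl; omega
  omega

theorem w_eq : q ^ 2 - q + 1 = a * b := by
  have := h.hm
  have : q ≤ q ^ 2 := Nat.le_self_pow two_ne_zero q
  omega

theorem cube : q ^ 3 + 1 = 4 * v * (a * b) := by
  have h1 := h.hm; have h2 := h.hv
  zify at *
  linear_combination (a * b : ℤ) * h2 - (q + 1 : ℤ) * h1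

theorem unique {u' v' a' b' t' : ℕ} (h' : Par q u' v' a' b' t') :
    u = u' ∧ v = v' ∧ a = a' ∧ b = b' ∧ t = t' := by
  obtain ⟨m, -, h1, h2, h3⟩ := h.pw
  obtain ⟨m', -, h1', h2', h3'⟩ := h'.pw
  obtain rfl : m = m' := by
    have := Nat.pow_right_injective (show 2 ≤ 3 by norm_num) (h1.symm.trans h1')
    omega
  have := h.hu; have := h'.hu; have := h.hv; have := h'.hv; have := h.ht; have := h'.ht
  omega

end Par

theorem dvd_mo {G : Type*} [Group G] [Finite G] {n c d : ℕ} (hN : Nat.card G = c * d)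
    (h : ∀ z : G, orderOf z = n → Nat.card (centralizer ({z} : Set G)) = c) : d ∣ mo G n := by
  classical
  have := Fintype.ofFinite G
  rw [mo, Nat.subtype_card (Finset.univ.filter fun g : G => orderOf g = n) (by simp)]
  refine CsL2.dvd_card_of_conj _ _ (fun x hx g => ?_) fun x hx => ?_
  · simpa [← MulAut.conj_apply] using hx
  · have h1 := (centralizer ({x} : Set G)).card_mul_index
    rw [h x (by simpa using hx), hN] at h1
    have : 0 < c := Nat.pos_of_mul_pos_right (hN ▸ Nat.card_pos)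
    exact (Nat.eq_of_mul_eq_mul_left this h1).symm.dvd

/-- The same-order counts of a Ree group. -/
structure Nse (G : Type*) [Group G] (q u v a b t : ℕ) : Prop where
  card : Nat.card G = 24 * t * u * v * a * b
  two : mo G 2 = q ^ 2 * (a * b)
  val : ∀ n, n ≠ 1 → n ≠ 2 → mo G n = 32 * u * v ^ 2 * (a * b) ∨ mo G n = 8 * q ^ 2 * u * v * (a * b) ∨
    12 * t * v * a * b ∣ mo G n ∨ 6 * t * u * a * b ∣ mo G n ∨ 24 * t * u * v * b ∣ mo G n ∨
    24 * t * u * v * a ∣ mo G n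

section ree

variable {K : Type*} [Field K] [Fintype K] {Γ : Type*} [Group Γ] (R : Chev.ReeGroup K Γ)
  {u v a b t : ℕ} (h : Par (Fintype.card K) u v a b t)
include R h

theorem ree_card : Nat.card Γ = 24 * t * u * v * a * b := by
  have h1 := h.hu
  rw [R.card_eq', h.w_eq, h.ht, h.hv, show Fintype.card K - 1 = 2 * u by omega]
  ring

theorem cent_u {z : Γ} {p : ℕ} (hp : p.Prime) (h1 : p ∣ orderOf z) (h2 : p ∣ u) :
    Nat.card (centralizer {z}) = 2 * u := by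
  have h0 := h.hu
  have e : Fintype.card K - 1 = 2 * u := by omega
  rw [R.card_centralizer_of_dvd_sub hp (Par.three_lt h.odd_u h.u3 hp h2) h1 (e ▸ h2.mul_left 2), e]

theorem cent_v {z : Γ} {p : ℕ} (hp : p.Prime) (h1 : p ∣ orderOf z) (h2 : p ∣ v) :
    Nat.card (centralizer {z}) = 4 * v := by
  rw [R.card_centralizer_of_dvd_add hp (Par.three_lt h.odd_v h.v3 hp h2) h1 (h.hv ▸ h2.mul_left 4),
    h.hv]

theorem tori : (∃ y : Γ, Chev.Big (orderOf y) ∧ Nat.card (centralizer {y}) = a ∧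
      Nat.card (normalizer (centralizer {y} : Set Γ)) = 6 * a) ∧
    ∃ y : Γ, Chev.Big (orderOf y) ∧ Nat.card (centralizer {y}) = b ∧
      Nat.card (normalizer (centralizer {y} : Set Γ)) = 6 * b := by
  obtain ⟨m, hm, h1, h2, h3⟩ := h.pw
  have h4 : 3 ^ (m + 1) ≤ Fintype.card K := h1 ▸ Nat.pow_le_pow_right (by norm_num) (by omega)
  have := R.exists_tori' (by have := h.le_q; omega) (r := 3 ^ (m + 1)) (by rw [h1]; ring)
  rwa [show Fintype.card K - 3 ^ (m + 1) + 1 = a by omega, ← h3] at this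

theorem cent_a {z : Γ} {p : ℕ} (hp : p.Prime) (h1 : p ∣ orderOf z) (h2 : p ∣ a) :
    Nat.card (centralizer {z}) = a := by
  obtain ⟨⟨y, b₃, c₃, -⟩, -⟩ := tori R h
  rw [← c₃, R.card_centralizer_eq b₃ ⟨p, hp, Par.three_lt h.odd_a h.a3 hp h2, h1, c₃ ▸ h2⟩]

theorem cent_b {z : Γ} {p : ℕ} (hp : p.Prime) (h1 : p ∣ orderOf z) (h2 : p ∣ b) :
    Nat.card (centralizer {z}) = b := by
  obtain ⟨-, y, b₃, c₃, -⟩ := tori R h
  rw [← c₃, R.card_centralizer_eq b₃ ⟨p, hp, Par.three_lt h.odd_b h.b3 hp h2, h1, c₃ ▸ h2⟩]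

theorem prime_cases {p : ℕ} (hp : p.Prime) (h3 : 3 < p) (hd : p ∣ Nat.card Γ) :
    p ∣ u ∨ p ∣ v ∨ p ∣ a ∨ p ∣ b := by
  rw [ree_card R h, show 24 * t * u * v * a * b = 2 ^ 3 * Fintype.card K ^ 3 * (u * (v * (a * b))) by
    rw [h.ht]; ring, hp.dvd_mul, hp.dvd_mul, hp.dvd_mul, hp.dvd_mul, hp.dvd_mul] at hd
  refine hd.resolve_left ?_
  rintro (h1 | h1)
  · have := Nat.le_of_dvd two_pos (hp.dvd_of_dvd_pow h1); omega
  · have := h.eq_three hp (hp.dvd_of_dvd_pow h1); omega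

theorem ree_nse : Nse Γ (Fintype.card K) u v a b t := by
  have := R.finite
  have hc := ree_card R h
  have h0 := h.hu
  have e : Fintype.card K - 1 = 2 * u := by omega
  refine ⟨hc, by rw [mo, R.card_order_two, h.w_eq], fun n h1 h2 => ?_⟩
  by_cases hz : ∃ z : Γ, orderOf z = n
  swap
  · have : IsEmpty {z : Γ // orderOf z = n} := ⟨fun z => hz ⟨z.1, z.2⟩⟩
    rw [mo, Nat.card_of_isEmpty]
    exact .inr (.inr (.inl (dvd_zero _)))
  obtain ⟨z, rfl⟩ := hz
  rcases R.orderOf_cases z with h3 | h3 | h3 | h3 | h3 | h3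
  · exact absurd h3 h1
  · exact absurd h3 h2
  · refine .inl ?_
    rw [mo, h3, R.card_order_three, h.cube, show Fintype.card K ^ 2 - 1 = 8 * u * v by
      have := h.hv; refine Nat.sub_eq_of_eq_add ?_; nlinarith]
    ring
  · refine .inr (.inl ?_)
    rw [mo, h3, R.card_order_six, h.cube, e]
    ring
  · refine .inr (.inl ?_)
    rw [mo, h3, R.card_order_nine, h.cube, e]
    ring
  obtain ⟨p, hp, h4, h5⟩ := h3
  refine .inr (.inr ?_)
  rcases prime_cases R h hp h4 (h5.trans (orderOf_dvd_natCard z)) with h6 | h6 | h6 | h6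
  · exact .inl (dvd_mo (c := 2 * u) (by rw [hc]; ring) fun y hy => cent_u R h hp (hy ▸ h5) h6)
  · exact .inr (.inl (dvd_mo (c := 4 * v) (by rw [hc]; ring) fun y hy => cent_v R h hp (hy ▸ h5) h6))
  · exact .inr (.inr (.inl (dvd_mo (c := a) (by rw [hc]; ring) fun y hy =>
      cent_a R h hp (hy ▸ h5) h6)))
  · exact .inr (.inr (.inr (dvd_mo (c := b) (by rw [hc]; ring) fun y hy =>
      cent_b R h hp (hy ▸ h5) h6)))

end ree

theorem spec {K : Type*} [Field K] [Fintype K] {m : ℕ} (hK : Fintype.card K = 3 ^ (2 * m + 1))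
    {u v a b t : ℕ} (h : Par (Fintype.card K) u v a b t) (d : ℕ) :
    (∃ g : Lie.twistedG2 K (3 ^ m), orderOf g = d) ↔
      d ∣ 6 ∨ d ∣ 9 ∨ d ∣ 2 * u ∨ d ∣ 2 * v ∨ d ∣ a ∨ d ∣ b := by
  obtain ⟨m', hm, h1, h2, h3⟩ := h.pw
  obtain rfl : m = m' := by
    have := Nat.pow_right_injective (show 2 ≤ 3 by norm_num) (hK.symm.trans h1)
    omega
  have h4 : 3 ^ (m + 1) ≤ Fintype.card K := h1 ▸ Nat.pow_le_pow_right (by norm_num) (by omega)
  have := h.hu; have := h.hv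
  rw [S1159.result hm hK, ← hK, ← h3, show Fintype.card K - 3 ^ (m + 1) + 1 = a by omega,
    show Fintype.card K - 1 = 2 * u by omega, show (Fintype.card K + 1) / 2 = 2 * v by omega]

open Cfsg.Lie Chev in
theorem exists_inj {K K' : Type*} [Field K] [Field K'] (e : ℕ) (σ : K →+* K') :
    ∃ f : twistedG2 K e →* twistedG2 K' e, Function.Injective f := by
  have : twistedG2 K e ≤ (twistedG2 K' e).comap (Cl.Aut.glMap _ σ) := by
    refine (Subgroup.closure_le _).2 ?_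
    rintro g ⟨_, ⟨t, u, v, rfl | rfl⟩, hg⟩
    · refine Subgroup.subset_closure ⟨_, ⟨σ t, σ u, σ v, Or.inl rfl⟩, ?_⟩
      rw [Cl.Aut.coe_glMap, hg, wordMat_map]
      simp [reeWordU]
    · refine Subgroup.subset_closure ⟨_, ⟨σ t, σ u, σ v, Or.inr rfl⟩, ?_⟩
      rw [Cl.Aut.coe_glMap, hg, wordMat_map]
      simp [reeWordV, reeWordU, ChevalleyDatum.negWord]
  exact ⟨((Cl.Aut.glMap _ σ).comp (twistedG2 K e).subtype).codRestrict _ fun g => this g.2,
    fun _ _ h => Subtype.ext (Cl.Aut.glMap_injective _ (congrArg Subtype.val h))⟩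

theorem nonempty_equiv {K K' : Type*} [Field K] [Fintype K] [Field K'] [Fintype K'] (e : ℕ)
    (hc : Fintype.card K = Fintype.card K') :
    Nonempty (Lie.twistedG2 K e ≃* Lie.twistedG2 K' e) := by
  let σ := FiniteField.ringEquivOfCardEq hc
  obtain ⟨f, hf⟩ := exists_inj e σ.toRingHom
  obtain ⟨g, hg⟩ := exists_inj e σ.symm.toRingHom
  exact ⟨MulEquiv.ofBijective f ((Nat.bijective_iff_injective_and_card f).2 ⟨hf,
    (Nat.card_le_card_of_injective f hf).antisymm (Nat.card_le_card_of_injective g hg)⟩)⟩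

end Cfsg.Agent.FG.Ree
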