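import Mathlib
import Cfsg.Agent.FG.ReeA
import Cfsg.Agent.FG.H93Same

/-! Groups with the order and the same-order counts of a Ree group: the even element orders. -/

set_option autoImplicit false

namespace Cfsg.Agent.FG.Ree

open Subgroup Cfsg.Agent.FG.NsePGL

variable {G : Type*} [Group G] [Finite G]

/-- The number of elements whose order satisfies `Q`. -/
noncomputable abbrev cnt (G : Type*) [Group G] (Q : ℕ → Prop) : ℕ := Nat.card {g : G // Q (orderOf g)}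

theorem cnt_mono {P Q : ℕ → Prop} (h : ∀ n, P n → Q n) : cnt G P ≤ cnt G Q :=
  Nat.card_le_card_of_injective _ (Subtype.impEmbedding _ _ fun _ => h _).injective

omit [Finite G] in
theorem cnt_congr {P Q : ℕ → Prop} (h : ∀ n, P n ↔ Q n) : cnt G P = cnt G Q :=
  Nat.card_congr (Equiv.subtypeEquivRight fun _ => h _)

theorem cnt_or {P Q : ℕ → Prop} (h : ∀ n, P n → ¬ Q n) :
    cnt G (fun n => P n ∨ Q n) = cnt G P + cnt G Q :=
  Chev.card_orderOf_or P Q fun _ => h _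

theorem lb {k c : ℕ} {Q : ℕ → Prop} (h : ∀ n, Q n → k ∣ mo G n ∨ c ∣ mo G n) :
    ∃ X Y, cnt G Q = k * X + c * Y := by
  obtain ⟨X, hX⟩ := dvd_card_order (G := G) k (fun n => Q n ∧ k ∣ mo G n) fun _ h => h.2
  obtain ⟨Y, hY⟩ := dvd_card_order (G := G) c (fun n => Q n ∧ ¬ k ∣ mo G n) fun n h1 =>
    (h n h1.1).resolve_left h1.2
  exact ⟨X, Y, by rw [cnt, card_split _ fun g => k ∣ mo G (orderOf g), hX, hY]⟩

theorem frob {k n : ℕ} (hk : k ∣ Nat.card G) (hn : k ∣ n) : k ∣ cnt G (· ∣ n) := by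
  have := Ch.dvd_card_pow_eq_one hk hn
  rwa [Nat.card_congr (Equiv.subtypeEquivRight fun _ => orderOf_dvd_iff_pow_eq_one.symm)] at this

/-- nontrivial divisors of `k` -/
def D (k n : ℕ) : Prop := n ∣ k ∧ n ≠ 1

/-- even divisors of `2k` other than `2` -/
def E (k n : ℕ) : Prop := n ∣ 2 * k ∧ Even n ∧ n ≠ 2

theorem frobD {k : ℕ} (hk : k ∣ Nat.card G) : k ∣ 1 + cnt G (D k) := by
  have := frob hk dvd_rfl
  rwa [cnt_congr (Q := fun n => n = 1 ∨ D k n) fun n => ⟨fun h => or_iff_not_imp_left.2 fun h1 =>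
    ⟨h, h1⟩, fun h => h.elim (fun e => e ▸ one_dvd _) fun h => h.1⟩, cnt_or fun _ h1 h2 => h2.2 h1,
    show cnt G (· = 1) = 1 from mo_one] at this

theorem frobE {k : ℕ} (hk : k ∣ Nat.card G) (ho : Odd k) : k ∣ mo G 2 + cnt G (E k) := by
  have := frob hk (dvd_mul_left k 2)
  rw [cnt_congr (Q := fun n => n ∣ k ∨ (n = 2 ∨ E k n)) fun n => ⟨fun h => ?_, fun h => ?_⟩,
    cnt_or fun n h1 h2 => ?_, cnt_or fun _ h1 h2 => h2.2.2 h1] at this
  · exact (Nat.dvd_add_right (frob hk dvd_rfl)).1 this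
  · exact (Nat.not_even_iff_odd.2 (ho.of_dvd_nat h1)) (h2.elim (fun e => e ▸ even_two) fun h => h.2.1)
  · rcases Nat.even_or_odd n with h1 | h1
    · exact .inr (or_iff_not_imp_left.2 fun h2 => ⟨h, h1, h2⟩)
    · exact .inl (h1.coprime_two_right.dvd_of_dvd_mul_left h)
  · rcases h with h | rfl | h
    exacts [h.mul_left 2, dvd_mul_right 2 k, h.1]

theorem E.disj {k l n : ℕ} (h : k.Coprime l) (h1 : E k n) : ¬ E l n := fun h2 => by
  have h3 := Nat.dvd_gcd h1.1 h2.1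
  rw [Nat.gcd_mul_left, h, mul_one] at h3
  have := Nat.le_of_dvd two_pos h3
  obtain ⟨-, ⟨j, rfl⟩, h4⟩ := h1
  obtain rfl : j = 0 := by omega
  simp at h3

theorem D.disj {k l n : ℕ} (h : k.Coprime l) (h1 : D k n) : ¬ D l n := fun h2 =>
  h1.2 (Nat.eq_one_of_dvd_coprimes h h1.1 h2.1)

theorem dvd_of_cong {k c e S s X Y : ℕ} (hc : (c : ZMod k) = e) (hS : (S : ZMod k) = s)
    (h : k ∣ S + (k * X + c * Y)) : k ∣ s + e * Y := by
  rw [← ZMod.natCast_eq_zero_iff] at h ⊢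
  push_cast at h ⊢
  rwa [ZMod.natCast_self, zero_mul, zero_add, hc, hS] at h

section

variable {q u v a b t : ℕ} (h : Par q u v a b t)
include h

theorem Par.zm (k : ℕ) : (q : ZMod k) = 2 * u + 1 ∧ (q : ZMod k) + 1 = 4 * v ∧
    (q : ZMod k) ^ 3 = 3 * t ∧ (a : ZMod k) + b = 2 * q + 2 ∧ (a : ZMod k) * b + q = q ^ 2 + 1 := by
  refine ⟨?_, ?_, ?_, ?_, ?_⟩
  · exact_mod_cast congrArg (Nat.cast (R := ZMod k)) h.hu
  · exact_mod_cast congrArg (Nat.cast (R := ZMod k)) h.hv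
  · exact_mod_cast congrArg (Nat.cast (R := ZMod k)) h.ht
  · exact_mod_cast congrArg (Nat.cast (R := ZMod k)) h.hs
  · exact_mod_cast congrArg (Nat.cast (R := ZMod k)) h.hm

theorem Par.cong_a : ((24 * t * u * v * b : ℕ) : ZMod a) = (6 : ℕ) := by
  obtain ⟨h1, h2, h3, h4, h5⟩ := h.zm a
  rw [ZMod.natCast_self] at h4 h5
  push_cast
  grind

theorem Par.cong_b : ((24 * t * u * v * a : ℕ) : ZMod b) = (6 : ℕ) := by
  obtain ⟨h1, h2, h3, h4, h5⟩ := h.zm b
  rw [ZMod.natCast_self] at h4 h5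
  push_cast
  grind

theorem Par.cong_u : ((12 * t * v * a * b : ℕ) : ZMod u) = (2 : ℕ) ∧
    ((q ^ 2 * (a * b) : ℕ) : ZMod u) = (1 : ℕ) := by
  obtain ⟨h1, h2, h3, -, h5⟩ := h.zm u
  rw [ZMod.natCast_self] at h1
  push_cast
  constructor <;> grind

theorem Par.cong_v : ((6 * t * u * a * b : ℕ) : ZMod v) = (6 : ℕ) ∧
    ((q ^ 2 * (a * b) : ℕ) : ZMod v) = (3 : ℕ) := by
  obtain ⟨h1, h2, h3, -, h5⟩ := h.zm v
  rw [ZMod.natCast_self] at h2
  push_cast
  constructor <;> grind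

variable (hG : Nse G q u v a b t)
include hG

theorem bound_a : Nat.card G ≤ 6 * cnt G (D a) + 24 * t * u * v * b := by
  obtain ⟨X, Y, e⟩ := lb (G := G) (k := a) (c := 24 * t * u * v * b) (Q := D a) fun n hn => by
    rcases hG.val n hn.2 (fun e => h.odd_a.not_two_dvd_nat (e ▸ hn.1)) with h1 | h1 | h1 | h1 | h1 | h1
    · exact .inl (h1 ▸ ⟨32 * u * v ^ 2 * b, by ring⟩)
    · exact .inl (h1 ▸ ⟨8 * q ^ 2 * u * v * b, by ring⟩)
    · exact .inl (Dvd.dvd.trans ⟨12 * t * v * b, by ring⟩ h1)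
    · exact .inl (Dvd.dvd.trans ⟨6 * t * u * b, by ring⟩ h1)
    · exact .inr h1
    · exact .inl (Dvd.dvd.trans ⟨24 * t * u * v, by ring⟩ h1)
  have h1 := frobD (G := G) (k := a) ⟨24 * t * u * v * b, by rw [hG.card]; ring⟩
  rw [e] at h1
  have h2 := Nat.le_of_dvd (by omega) (dvd_of_cong h.cong_a rfl h1)
  rw [e, hG.card]
  nlinarith [Nat.mul_le_mul_left (24 * t * u * v * b) h2, Nat.zero_le (a * X)]

theorem bound_b : Nat.card G ≤ 6 * cnt G (D b) + 24 * t * u * v * a := by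
  obtain ⟨X, Y, e⟩ := lb (G := G) (k := b) (c := 24 * t * u * v * a) (Q := D b) fun n hn => by
    rcases hG.val n hn.2 (fun e => h.odd_b.not_two_dvd_nat (e ▸ hn.1)) with h1 | h1 | h1 | h1 | h1 | h1
    · exact .inl (h1 ▸ ⟨32 * u * v ^ 2 * a, by ring⟩)
    · exact .inl (h1 ▸ ⟨8 * q ^ 2 * u * v * a, by ring⟩)
    · exact .inl (Dvd.dvd.trans ⟨12 * t * v * a, by ring⟩ h1)
    · exact .inl (Dvd.dvd.trans ⟨6 * t * u * a, by ring⟩ h1)
    · exact .inl (Dvd.dvd.trans ⟨24 * t * u * v, by ring⟩ h1)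
    · exact .inr h1
  have h1 := frobD (G := G) (k := b) ⟨24 * t * u * v * a, by rw [hG.card]; ring⟩
  rw [e] at h1
  have h2 := Nat.le_of_dvd (by omega) (dvd_of_cong h.cong_b rfl h1)
  rw [e, hG.card]
  nlinarith [Nat.mul_le_mul_left (24 * t * u * v * a) h2, Nat.zero_le (b * X)]

omit h [Finite G] in
theorem val_u {n : ℕ} (h1 : n ≠ 1) (h2 : n ≠ 2) : u ∣ mo G n ∨ 12 * t * v * a * b ∣ mo G n := by
  rcases hG.val n h1 h2 with h1 | h1 | h1 | h1 | h1 | h1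
  · exact .inl (h1 ▸ ⟨32 * v ^ 2 * (a * b), by ring⟩)
  · exact .inl (h1 ▸ ⟨8 * q ^ 2 * v * (a * b), by ring⟩)
  · exact .inr h1
  · exact .inl (Dvd.dvd.trans ⟨6 * t * a * b, by ring⟩ h1)
  · exact .inl (Dvd.dvd.trans ⟨24 * t * v * b, by ring⟩ h1)
  · exact .inl (Dvd.dvd.trans ⟨24 * t * v * a, by ring⟩ h1)

theorem bound_u : Nat.card G ≤ 4 * cnt G (D u) + 24 * t * v * a * b := by
  obtain ⟨X, Y, e⟩ := lb (G := G) (Q := D u) fun n hn =>
    val_u hG hn.2 fun e => h.odd_u.not_two_dvd_nat (e ▸ hn.1)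
  have h1 := frobD (G := G) (k := u) ⟨24 * t * v * a * b, by rw [hG.card]; ring⟩
  rw [e] at h1
  have h2 := Nat.le_of_dvd (by omega) (dvd_of_cong h.cong_u.1 rfl h1)
  rw [e, hG.card]
  nlinarith [Nat.mul_le_mul_left (24 * t * v * a * b) h2, Nat.zero_le (u * X)]

theorem bound_Eu : Nat.card G ≤ 4 * cnt G (E u) + 24 * t * v * a * b := by
  obtain ⟨X, Y, e⟩ := lb (G := G) (Q := E u) fun n hn =>
    val_u hG (fun e => by have := hn.2.1; simp [e] at this) hn.2.2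
  have h1 := frobE (G := G) (k := u) ⟨24 * t * v * a * b, by rw [hG.card]; ring⟩ h.odd_u
  rw [e, hG.two] at h1
  have h2 := Nat.le_of_dvd (by omega) (dvd_of_cong h.cong_u.1 h.cong_u.2 h1)
  rw [e, hG.card]
  nlinarith [Nat.mul_le_mul_left (24 * t * v * a * b) h2, Nat.zero_le (u * X)]

theorem bound_Ev : Nat.card G ≤ 8 * cnt G (E v) + 24 * t * u * a * b := by
  obtain ⟨X, Y, e⟩ := lb (G := G) (k := v) (c := 6 * t * u * a * b) (Q := E v) fun n hn => by
    rcases hG.val n (fun e => by have := hn.2.1; simp [e] at this) hn.2.2 with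
      h1 | h1 | h1 | h1 | h1 | h1
    · exact .inl (h1 ▸ ⟨32 * u * v * (a * b), by ring⟩)
    · exact .inl (h1 ▸ ⟨8 * q ^ 2 * u * (a * b), by ring⟩)
    · exact .inl (Dvd.dvd.trans ⟨12 * t * a * b, by ring⟩ h1)
    · exact .inr h1
    · exact .inl (Dvd.dvd.trans ⟨24 * t * u * b, by ring⟩ h1)
    · exact .inl (Dvd.dvd.trans ⟨24 * t * u * a, by ring⟩ h1)
  have h1 := frobE (G := G) (k := v) ⟨24 * t * u * a * b, by rw [hG.card]; ring⟩ h.odd_v
  rw [e, hG.two] at h1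
  have h2 := dvd_of_cong h.cong_v.1 h.cong_v.2 h1
  rw [show 3 + 6 * Y = 3 * (1 + 2 * Y) by ring] at h2
  have h3 := Nat.le_of_dvd (by omega) (((Nat.prime_three.coprime_iff_not_dvd).2
    (by have := h.v3; omega)).symm.dvd_of_dvd_mul_left h2)
  rw [e, hG.card]
  nlinarith [Nat.mul_le_mul_left (24 * t * u * a * b) h3, Nat.zero_le (v * X)]

theorem three_dvd {n : ℕ} (hn : E (q ^ 3) n) : 3 ∣ mo G n := by
  obtain ⟨j, -, hq⟩ := h.q_pow
  obtain ⟨h1, h2, h3⟩ := hn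
  obtain ⟨k, rfl⟩ := even_iff_two_dvd.1 h2
  rw [hq, ← pow_mul] at h1
  obtain ⟨i, -, rfl⟩ := (Nat.dvd_prime_pow Nat.prime_three).1 (Nat.dvd_of_mul_dvd_mul_left two_pos h1)
  rcases i with _ | _ | i
  · exact absurd rfl h3
  · have h4 := frobE (G := G) (k := 3) ⟨8 * t * u * v * a * b, by rw [hG.card]; ring⟩ (by decide)
    rw [hG.two, cnt_congr (Q := (· = 6)) fun n => ⟨fun ⟨a, ⟨j, b⟩, c⟩ => by
      have := Nat.le_of_dvd (by norm_num) a
      interval_cases n <;> omega, by rintro rfl; exact ⟨by norm_num, by decide, by norm_num⟩⟩] at h4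
    exact (Nat.dvd_add_right (((dvd_trans (by norm_num) h.q27).pow two_ne_zero).mul_right _)).1 h4
  · refine dvd_trans ?_ (H93.totient_dvd_sc (G := G) _)
    rw [Nat.totient_mul (by simp; decide), Nat.totient_prime_pow_succ Nat.prime_three]
    exact ⟨Nat.totient 2 * 3 ^ i * (3 - 1), by ring⟩

theorem bound_E3 : 8 * q ^ 2 * u * v * (a * b) ≤ cnt G (E (q ^ 3)) := by
  by_contra h0
  have h1 : t ∣ cnt G (E (q ^ 3)) := dvd_card_order t _ fun n hn => by
    rcases hG.val n (fun e => by have := hn.2.1; simp [e] at this) hn.2.2 with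
      h1 | h1 | h1 | h1 | h1 | h1
    · have h2 := three_dvd h hG hn
      rw [h1, Nat.dvd_iff_mod_eq_zero] at h2
      simp [Nat.mul_mod, Nat.pow_mod, h.u3, h.v3, h.a3, h.b3] at h2
    · exact absurd (h1 ▸ cnt_mono (P := (· = n)) fun m e => e ▸ hn) h0
    · exact Dvd.dvd.trans ⟨12 * v * a * b, by ring⟩ h1
    · exact Dvd.dvd.trans ⟨6 * u * a * b, by ring⟩ h1
    · exact Dvd.dvd.trans ⟨24 * u * v * b, by ring⟩ h1
    · exact Dvd.dvd.trans ⟨24 * u * v * a, by ring⟩ h1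
  have h2 := frobE (G := G) (k := q ^ 3) ⟨8 * u * v * a * b, by rw [hG.card, h.ht]; ring⟩
    h.odd_q.pow
  have h3 := (Nat.dvd_add_left h1).1 ((Dvd.intro_left _ h.ht.symm).trans h2)
  obtain ⟨k, hk⟩ := h.q27
  have h4 : t = q ^ 2 * (3 * (3 * k)) := by
    have := h.ht
    rw [pow_succ] at this
    nth_rw 2 [hk] at this
    linarith
  rw [hG.two, h4] at h3
  have h5 := (dvd_mul_right 3 _).trans (Nat.dvd_of_mul_dvd_mul_left (pow_pos h.odd_q.pos 2) h3)
  rw [Nat.dvd_iff_mod_eq_zero] at h5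
  simp [Nat.mul_mod, h.a3, h.b3] at h5

theorem bound_odd : 5 * (3 * t * u * v * a * b) ≤ cnt G (· ∣ 3 * t * u * v * a * b) := by
  obtain ⟨k, hk⟩ := frob (G := G) (k := 3 * t * u * v * a * b) ⟨8, by rw [hG.card]; ring⟩ dvd_rfl
  have h1 : cnt G (D a) + cnt G (D b) + cnt G (D u) ≤ cnt G (· ∣ 3 * t * u * v * a * b) := by
    rw [← cnt_or fun _ => D.disj h.cop_ab, ← cnt_or fun _ h1 h2 => h1.elim
      (D.disj h.cop_uw.coprime_mul_right_right h2) (D.disj h.cop_uw.coprime_mul_left_right h2)]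
    refine cnt_mono ?_
    rintro n ((h1 | h1) | h1)
    · exact h1.1.trans ⟨3 * t * u * v * b, by ring⟩
    · exact h1.1.trans ⟨3 * t * u * v * a, by ring⟩
    · exact h1.1.trans ⟨3 * t * v * a * b, by ring⟩
  have h2 := bound_a h hG
  have h3 := bound_b h hG
  have h4 := bound_u h hG
  rw [hk, mul_comm 5]
  refine Nat.mul_le_mul_left _ (not_lt.1 fun h5 => ?_)
  have h6 := Nat.mul_le_mul_left (3 * t * u * v * a * b) (show k ≤ 4 by omega)
  have h7 : 2 * u * b + 2 * u * a + 3 * a * b < u * a * b := by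
    have := h.le_u; have := h.le_a; have := h.a_lt_b
    have e1 : 19 * (u * b) ≤ u * a * b := by nlinarith [Nat.mul_le_mul_right (u * b) ‹19 ≤ a›]
    have e2 : 19 * (u * a) ≤ u * a * b := by
      nlinarith [Nat.mul_le_mul_left (u * a) (show 19 ≤ b by omega)]
    have e3 : 13 * (a * b) ≤ u * a * b := by nlinarith [Nat.mul_le_mul_right (a * b) ‹13 ≤ u›]
    have e4 : 0 < a * b := Nat.mul_pos (by omega) (by omega)
    nlinarith
  have h8 := Nat.mul_lt_mul_of_pos_left h7 (Nat.mul_pos h.t_pos h.odd_v.pos)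
  rw [hG.card] at h2 h3 h4
  nlinarith

/-- Every even element order divides `2q³`, `q - 1` or `(q + 1)/2`. -/
theorem even_order {z : G} (hz : Even (orderOf z)) :
    orderOf z ∣ 2 * q ^ 3 ∨ orderOf z ∣ 2 * u ∨ orderOf z ∣ 2 * v := by
  by_contra h0
  simp only [not_or] at h0
  obtain ⟨n1, n2, n3⟩ := h0
  have ho : Odd (3 * t * u * v * a * b) :=
    (((((by decide : Odd 3).mul h.odd_t).mul h.odd_u).mul h.odd_v).mul h.odd_a).mul h.odd_b
  have h1 : cnt G (· ∣ 3 * t * u * v * a * b) + (mo G 2 + (cnt G (E (q ^ 3)) + (cnt G (E u) +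
      (cnt G (E v) + cnt G (· = orderOf z))))) ≤ Nat.card G := by
    rw [show mo G 2 = cnt G (· = 2) from rfl, ← cnt_or, ← cnt_or, ← cnt_or, ← cnt_or, ← cnt_or]
    · exact Nat.card_le_card_of_injective _ Subtype.val_injective
    · rintro n h1 (h2 | h2 | h2 | h2 | h2) <;> refine Nat.not_even_iff_odd.2 (ho.of_dvd_nat h1) ?_
      exacts [h2 ▸ even_two, h2.2.1, h2.2.1, h2.2.1, h2 ▸ hz]
    · rintro n rfl (h2 | h2 | h2 | h2)
      exacts [h2.2.2 rfl, h2.2.2 rfl, h2.2.2 rfl, n2 (h2 ▸ dvd_mul_right 2 u)]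
    · rintro n h1 (h2 | h2 | h2)
      exacts [E.disj (h.cop_three h.u3) h1 h2, E.disj (h.cop_three h.v3) h1 h2, n1 (h2 ▸ h1.1)]
    · rintro n h1 (h2 | h2)
      exacts [E.disj h.cop_uv h1 h2, n2 (h2 ▸ h1.1)]
    · exact fun n h1 h2 => n3 (h2 ▸ h1.1)
  have h2 : 0 < cnt G (· = orderOf z) := by
    have : Nonempty {g : G // orderOf g = orderOf z} := ⟨⟨z, rfl⟩⟩
    exact Nat.card_pos
  have h3 := bound_odd h hG
  have h4 := bound_E3 h hG
  have h5 := bound_Eu h hG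
  have h6 := bound_Ev h hG
  have h7 : q ^ 2 * (a * b) + 8 * q ^ 2 * u * v * (a * b) = 6 * t * v * a * b + 3 * t * u * a * b := by
    have e1 := h.hu; have e2 := h.hv; have e3 := h.ht
    zify at *
    grind
  rw [hG.two] at h1
  rw [hG.card] at h1 h5 h6
  nlinarith

end

end Cfsg.Agent.FG.Ree
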