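import Mathlib
import Cfsg.Prelude.Def_PLocal
import Cfsg.Agent.FG.CommMod
import Cfsg.Agent.FG.HallPetresco
import Cfsg.Agent.GT.PGroupFrattini

/-!
Regular `p`-groups (P. Hall): the basic theory.
-/

open scoped commutatorElement

namespace Cfsg.Agent.FG

open Subgroup Cfsg.Agent.GT.PG

universe u

variable {G : Type u} [Group G] {p : ℕ}

/-- If `⟨x, y⟩` normalizes `S` and `[x, y] ∈ S` then `⟨x, y⟩' ≤ S`. -/
theorem commutator_closure_pair_le {x y : G} {S : Subgroup G}
    (hx : x ∈ normalizer (S : Set G)) (hy : y ∈ normalizer (S : Set G)) (h : ⁅x, y⁆ ∈ S) :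
    ⁅closure ({x, y} : Set G), closure ({x, y} : Set G)⁆ ≤ S := by
  let N := normalizer (S : Set G)
  let x' : N := ⟨x, hx⟩
  let y' : N := ⟨y, hy⟩
  have h1 : (closure ({x', y'} : Set N)).map N.subtype = closure {x, y} := by
    rw [MonoidHom.map_closure, Set.image_pair]; rfl
  rw [← h1, ← map_commutator, map_le_iff_le_comap]
  have hxy : Commute (x' : N ⧸ S.subgroupOf N) y' :=
    (commutatorElement_mem_normal_iff x' y' (S.subgroupOf N)).1 h
  apply commutator_closure_closure_le_normal _ _ (S.subgroupOf N)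
  intro a ha b hb
  rw [commutatorElement_mem_normal_iff]
  rcases ha with rfl | rfl <;> rcases hb with rfl | rfl
  · exact Commute.refl _
  · exact hxy
  · exact hxy.symm
  · exact Commute.refl _

theorem commutator_closure_pair_le_normal {x y : G} {S : Subgroup G} [S.Normal]
    (h : ⁅x, y⁆ ∈ S) : ⁅closure ({x, y} : Set G), closure ({x, y} : Set G)⁆ ≤ S :=
  commutator_closure_pair_le (by rw [normalizer_eq_top]; trivial)
    (by rw [normalizer_eq_top]; trivial) h

/-- The weak (one-step) form of regularity. -/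
def WeakRegular (p : ℕ) (G : Type*) [Group G] : Prop :=
  ∀ a b : G, ∃ c ∈ powerClosure p 1 ⁅closure ({a, b} : Set G), closure ({a, b} : Set G)⁆,
    (a * b) ^ p = a ^ p * b ^ p * c

theorem _root_.Cfsg.IsRegularPGroup.weakRegular (h : IsRegularPGroup p G) : WeakRegular p G := by
  intro a b
  simpa using h.2 a b 1

theorem WeakRegular.of_surjective {G' : Type*} [Group G'] (h : WeakRegular p G) (f : G →* G')
    (hf : Function.Surjective f) : WeakRegular p G' := by
  intro a b
  obtain ⟨a, rfl⟩ := hf a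
  obtain ⟨b, rfl⟩ := hf b
  obtain ⟨c, hc, e⟩ := h a b
  refine ⟨f c, ?_, by rw [← map_mul, ← map_pow, e]; simp⟩
  have := mem_map_of_mem f hc
  rwa [map_powerClosure, map_commutator, MonoidHom.map_closure, Set.image_pair] at this

theorem WeakRegular.of_injective {G' : Type*} [Group G'] (h : WeakRegular p G) (f : G' →* G)
    (hf : Function.Injective f) : WeakRegular p G' := by
  intro a b
  obtain ⟨c, hc, e⟩ := h (f a) (f b)
  rw [← Set.image_pair, ← MonoidHom.map_closure, ← map_commutator, ← map_powerClosure] at hc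
  obtain ⟨c, hc, rfl⟩ := hc
  exact ⟨c, hc, hf (by simpa using e)⟩

theorem WeakRegular.subgroup (h : WeakRegular p G) (H : Subgroup G) : WeakRegular p H :=
  h.of_injective H.subtype H.subtype_injective

theorem WeakRegular.quotient (h : WeakRegular p G) (N : Subgroup G) [N.Normal] :
    WeakRegular p (G ⧸ N) :=
  h.of_surjective _ (QuotientGroup.mk'_surjective N)

theorem _root_.Cfsg.IsRegularPGroup.of_surjective {G' : Type*} [Group G']
    (h : IsRegularPGroup p G) (f : G →* G') (hf : Function.Surjective f) :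
    IsRegularPGroup p G' := by
  refine ⟨h.1.of_surjective f hf, fun a b n => ?_⟩
  obtain ⟨a, rfl⟩ := hf a
  obtain ⟨b, rfl⟩ := hf b
  obtain ⟨c, hc, e⟩ := h.2 a b n
  refine ⟨f c, ?_, by rw [← map_mul, ← map_pow, e]; simp⟩
  have := mem_map_of_mem f hc
  rwa [map_powerClosure, map_commutator, MonoidHom.map_closure, Set.image_pair] at this

theorem _root_.Cfsg.IsRegularPGroup.of_injective {G' : Type*} [Group G']
    (h : IsRegularPGroup p G) (f : G' →* G) (hf : Function.Injective f) :
    IsRegularPGroup p G' := by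
  refine ⟨h.1.of_injective f hf, fun a b n => ?_⟩
  obtain ⟨c, hc, e⟩ := h.2 (f a) (f b) n
  rw [← Set.image_pair, ← MonoidHom.map_closure, ← map_commutator, ← map_powerClosure] at hc
  obtain ⟨c, hc, rfl⟩ := hc
  exact ⟨c, hc, hf (by simpa using e)⟩

theorem WeakRegular.mul_pow_of_forall (h : WeakRegular p G) {a b : G}
    (hc : ∀ c ∈ ⁅closure ({a, b} : Set G), closure ({a, b} : Set G)⁆, c ^ p = 1) :
    (a * b) ^ p = a ^ p * b ^ p := by
  obtain ⟨c, hc', e⟩ := h a b
  have : powerClosure p 1 ⁅closure ({a, b} : Set G), closure ({a, b} : Set G)⁆ = ⊥ :=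
    powerClosure_eq_bot_iff.2 (by simpa using hc)
  rw [this, mem_bot] at hc'
  rw [e, hc', mul_one]

variable [Finite G] [Fact p.Prime]

/-- In a `p`-group, either `z ∈ ⟨x, y⟩` generates, or it lies in a subgroup of index `p`. -/
theorem commute_or_exists_relIndex (hG : IsPGroup p G) (x y z : G)
    (hz : z ∈ closure ({x, y} : Set G)) : Commute x y ∨
      ∃ M : Subgroup G, z ∈ M ∧ M < closure ({x, y} : Set G) ∧
        M.relIndex (closure ({x, y} : Set G)) = p := by
  have hle : zpowers z ≤ closure ({x, y} : Set G) := by rwa [zpowers_le]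
  rcases hle.lt_or_eq with hlt | heq
  · right
    obtain ⟨M, h1, h2, h3, -⟩ := exists_invariant_relIndex_eq (H := ⊥) (hG.to_subgroup _)
      (hG.to_subgroup _) bot_le bot_le hlt
    refine ⟨M, h1 (mem_zpowers z), lt_of_le_of_ne h2 ?_, h3⟩
    rintro rfl
    rw [relIndex_self] at h3
    exact (Fact.out : p.Prime).one_lt.ne h3
  · left
    have hx : x ∈ zpowers z := heq ▸ subset_closure (by simp)
    have hy : y ∈ zpowers z := heq ▸ subset_closure (by simp)
    obtain ⟨i, rfl⟩ := hx
    obtain ⟨j, rfl⟩ := hy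
    exact Commute.zpow_zpow_self _ _ _

theorem WeakRegular.mul_pow_eq_one_aux (hG : IsPGroup p G) (h : WeakRegular p G) (n : ℕ) :
    ∀ H : Subgroup G, Nat.card H ≤ n → ∀ x ∈ H, ∀ y ∈ H, x ^ p = 1 → y ^ p = 1 →
      (x * y) ^ p = 1 := by
  induction n with
  | zero => intro H hH; have := Nat.card_pos (α := H); omega
  | succ n ih =>
    intro H hH x hx y hy hxp hyp
    have hKH : closure ({x, y} : Set G) ≤ H := by
      rw [closure_le, Set.pair_subset_iff]; exact ⟨hx, hy⟩
    have hxK : x ∈ closure ({x, y} : Set G) := subset_closure (by simp)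
    have hyK : y ∈ closure ({x, y} : Set G) := subset_closure (by simp)
    rcases commute_or_exists_relIndex hG x y x hxK with hc | ⟨M, hxM, hlt, hi⟩
    · rw [hc.mul_pow, hxp, hyp, mul_one]
    have hMn : Nat.card M ≤ n := by
      have := card_lt_of_lt (hlt.trans_le hKH); omega
    have hN := le_normalizer_of_relIndex_prime (hG.to_subgroup _) hlt.le hi
    let S : Subgroup G :=
      { carrier := {g | g ∈ M ∧ g ^ p = 1}
        mul_mem' := fun {a b} ha hb => ⟨M.mul_mem ha.1 hb.1, ih M hMn a ha.1 b hb.1 ha.2 hb.2⟩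
        one_mem' := ⟨M.one_mem, one_pow _⟩
        inv_mem' := fun {a} ha => ⟨M.inv_mem ha.1, by rw [inv_pow, ha.2, inv_one]⟩ }
    have hS : ∀ g ∈ closure ({x, y} : Set G), ∀ s ∈ S, g * s * g⁻¹ ∈ S := by
      intro g hg s hs
      exact ⟨(mem_normalizer_iff.1 (hN hg) s).1 hs.1, by rw [conj_pow, hs.2]; simp⟩
    have hS' : closure ({x, y} : Set G) ≤ normalizer (S : Set G) := by
      intro g hg
      rw [mem_normalizer_iff]
      intro s
      refine ⟨hS g hg s, fun hs => ?_⟩
      simpa [mul_assoc] using hS g⁻¹ (inv_mem hg) _ hs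
    have hxS : x ∈ S := ⟨hxM, hxp⟩
    have hcomm : ⁅x, y⁆ ∈ S := by
      have := S.mul_mem hxS (hS y hyK _ (S.inv_mem hxS))
      simpa [commutatorElement_def, mul_assoc] using this
    rw [h.mul_pow_of_forall fun c hc =>
      (commutator_closure_pair_le (hS' hxK) (hS' hyK) hcomm hc).2, hxp, hyp, mul_one]

/-- The elements of order dividing `p` of a weakly regular `p`-group. -/
def WeakRegular.omega (hG : IsPGroup p G) (h : WeakRegular p G) : Subgroup G where
  carrier := {g | g ^ p = 1}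
  mul_mem' := fun {a b} ha hb =>
    h.mul_pow_eq_one_aux hG _ ⊤ le_rfl a trivial b trivial ha hb
  one_mem' := one_pow _
  inv_mem' := fun {a} ha => by
    have ha' : a ^ _ = 1 := ha
    show a⁻¹ ^ _ = 1
    rw [inv_pow, ha', inv_one]

theorem WeakRegular.mem_omega (hG : IsPGroup p G) (h : WeakRegular p G) {g : G} :
    g ∈ h.omega hG ↔ g ^ p = 1 := Iff.rfl

theorem WeakRegular.omega_normal (hG : IsPGroup p G) (h : WeakRegular p G) :
    (h.omega hG).Normal :=
  ⟨fun s hs g => by rw [h.mem_omega] at hs ⊢; rw [conj_pow, hs]; simp⟩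

theorem WeakRegular.mul_pow_of_commutator_pow (hG : IsPGroup p G) (h : WeakRegular p G) {a b : G}
    (hc : ⁅a, b⁆ ^ p = 1) : (a * b) ^ p = a ^ p * b ^ p := by
  have := h.omega_normal hG
  exact h.mul_pow_of_forall fun c hc' =>
    commutator_closure_pair_le_normal (S := h.omega hG) hc hc'

theorem WeakRegular.pow_eq_of_mul_inv_pow (hG : IsPGroup p G) (h : WeakRegular p G) {x y : G}
    (hxy : (x * y⁻¹) ^ p = 1) : x ^ p = y ^ p := by
  have hn := h.omega_normal hG
  have h1 : ⁅x * y⁻¹, y⁆ ∈ h.omega hG := by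
    have hz : x * y⁻¹ ∈ h.omega hG := hxy
    have := (h.omega hG).mul_mem hz (hn.conj_mem _ (inv_mem hz) y)
    rw [commutatorElement_def]
    simpa [mul_assoc] using this
  have := h.mul_pow_of_commutator_pow hG h1
  rwa [hxy, one_mul, inv_mul_cancel_right] at this

theorem WeakRegular.mul_inv_pow_aux (hG : IsPGroup p G) (h : WeakRegular p G) (n : ℕ) :
    ∀ H : Subgroup G, Nat.card H ≤ n → ∀ x ∈ H, ∀ y ∈ H, x ^ p = y ^ p → (x * y⁻¹) ^ p = 1 := by
  have hn := h.omega_normal hG
  induction n with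
  | zero => intro H hH; have := Nat.card_pos (α := H); omega
  | succ n ih =>
    intro H hH x hx y hy hxy
    have hKH : closure ({x, y} : Set G) ≤ H := by
      rw [closure_le, Set.pair_subset_iff]; exact ⟨hx, hy⟩
    have hxK : x ∈ closure ({x, y} : Set G) := subset_closure (by simp)
    have hyK : y ∈ closure ({x, y} : Set G) := subset_closure (by simp)
    rcases commute_or_exists_relIndex hG x y x hxK with hc | ⟨M, hxM, hlt, hi⟩
    · rw [hc.inv_right.mul_pow, inv_pow, hxy, mul_inv_cancel]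
    have hMn : Nat.card M ≤ n := by
      have := card_lt_of_lt (hlt.trans_le hKH); omega
    have hN := le_normalizer_of_relIndex_prime (hG.to_subgroup _) hlt.le hi
    have h1 := ih M hMn x hxM (y * x * y⁻¹) ((mem_normalizer_iff.1 (hN hyK) x).1 hxM)
      (by rw [conj_pow, hxy]; group)
    have h2 : ⁅x, y⁆ ∈ h.omega hG := by
      rw [h.mem_omega, ← h1, commutatorElement_def]
      simp [mul_assoc]
    rw [commutatorElement_mem_normal_iff] at h2
    have h3 : ⁅x, y⁻¹⁆ ∈ h.omega hG := by
      rw [commutatorElement_mem_normal_iff]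
      simpa using h2.inv_right
    rw [h.mul_pow_of_commutator_pow hG h3, inv_pow, hxy, mul_inv_cancel]

theorem WeakRegular.pow_eq_pow_iff_one (hG : IsPGroup p G) (h : WeakRegular p G) (x y : G) :
    x ^ p = y ^ p ↔ (x * y⁻¹) ^ p = 1 :=
  ⟨h.mul_inv_pow_aux hG _ ⊤ le_rfl x trivial y trivial, h.pow_eq_of_mul_inv_pow hG⟩

/-- In a (weakly) regular `p`-group, `x^(p^k) = y^(p^k)` iff `(x y⁻¹)^(p^k) = 1`. -/
theorem WeakRegular.pow_eq_pow_iff (hG : IsPGroup p G) (h : WeakRegular p G) (k : ℕ) (x y : G) :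
    x ^ p ^ k = y ^ p ^ k ↔ (x * y⁻¹) ^ p ^ k = 1 := by
  induction k generalizing G with
  | zero => simp [mul_inv_eq_one]
  | succ k ih =>
    have hn := h.omega_normal hG
    have := ih (hG.to_quotient (h.omega hG)) (h.quotient _) (x : G ⧸ h.omega hG) y
    rw [pow_succ, pow_mul, pow_mul, pow_mul, h.pow_eq_pow_iff_one hG, ← h.mem_omega hG,
      ← h.mem_omega hG, ← QuotientGroup.eq_one_iff, ← QuotientGroup.eq_one_iff]
    simpa [mul_inv_eq_one] using this

theorem WeakRegular.mul_pow_eq_one (hG : IsPGroup p G) (h : WeakRegular p G) {k : ℕ} {x y : G}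
    (hx : x ^ p ^ k = 1) (hy : y ^ p ^ k = 1) : (x * y) ^ p ^ k = 1 := by
  have := (h.pow_eq_pow_iff hG k x y⁻¹).1 (by rw [inv_pow, hx, hy, inv_one])
  rwa [inv_inv] at this

/-- The elements of order dividing `p ^ k` of a weakly regular `p`-group. -/
def WeakRegular.omegaPow (hG : IsPGroup p G) (h : WeakRegular p G) (k : ℕ) : Subgroup G where
  carrier := {g | g ^ p ^ k = 1}
  mul_mem' := fun ha hb => h.mul_pow_eq_one hG ha hb
  one_mem' := one_pow _
  inv_mem' := fun {a} ha => by
    have ha' : a ^ _ = 1 := ha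
    show a⁻¹ ^ _ = 1
    rw [inv_pow, ha', inv_one]

theorem WeakRegular.mem_omegaPow (hG : IsPGroup p G) (h : WeakRegular p G) {k : ℕ} {g : G} :
    g ∈ h.omegaPow hG k ↔ g ^ p ^ k = 1 := Iff.rfl

theorem WeakRegular.omegaPow_characteristic (hG : IsPGroup p G) (h : WeakRegular p G) (k : ℕ) :
    (h.omegaPow hG k).Characteristic := by
  rw [characteristic_iff_le_comap]
  intro φ g hg
  rw [mem_comap, h.mem_omegaPow] at *
  rw [← map_pow, hg, map_one]

theorem WeakRegular.commute_pow_iff (hG : IsPGroup p G) (h : WeakRegular p G) (k : ℕ) (a b : G) :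
    Commute (a ^ p ^ k) b ↔ ⁅a, b⁆ ^ p ^ k = 1 := by
  have := h.pow_eq_pow_iff hG k a (b * a * b⁻¹)
  rw [conj_pow, show a * (b * a * b⁻¹)⁻¹ = ⁅a, b⁆ by simp [commutatorElement_def, mul_assoc],
    eq_mul_inv_iff_mul_eq] at this
  exact this

theorem WeakRegular.exists_pow_mul_pow_aux (hG : IsPGroup p G) (h : WeakRegular p G) (n : ℕ) :
    ∀ H : Subgroup G, Nat.card H ≤ n → ∀ x ∈ H, ∀ y ∈ H, ∃ z ∈ H, x ^ p * y ^ p = z ^ p := by
  induction n with
  | zero => intro H hH; have := Nat.card_pos (α := H); omega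
  | succ n ih =>
    intro H hH x hx y hy
    have hKH : closure ({x, y} : Set G) ≤ H := by
      rw [closure_le, Set.pair_subset_iff]; exact ⟨hx, hy⟩
    have hxK : x ∈ closure ({x, y} : Set G) := subset_closure (by simp)
    have hyK : y ∈ closure ({x, y} : Set G) := subset_closure (by simp)
    rcases commute_or_exists_relIndex hG x y (x * y) (mul_mem hxK hyK) with hc | ⟨M, hxM, hlt, hi⟩
    · exact ⟨x * y, mul_mem hx hy, hc.mul_pow p ▸ rfl⟩
    have hMn : Nat.card M ≤ n := by
      have := card_lt_of_lt (hlt.trans_le hKH); omega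
    have hC := commutator_self_le_of_relIndex_prime (hG.to_subgroup _) hlt.le hi
    let S : Subgroup G :=
      { carrier := {g | ∃ z ∈ M, g = z ^ p}
        mul_mem' := by
          rintro _ _ ⟨a, ha, rfl⟩ ⟨b, hb, rfl⟩
          exact ih M hMn a ha b hb
        one_mem' := ⟨1, M.one_mem, (one_pow _).symm⟩
        inv_mem' := by
          rintro _ ⟨a, ha, rfl⟩
          exact ⟨a⁻¹, inv_mem ha, (inv_pow _ _).symm⟩ }
    obtain ⟨c, hc, e⟩ := h x y
    have hcS : c ∈ S := (powerClosure_one_le_iff (K := S)).2 (fun d hd => ⟨d, hC hd, rfl⟩) hc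
    have h1 : (x * y) ^ p ∈ S := ⟨x * y, hxM, rfl⟩
    obtain ⟨z, hz, e'⟩ := S.mul_mem h1 (S.inv_mem hcS)
    exact ⟨z, hKH (hlt.le hz), by rw [← e', e, mul_inv_cancel_right]⟩

omit [Finite G] [Fact p.Prime] in
theorem mem_powerClosure_iff_of_mul {n : ℕ} {H : Subgroup G}
    (h : ∀ x ∈ H, ∀ y ∈ H, ∃ z ∈ H, x ^ p ^ n * y ^ p ^ n = z ^ p ^ n) {g : G} :
    g ∈ powerClosure p n H ↔ ∃ x ∈ H, g = x ^ p ^ n := by
  let S : Subgroup G :=
    { carrier := {g | ∃ z ∈ H, g = z ^ p ^ n}
      mul_mem' := by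
        rintro _ _ ⟨a, ha, rfl⟩ ⟨b, hb, rfl⟩
        exact h a ha b hb
      one_mem' := ⟨1, H.one_mem, (one_pow _).symm⟩
      inv_mem' := by
        rintro _ ⟨a, ha, rfl⟩
        exact ⟨a⁻¹, inv_mem ha, (inv_pow _ _).symm⟩ }
  refine ⟨fun hg => (powerClosure_le_iff (K := S)).2 (fun d hd => ⟨d, hd, rfl⟩) hg, ?_⟩
  rintro ⟨x, hx, rfl⟩
  exact pow_mem_powerClosure hx

theorem WeakRegular.exists_pow_mul_pow (hG : IsPGroup p G) (h : WeakRegular p G) (n : ℕ)
    (H : Subgroup G) : ∀ x ∈ H, ∀ y ∈ H, ∃ z ∈ H, x ^ p ^ n * y ^ p ^ n = z ^ p ^ n := by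
  induction n generalizing H with
  | zero => exact fun x hx y hy => ⟨x * y, mul_mem hx hy, by simp⟩
  | succ n ih =>
    intro x hx y hy
    obtain ⟨w, hw, e⟩ := ih (powerClosure p 1 H) _ (pow_mem_powerClosure_one hx) _
      (pow_mem_powerClosure_one hy)
    rw [mem_powerClosure_iff_of_mul
      (by simpa using h.exists_pow_mul_pow_aux hG _ H le_rfl)] at hw
    obtain ⟨z, hz, rfl⟩ := hw
    refine ⟨z, hz, ?_⟩
    simpa [pow_succ', pow_mul] using e

/-- In a (weakly) regular `p`-group the `p^n`-th powers of the elements of a subgroup form a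
subgroup. -/
theorem WeakRegular.mem_powerClosure_iff (hG : IsPGroup p G) (h : WeakRegular p G) {n : ℕ}
    {H : Subgroup G} {g : G} : g ∈ powerClosure p n H ↔ ∃ x ∈ H, g = x ^ p ^ n :=
  mem_powerClosure_iff_of_mul (h.exists_pow_mul_pow hG n H)

theorem WeakRegular.exists_mul_pow_top (hG : IsPGroup p G) (h : WeakRegular p G) (n : ℕ)
    (a b : G) : ∃ c ∈ powerClosure p n (_root_.commutator G),
      (a * b) ^ p ^ n = a ^ p ^ n * b ^ p ^ n * c := by
  induction n generalizing G with
  | zero => exact ⟨1, one_mem _, by simp⟩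
  | succ n ih =>
    let N := powerClosure p (n + 1) (_root_.commutator G)
    have hQ := hG.to_quotient N
    have hW := h.quotient N
    have hexp : ∀ d ∈ _root_.commutator (G ⧸ N), d ^ p ^ (n + 1) = 1 := by
      intro d hd
      rw [_root_.commutator_def (G ⧸ N),
        ← map_top_of_surjective _ (QuotientGroup.mk'_surjective N),
        ← map_commutator] at hd
      obtain ⟨d, hd, rfl⟩ := hd
      rw [← map_pow, QuotientGroup.mk'_apply, QuotientGroup.eq_one_iff]
      exact pow_mem_powerClosure hd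
    obtain ⟨c, hc, e⟩ := ih hQ hW (a : G ⧸ N) (b : G ⧸ N)
    obtain ⟨d, hd, rfl⟩ := (hW.mem_powerClosure_iff hQ).1 hc
    have hdp : (d ^ p ^ n) ^ p = 1 := by rw [← pow_mul, ← pow_succ, hexp d hd]
    set u := (a : G ⧸ N) ^ p ^ n with hu
    set v := (b : G ⧸ N) ^ p ^ n with hv
    have h1 : (u * v * d ^ p ^ n) ^ p = (u * v) ^ p := by
      rw [hW.pow_eq_pow_iff_one hQ, conj_pow, hdp]; simp
    have h2 : ⁅u, v⁆ ^ p = 1 := by
      have h3 := (hW.commute_pow_iff hQ (n + 1) a v).2
        (hexp _ (commutator_mem_commutator (mem_top _) (mem_top _)))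
      have h4 := (hW.commute_pow_iff hQ 1 u v).1 (by rwa [hu, ← pow_mul, ← pow_add])
      simpa using h4
    have h5 : ((a * b : G) : G ⧸ N) ^ p ^ (n + 1) =
        (a : G ⧸ N) ^ p ^ (n + 1) * (b : G ⧸ N) ^ p ^ (n + 1) := by
      rw [pow_succ, pow_mul, pow_mul, pow_mul, QuotientGroup.mk_mul, e, h1,
        hW.mul_pow_of_commutator_pow hQ h2]
    refine ⟨(a ^ p ^ (n + 1) * b ^ p ^ (n + 1))⁻¹ * (a * b) ^ p ^ (n + 1), ?_,
      (mul_inv_cancel_left _ _).symm⟩
    rw [← QuotientGroup.eq]
    simpa using h5.symm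

/-- A weakly regular finite `p`-group is regular. -/
theorem WeakRegular.isRegularPGroup (hG : IsPGroup p G) (h : WeakRegular p G) :
    IsRegularPGroup p G := by
  refine ⟨hG, fun a b n => ?_⟩
  let K := closure ({a, b} : Set G)
  obtain ⟨c, hc, e⟩ := (h.subgroup K).exists_mul_pow_top (hG.to_subgroup K) n
    ⟨a, subset_closure (by simp)⟩ ⟨b, subset_closure (by simp)⟩
  refine ⟨c, ?_, by simpa using congrArg Subtype.val e⟩
  have := mem_map_of_mem K.subtype hc
  rwa [map_powerClosure, map_subtype_commutator] at this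

theorem WeakRegular.commutator_powerClosure_le_top (hG : IsPGroup p G) (h : WeakRegular p G)
    (n : ℕ) : ⁅powerClosure p n (⊤ : Subgroup G), ⊤⁆ ≤ powerClosure p n (_root_.commutator G) := by
  let N := powerClosure p n (_root_.commutator G)
  apply commutator_closure_left_le_normal
  rintro _ ⟨x, -, rfl⟩ y -
  rw [commutatorElement_mem_normal_iff, QuotientGroup.mk_pow,
    (h.quotient N).commute_pow_iff (hG.to_quotient N), ← QuotientGroup.mk'_apply,
    ← QuotientGroup.mk'_apply, ← map_commutatorElement, ← map_pow, QuotientGroup.mk'_apply,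
    QuotientGroup.eq_one_iff]
  exact pow_mem_powerClosure (commutator_mem_commutator (mem_top _) (mem_top _))

theorem WeakRegular.commutator_powerClosure_le (hG : IsPGroup p G) (h : WeakRegular p G)
    (n : ℕ) (H : Subgroup G) : ⁅powerClosure p n H, H⁆ ≤ powerClosure p n ⁅H, H⁆ := by
  have := map_mono (f := H.subtype)
    ((h.subgroup H).commutator_powerClosure_le_top (hG.to_subgroup H) n)
  rwa [map_commutator, map_powerClosure, map_powerClosure, map_subtype_commutator,
    ← MonoidHom.range_eq_map, range_subtype] at this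

omit [Finite G] in
/-- A group of class less than `p` is weakly regular. -/
theorem weakRegular_of_class_lt (h : (⊤ : Subgroup G).lowerCentralSeries (p - 1) = ⊥) :
    WeakRegular p G := by
  intro a b
  refine ⟨(a ^ p * b ^ p)⁻¹ * (a * b) ^ p, ?_, (mul_inv_cancel_left _ _).symm⟩
  apply hall_collection_prime (H := closure {a, b}) Fact.out (subset_closure (by simp))
    (subset_closure (by simp))
  · exact fun g hg => pow_mem_powerClosure_one hg
  · exact (lowerCentralSeries_mono _ le_top).trans (h.le.trans bot_le)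

/-- A finite `p`-group of class less than `p` is regular. -/
theorem isRegularPGroup_of_class_lt (hG : IsPGroup p G)
    (h : (⊤ : Subgroup G).lowerCentralSeries (p - 1) = ⊥) : IsRegularPGroup p G :=
  (weakRegular_of_class_lt h).isRegularPGroup hG

end Cfsg.Agent.FG
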