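import Mathlib

/-! Field lemmas for the universal minimal non-`p`-nilpotent group. -/

set_option autoImplicit false
set_option linter.unusedSectionVars false

namespace Cfsg.Agent.FG.SchU

open Polynomial

variable {K : Type*} [Field K] [Finite K]

/-- The multipliers of an additive subgroup. -/
def stab (A : AddSubgroup K) : Subfield K where
  carrier := {s | ∀ c ∈ A, s * c ∈ A}
  mul_mem' := fun {s t} hs ht c hc => by rw [mul_assoc]; exact hs _ (ht c hc)
  one_mem' := fun c hc => by rwa [one_mul]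
  add_mem' := fun {s t} hs ht c hc => by rw [add_mul]; exact add_mem (hs c hc) (ht c hc)
  zero_mem' := fun c _ => by rw [zero_mul]; exact zero_mem _
  neg_mem' := fun {s} hs c hc => by rw [neg_mul]; exact neg_mem (hs c hc)
  inv_mem' := fun s hs c hc => by
    rcases eq_or_ne s 0 with rfl | h0
    · rw [inv_zero, zero_mul]; exact zero_mem _
    let f : A → A := fun x => ⟨s * x, hs x x.2⟩
    have : Function.Injective f := fun x y e =>
      Subtype.ext (mul_left_cancel₀ h0 (congrArg Subtype.val e))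
    obtain ⟨x, hx⟩ := Finite.injective_iff_surjective.1 this ⟨c, hc⟩
    rw [← show s * x = c from congrArg Subtype.val hx, inv_mul_cancel_left₀ h0]
    exact x.2

theorem mem_stab {A : AddSubgroup K} {s : K} : s ∈ stab A ↔ ∀ c ∈ A, s * c ∈ A := Iff.rfl

theorem card_subfield {p a : ℕ} [hp : Fact p.Prime] (hK : Nat.card K = p ^ a) (M : Subfield K) :
    ∃ e d, Nat.card M = p ^ e ∧ 0 < e ∧ a = e * d := by
  have h1 : Nat.card K = Nat.card M ^ Module.finrank M K := Module.natCard_eq_pow_finrank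
  have h2 : Nat.card M ∣ p ^ a := hK ▸ M.toAddSubgroup.card_addSubgroup_dvd_card
  obtain ⟨e, -, he⟩ := (Nat.dvd_prime_pow hp.out).1 h2
  refine ⟨e, Module.finrank M K, he, Nat.pos_of_ne_zero fun h0 => ?_, ?_⟩
  · have : 1 < Nat.card M := Finite.one_lt_card
    rw [he, h0] at this
    simp at this
  · rw [he, hK, ← pow_mul] at h1
    exact Nat.pow_right_injective hp.out.two_le h1

theorem eq_top_of_card {M : Subfield K} (h : Nat.card K ≤ Nat.card M) : M = ⊤ := by
  have : M.toAddSubgroup = ⊤ := AddSubgroup.eq_top_of_le_card _ h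
  exact eq_top_iff.2 fun x _ => (this ▸ AddSubgroup.mem_top x : x ∈ M.toAddSubgroup)

/-- The setting: `K` is generated by a primitive `q`-th root of unity. -/
structure Fld (K : Type*) [Field K] (p q : ℕ) (ζ : K) : Prop where
  card : Nat.card K = p ^ orderOf (p : ZMod q)
  prim : IsPrimitiveRoot ζ q

variable {p q : ℕ} [hp : Fact p.Prime] [hq : Fact q.Prime] {ζ : K}

theorem Fld.irr (h : Fld K p q ζ) {ω : K} (h1 : ω ^ q = 1) (h2 : ω ≠ 1) {A : AddSubgroup K}
    (hA : ∀ c ∈ A, ω * c ∈ A) {c : K} (hc : c ∈ A) (h0 : c ≠ 0) (x : K) : x ∈ A := by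
  obtain ⟨e, d, h3, h4, h5⟩ := card_subfield h.card (stab A)
  have hω : ω ≠ 0 := fun e => by simp [e, hq.out.ne_zero] at h1
  have := Fintype.ofFinite (stab A)
  have h6 : ω ^ (p ^ e - 1) = 1 := by
    have := FiniteField.pow_card_sub_one_eq_one (⟨ω, hA⟩ : stab A)
      (fun e => hω (congrArg Subtype.val e))
    rw [← Nat.card_eq_fintype_card, h3] at this
    exact congrArg Subtype.val this
  have h7 : q ∣ p ^ e - 1 := orderOf_eq_prime h1 h2 ▸ orderOf_dvd_of_pow_eq_one h6
  have h8 : (p : ZMod q) ^ e = 1 := by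
    have := (ZMod.natCast_eq_zero_iff _ _).2 h7
    rw [Nat.cast_sub (Nat.one_le_pow _ _ hp.out.pos), sub_eq_zero] at this
    exact_mod_cast this
  have h9 : stab A = ⊤ := eq_top_of_card (by
    rw [h3, h.card]
    exact Nat.pow_le_pow_right hp.out.pos (Nat.le_of_dvd h4 (orderOf_dvd_of_pow_eq_one h8)))
  have := (h9 ▸ Subfield.mem_top (x / c) : x / c ∈ stab A) c hc
  rwa [div_mul_cancel₀ _ h0] at this

theorem Fld.ne_one (h : Fld K p q ζ) : ζ ≠ 1 := h.prim.ne_one hq.out.one_lt

theorem Fld.ne_zero (h : Fld K p q ζ) : ζ ≠ 0 := h.prim.ne_zero hq.out.ne_zero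

/-- A subfield containing `ζ + ζ⁻¹` has index at most two. -/
theorem Fld.card_le (h : Fld K p q ζ) {M : Subfield K} (hM : ζ + ζ⁻¹ ∈ M) :
    p ^ (if orderOf (p : ZMod q) % 2 = 1 then orderOf (p : ZMod q) else orderOf (p : ZMod q) / 2)
      ≤ Nat.card M := by
  obtain ⟨e, d, h3, h4, h5⟩ := card_subfield h.card M
  let f : M × M →+ K := AddMonoidHom.mk' (fun x => x.1 + ζ * x.2) fun x y => by
    simp only [Prod.fst_add, Prod.snd_add, Subfield.coe_add]; ring
  have h6 : Function.Surjective f := fun x => h.irr h.prim.pow_eq_one h.ne_one (A := f.range)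
    (by
      rintro _ ⟨⟨a, b⟩, rfl⟩
      refine ⟨(-b, a + ⟨_, hM⟩ * b), ?_⟩
      have := h.ne_zero
      simp only [f, AddMonoidHom.mk'_apply, Subfield.coe_add, Subfield.coe_neg, Subfield.coe_mul]
      field_simp
      ring) (c := 1) ⟨(1, 0), by simp [f]⟩ one_ne_zero x
  have h7 := Nat.card_le_card_of_surjective f h6
  rw [Nat.card_prod, h3, h.card, ← pow_add, Nat.pow_le_pow_iff_right hp.out.one_lt] at h7
  rw [h3]
  refine Nat.pow_le_pow_right hp.out.pos ?_
  have h8 : d ≤ 2 := by nlinarith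
  split_ifs with h9
  · rcases d with _ | _ | _ | d <;> omega
  · omega

theorem exists_fld (hpq : p ≠ q) (hK : Nat.card K = p ^ orderOf (p : ZMod q)) :
    ∃ ζ : K, Fld K p q ζ := by
  have h1 : q ∣ Nat.card Kˣ := by
    rw [Nat.card_units, hK, ← ZMod.natCast_eq_zero_iff, Nat.cast_sub (Nat.one_le_pow _ _ hp.out.pos)]
    simp
  obtain ⟨x, hx⟩ := exists_prime_orderOf_dvd_card' q h1
  exact ⟨x, hK, IsPrimitiveRoot.coe_units_iff.2 (hx ▸ IsPrimitiveRoot.orderOf x)⟩

omit [Finite K] in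
theorem exists_eigen {H : Type*} [AddCommGroup H] [Module K H] (T : Module.End K H)
    (S Z : Submodule K H) (hS : ∀ f ∈ S, T f ∈ S) (s : Finset K) {φ : H} (h1 : φ ∈ S) (h2 : φ ∉ Z)
    (h3 : aeval T (∏ a ∈ s, (X - C a)) φ ∈ Z) :
    ∃ a ∈ s, ∃ ψ ∈ S, ψ ∉ Z ∧ T ψ - a • ψ ∈ Z := by
  classical
  induction s using Finset.induction_on generalizing φ with
  | empty => exact absurd (by simpa using h3) h2
  | insert a s ha ih =>
    by_cases h4 : T φ - a • φ ∈ Z
    · exact ⟨a, Finset.mem_insert_self _ _, φ, h1, h2, h4⟩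
    obtain ⟨b, hb, h5⟩ := ih (sub_mem (hS φ h1) (S.smul_mem a h1)) h4 (by
      rw [Finset.prod_insert ha, mul_comm, map_mul] at h3
      simpa using h3)
    exact ⟨b, Finset.mem_insert_of_mem hb, h5⟩

end Cfsg.Agent.FG.SchU
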