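import Mathlib
import Cfsg.Agent.FG.SchUA
import Cfsg.Agent.S0132
import Cfsg.Agent.GT.Schmidt
import Cfsg.Agent.GT.PGroupChain

/-! Coordinates on minimal non-`p`-nilpotent groups. -/

set_option autoImplicit false
set_option linter.unusedSectionVars false

namespace Cfsg.Agent.FG.SchU

open Subgroup Cfsg.Agent.GT
open scoped commutatorElement

/-- Minimal non-`p`-nilpotent. -/
def MN (p : ℕ) (X : Type*) [Group X] : Prop :=
  ¬ HasNormalPComplement p X ∧ ∀ H : Subgroup X, H ≠ ⊤ → HasNormalPComplement p H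

/-- Coordinates: `X = P⟨y⟩` with `P/ker ψ = K` on which `y` acts as `ζ`. -/
structure SD {K X : Type*} [Field K] [Group X] (p q r : ℕ) (ζ : K) (P : Subgroup X) (y : X)
    (ψ : X → K) : Prop where
  normal : P.Normal
  pg : IsPGroup p P
  ord : orderOf y = q ^ r
  gen : ∀ g, ∃ u ∈ P, ∃ i : ℕ, g = u * y ^ i
  add : ∀ u ∈ P, ∀ v ∈ P, ψ (u * v) = ψ u + ψ v
  surj : ∀ k, ∃ u ∈ P, ψ u = k
  equi : ∀ u ∈ P, ψ (y * u * y⁻¹) = ζ * ψ u
  cent : ∀ u ∈ P, ψ u = 0 → u ∈ center X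
  yq : y ^ q ∈ center X
  der : ∀ c ∈ P, ψ c = 0 → c ∈ ⁅P, P⁆

variable {K X : Type*} [Field K] [Finite K] [Group X] [Finite X] {p q r : ℕ} [hp : Fact p.Prime]
  [hq : Fact q.Prime] {ζ : K}

omit [Finite X] in
theorem cj_center {c : X} (hc : c ∈ center X) (g : X) : g * c * g⁻¹ = c := by
  rw [mem_center_iff.1 hc g, mul_inv_cancel_right]

theorem comm_of_npc (h : HasNormalPComplement p X) {P : Subgroup X} (hn : P.Normal)
    (hP : IsPGroup p P) {y u : X} (hy : (orderOf y).Coprime p) (hu : u ∈ P) :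
    y * u * y⁻¹ = u := by
  have h1 : y * u * y⁻¹ * u⁻¹ ∈ pResidual p X := by
    have : (pResidual p X).Normal := inferInstance
    rw [mul_assoc, mul_assoc, ← mul_assoc u]
    exact mul_mem (h.mem_pResidual_iff.2 hy)
      (this.conj_mem _ (inv_mem (h.mem_pResidual_iff.2 hy)) u)
  obtain ⟨k, hk⟩ := hP ⟨_, mul_mem (hn.conj_mem u hu y) (inv_mem hu)⟩
  have h2 := orderOf_dvd_of_pow_eq_one (congrArg Subtype.val hk : (y * u * y⁻¹ * u⁻¹) ^ p ^ k = 1)
  exact mul_inv_eq_one.1 (orderOf_eq_one_iff.1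
    (Nat.Coprime.eq_one_of_dvd ((h.mem_pResidual_iff.1 h1).pow_right k) h2))

namespace SD

variable {P : Subgroup X} {y : X} {ψ : X → K} (h : SD p q r ζ P y ψ)
include h

theorem one : ψ 1 = 0 := by
  have := h.add 1 (one_mem _) 1 (one_mem _)
  rwa [one_mul, left_eq_add] at this

theorem inv {u : X} (hu : u ∈ P) : ψ u⁻¹ = -ψ u := by
  rw [eq_neg_iff_add_eq_zero, ← h.add _ (inv_mem hu) _ hu, inv_mul_cancel, h.one]

theorem div {u v : X} (hu : u ∈ P) (hv : v ∈ P) : ψ (u⁻¹ * v) = ψ v - ψ u := by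
  rw [h.add _ (inv_mem hu) _ hv, h.inv hu]; ring

theorem cj (g : X) {u : X} (hu : u ∈ P) : g * u * g⁻¹ ∈ P := h.normal.conj_mem u hu g

theorem cj' (g : X) {u : X} (hu : u ∈ P) : g⁻¹ * u * g ∈ P := h.normal.conj_mem' u hu g

theorem comm_mem {u v : X} (hu : u ∈ P) (hv : v ∈ P) : ⁅u, v⁆ ∈ center X := by
  refine h.cent _ (mul_mem (h.cj u hv) (inv_mem hv)) ?_
  rw [commutatorElement_def, h.add _ (h.cj u hv) _ (inv_mem hv), h.add _ (mul_mem hu hv) _ (inv_mem hu), h.add _ hu _ hv,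
    h.inv hu, h.inv hv]
  ring

theorem comm_r {u v w : X} (hu : u ∈ P) (hw : w ∈ P) : ⁅u, v * w⁆ = ⁅u, v⁆ * ⁅u, w⁆ := by
  rw [← cj_center (h.comm_mem hu hw) v]
  simp only [commutatorElement_def]; group

theorem comm_l {u v w : X} (hv : v ∈ P) (hw : w ∈ P) : ⁅u * v, w⁆ = ⁅v, w⁆ * ⁅u, w⁆ := by
  rw [← cj_center (h.comm_mem hv hw) u]
  simp only [commutatorElement_def]; group

theorem comm_cj (g : X) {u v : X} (hu : u ∈ P) (hv : v ∈ P) :
    ⁅g * u * g⁻¹, v⁆ = ⁅u, g⁻¹ * v * g⁆ := by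
  rw [← cj_center (h.comm_mem hu (h.cj' g hv)) g]
  simp only [commutatorElement_def]; group

theorem comm_eq_r {u v w : X} (hu : u ∈ P) (hv : v ∈ P) (hw : w ∈ P) (e : ψ v = ψ w) :
    ⁅u, v⁆ = ⁅u, w⁆ := by
  have m := mul_mem (inv_mem hw) hv
  rw [← mul_inv_cancel_left w v, h.comm_r hu m, commutatorElement_eq_one_iff_mul_comm.2
    (mem_center_iff.1 (h.cent _ m (by rw [h.div hw hv, e, sub_self])) u), mul_one]

theorem comm_eq_l {u v w : X} (hu : u ∈ P) (hv : v ∈ P) (hw : w ∈ P) (e : ψ v = ψ w) :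
    ⁅v, u⁆ = ⁅w, u⁆ := by
  rw [← commutatorElement_inv, h.comm_eq_r hu hv hw e, commutatorElement_inv]

theorem equi_pow (i : ℕ) {u : X} (hu : u ∈ P) : ψ (y ^ i * u * (y ^ i)⁻¹) = ζ ^ i * ψ u := by
  induction i with
  | zero => simp
  | succ i ih =>
    rw [show y ^ (i + 1) * u * (y ^ (i + 1))⁻¹ = y * (y ^ i * u * (y ^ i)⁻¹) * y⁻¹ by group,
      h.equi _ (h.cj _ hu), ih]
    ring

theorem equi' (F : Fld K p q ζ) {u : X} (hu : u ∈ P) : ψ (y⁻¹ * u * y) = ζ⁻¹ * ψ u := by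
  have := h.equi _ (h.cj' y hu)
  rw [show y * (y⁻¹ * u * y) * y⁻¹ = u by group] at this
  rw [this, inv_mul_cancel_left₀ F.ne_zero]

/-- `v ↦ [x, v]`. -/
def cm {x : X} (hx : x ∈ P) : P →* X := MonoidHom.mk' (fun v => ⁅x, v.1⁆) fun _ w => h.comm_r hx w.2

/-- `ψ` as a homomorphism. -/
def hom : P →* Multiplicative K :=
  MonoidHom.mk' (fun v => Multiplicative.ofAdd (ψ v)) fun v w => by
    rw [← ofAdd_add, ← h.add _ v.2 _ w.2]; rfl

theorem hom_surj : Function.Surjective h.hom := fun k => by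
  obtain ⟨u, hu, e⟩ := h.surj k.toAdd
  exact ⟨⟨u, hu⟩, congrArg Multiplicative.ofAdd e⟩

theorem der_le (F : Fld K p q ζ) {x : X} (hx : x ∈ P) (h1 : ψ x = 1) :
    ⁅P, P⁆ ≤ (h.cm hx).range := by
  let R : AddSubgroup K :=
    { carrier := {k | ∀ u ∈ P, ψ u = k → ∀ v ∈ P, ⁅u, v⁆ ∈ (h.cm hx).range}
      zero_mem' := fun u hu e v _ => by
        rw [commutatorElement_eq_one_iff_mul_comm.2 (mem_center_iff.1 (h.cent u hu e) v).symm]
        exact one_mem _
      add_mem' := fun {a b} ha hb u hu e v hv => by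
        obtain ⟨w, hw, e'⟩ := h.surj a
        have m := mul_mem (inv_mem hw) hu
        rw [← mul_inv_cancel_left w u, h.comm_l m hv]
        exact mul_mem (hb _ m (by rw [h.div hw hu, e, e']; ring) v hv) (ha w hw e' v hv)
      neg_mem' := fun {a} ha u hu e v hv => by
        have := h.comm_cj u (inv_mem hu) (inv_mem hv)
        have e2 := h.comm_l (u := u) (inv_mem hu) hv
        rw [mul_inv_cancel, commutatorElement_one_left] at e2
        rw [eq_inv_of_mul_eq_one_right e2.symm]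
        exact inv_mem (ha _ (inv_mem hu) (by rw [h.inv hu, e, neg_neg]) v hv) }
  have := F.irr F.prim.pow_eq_one F.ne_one (A := R) (fun k hk u hu e v hv => by
    have := h.comm_cj y (h.cj' y hu) hv
    rw [show y * (y⁻¹ * u * y) * y⁻¹ = u by group] at this
    rw [this]
    exact hk _ (h.cj' y hu) (by rw [h.equi' F hu, e, inv_mul_cancel_left₀ F.ne_zero]) _
      (h.cj' y hv)) (c := 1)
    (fun u hu e v hv => ⟨⟨v, hv⟩, h.comm_eq_l hv hx hu (h1.trans e.symm)⟩) one_ne_zero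
  exact commutator_le.2 fun u hu v hv => this (ψ u) u hu rfl v hv

theorem card_ker (F : Fld K p q ζ) : ∃ M : Subfield K, ζ + ζ⁻¹ ∈ M ∧
    Nat.card h.hom.ker * Nat.card M ≤ Nat.card K := by
  let A : AddSubgroup K :=
    { carrier := {k | ∀ u ∈ P, ∀ v ∈ P, ψ v = k * ψ u → ⁅u, v⁆ = 1}
      zero_mem' := fun u _ v hv e => commutatorElement_eq_one_iff_mul_comm.2
        (mem_center_iff.1 (h.cent v hv (by rw [e, zero_mul])) u)
      add_mem' := fun {a b} ha hb u hu v hv e => by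
        obtain ⟨w, hw, e'⟩ := h.surj (a * ψ u)
        have m := mul_mem (inv_mem hw) hv
        rw [← mul_inv_cancel_left w v, h.comm_r hu m, ha u hu w hw e',
          hb u hu _ m (by rw [h.div hw hv, e, e']; ring), one_mul]
      neg_mem' := fun {a} ha u hu v hv e => by
        have e2 := h.comm_r (v := v) hu (inv_mem hv)
        rwa [mul_inv_cancel, commutatorElement_one_right,
          ha u hu _ (inv_mem hv) (by rw [h.inv hv, e]; ring), mul_one, eq_comm] at e2 }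
  have h1 : (1 : K) ∈ A := fun u hu v hv e => by
    rw [h.comm_eq_r hu hv hu (by rw [e, one_mul]), commutatorElement_self]
  refine ⟨stab A, fun k hk u hu v hv e => ?_, ?_⟩
  · obtain ⟨w, hw, e'⟩ := h.surj (k * ψ u)
    have m1 := h.cj y hu
    have m2 := h.cj y hw
    have := hk _ (mul_mem hu m1) _ (mul_mem hw m2) (by
      rw [h.add _ hw _ m2, h.add _ hu _ m1, h.equi _ hu, h.equi _ hw, e']; ring)
    rw [h.comm_l m1 (mul_mem hw m2), h.comm_r m1 m2, h.comm_r hu m2, hk u hu w hw e',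
      hk _ m1 _ m2 (by rw [h.equi _ hu, h.equi _ hw, e']; ring), mul_one, one_mul,
      h.comm_cj y hu hw, ← h.comm_r hu m2] at this
    rw [← this]
    exact h.comm_eq_r hu hv (mul_mem (h.cj' y hw) m2) (by
      rw [h.add _ (h.cj' y hw) _ m2, h.equi' F hw, h.equi _ hw, e, e']; ring)
  obtain ⟨x, hx, e⟩ := h.surj 1
  have l1 : ((stab A).toAddSubgroup.toSubgroup).comap h.hom ≤ (h.cm hx).ker := fun v hv =>
    (hv : ψ v ∈ stab A) 1 h1 x hx v v.2 (by rw [e, mul_one, mul_one]; rfl)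
  have l2 : h.hom.ker.map P.subtype ≤ (h.cm hx).range := by
    rintro _ ⟨c, hc, rfl⟩
    exact h.der_le F hx e (h.der c c.2 hc)
  have c1 := card_le_of_le l2
  have c2 := Nat.le_of_dvd (Nat.pos_of_ne_zero index_ne_zero_of_finite) (index_dvd_of_le l1)
  rw [index_comap_of_surjective _ h.hom_surj, index_ker] at c2
  rw [card_subtype] at c1
  calc _ ≤ _ * Nat.card (stab A) := Nat.mul_le_mul_right _ (c1.trans c2)
    _ = Nat.card (Multiplicative K) := index_mul_card _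
    _ = _ := rfl

theorem card_le (F : Fld K p q ζ) : Nat.card X ≤ p ^ (if orderOf (p : ZMod q) % 2 = 1 then
    orderOf (p : ZMod q) else 3 * orderOf (p : ZMod q) / 2) * q ^ r := by
  have h1 : Nat.card X ≤ Nat.card (P × zpowers y) := Nat.card_le_card_of_surjective
    (fun x => x.1.1 * x.2.1) fun g => by
      obtain ⟨u, hu, i, rfl⟩ := h.gen g
      exact ⟨(⟨u, hu⟩, ⟨_, npow_mem_zpowers y i⟩), rfl⟩
  rw [Nat.card_prod, Nat.card_zpowers, h.ord] at h1
  refine h1.trans (Nat.mul_le_mul_right _ ?_)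
  obtain ⟨M, hM, h2⟩ := h.card_ker F
  have h3 := F.card_le hM
  have h4 := h.hom.ker.index_mul_card
  rw [index_ker, MonoidHom.range_eq_top.2 h.hom_surj, card_top] at h4
  have h5 : Nat.card (Multiplicative K) = _ := F.card
  rw [← h4, h5]
  rw [F.card] at h2
  have h6 := (Nat.mul_le_mul_left _ h3).trans h2
  have h7 := hp.out.pos
  split_ifs at h6 ⊢ with h8
  · exact (mul_comm _ _).trans_le h6
  · obtain ⟨m, hm⟩ : ∃ m, orderOf (p : ZMod q) = m + m := ⟨orderOf (p : ZMod q) / 2, by omega⟩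
    rw [hm, show (m + m) / 2 = m by omega, pow_add] at h6
    rw [hm, show 3 * (m + m) / 2 = m + m + m by omega, pow_add p (m + m)]
    exact Nat.mul_le_mul_left _ (Nat.le_of_mul_le_mul_right h6 (by positivity))

theorem not_npc (F : Fld K p q ζ) (hpq : p ≠ q) : ¬ HasNormalPComplement p X := fun l => by
  obtain ⟨x, hx, e⟩ := h.surj 1
  have := h.equi x hx
  rw [comm_of_npc l h.normal h.pg (h.ord ▸ ((Nat.coprime_primes hq.out hp.out).2
    hpq.symm).pow_left r) hx, e, mul_one] at this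
  exact F.ne_one this.symm

theorem mn (F : Fld K p q ζ) (hpq : p ≠ q) : MN p X := by
  refine ⟨h.not_npc F hpq, fun H hH => Tr.hasNormalPComplement_of_isNilpotent ?_⟩
  have := h.normal
  by_cases h1 : ∀ c ∈ H, c ∈ P → ψ c = 0
  · have : IsCyclic (X ⧸ P) := ⟨y, fun g => by
      obtain ⟨g, rfl⟩ := QuotientGroup.mk_surjective g
      obtain ⟨u, hu, i, rfl⟩ := h.gen g
      rw [QuotientGroup.mk_mul, (QuotientGroup.eq_one_iff u).2 hu, one_mul, QuotientGroup.mk_pow]
      exact npow_mem_zpowers _ i⟩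
    have := ((QuotientGroup.mk' P).comp H.subtype).isMulCommutative_of_isCyclic_of_ker_le_center
      fun c hc => mem_center_iff.2 fun g => Subtype.ext (mem_center_iff.1 (h.cent c
        ((QuotientGroup.eq_one_iff c.1).1 hc) (h1 c c.2 ((QuotientGroup.eq_one_iff c.1).1 hc))) g)
    exact ⟨1, eq_top_iff.2 fun g _ => by
      rw [Subgroup.upperCentralSeries_one]
      exact mem_center_iff.2 fun k => this.is_comm.comm k g⟩
  by_cases h2 : ∀ u ∈ P, ∀ i : ℕ, u * y ^ i ∈ H → q ∣ i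
  · let f := (QuotientGroup.mk' (center X)).comp H.subtype
    have : IsPGroup p f.range := by
      rintro ⟨_, g, rfl⟩
      obtain ⟨u, hu, i, e⟩ := h.gen g
      obtain ⟨j, rfl⟩ := h2 u hu i (e ▸ g.2)
      obtain ⟨k, hk⟩ := h.pg ⟨u, hu⟩
      refine ⟨k, Subtype.ext ?_⟩
      have e1 : f g = u := by
        change ((g : X) : X ⧸ center X) = u
        rw [e, QuotientGroup.mk_mul, pow_mul, (QuotientGroup.eq_one_iff _).2 (pow_mem h.yq j),
          mul_one]
      change f g ^ p ^ k = 1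
      rw [e1, ← QuotientGroup.mk_pow, show u ^ p ^ k = 1 from congrArg Subtype.val hk]
      rfl
    have := this.isNilpotent
    exact Subgroup.isNilpotent_of_ker_le_center f.rangeRestrict fun c hc => mem_center_iff.2 fun g =>
      Subtype.ext (mem_center_iff.1 ((QuotientGroup.eq_one_iff c.1).1 (congrArg Subtype.val hc)) g)
  exfalso
  push Not at h1 h2
  obtain ⟨c, hc, hcP, hc0⟩ := h1
  obtain ⟨u, hu, i, hi, hqi⟩ := h2
  let A : AddSubgroup K :=
    { carrier := {k | ∃ v ∈ H, v ∈ P ∧ ψ v = k}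
      zero_mem' := ⟨1, one_mem _, one_mem _, h.one⟩
      add_mem' := fun ⟨v, a, b, e⟩ ⟨w, a', b', e'⟩ =>
        ⟨v * w, mul_mem a a', mul_mem b b', by rw [h.add v b w b', e, e']⟩
      neg_mem' := fun ⟨v, a, b, e⟩ => ⟨v⁻¹, inv_mem a, inv_mem b, by rw [h.inv b, e]⟩ }
  have hA := F.irr (ω := ζ ^ i) (by rw [← pow_mul, mul_comm, pow_mul, F.prim.pow_eq_one, one_pow])
    (fun e => hqi (F.prim.dvd_of_pow_eq_one i e)) (A := A) (fun k ⟨v, a, b, e⟩ =>
      ⟨_, mul_mem (mul_mem hi a) (inv_mem hi), h.cj _ b, by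
        rw [show u * y ^ i * v * (u * y ^ i)⁻¹ = u * (y ^ i * v * (y ^ i)⁻¹) * u⁻¹ by group,
          h.add _ (mul_mem hu (h.cj _ b)) _ (inv_mem hu), h.add _ hu _ (h.cj _ b), h.inv hu,
          h.equi_pow i b, e]
        ring⟩) ⟨c, hc, hcP, rfl⟩ hc0
  have l : P ≤ H := fun v hv => by
    obtain ⟨x, a, b, e⟩ := hA 1
    obtain ⟨w, a', b', e'⟩ := hA (ψ v)
    have m := mul_mem (inv_mem b') hv
    obtain ⟨z, hz⟩ := h.der_le F b e (h.der _ m (by rw [h.div b' hv, e', sub_self]))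
    obtain ⟨z', a'', b'', e''⟩ := hA (ψ z)
    rw [← mul_inv_cancel_left w v, ← hz]
    change w * ⁅x, z.1⁆ ∈ H
    rw [h.comm_eq_r b z.2 b'' e''.symm]
    exact mul_mem a' (mul_mem (mul_mem (mul_mem a a'') (inv_mem a)) (inv_mem a''))
  have hy : y ∈ H := by
    have := (mul_mem_cancel_left (l hu)).1 hi
    exact zpowers_le.2 this (mem_zpowers_pow_iff.2 (by
      rw [h.ord]
      exact (((Nat.Prime.coprime_iff_not_dvd hq.out).2 hqi).symm.pow_right r)))
  exact hH (eq_top_iff.2 fun g _ => by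
    obtain ⟨u, hu, i, rfl⟩ := h.gen g
    exact mul_mem (l hu) (pow_mem hy i))

end SD

end Cfsg.Agent.FG.SchU
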