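import Mathlib
import Cfsg.Agent.FG.SchUB
import Cfsg.Agent.GT.Fitting
import Cfsg.Agent.Loc.MssBase

/-! Every minimal non-`p`-nilpotent group has coordinates. -/

set_option autoImplicit false
set_option linter.unusedSectionVars false

namespace Cfsg.Agent.FG.SchU

open Subgroup Cfsg.Agent.GT Cfsg.Agent.Loc.Mss Polynomial
open scoped commutatorElement

variable {K X : Type*} [Field K] [Finite K] [Group X] [Finite X] {p q r : ℕ} [hp : Fact p.Prime]
  [hq : Fact q.Prime] {ζ : K}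

/-- The shape of a minimal non-`p`-nilpotent group. -/
structure Sh (p q r : ℕ) (P : Subgroup X) (y : X) : Prop where
  ne : p ≠ q
  pos : 1 ≤ r
  normal : P.Normal
  pg : IsPGroup p P
  ord : orderOf y = q ^ r
  gen : ∀ g, ∃ u ∈ P, ∃ i : ℕ, g = u * y ^ i
  nil : ∀ H : Subgroup X, H ≠ ⊤ → Group.IsNilpotent H
  nc : ¬ ∀ u ∈ P, y * u * y⁻¹ = u

theorem MN.exists_sh (h : MN p X) (hpq : p ≠ q) (hr : 1 ≤ r) {t : ℕ}
    (hc : Nat.card X = p ^ t * q ^ r) : ∃ (P : Subgroup X) (y : X), Sh p q r P y := by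
  obtain ⟨hnil, hnn, hP⟩ := S0132.result h.1 h.2
  obtain ⟨q', p', hq', hp', hne, Q, P, hcyc, hn, hsup, hnn'⟩ := Schmidt.exists_sylow ⟨hnn, hnil⟩
  have k : ∀ {s : ℕ}, s.Prime → ∀ S : Sylow s X, (S : Subgroup X) ≠ ⊥ → s = p ∨ s = q :=
    fun {s} hs S h0 => by
      have := Fact.mk hs
      have h1 : s ∣ p ^ t * q ^ r := hc ▸ (S.isPGroup'.card_eq_or_dvd.resolve_left
        fun e => h0 (card_eq_one.1 e)).trans (card_subgroup_dvd_card _)
      exact (hs.dvd_mul.1 h1).imp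
        (fun l => (Nat.prime_dvd_prime_iff_eq hs hp.out).1 (hs.dvd_of_dvd_pow l))
        fun l => (Nat.prime_dvd_prime_iff_eq hs hq.out).1 (hs.dvd_of_dvd_pow l)
  obtain rfl : q' = q := (k hq' Q fun e => hnn' (e ▸ inferInstance)).resolve_left
    fun e => by subst e; exact hnn' (hP Q)
  obtain rfl : p' = p := (k hp' P fun e => hnn' (by
    rw [e, sup_bot_eq] at hsup; exact hsup ▸ inferInstance)).resolve_right (Ne.symm hne)
  obtain ⟨y, hy⟩ := (Subgroup.isCyclic_iff_exists_zpowers_eq_top _).1 hcyc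
  have gen : ∀ g, ∃ u ∈ (P : Subgroup X), ∃ i : ℕ, g = u * y ^ i := fun g => by
    obtain ⟨u, hu, z, hz, rfl⟩ := mem_sup_of_normal_left.1 ((sup_comm _ _).trans hsup ▸ mem_top g)
    obtain ⟨i, rfl⟩ := mem_powers_iff_mem_zpowers.2 (hy ▸ hz)
    exact ⟨u, hu, i, rfl⟩
  refine ⟨P, y, hpq, hr, hn, P.isPGroup', ?_, gen, hnil, fun l => hnn' (hy ▸ normal_of_top ?_)⟩
  · rw [← Nat.card_zpowers, hy, Q.card_eq_multiplicity, hc, Nat.factorization_mul
      (pow_ne_zero _ hp'.ne_zero) (pow_ne_zero _ hq'.ne_zero)]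
    simp [hp'.factorization, hq'.factorization, hpq]
  · intro g _
    obtain ⟨u, hu, i, rfl⟩ := gen g
    refine mul_mem (cent_le_norm _ (cent_comm (zpowers_le.2 (mem_cent.2 fun a ha => ?_))
      (mem_zpowers u))) (le_normalizer (npow_mem_zpowers y i))
    have := l a (zpowers_le.2 hu ha)
    rw [mul_inv_eq_iff_eq_mul] at this
    exact this.symm

namespace Sh

variable {P : Subgroup X} {y : X} (h : Sh p q r P y)
include h

theorem cj (g : X) {u : X} (hu : u ∈ P) : g * u * g⁻¹ ∈ P := h.normal.conj_mem u hu g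

theorem cop {u z : X} (hu : u ∈ P) (hz : z ∈ zpowers y) : (orderOf z).Coprime (orderOf u) := by
  obtain ⟨k, hk⟩ := h.pg ⟨u, hu⟩
  exact Nat.Coprime.coprime_dvd_left (h.ord ▸ orderOf_dvd_of_mem_zpowers hz)
    (Nat.Coprime.coprime_dvd_right (orderOf_dvd_of_pow_eq_one (congrArg Subtype.val hk))
      (Nat.Coprime.pow _ _ ((Nat.coprime_primes hq.out hp.out).2 h.ne.symm)))

theorem eq_one {u : X} (hu : u ∈ P) (hz : u ∈ zpowers y) : u = 1 :=
  orderOf_eq_one_iff.1 (Nat.coprime_self _ |>.1 (h.cop hu hz))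

theorem irr {H : Subgroup X} (h1 : H ≤ P) (h2 : H ≠ P) (h3 : ∀ u ∈ H, y * u * y⁻¹ ∈ H) {u : X}
    (hu : u ∈ H) : y * u * y⁻¹ = u := by
  have n : zpowers y ≤ 𝐍[H] := zpowers_le.2 (mem_norm_of_cj_le (cj_le_iff.2 h3))
  have := h.nil (H ⊔ zpowers y) fun e => h2 (le_antisymm h1 fun v hv => by
    obtain ⟨a, ha, z, hz, rfl⟩ := (mem_sup_norm n).1 (e ▸ mem_top v)
    rwa [h.eq_one ((mul_mem_cancel_left (h1 ha)).1 hv) hz, mul_one])
  rw [(commute_of_coprime_of_isNilpotent (H := H ⊔ zpowers y) (mem_sup_right (mem_zpowers y))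
    (mem_sup_left hu) (h.cop (h1 hu) (mem_zpowers y))).eq, mul_inv_cancel_right]

theorem yq : y ^ q ∈ center X := by
  have := h.normal
  have := h.nil (P ⊔ zpowers (y ^ q)) fun e => by
    obtain ⟨a, ha, z, hz, e'⟩ := mem_sup_of_normal_left.1 (e ▸ mem_top y)
    have hz' := zpowers_le.2 (npow_mem_zpowers y q) hz
    rw [h.eq_one ha ((mul_mem_cancel_right hz').1 (e' ▸ mem_zpowers y)), one_mul] at e'
    have := mem_zpowers_pow_iff.1 (e' ▸ hz)
    rw [h.ord] at this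
    exact hq.out.one_lt.ne' (Nat.Coprime.eq_one_of_dvd this (dvd_pow_self q (by have := h.pos; omega)))
  refine mem_center_iff.2 fun g => ?_
  obtain ⟨u, hu, i, rfl⟩ := h.gen g
  exact (((commute_of_coprime_of_isNilpotent (H := P ⊔ zpowers (y ^ q))
    (mem_sup_right (mem_zpowers _)) (mem_sup_left hu) (h.cop hu (npow_mem_zpowers y q))).mul_right
      (Commute.pow_pow_self y q i)).symm).eq

theorem triv : ¬ ∀ u ∈ P, Commute y (u⁻¹ * (y * u * y⁻¹)) := fun l => h.nc fun u hu => by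
  obtain ⟨c, hc⟩ : ∃ c, c = u⁻¹ * (y * u * y⁻¹) := ⟨_, rfl⟩
  have h1 : y * u * y⁻¹ = u * c := by rw [hc, mul_inv_cancel_left]
  have h2 : Commute y c := hc ▸ l u hu
  have h3 : ∀ n : ℕ, y ^ n * u * (y ^ n)⁻¹ = u * c ^ n := fun n => by
    induction n with
    | zero => simp
    | succ n ih =>
      calc _ = y * (y ^ n * u * (y ^ n)⁻¹) * y⁻¹ := by group
        _ = y * u * y⁻¹ * (y * c ^ n * y⁻¹) := by rw [ih]; group
        _ = _ := by rw [(h2.pow_right n).eq, mul_inv_cancel_right, h1, pow_succ', mul_assoc]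
  have h4 := h3 q
  rw [← mem_center_iff.1 h.yq u, mul_inv_cancel_right, left_eq_mul] at h4
  obtain ⟨k, hk⟩ := h.pg ⟨c, hc ▸ mul_mem (inv_mem hu) (h.cj y hu)⟩
  have h5 : c = 1 := orderOf_eq_one_iff.1 (Nat.eq_one_of_dvd_coprimes
    (((Nat.coprime_primes hq.out hp.out).2 h.ne.symm).pow_right k) (orderOf_dvd_of_pow_eq_one h4)
    (orderOf_dvd_of_pow_eq_one (congrArg Subtype.val hk)))
  rw [h1, h5, mul_one]

theorem eq_of {H : Subgroup X} (h1 : H ≤ P) (h3 : ∀ u ∈ H, y * u * y⁻¹ ∈ H)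
    (h4 : ∀ u ∈ P, u⁻¹ * (y * u * y⁻¹) ∈ H) : H = P := by_contra fun h2 =>
  h.triv fun u hu => mul_inv_eq_iff_eq_mul.1 (h.irr h1 h2 h3 (h4 u hu))

theorem cent {N : Subgroup X} (h1 : N ≤ P) (h2 : N ≠ P) (hn : N.Normal) : N ≤ center X := by
  have hy : y ∈ 𝐂[N] := mem_cent.2 fun a ha =>
    (mul_inv_eq_iff_eq_mul.1 (h.irr h1 h2 (fun u hu => hn.conj_mem u hu y) ha)).symm
  have n : (𝐂[N]).Normal := inferInstance
  have e := h.eq_of (H := P ⊓ 𝐂[N]) inf_le_left (fun u hu => ⟨h.cj y hu.1, n.conj_mem u hu.2 y⟩)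
    fun u hu => mem_inf.2 ⟨mul_mem (inv_mem hu) (h.cj y hu), by
      rw [show u⁻¹ * (y * u * y⁻¹) = u⁻¹ * y * u * y⁻¹ by group]
      exact mul_mem (n.conj_mem' y hy u) (inv_mem hy)⟩
  refine fun c hc => mem_center_iff.2 fun g => ?_
  obtain ⟨u, hu, i, rfl⟩ := h.gen g
  exact (mem_cent.1 (mul_mem (e.ge hu).2 (pow_mem hy i)) c hc).symm

theorem der {c : X} (hc : c ∈ P) (h1 : y * c * y⁻¹ = c) : c ∈ ⁅P, P⁆ := by
  have := h.normal
  let σ : Abelianization P →* Abelianization P :=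
    Abelianization.map (MulAut.conjNormal y : MulAut P).toMonoidHom
  let τ : Abelianization P →* Abelianization P := σ / MonoidHom.id _
  have e : ∀ u : P, τ (Abelianization.of u) =
      Abelianization.of (u⁻¹ * MulAut.conjNormal y u) := fun u => by
    rw [map_mul, map_inv, mul_comm, ← div_eq_mul_inv]
    rfl
  have h2 := h.eq_of (H := (τ.range.comap Abelianization.of).map P.subtype) (map_subtype_le _)
    (by
      rintro _ ⟨u, ⟨v, hv⟩, rfl⟩
      refine ⟨MulAut.conjNormal y u, ⟨σ v, ?_⟩, rfl⟩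
      change _ = σ (Abelianization.of u)
      rw [← hv]
      simp [τ])
    fun u hu => ⟨(⟨u, hu⟩ : P)⁻¹ * MulAut.conjNormal y (⟨u, hu⟩ : P), ⟨_, e _⟩, rfl⟩
  have h3 : Function.Surjective τ := fun v => by
    obtain ⟨u, rfl⟩ := QuotientGroup.mk_surjective v
    obtain ⟨w, hw, e'⟩ := h2.ge u.2
    exact (Subtype.ext e' : w = u) ▸ hw
  have h4 := (injective_iff_map_eq_one τ).1 (Finite.injective_iff_surjective.2 h3)
    (Abelianization.of ⟨c, hc⟩) (by
      rw [e, show MulAut.conjNormal y (⟨c, hc⟩ : P) = ⟨c, hc⟩ from Subtype.ext h1, inv_mul_cancel,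
        map_one])
  rw [← map_subtype_commutator]
  exact ⟨⟨c, hc⟩, (QuotientGroup.eq_one_iff _).1 h4, rfl⟩

theorem exists_add (F : Fld K p q ζ) : ∃ φ : X → K, (∀ u ∈ P, ∀ v ∈ P, φ (u * v) = φ u + φ v) ∧
    ¬ ∀ u ∈ P, φ u = 0 := by
  classical
  obtain ⟨M, -, hM⟩ := PG.exists_index_eq_prime_of_ne_top h.pg (H := ⊥) fun e => h.nc fun u hu => by
    have : (⟨u, hu⟩ : P) = 1 := mem_bot.1 (e ▸ mem_top _)
    rw [show u = 1 from congrArg Subtype.val this]
    group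
  have := PG.normal_of_index_prime h.pg hM
  have := Fintype.ofFinite K
  have : CharP K p := charP_of_card_eq_prime_pow (f := orderOf (p : ZMod q))
    (by rw [← Nat.card_eq_fintype_card, F.card])
  let e : P ⧸ M ≃* Multiplicative (ZMod p) := mulEquivOfPrimeCardEq (p := p) hM (by simp)
  refine ⟨fun g => if hg : g ∈ P then ZMod.castHom dvd_rfl K (e (⟨g, hg⟩ : P)).toAdd else 0,
    fun u hu v hv => ?_, fun l => ?_⟩
  · simp only [dif_pos hu, dif_pos hv, dif_pos (mul_mem hu hv)]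
    rw [← map_add, ← toAdd_mul, ← map_mul]
    rfl
  · obtain ⟨w, hw⟩ := e.surjective (Multiplicative.ofAdd 1)
    obtain ⟨u, rfl⟩ := QuotientGroup.mk_surjective w
    have := l u u.2
    simp only [dif_pos u.2, Subtype.coe_eta, hw] at this
    simp at this

theorem exists_sd (F : Fld K p q ζ) : ∃ (y' : X) (ψ : X → K), SD p q r ζ P y' ψ := by
  obtain ⟨φ, h1, h2⟩ := h.exists_add F
  let T : Module.End K (X → K) := LinearMap.funLeft K K fun u => y * u * y⁻¹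
  have hT : ∀ (n : ℕ) f u, (T ^ n) f u = f (y ^ n * u * (y ^ n)⁻¹) := fun n => by
    induction n with
    | zero => simp
    | succ n ih =>
      intro f u
      rw [pow_succ, Module.End.mul_apply, ih]
      change f _ = _
      congr 1
      group
  let S : Submodule K (X → K) :=
    { carrier := {f | ∀ u ∈ P, ∀ v ∈ P, f (u * v) = f u + f v}
      add_mem' := fun hf hg u hu v hv => by
        simp only [Pi.add_apply, hf u hu v hv, hg u hu v hv]; ring
      zero_mem' := fun _ _ _ _ => by simp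
      smul_mem' := fun c f hf u hu v hv => by simp only [Pi.smul_apply, hf u hu v hv, smul_add] }
  let Z : Submodule K (X → K) :=
    { carrier := {f | ∀ u ∈ P, f u = 0}
      add_mem' := fun hf hg u hu => by simp only [Pi.add_apply, hf u hu, hg u hu, add_zero]
      zero_mem' := fun _ _ => rfl
      smul_mem' := fun c f hf u hu => by simp only [Pi.smul_apply, hf u hu, smul_zero] }
  obtain ⟨ω, h3, ψ, h4, h5, h6⟩ := exists_eigen T S Z (fun f hf u hu v hv => by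
    change f _ = f _ + f _
    rw [← hf _ (h.cj y hu) _ (h.cj y hv)]
    congr 1
    group) (nthRootsFinset q 1) h1 h2 (fun u hu => by
      rw [← X_pow_sub_one_eq_prod hq.out.pos F.prim]
      simp [hT, ← mem_center_iff.1 h.yq u])
  rw [mem_nthRootsFinset hq.out.pos] at h3
  have h7 : ∀ u ∈ P, ψ (y * u * y⁻¹) = ω * ψ u := fun u hu => sub_eq_zero.1 (h6 u hu)
  have h8 : ∀ (i : ℕ), ∀ u ∈ P, ψ (y ^ i * u * (y ^ i)⁻¹) = ω ^ i * ψ u := fun i u hu => by
    induction i with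
    | zero => simp
    | succ i ih =>
      rw [show y ^ (i + 1) * u * (y ^ (i + 1))⁻¹ = y * (y ^ i * u * (y ^ i)⁻¹) * y⁻¹ by group,
        h7 _ (h.cj _ hu), ih]
      ring
  have one : ψ 1 = 0 := by
    have := h4 1 (one_mem _) 1 (one_mem _)
    rwa [one_mul, left_eq_add] at this
  have inv : ∀ u ∈ P, ψ u⁻¹ = -ψ u := fun u hu => by
    rw [eq_neg_iff_add_eq_zero, ← h4 _ (inv_mem hu) _ hu, inv_mul_cancel, one]
  let N : Subgroup X :=
    { carrier := {u | u ∈ P ∧ ψ u = 0}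
      one_mem' := ⟨one_mem _, one⟩
      mul_mem' := fun a b => ⟨mul_mem a.1 b.1, by rw [h4 _ a.1 _ b.1, a.2, b.2, add_zero]⟩
      inv_mem' := fun a => ⟨inv_mem a.1, by rw [inv _ a.1, a.2, neg_zero]⟩ }
  have hN : N ≠ P := fun e => h5 fun u hu => (e.ge hu).2
  have h9 : N ≤ center X := h.cent (fun _ a => a.1) hN ⟨fun v hv g => ⟨h.cj g hv.1, by
    obtain ⟨u, hu, i, rfl⟩ := h.gen g
    rw [show u * y ^ i * v * (u * y ^ i)⁻¹ = u * (y ^ i * v * (y ^ i)⁻¹) * u⁻¹ by group,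
      h4 _ (mul_mem hu (h.cj _ hv.1)) _ (inv_mem hu), h4 _ hu _ (h.cj _ hv.1), inv _ hu,
      h8 i v hv.1, hv.2]
    ring⟩⟩
  have h10 : ω ≠ 1 := fun e => hN (h.eq_of (fun _ a => a.1)
    (fun u hu => by rwa [cj_center (h9 hu)]) fun u hu => ⟨mul_mem (inv_mem hu) (h.cj y hu), by
      rw [h4 _ (inv_mem hu) _ (h.cj y hu), inv u hu, h7 u hu, e]; ring⟩)
  obtain ⟨j, -, hj⟩ := (orderOf_eq_prime h3 h10 ▸ IsPrimitiveRoot.orderOf ω :
    IsPrimitiveRoot ω q).eq_pow_of_pow_eq_one F.prim.pow_eq_one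
  have h11 : j.Coprime (orderOf y) := by
    rw [h.ord]
    refine ((Nat.Prime.coprime_iff_not_dvd hq.out).2 ?_).symm.pow_right r
    rintro ⟨k, rfl⟩
    exact F.ne_one (by rw [← hj, pow_mul, h3, one_pow])
  refine ⟨y ^ j, ψ, h.normal, h.pg, by rw [h11.symm.orderOf_pow, h.ord], fun g => ?_, h4,
    fun k => ?_, fun u hu => by rw [h8 j u hu, hj], fun u hu e => h9 ⟨hu, e⟩,
    by rw [← pow_mul, mul_comm, pow_mul]; exact pow_mem h.yq j,
    fun c hc e => h.der hc (cj_center (h9 ⟨hc, e⟩) y)⟩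
  · obtain ⟨u, hu, i, rfl⟩ := h.gen g
    obtain ⟨k, hk⟩ := mem_powers_iff_mem_zpowers.2 (pow_mem (mem_zpowers_pow_iff.2 h11) i)
    exact ⟨u, hu, k, congrArg (u * ·) hk.symm⟩
  · obtain ⟨c, hc⟩ := not_forall.1 h5
    obtain ⟨hc, hc0⟩ := Classical.not_imp.1 hc
    exact F.irr h3 h10 (A :=
      { carrier := {k | ∃ v ∈ P, ψ v = k}
        zero_mem' := ⟨1, one_mem _, one⟩
        add_mem' := fun ⟨v, a, e⟩ ⟨w, a', e'⟩ => ⟨v * w, mul_mem a a', by rw [h4 v a w a', e, e']⟩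
        neg_mem' := fun ⟨v, a, e⟩ => ⟨v⁻¹, inv_mem a, by rw [inv v a, e]⟩ })
      (fun k ⟨v, a, e⟩ => ⟨_, h.cj y a, by rw [h7 v a, e]⟩) ⟨c, hc, rfl⟩ hc0 k

end Sh

theorem MN.exists_sd (h : MN p X) (F : Fld K p q ζ) (hpq : p ≠ q) (hr : 1 ≤ r) {t : ℕ}
    (hc : Nat.card X = p ^ t * q ^ r) : ∃ (P : Subgroup X) (y : X) (ψ : X → K),
      SD p q r ζ P y ψ := by
  obtain ⟨P, y, s⟩ := h.exists_sh hpq hr hc
  exact ⟨P, s.exists_sd F⟩

end Cfsg.Agent.FG.SchU
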