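import Mathlib
import Cfsg.Agent.FG.SchUC

/-! The largest minimal non-`p`-nilpotent group with given `q`-part. -/

set_option autoImplicit false
set_option linter.unusedSectionVars false

namespace Cfsg.Agent.FG.SchU

open Subgroup Cfsg.Agent.GT Polynomial
open scoped commutatorElement

universe u

/-- Parameters of the model group. -/
structure Par (K : Type u) [Field K] (n : ℕ) where
  C : AddSubgroup K
  e : AddChar (ZMod n) K
  B : K →+ K →+ C
  hB : ∀ i u v, B (e i * u) (e i * v) = B u v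

/-- The model group. -/
@[ext] structure Gr {K : Type u} [Field K] {n : ℕ} (A : Par K n) where
  u : K
  c : A.C
  i : ZMod n

namespace Gr

variable {K : Type u} [Field K] {n : ℕ} {A : Par K n}

instance : Mul (Gr A) := ⟨fun g h => ⟨g.u + A.e g.i * h.u, g.c + h.c + A.B g.u (A.e g.i * h.u),
  g.i + h.i⟩⟩
instance : One (Gr A) := ⟨⟨0, 0, 0⟩⟩
instance : Inv (Gr A) := ⟨fun g => ⟨-(A.e (-g.i) * g.u), -g.c + A.B g.u g.u, -g.i⟩⟩

theorem mul_def (g h : Gr A) : g * h =
  ⟨g.u + A.e g.i * h.u, g.c + h.c + A.B g.u (A.e g.i * h.u), g.i + h.i⟩ := rfl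
theorem one_def : (1 : Gr A) = ⟨0, 0, 0⟩ := rfl
theorem inv_def (g : Gr A) : g⁻¹ = ⟨-(A.e (-g.i) * g.u), -g.c + A.B g.u g.u, -g.i⟩ := rfl

instance : Group (Gr A) := Group.ofLeftAxioms
  (fun a b c => by
    simp only [mul_def, AddChar.map_add_eq_mul, map_add, AddMonoidHom.add_apply, mul_add,
      mul_assoc, A.hB]
    congr 1 <;> abel)
  (fun a => by simp [mul_def, one_def])
  (fun a => by simp [mul_def, one_def, inv_def, A.hB])

/-- Coordinates. -/
def equiv (A : Par K n) : Gr A ≃ K × A.C × ZMod n :=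
  ⟨fun g => (g.u, g.c, g.i), fun x => ⟨x.1, x.2.1, x.2.2⟩, fun _ => rfl, fun _ => rfl⟩

/-- The projection to the cyclic top. -/
def pr (A : Par K n) : Gr A →* Multiplicative (ZMod n) :=
  MonoidHom.mk' (fun g => Multiplicative.ofAdd g.i) fun _ _ => rfl

/-- The cyclic complement. -/
def inr (A : Par K n) : Multiplicative (ZMod n) →* Gr A :=
  MonoidHom.mk' (fun i => ⟨0, 0, i.toAdd⟩) fun _ _ => by simp [mul_def]

theorem pow_y (k : ℕ) : (⟨0, 0, 1⟩ : Gr A) ^ k = ⟨0, 0, k⟩ := by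
  induction k with
  | zero => simp [one_def]
  | succ k ih => simp [pow_succ, ih, mul_def]

theorem sd [Finite K] {p q r : ℕ} [hp : Fact p.Prime] [hq : Fact q.Prime] {ζ : K}
    (F : Fld K p q ζ) (A : Par K (q ^ r)) (he : ∀ k : ℕ, A.e k = ζ ^ k)
    (hs : ∀ c, ∃ v, A.B 1 v - A.B v 1 = c) :
    SD p q r ζ (pr A).ker (⟨0, 0, 1⟩ : Gr A) fun g => g.u := by
  have : NeZero (q ^ r) := ⟨pow_ne_zero _ hq.out.ne_zero⟩
  have m : ∀ g : Gr A, g ∈ (pr A).ker ↔ g.i = 0 := fun g => Iff.rfl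
  have e1 : A.e 1 = ζ := by simpa using he 1
  refine ⟨inferInstance, ?_, ?_, fun g => ⟨⟨g.u, g.c, 0⟩, rfl, g.i.val, ?_⟩, fun u hu v _ => ?_,
    fun k => ⟨⟨k, 0, 0⟩, rfl, rfl⟩, fun u hu => ?_, fun u hu e => mem_center_iff.2 fun g => ?_,
    mem_center_iff.2 fun g => ?_, fun c hc e => ?_⟩
  · have h1 := (pr A).ker.index_mul_card
    have h2 : (pr A).range = ⊤ := MonoidHom.range_eq_top.2 fun i => ⟨⟨0, 0, i.toAdd⟩, rfl⟩
    obtain ⟨k, -, hk⟩ := (Nat.dvd_prime_pow hp.out).1 (F.card ▸ A.C.card_addSubgroup_dvd_card)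
    rw [index_ker, h2, card_top, Nat.card_congr (equiv A), Nat.card_prod, Nat.card_prod, hk,
      F.card, ← mul_assoc, ← pow_add, mul_comm] at h1
    exact .of_card (Nat.eq_of_mul_eq_mul_right Nat.card_pos h1)
  · refine (orderOf_injective (inr A) (fun i j e => congrArg Gr.i e)
      (Multiplicative.ofAdd 1)).trans ?_
    rw [orderOf_ofAdd_eq_addOrderOf, ZMod.addOrderOf_one]
  · simp [pow_y, mul_def]
  · simp [mul_def, (m u).1 hu]
  · simp [mul_def, inv_def, e1]
  · simp [mul_def, (m u).1 hu, e, add_comm]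
  · simp [pow_y, mul_def, he, F.prim.pow_eq_one, add_comm]
  · obtain ⟨v, hv⟩ := hs c.c
    have : c = ⁅(⟨1, 0, 0⟩ : Gr A), (⟨v, 0, 0⟩ : Gr A)⁆ := by
      rw [commutatorElement_def, mul_assoc, ← mul_inv_rev, eq_mul_inv_iff_mul_eq]
      simp [mul_def, (m c).1 hc, e, ← hv, add_comm]
    exact this ▸ commutator_mem_commutator rfl rfl

end Gr

variable {p q r : ℕ} [hp : Fact p.Prime] [hq : Fact q.Prime]

theorem pow_sub_one (hpq : p ≠ q) : (p : ZMod q) ^ (q - 1) = 1 :=
  ZMod.pow_card_sub_one_eq_one fun e => hpq ((Nat.prime_dvd_prime_iff_eq hq.out hp.out).1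
    ((ZMod.natCast_eq_zero_iff _ _).1 e)).symm

theorem ord_pos (hpq : p ≠ q) : 0 < orderOf (p : ZMod q) :=
  (isOfFinOrder_iff_pow_eq_one.2 ⟨_, Nat.sub_pos_of_lt hq.out.one_lt, pow_sub_one hpq⟩).orderOf_pos

theorem exists_par {K : Type u} [Field K] [Finite K] {ζ : K} (F : Fld K p q ζ) (hpq : p ≠ q)
    (hr : 1 ≤ r) : ∃ A : Par K (q ^ r), (∀ k : ℕ, A.e k = ζ ^ k) ∧
      (∀ c, ∃ v, A.B 1 v - A.B v 1 = c) ∧ p ^ (if orderOf (p : ZMod q) % 2 = 1 then
        orderOf (p : ZMod q) else 3 * orderOf (p : ZMod q) / 2) ≤ Nat.card K * Nat.card A.C := by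
  classical
  have : NeZero (q ^ r) := ⟨pow_ne_zero _ hq.out.ne_zero⟩
  have h1 : ζ ^ q ^ r = 1 := (F.prim.pow_eq_one_iff_dvd _).2 (dvd_pow_self q (by omega))
  split_ifs with h2
  · exact ⟨⟨⊥, AddChar.zmodChar _ h1, 0, fun _ _ _ => rfl⟩, AddChar.zmodChar_apply' h1,
      fun c => ⟨0, Subsingleton.elim _ _⟩, by simp [F.card]⟩
  obtain ⟨m, hm⟩ : ∃ m, orderOf (p : ZMod q) = m + m := ⟨orderOf (p : ZMod q) / 2, by omega⟩
  have h0 := ord_pos hpq
  have := Fintype.ofFinite K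
  have hK : Fintype.card K = p ^ (m + m) := by rw [← Nat.card_eq_fintype_card, F.card, hm]
  have : CharP K p := charP_of_card_eq_prime_pow hK
  let σ := iterateFrobenius K p m
  have s1 : ∀ x, σ (σ x) = x := fun x => by
    simp only [σ, iterateFrobenius_def]
    rw [← pow_mul, ← pow_add, ← hK, FiniteField.pow_card]
  have s2 : σ ζ = ζ⁻¹ := by
    have h3 : (p : ZMod q) ^ m = -1 := (mul_self_eq_one_iff.1 (by
      rw [← pow_add, ← hm, pow_orderOf_eq_one])).resolve_left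
        (pow_ne_one_of_lt_orderOf (by omega) (by omega))
    refine eq_inv_of_mul_eq_one_left ?_
    rw [iterateFrobenius_def, ← pow_succ, F.prim.pow_eq_one_iff_dvd, ← ZMod.natCast_eq_zero_iff]
    simp [h3]
  have s3 : ζ + ζ⁻¹ ≠ 0 := fun e => by
    have h3 : ζ ^ 2 ^ 2 = 1 := by
      have := F.ne_zero
      field_simp at e
      linear_combination (ζ ^ 2 - 1) * e
    have h4 := (Nat.prime_dvd_prime_iff_eq hq.out Nat.prime_two).1
      (hq.out.dvd_of_dvd_pow (F.prim.dvd_of_pow_eq_one _ h3))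
    have h5 := Nat.le_of_dvd (by omega) (orderOf_dvd_of_pow_eq_one (pow_sub_one hpq))
    omega
  let D : K →+ K := AddMonoidHom.id K - σ.toAddMonoidHom
  have hD : ∀ x, D x = x - σ x := fun _ => rfl
  refine ⟨⟨D.range, AddChar.zmodChar _ h1, AddMonoidHom.mk' (fun u => AddMonoidHom.mk'
    (fun v => D.rangeRestrict (ζ * u * σ v)) fun v w => by rw [map_add, mul_add, map_add])
    fun u v => AddMonoidHom.ext fun w => by
      simp only [AddMonoidHom.mk'_apply, AddMonoidHom.add_apply]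
      rw [mul_add, add_mul, map_add], fun i u v => ?_⟩, AddChar.zmodChar_apply' h1, ?_, ?_⟩
  · simp only [AddMonoidHom.mk'_apply, AddChar.zmodChar_apply, map_mul, map_pow, s2]
    congr 1
    have := F.ne_zero
    rw [inv_pow]
    field_simp
  · rintro ⟨_, x, rfl⟩
    refine ⟨-x / (ζ + ζ⁻¹), Subtype.ext ?_⟩
    simp only [AddMonoidHom.mk'_apply, AddSubgroupClass.coe_sub, AddMonoidHom.coe_rangeRestrict,
      hD, map_mul, map_div₀, map_neg, map_add, map_inv₀, s1, s2, map_one, inv_inv, add_comm ζ⁻¹ ζ]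
    generalize ζ⁻¹ = η at s3 ⊢
    field_simp
    ring
  · have h3 := D.ker.index_mul_card
    have h4 : Nat.card D.ker ≤ p ^ m := by
      rw [← FiniteField.X_pow_card_pow_sub_X_natDegree_eq K (n := m) (by omega) hp.out.one_lt]
      refine le_trans ?_ ((Multiset.toFinset_card_le _).trans (card_roots' _))
      rw [← Nat.card_eq_finsetCard]
      refine Nat.card_le_card_of_injective (fun x => ⟨x.1, ?_⟩) fun x y e =>
        Subtype.ext (Subtype.mk.inj e)
      have := x.2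
      rw [AddMonoidHom.mem_ker, hD, iterateFrobenius_def, sub_eq_zero] at this
      rw [Multiset.mem_toFinset, mem_roots (FiniteField.X_pow_card_pow_sub_X_ne_zero K (n := m)
        (by omega) hp.out.one_lt)]
      simp [← this]
    rw [AddSubgroup.index_ker, F.card, hm, pow_add] at h3
    change _ ≤ Nat.card K * Nat.card D.range
    rw [F.card, hm, show 3 * (m + m) / 2 = m + m + m by omega, pow_add p (m + m) m]
    exact Nat.mul_le_mul_left _ (Nat.le_of_mul_le_mul_right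
      (h3.ge.trans (Nat.mul_le_mul_left _ h4)) (pow_pos hp.out.pos m))

end Cfsg.Agent.FG.SchU
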