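import Mathlib
import Cfsg.Agent.Loc.LieKK

/-!
Lie rings spanned by finitely many strongly ad-nilpotent subgroups; Kreknin's theorem when the
zero component acts nilpotently.
-/

set_option autoImplicit false

namespace Cfsg.Agent.FG.Sh

open Cfsg.Agent.Loc.H78.Lie
open scoped TensorProduct

section Sol

variable {𝔤 : Type*} [LieRing 𝔤]

/-- Derived series of an additive subgroup. -/
def dser (K : AddSubgroup 𝔤) (i : ℕ) : AddSubgroup 𝔤 := (fun X => br X X)^[i] K

theorem dser_succ (K : AddSubgroup 𝔤) (i : ℕ) : dser K (i + 1) = br (dser K i) (dser K i) :=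
  Function.iterate_succ_apply' _ _ _

theorem br_sup_right (U X Y : AddSubgroup 𝔤) : br U (X ⊔ Y) ≤ br U X ⊔ br U Y :=
  br_le.2 fun a ha => show X ⊔ Y ≤ preR a (br U X ⊔ br U Y) from
    sup_le (fun _ hx => AddSubgroup.mem_sup_left (lie_mem_br ha hx))
      fun _ hy => AddSubgroup.mem_sup_right (lie_mem_br ha hy)

theorem br_sup_left (U V X : AddSubgroup 𝔤) : br (U ⊔ V) X ≤ br U X ⊔ br V X :=
  br_le.2 fun _ ha b hb => (show U ⊔ V ≤ preL b (br U X ⊔ br V X) from
    sup_le (fun _ hx => AddSubgroup.mem_sup_left (lie_mem_br hx hb))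
      fun _ hy => AddSubgroup.mem_sup_right (lie_mem_br hy hb)) ha

theorem br_br_le (U V X : AddSubgroup 𝔤) : br U (br V X) ≤ br (br U V) X ⊔ br V (br U X) :=
  br_le.2 fun u hu => show br V X ≤ preR u (br (br U V) X ⊔ br V (br U X)) from
    br_le.2 fun v hv x hx => by
    change ⁅u, ⁅v, x⁆⁆ ∈ br (br U V) X ⊔ br V (br U X)
    rw [leibniz_lie]
    exact AddSubgroup.add_mem_sup (lie_mem_br (lie_mem_br hu hv) hx)
      (lie_mem_br hv (lie_mem_br hu hx))

theorem br_bot_left (X : AddSubgroup 𝔤) : br ⊥ X = ⊥ :=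
  eq_bot_iff.2 (br_le.2 fun a ha b _ => by rw [AddSubgroup.mem_bot.1 ha, zero_lie]; rfl)

theorem br_bot_right (X : AddSubgroup 𝔤) : br X ⊥ = ⊥ :=
  eq_bot_iff.2 (br_le.2 fun a _ b hb => by rw [AddSubgroup.mem_bot.1 hb, lie_zero]; rfl)

theorem iter_br_mono₂ {U V : AddSubgroup 𝔤} (h : U ≤ V) (n : ℕ) {X Y : AddSubgroup 𝔤}
    (hX : X ≤ Y) : (br U)^[n] X ≤ (br V)^[n] Y := by
  induction n with
  | zero => exact hX
  | succ n ih =>
    rw [Function.iterate_succ_apply', Function.iterate_succ_apply']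
    exact br_mono h ih

theorem iter_br_iSup {ι : Sort*} (U : AddSubgroup 𝔤) (n : ℕ) (X : ι → AddSubgroup 𝔤) :
    (br U)^[n] (⨆ i, X i) ≤ ⨆ i, (br U)^[n] (X i) := by
  induction n with
  | zero => exact le_rfl
  | succ n ih =>
    rw [Function.iterate_succ_apply']
    refine (br_mono le_rfl ih).trans (br_le.2 fun a ha => ?_)
    refine show (⨆ i, (br U)^[n] (X i)) ≤ preR a (⨆ i, (br U)^[n + 1] (X i)) from
      iSup_le fun i x hx => ?_
    refine le_iSup (fun i => (br U)^[n + 1] (X i)) i ?_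
    rw [Function.iterate_succ_apply']
    exact lie_mem_br ha hx

/-- The action of `U` modulo `M'`. -/
def T (M' U X : AddSubgroup 𝔤) : AddSubgroup 𝔤 := br U X ⊔ M'

/-- `K` acts commutatively on the section `M / M'`. -/
structure Sec (K M M' : AddSubgroup 𝔤) : Prop where
  le : M' ≤ M
  inv : br K M ≤ M
  inv' : br K M' ≤ M'
  comm : br (br K K) M ≤ M'

theorem T_mono (M' U : AddSubgroup 𝔤) : Monotone (T M' U) :=
  fun _ _ h => sup_le_sup_right (br_mono le_rfl h) _

theorem T_sup (M' U X Y : AddSubgroup 𝔤) : T M' U (X ⊔ Y) ≤ T M' U X ⊔ T M' U Y :=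
  sup_le ((br_sup_right U X Y).trans (sup_le_sup le_sup_left le_sup_left))
    (le_sup_right.trans le_sup_left)

theorem iter_T_sup (M' U : AddSubgroup 𝔤) (n : ℕ) (X Y : AddSubgroup 𝔤) :
    (T M' U)^[n] (X ⊔ Y) ≤ (T M' U)^[n] X ⊔ (T M' U)^[n] Y := by
  induction n with
  | zero => exact le_rfl
  | succ n ih =>
    simp only [Function.iterate_succ_apply']
    exact (T_mono M' U ih).trans (T_sup _ _ _ _)

namespace Sec

variable {K M M' U V X : AddSubgroup 𝔤} (h : Sec K M M')
include h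

theorem T_le (hU : U ≤ K) (hX : X ≤ M) : T M' U X ≤ M :=
  sup_le ((br_mono hU hX).trans h.inv) h.le

theorem T_le' (hU : U ≤ K) (hX : X ≤ M') : T M' U X ≤ M' :=
  sup_le ((br_mono hU hX).trans h.inv') le_rfl

theorem iter_le' (hU : U ≤ K) (hX : X ≤ M') (n : ℕ) : (T M' U)^[n] X ≤ M' := by
  induction n with
  | zero => exact hX
  | succ n ih => rw [Function.iterate_succ_apply']; exact h.T_le' hU ih

theorem T_comm (hU : U ≤ K) (hV : V ≤ K) (hX : X ≤ M) :
    T M' U (T M' V X) ≤ T M' V (T M' U X) := by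
  refine sup_le ((br_sup_right _ _ _).trans (sup_le ((br_br_le U V X).trans (sup_le ?_ ?_)) ?_))
    le_sup_right
  · exact ((br_mono (br_mono hU hV) hX).trans h.comm).trans le_sup_right
  · exact (br_mono le_rfl le_sup_left).trans le_sup_left
  · exact ((br_mono hU le_rfl).trans h.inv').trans le_sup_right

theorem iter_comm (hU : U ≤ K) (hV : V ≤ K) (n : ℕ) :
    ∀ X ≤ M, (T M' V)^[n] (T M' U X) ≤ T M' U ((T M' V)^[n] X) := by
  induction n with
  | zero => exact fun _ _ => le_rfl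
  | succ n ih =>
    intro X hX
    rw [Function.iterate_succ_apply, Function.iterate_succ_apply]
    exact ((T_mono M' V).iterate n (h.T_comm hV hU hX)).trans (ih _ (h.T_le hV hX))

theorem iter_sup (hU : U ≤ K) (hV : V ≤ K) (n : ℕ) : ∀ a b, a + b = n → ∀ X ≤ M,
    (T M' U)^[a] X ≤ M' → (T M' V)^[b] X ≤ M' → (T M' (U ⊔ V))^[n] X ≤ M' := by
  induction n with
  | zero =>
    intro a b hab X _ h1 _
    obtain rfl : a = 0 := by omega
    exact h1
  | succ n ih =>
    intro a b hab X hX h1 h2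
    rcases a with _ | a
    · exact h.iter_le' (sup_le hU hV) h1 _
    rcases b with _ | b
    · exact h.iter_le' (sup_le hU hV) h2 _
    rw [Function.iterate_succ_apply]
    have h3 : T M' (U ⊔ V) X ≤ T M' U X ⊔ T M' V X :=
      sup_le ((br_sup_left U V X).trans (sup_le_sup le_sup_left le_sup_left))
        (le_sup_right.trans le_sup_left)
    refine ((T_mono M' _).iterate n h3).trans ((iter_T_sup _ _ _ _ _).trans (sup_le ?_ ?_))
    · exact ih a (b + 1) (by omega) _ (h.T_le hU hX) h1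
        ((h.iter_comm hU hV _ X hX).trans (h.T_le' hU h2))
    · exact ih (a + 1) b (by omega) _ (h.T_le hV hX)
        ((h.iter_comm hV hU _ X hX).trans (h.T_le' hV h1)) h2

theorem iter_single (hU : U ≤ K) (n : ℕ) : (T M' U)^[n] M ≤ (br U)^[n] ⊤ ⊔ M' := by
  induction n with
  | zero => exact le_top.trans le_sup_left
  | succ n ih =>
    simp only [Function.iterate_succ_apply']
    exact sup_le ((br_mono le_rfl ih).trans ((br_sup_right _ _ _).trans
      (sup_le_sup_left ((br_mono hU le_rfl).trans h.inv') _))) le_sup_right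

theorem iter_family {m : ℕ} (𝓨 : Finset (AddSubgroup 𝔤)) (hY : ∀ Y ∈ 𝓨, (br Y)^[m] ⊤ = ⊥) :
    (T M' (⨆ Y ∈ 𝓨, K ⊓ Y))^[𝓨.card * m + 1] M ≤ M' := by
  classical
  induction 𝓨 using Finset.induction_on with
  | empty => simp [T, br_bot_left]
  | insert Y 𝓨 hn ih =>
    rw [Finset.iSup_insert, Finset.card_insert_of_notMem hn]
    refine h.iter_sup inf_le_left (iSup₂_le fun _ _ => inf_le_left) _ m (𝓨.card * m + 1) (by ring)
      M le_rfl ?_ (ih fun Z hZ => hY Z (Finset.mem_insert_of_mem hZ))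
    refine (h.iter_single inf_le_left m).trans (sup_le ?_ le_rfl)
    exact (iter_br_mono₂ inf_le_right m le_rfl).trans
      ((hY Y (Finset.mem_insert_self _ _)).le.trans bot_le)

theorem iter_br_le {m : ℕ} (𝓨 : Finset (AddSubgroup 𝔤)) (hY : ∀ Y ∈ 𝓨, (br Y)^[m] ⊤ = ⊥)
    (hK : K ≤ ⨆ Y ∈ 𝓨, K ⊓ Y) : (br K)^[𝓨.card * m + 1] M ≤ M' := by
  refine le_trans ?_ (h.iter_family 𝓨 hY)
  generalize 𝓨.card * m + 1 = n
  induction n with
  | zero => exact le_rfl
  | succ n ih =>
    simp only [Function.iterate_succ_apply']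
    exact (br_mono hK ih).trans le_sup_left

end Sec

/-- A solvable subring spanned by strongly ad-nilpotent pieces acts nilpotently. -/
theorem iter_br_eq_bot {m : ℕ} (𝓨 : Finset (AddSubgroup 𝔤)) (hY : ∀ Y ∈ 𝓨, (br Y)^[m] ⊤ = ⊥)
    (e : ℕ) : ∀ K : ℕ → AddSubgroup 𝔤, (∀ i, br (K i) (K i) ≤ K (i + 1)) →
      (∀ i, K (i + 1) ≤ K i) → (∀ i, K i ≤ ⨆ Y ∈ 𝓨, K i ⊓ Y) → K e = ⊥ →
      (br (K 0))^[(𝓨.card * m + 1) ^ e] ⊤ = ⊥ := by
  induction e with
  | zero => intro K _ _ _ h0; simp [h0, br_bot_left]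
  | succ e ih =>
    intro K h1 h2 h3 h4
    have h5 := ih (fun i => K (i + 1)) (fun i => h1 _) (fun i => h2 _) (fun i => h3 _) h4
    have hinv : ∀ j, br (K 0) ((br (K 1))^[j] ⊤) ≤ (br (K 1))^[j] ⊤ := by
      intro j
      induction j with
      | zero => exact le_top
      | succ j ihj =>
        rw [Function.iterate_succ_apply']
        exact (br_br_le _ _ _).trans (sup_le (br_mono ((br_mono le_rfl (h2 0)).trans (h1 0)) le_rfl)
          (br_mono le_rfl ihj))
    have key : ∀ j, (br (K 0))^[(𝓨.card * m + 1) * j] ⊤ ≤ (br (K 1))^[j] ⊤ := by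
      intro j
      induction j with
      | zero => exact le_rfl
      | succ j ihj =>
        rw [mul_add, mul_one, add_comm, Function.iterate_add_apply]
        refine (iter_br_mono _ _ ihj).trans (Sec.iter_br_le ⟨?_, hinv j, hinv (j + 1), ?_⟩ 𝓨 hY
          (h3 0))
        · rw [Function.iterate_succ_apply']
          exact (br_mono (h2 0) le_rfl).trans (hinv j)
        · rw [Function.iterate_succ_apply']
          exact br_mono (h1 0) le_rfl
    rw [pow_succ', eq_bot_iff, ← h5]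
    exact key _

end Sol

section Kreknin

variable {𝔤 : Type*} [LieRing 𝔤] {n : ℕ}

/-- The bound for the derived length. -/
def kf (m : ℕ) : ℕ → ℕ
  | 0 => 0
  | k + 1 => kf m k + m * (kf m k + 1)

theorem gen_mono {L L' : ZMod n → AddSubgroup 𝔤} (h : ∀ d, L' d ≤ L d) {k : ℕ} {d : ZMod n}
    {a : 𝔤} (ha : Gen L' k d a) : Gen L k d a := by
  induction ha with
  | base j a hj ha => exact Gen.base j a hj (h j ha)
  | zero d => exact Gen.zero d
  | add d a b _ _ ha hb => exact Gen.add _ _ _ ha hb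
  | neg d a _ ha => exact Gen.neg _ _ ha
  | lie u v a b _ _ ha hb => exact Gen.lie _ _ _ _ ha hb

theorem gen_lie_zero {L : ZMod n → AddSubgroup 𝔤} (hL : Graded L) {w : 𝔤} (hw : w ∈ L 0) {k : ℕ}
    {d : ZMod n} {a : 𝔤} (ha : Gen L k d a) : Gen L k d ⁅w, a⁆ := by
  induction ha with
  | base j a hj ha => exact Gen.base j _ hj (by simpa using hL 0 j w hw a ha)
  | zero d => rw [lie_zero]; exact Gen.zero d
  | add d a b _ _ ha hb => rw [lie_add]; exact Gen.add _ _ _ ha hb
  | neg d a _ ha => rw [lie_neg]; exact Gen.neg _ _ ha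
  | lie u v a b h1 h2 ha hb =>
    rw [leibniz_lie]
    exact Gen.add _ _ _ (Gen.lie _ _ _ _ ha h2) (Gen.lie _ _ _ _ h1 hb)

theorem kreknin_aux' [NeZero n] (m k : ℕ) : ∀ L : ZMod n → AddSubgroup 𝔤, Graded L →
    (∀ d, (br (L 0))^[m] (L d) = ⊥) → ∀ d, (der^[kf m k] L) d ≤ genSub L k d := by
  induction k with
  | zero => exact fun L _ _ d a ha => Gen.base d a (Nat.zero_le _) ha
  | succ k ih =>
    have hsub : ∀ L : ZMod n → AddSubgroup 𝔤, Graded L → (∀ d, (br (L 0))^[m] (L d) = ⊥) →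
        ∀ r d, (br ((der^[r] L) 0))^[m] ((der^[r] L) d) = ⊥ := fun L hL h0 r d =>
      eq_bot_iff.2 ((iter_br_mono₂ ((hL.iter r).2 0) m ((hL.iter r).2 d)).trans (h0 d).le)
    have hA : ∀ L : ZMod n → AddSubgroup 𝔤, Graded L → (∀ d, (br (L 0))^[m] (L d) = ⊥) →
        ∀ j : ZMod n, j.val = k →
        (der^[kf m k + 1] L) j ≤ genSub L (k + 1) j ⊔ br (L 0) (L j) := by
      intro L hL h0 j hjv
      rw [Function.iterate_succ_apply', der_le_iff]
      rintro u v huv y hy s hs
      refine Gen.lie_mem (d := j) hL ?_ (ih L hL h0 v hs) y ?_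
      · intro i hi w hw x hx
        by_cases hij : i = j
        · subst hij
          rw [sub_self] at hw
          exact AddSubgroup.mem_sup_right (lie_mem_br hw hx)
        · have hi' : k + 1 ≤ i.val := by
            have : i.val ≠ j.val := fun h => hij (ZMod.val_injective n h)
            omega
          have hv : k + 1 ≤ (j - i).val := by
            have h3 := ZMod.val_add (j - i) i
            rw [sub_add_cancel, hjv] at h3
            have h4 := ZMod.val_lt i
            have h5 := ZMod.val_lt (j - i)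
            by_cases h6 : (j - i).val + i.val < n
            · rw [Nat.mod_eq_of_lt h6] at h3; omega
            · rw [Nat.mod_eq_sub_mod (by omega), Nat.mod_eq_of_lt (by omega)] at h3; omega
          have := Gen.lie (L := L) (k := k + 1) _ _ _ _ (Gen.base _ w hv hw) (Gen.base _ x hi' hx)
          rw [sub_add_cancel] at this
          exact AddSubgroup.mem_sup_left this
      · rw [← huv, add_sub_cancel_right]
        exact (hL.iter _).2 u hy
    intro L hL h0 d a ha
    have hB : ∀ j : ZMod n, j.val = k → ∀ r, (der^[r * (kf m k + 1)] L) j ≤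
        genSub L (k + 1) j ⊔ (br (L 0))^[r] (L j) := by
      intro j hjv r
      induction r with
      | zero => simp
      | succ r ihr =>
        rw [add_mul, one_mul, add_comm (r * _), Function.iterate_add_apply,
          Function.iterate_succ_apply' (br (L 0))]
        obtain ⟨hM, hML⟩ := hL.iter (r * (kf m k + 1))
        refine (hA _ hM (hsub L hL h0 _) j hjv).trans (sup_le ?_ ?_)
        · exact fun x hx => AddSubgroup.mem_sup_left (gen_mono hML hx)
        · refine (br_mono (hML 0) ihr).trans ((br_sup_right _ _ _).trans (sup_le_sup_right ?_ _))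
          exact br_le.2 fun w hw x hx => gen_lie_zero hL hw hx
    rw [kf, Function.iterate_add_apply] at ha
    obtain ⟨hM, hML⟩ := hL.iter (m * (kf m k + 1))
    have h1 : Gen (der^[m * (kf m k + 1)] L) k d a := ih _ hM (hsub L hL h0 _) d ha
    change Gen L (k + 1) d a
    clear ha
    induction h1 with
    | zero d => exact Gen.zero d
    | add d a b _ _ ha hb => exact Gen.add _ _ _ ha hb
    | neg d a _ ha => exact Gen.neg _ _ ha
    | lie u v a b _ _ ha hb => exact Gen.lie _ _ _ _ ha hb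
    | base j a hj ha =>
      by_cases hj' : k + 1 ≤ j.val
      · exact Gen.base j a hj' (hML j ha)
      · have := hB j (by omega) m ha
        rwa [h0, sup_bot_eq] at this

theorem dser_eq_bot_of_graded [NeZero n] {m : ℕ} {L : ZMod n → AddSubgroup 𝔤} (hL : Graded L)
    (h0 : ∀ d, (br (L 0))^[m] (L d) = ⊥) : dser (⨆ u, L u) (kf m n) = ⊥ := by
  have key : ∀ i, dser (⨆ u, L u) i ≤ ⨆ u, (der^[i] L) u := by
    intro i
    induction i with
    | zero => exact le_rfl
    | succ i ih =>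
      rw [dser_succ, Function.iterate_succ_apply']
      exact (br_mono ih ih).trans (br_tot_le _)
  refine eq_bot_iff.2 ((key _).trans (iSup_le fun d a ha => ?_))
  have h1 : Gen L n d a := kreknin_aux' m n L hL h0 d ha
  rw [AddSubgroup.mem_bot]
  clear ha
  induction h1 with
  | base j a hj _ => have := ZMod.val_lt j; omega
  | zero d => rfl
  | add d a b _ _ ha hb => rw [ha, hb, add_zero]
  | neg d a _ ha => rw [ha, neg_zero]
  | lie u v a b _ _ ha _ => rw [ha, zero_lie]

end Kreknin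

section Aut

theorem dser_eq_bot_alg {A : Type} [CommRing A] [IsDomain A] {p : ℕ} (hp : p.Prime) {ζ : A}
    (hζ : IsPrimitiveRoot ζ p) {𝔤 : Type*} [LieRing 𝔤]
    [LieAlgebra A 𝔤] (B : Module.End A 𝔤) (hBlie : ∀ x y : 𝔤, B ⁅x, y⁆ = ⁅B x, B y⁆)
    (hBp : B ^ p = 1) (r : ℕ) (hr : ∀ x : 𝔤, r • p • x = x) {C : AddSubgroup 𝔤}
    (hC : ∀ x, B x = x → x ∈ C) {m : ℕ} (hm : (br C)^[m] ⊤ = ⊥) :
    dser (⊤ : AddSubgroup 𝔤) (kf m p) = ⊥ := by
  have : NeZero p := ⟨hp.ne_zero⟩
  let χ : AddChar (ZMod p) A := AddChar.zmodChar p hζ.pow_eq_one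
  have hχ : χ.IsPrimitive := AddChar.zmodChar_primitive_of_primitive_root p hζ
  let E : ZMod p → AddSubgroup 𝔤 := fun i => (LinearMap.ker (χ i • B - 1)).toAddSubgroup
  have hE : ∀ i x, x ∈ E i ↔ χ i • B x = x := fun i x => by
    show (χ i • B - 1) x = 0 ↔ _
    rw [LinearMap.sub_apply, sub_eq_zero]; rfl
  have hEg : Graded E := by
    intro u v x hx y hy
    rw [hE] at hx hy ⊢
    rw [AddChar.map_add_eq_mul, hBlie, mul_smul, ← lie_smul, ← smul_lie, hx, hy]
  have hsum : ∀ x : 𝔤, p • x ∈ ⨆ i, E i := by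
    intro x
    have h1 : ∀ i, (∑ j ∈ Finset.range p, (χ i • B) ^ j) x ∈ E i := by
      intro i
      show ((χ i • B - 1) * ∑ j ∈ Finset.range p, (χ i • B) ^ j) x = 0
      rw [mul_geom_sum, smul_pow, hBp, ← AddChar.map_nsmul_eq_pow, nsmul_eq_mul,
        ZMod.natCast_self, zero_mul, AddChar.map_zero_eq_one, one_smul, sub_self]
      rfl
    have h2 : ∑ i : ZMod p, (∑ j ∈ Finset.range p, (χ i • B) ^ j) x = p • x := by
      simp only [LinearMap.sum_apply, smul_pow, LinearMap.smul_apply]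
      rw [Finset.sum_comm]
      simp only [← Finset.sum_smul, ← AddChar.map_nsmul_eq_pow, nsmul_eq_mul']
      simp only [AddChar.sum_mulShift _ hχ, ZMod.card]
      rw [Finset.sum_eq_single 0]
      · simp [Nat.cast_smul_eq_nsmul]
      · intro j hj hj0
        rw [if_neg, Nat.cast_zero, zero_smul]
        rw [ZMod.natCast_eq_zero_iff]
        exact Nat.not_dvd_of_pos_of_lt (Nat.pos_of_ne_zero hj0) (Finset.mem_range.mp hj)
      · intro h0; exact absurd (Finset.mem_range.mpr hp.pos) h0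
    rw [← h2]
    exact AddSubgroup.sum_mem _ fun i _ => le_iSup E i (h1 i)
  have hE0 : E 0 ≤ C := by
    intro x hx
    rw [hE, AddChar.map_zero_eq_one, one_smul] at hx
    exact hC x hx
  have htop : (⨆ i, E i) = ⊤ := eq_top_iff.2 fun x _ => by
    rw [← hr x]
    exact AddSubgroup.nsmul_mem _ (hsum x) r
  rw [← htop]
  exact dser_eq_bot_of_graded hEg fun d => eq_bot_iff.2 ((iter_br_mono₂ hE0 m le_top).trans hm.le)

theorem trace_fixed {L : Type*} [AddCommGroup L] {p : ℕ} (β : L →+ L) (hβp : ∀ x, β^[p] x = x)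
    (x : L) : β (∑ i ∈ Finset.range p, β^[i] x) = ∑ i ∈ Finset.range p, β^[i] x := by
  have h1 := Finset.sum_range_succ (fun i => β^[i] x) p
  have h2 := Finset.sum_range_succ' (fun i => β^[i] x) p
  rw [hβp] at h1
  simp only [Function.iterate_succ_apply', Function.iterate_zero_apply] at h2
  rw [map_sum]
  exact add_right_cancel (h2.symm.trans h1)

theorem dser_eq_bot_aux {A : Type} [CommRing A] [IsDomain A] {ι : Type} [DecidableEq ι]
    (b : Module.Basis ι ℤ A) (i0 : ι) (hb : b i0 = 1) {p : ℕ} (hp : p.Prime) {ζ : A}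
    (hζ : IsPrimitiveRoot ζ p) {L : Type*} [LieRing L]
    (β : L →+ L) (hβ : ∀ x y, β ⁅x, y⁆ = ⁅β x, β y⁆) (hβp : ∀ x, β^[p] x = x) (r : ℕ)
    (hr : ∀ x : L, r • p • x = x) {C : AddSubgroup L} (hC : ∀ x, β x = x → x ∈ C) {m : ℕ}
    (hm : (br C)^[m] ⊤ = ⊥) : dser (⊤ : AddSubgroup L) (kf m p) = ⊥ := by
  let B : Module.End A (A ⊗[ℤ] L) := LinearMap.baseChange A β.toIntLinearMap
  have hB : ∀ (a : A) (x : L), B (a ⊗ₜ x) = a ⊗ₜ β x := fun _ _ => rfl
  have e0 : ∀ z : A ⊗[ℤ] L, ⁅z, (0 : A ⊗[ℤ] L)⁆ = 0 := fun z => lie_zero z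
  have hBlie : ∀ x y : A ⊗[ℤ] L, B ⁅x, y⁆ = ⁅B x, B y⁆ := by
    intro x y
    induction x using TensorProduct.induction_on with
    | zero => simp
    | add x x' h1 h2 => rw [add_lie, map_add, map_add, add_lie, h1, h2]
    | tmul a x =>
      induction y using TensorProduct.induction_on with
      | zero => rw [e0, map_zero, e0]
      | add y y' h1 h2 => rw [LieRing.lie_add, map_add, map_add, LieRing.lie_add, h1, h2]
      | tmul c y =>
        rw [hB, hB, LieAlgebra.ExtendScalars.bracket_tmul, LieAlgebra.ExtendScalars.bracket_tmul,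
          hB, hβ]
  have hBk : ∀ (k : ℕ) (a : A) (x : L), (B ^ k) (a ⊗ₜ x) = a ⊗ₜ β^[k] x := by
    intro k
    induction k with
    | zero => intro a x; rfl
    | succ k ih => intro a x; rw [pow_succ, Module.End.mul_apply, hB, ih]; rfl
  have hBp : B ^ p = 1 := by
    apply LinearMap.ext
    intro x
    induction x using TensorProduct.induction_on with
    | zero => simp
    | add x x' h1 h2 => rw [map_add, map_add, h1, h2]
    | tmul a x => rw [hBk, hβp]; rfl
  have hr' : ∀ x : A ⊗[ℤ] L, r • p • x = x := by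
    intro x
    induction x using TensorProduct.induction_on with
    | zero => simp
    | add x x' h1 h2 => rw [smul_add, smul_add, h1, h2]
    | tmul a x => rw [← TensorProduct.tmul_smul, ← TensorProduct.tmul_smul, hr]
  let ext : AddSubgroup L → AddSubgroup (A ⊗[ℤ] L) := fun M =>
    AddSubgroup.closure {z | ∃ a : A, ∃ x ∈ M, a ⊗ₜ x = z}
  have hext : ∀ (M : AddSubgroup L) (a : A), ∀ x ∈ M, a ⊗ₜ[ℤ] x ∈ ext M := fun M a x hx =>
    AddSubgroup.subset_closure ⟨a, x, hx, rfl⟩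
  have hbr : ∀ M M', br (ext M) (ext M') ≤ ext (br M M') := by
    intro M M'
    refine br_le.2 fun u hu v hv => ?_
    refine (show ext M ≤ preL v (ext (br M M')) from (AddSubgroup.closure_le _).2 ?_) hu
    rintro _ ⟨a, x, hx, rfl⟩
    refine (show ext M' ≤ preR (a ⊗ₜ x) (ext (br M M')) from (AddSubgroup.closure_le _).2 ?_) hv
    rintro _ ⟨c, y, hy, rfl⟩
    change ⁅a ⊗ₜ[ℤ] x, c ⊗ₜ[ℤ] y⁆ ∈ ext (br M M')
    rw [LieAlgebra.ExtendScalars.bracket_tmul]
    exact hext _ _ _ (lie_mem_br hx hy)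
  have htr : ∀ z : A ⊗[ℤ] L, ∑ i ∈ Finset.range p, (B ^ i) z ∈ ext C := by
    intro z
    induction z using TensorProduct.induction_on with
    | zero => simp
    | add x x' h1 h2 =>
      simp only [map_add, Finset.sum_add_distrib]
      exact AddSubgroup.add_mem _ h1 h2
    | tmul a x =>
      simp only [hBk, ← TensorProduct.tmul_sum]
      exact hext _ _ _ (hC _ (trace_fixed β hβp x))
  have hC' : ∀ z, B z = z → z ∈ ext C := by
    intro z hz
    have h1 : ∀ i, (B ^ i) z = z := fun i => by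
      induction i with
      | zero => rfl
      | succ i ih => rw [pow_succ, Module.End.mul_apply, hz, ih]
    have := htr z
    simp only [h1, Finset.sum_const, Finset.card_range] at this
    rw [← hr' z]
    exact AddSubgroup.nsmul_mem _ this r
  have hm' : (br (ext C))^[m] ⊤ = ⊥ := by
    have key : ∀ i, (br (ext C))^[i] ⊤ ≤ ext ((br C)^[i] ⊤) := by
      intro i
      induction i with
      | zero =>
        intro z _
        induction z using TensorProduct.induction_on with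
        | zero => exact AddSubgroup.zero_mem _
        | add x x' h1 h2 => exact AddSubgroup.add_mem _ (h1 trivial) (h2 trivial)
        | tmul a x => exact hext _ _ _ trivial
      | succ i ih =>
        simp only [Function.iterate_succ_apply']
        exact (br_mono le_rfl ih).trans (hbr _ _)
    refine eq_bot_iff.2 ((key m).trans ((AddSubgroup.closure_le _).2 ?_))
    rintro _ ⟨a, x, hx, rfl⟩
    rw [hm, AddSubgroup.mem_bot] at hx
    simp [hx]
  have h1 := dser_eq_bot_alg hp hζ B hBlie hBp r hr' hC' hm'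
  have key : ∀ i, dser (⊤ : AddSubgroup L) i ≤ (dser (⊤ : AddSubgroup (A ⊗[ℤ] L)) i).comap
      (TensorProduct.mk ℤ A L 1).toAddMonoidHom := by
    intro i
    induction i with
    | zero => exact fun _ _ => trivial
    | succ i ih =>
      rw [dser_succ, dser_succ]
      refine br_le.2 fun x hx y hy => ?_
      change (1 : A) ⊗ₜ[ℤ] ⁅x, y⁆ ∈ br _ _
      rw [← one_mul (1 : A), ← LieAlgebra.ExtendScalars.bracket_tmul]
      exact lie_mem_br (ih hx) (ih hy)
  refine eq_bot_iff.2 fun x hx => ?_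
  have h2 : (1 : A) ⊗ₜ[ℤ] x ∈ dser (⊤ : AddSubgroup (A ⊗[ℤ] L)) (kf m p) := key _ hx
  rw [h1, AddSubgroup.mem_bot, ← hb] at h2
  have h3 := congrArg (fun z => TensorProduct.equivFinsuppOfBasisLeft (N := L) b z i0) h2
  simp only [map_zero, Finsupp.zero_apply] at h3
  rw [TensorProduct.equivFinsuppOfBasisLeft_apply_tmul_apply] at h3
  simpa using h3

/-- Kreknin's theorem for an automorphism whose fixed points act nilpotently. -/
theorem dser_eq_bot {p : ℕ} (hp : p.Prime) {L : Type*} [LieRing L]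
    (β : L →+ L) (hβ : ∀ x y, β ⁅x, y⁆ = ⁅β x, β y⁆) (hβp : ∀ x, β^[p] x = x) (r : ℕ)
    (hr : ∀ x : L, r • p • x = x) {C : AddSubgroup L} (hC : ∀ x, β x = x → x ∈ C) {m : ℕ}
    (hm : (br C)^[m] ⊤ = ⊥) : dser (⊤ : AddSubgroup L) (kf m p) = ⊥ := by
  have hζ := Complex.isPrimitiveRoot_exp p hp.ne_zero
  set ζ := Complex.exp (2 * Real.pi * Complex.I / p)
  have hint : IsIntegral ℤ ζ := hζ.isIntegral hp.pos
  let pb := Algebra.adjoin.powerBasis' hint
  have hpos : 0 < pb.dim := pb.dim_pos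
  have hζ' : IsPrimitiveRoot
      (⟨ζ, Algebra.subset_adjoin rfl⟩ : Algebra.adjoin ℤ ({ζ} : Set ℂ)) p :=
    IsPrimitiveRoot.of_map_of_injective (f := (Algebra.adjoin ℤ ({ζ} : Set ℂ)).val) hζ
      Subtype.val_injective
  exact dser_eq_bot_aux pb.basis ⟨0, hpos⟩ (by rw [pb.basis_eq_pow]; exact pow_zero _) hp hζ'
    β hβ hβp r hr hC hm

end Aut

section Main

variable {L : Type*} [LieRing L]

/-- The bound for the class. -/
def bound (p s m e : ℕ) : ℕ := (s * m + 1) ^ kf ((s * m + 1) ^ e) p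

theorem lcs_eq_bot_of_family {p : ℕ} (hp : p.Prime)
    (β : L →+ L) (hβ : ∀ x y, β ⁅x, y⁆ = ⁅β x, β y⁆) (hβp : ∀ x, β^[p] x = x) (r : ℕ)
    (hr : ∀ x : L, r • p • x = x) (𝓨 : Finset (AddSubgroup L)) {m e : ℕ}
    (hY : ∀ Y ∈ 𝓨, (br Y)^[m] ⊤ = ⊥) (hYβ : ∀ Y ∈ 𝓨, ∀ y ∈ Y, β y ∈ Y)
    (Inv : AddSubgroup L → Prop) (hI : ∀ M, Inv M → ∀ Y ∈ 𝓨, Inv (M ⊓ Y))
    (hI' : ∀ M M', Inv M → Inv M' → Inv (br M M'))
    (hcl : ∀ Y ∈ 𝓨, ∀ Y' ∈ 𝓨, ∀ M ≤ br Y Y', Inv M → M ≤ ⨆ Z ∈ 𝓨, M ⊓ Z)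
    (htop : Inv ⊤) (hspan : ⊤ ≤ ⨆ Y ∈ 𝓨, Y) {C : AddSubgroup L} (hC : ∀ x, x ∈ C ↔ β x = x)
    (hCI : Inv C) (hCe : dser C e = ⊥) : lcs (⊤ : AddSubgroup L) (bound p 𝓨.card m e) = ⊥ := by
  have good : ∀ K, Inv K → K ≤ (⨆ Y ∈ 𝓨, K ⊓ Y) → br K K ≤ K → ∀ f, dser K f = ⊥ →
      (br K)^[(𝓨.card * m + 1) ^ f] ⊤ = ⊥ := by
    intro K h1 h2 h3 f hf
    have key : ∀ i, Inv (dser K i) ∧ dser K i ≤ (⨆ Y ∈ 𝓨, dser K i ⊓ Y) ∧
        dser K (i + 1) ≤ dser K i := by
      intro i
      induction i with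
      | zero => exact ⟨h1, h2, h3⟩
      | succ i ih =>
        obtain ⟨a1, a2, a3⟩ := ih
        refine ⟨dser_succ K i ▸ hI' _ _ a1 a1, ?_, ?_⟩
        · rw [dser_succ]
          rw [iSup_subtype'] at a2
          refine br_le_of_iSup a2 a2 fun Y Y' a ha b hb => ?_
          refine (iSup₂_mono fun Z _ => inf_le_inf_right Z (br_mono inf_le_left inf_le_left) :
            (⨆ Z ∈ 𝓨, br (dser K i ⊓ Y) (dser K i ⊓ Y') ⊓ Z) ≤ _) ?_
          exact hcl Y Y.2 Y' Y'.2 _ (br_mono inf_le_right inf_le_right)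
            (hI' _ _ (hI _ a1 _ Y.2) (hI _ a1 _ Y'.2)) (lie_mem_br ha hb)
        · rw [dser_succ K (i + 1)]
          exact (br_mono a3 a3).trans (dser_succ K i).ge
    exact iter_br_eq_bot 𝓨 hY f (dser K) (fun i => (dser_succ K i).ge) (fun i => (key i).2.2)
      (fun i => (key i).2.1) hf
  have hCs : C ≤ ⨆ Y ∈ 𝓨, C ⊓ Y := by
    let τ : L →+ L := AddMonoidHom.mk' (fun x => ∑ i ∈ Finset.range p, β^[i] x) fun x y => by
      simp only [iterate_map_add, Finset.sum_add_distrib]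
    have hτ : ∀ x, τ x = ∑ i ∈ Finset.range p, β^[i] x := fun x => rfl
    have h1 : (⨆ Y ∈ 𝓨, Y) ≤ (⨆ Y ∈ 𝓨, C ⊓ Y).comap τ := iSup₂_le fun Y hY' y hy => by
      refine (le_iSup₂ (f := fun Y (_ : Y ∈ 𝓨) => C ⊓ Y) Y hY') ?_
      rw [hτ]
      have hit : ∀ i, β^[i] y ∈ Y := fun i => by
        induction i with
        | zero => exact hy
        | succ i ih => rw [Function.iterate_succ_apply']; exact hYβ Y hY' _ ih
      exact ⟨(hC _).2 (trace_fixed β hβp y), AddSubgroup.sum_mem _ fun i _ => hit i⟩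
    intro x hx
    have h2 : τ x ∈ ⨆ Y ∈ 𝓨, C ⊓ Y := h1 (hspan (AddSubgroup.mem_top x))
    have h3 : ∀ i, β^[i] x = x := fun i => Function.iterate_fixed ((hC x).1 hx) i
    rw [hτ] at h2
    simp only [h3, Finset.sum_const, Finset.card_range] at h2
    rw [← hr x]
    exact AddSubgroup.nsmul_mem _ h2 r
  have h1 := good C hCI hCs (br_le.2 fun a ha b hb => (hC _).2 (by
    rw [hβ, (hC a).1 ha, (hC b).1 hb])) e hCe
  have h2 := dser_eq_bot hp β hβ hβp r hr (fun x hx => (hC x).2 hx) h1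
  exact good ⊤ htop (by simpa using hspan) le_top _ h2

end Main

end Cfsg.Agent.FG.Sh
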