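import Mathlib
import Cfsg.Agent.GT.CoprimeActThms
import Cfsg.Agent.FG.H93Elt

/-!
A solvable group with a coprime abelian operator group, generated by subgroups that act
nilpotently on the fixed points of the cocyclic subgroups, is nilpotent.
-/

set_option autoImplicit false
set_option linter.style.haveILetI false

namespace Cfsg.Agent.FG.Sh

open Subgroup Cfsg.Agent.GT.CopAct
open scoped commutatorElement

universe u

/-- `B` has a cyclic quotient. -/
def Coc {A : Type*} [Group A] (B : Subgroup A) : Prop := ∃ a, B ⊔ zpowers a = ⊤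

/-- Fixed points of a subgroup of the operator group. -/
abbrev Fx {A N : Type*} [Group A] [Group N] (φ : A →* MulAut N) (B : Subgroup A) : Subgroup N :=
  actFixed (φ.comp B.subtype)

theorem mem_Fx {A N : Type*} [Group A] [Group N] {φ : A →* MulAut N} {B : Subgroup A} {x : N} :
    x ∈ Fx φ B ↔ ∀ b ∈ B, φ b x = x :=
  mem_actFixed.trans ⟨fun h b hb => h ⟨b, hb⟩, fun h b => h b b.2⟩

theorem Fx_anti {A N : Type*} [Group A] [Group N] (φ : A →* MulAut N) {B D : Subgroup A}
    (h : D ≤ B) : Fx φ B ≤ Fx φ D := fun _ hx => mem_Fx.2 fun b hb => mem_Fx.1 hx b (h hb)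

theorem actInv_Fx {A N : Type*} [Group A] [Group N] (hA : IsMulCommutative A)
    (φ : A →* MulAut N) (B : Subgroup A) : ActInv φ (Fx φ B) := fun a x hx => mem_Fx.2 fun b hb => by
  rw [← MulAut.mul_apply, ← map_mul, hA.is_comm.comm b a, map_mul, MulAut.mul_apply,
    mem_Fx.1 hx b hb]

theorem le_iSup_Fx {A N : Type*} [Group A] [Group N] [Finite A] [Finite N]
    (hA : IsMulCommutative A) {φ : A →* MulAut N} (hcop : (Nat.card A).Coprime (Nat.card N))
    {U : Subgroup N} (hU : ActInv φ U) : U ≤ ⨆ B : {B : Subgroup A // Coc B}, U ⊓ Fx φ B :=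
  act_le_of_cocyclic hA hU (hcop.coprime_dvd_right (card_subgroup_dvd_card U)) fun B hB _ hu h =>
    mem_iSup_of_mem (⟨B, hB⟩ : {B : Subgroup A // Coc B}) ⟨hu, mem_Fx.2 h⟩

theorem commutator_le_of_le_iSup {G : Type*} [Group G] {ι : Sort*} {X : ι → Subgroup G}
    {U K H : Subgroup G} (hU : U ≤ ⨆ i, X i) (hN : ∀ i, X i ≤ normalizer (H : Set G))
    (h : ∀ i, ⁅X i, K⁆ ≤ H) : ⁅U, K⁆ ≤ H := by
  rw [commutator_le]
  intro x hx k hk
  let S : Subgroup G :=
    { carrier := {x | x ∈ normalizer (H : Set G) ∧ ⁅x, k⁆ ∈ H}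
      one_mem' := ⟨one_mem _, by simp⟩
      mul_mem' := by
        rintro a b ⟨a1, a2⟩ ⟨b1, b2⟩
        refine ⟨mul_mem a1 b1, ?_⟩
        have e : ⁅a * b, k⁆ = a * ⁅b, k⁆ * a⁻¹ * ⁅a, k⁆ := by
          simp only [commutatorElement_def]; group
        rw [e]
        exact mul_mem ((mem_normalizer_iff.1 a1 _).1 b2) a2
      inv_mem' := by
        rintro a ⟨a1, a2⟩
        refine ⟨inv_mem a1, ?_⟩
        have e : ⁅a⁻¹, k⁆ = a⁻¹ * ⁅a, k⁆⁻¹ * a⁻¹⁻¹ := by
          simp only [commutatorElement_def]; group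
        rw [e]
        exact (mem_normalizer_iff.1 (inv_mem a1) _).1 (inv_mem a2) }
  have : (⨆ i, X i) ≤ S := iSup_le fun i y hy => ⟨hN i hy, h i (commutator_mem_commutator hy hk)⟩
  exact (this (hU hx)).2

theorem iter_ad_mono {G : Type*} [Group G] {J J' : Subgroup G} (hJ : J ≤ J') (n : ℕ)
    {X X' : Subgroup G} (h : X ≤ X') :
    (fun Y => ⁅J, Y⁆)^[n] X ≤ (fun Y => ⁅J', Y⁆)^[n] X' := by
  induction n with
  | zero => exact h
  | succ n ih =>
    rw [Function.iterate_succ_apply', Function.iterate_succ_apply']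
    exact commutator_mono hJ ih

theorem map_iter_ad {G G' : Type*} [Group G] [Group G'] (f : G →* G') (J : Subgroup G) (n : ℕ)
    (X : Subgroup G) :
    ((fun Y => ⁅J, Y⁆)^[n] X).map f = (fun Y => ⁅J.map f, Y⁆)^[n] (X.map f) := by
  induction n with
  | zero => rfl
  | succ n ih => rw [Function.iterate_succ_apply', Function.iterate_succ_apply', map_commutator, ih]

theorem iter_ad_le {G : Type*} [Group G] (J : Subgroup G) (n : ℕ) {X V : Subgroup G} [V.Normal]
    (h : X ≤ V) : (fun Y => ⁅J, Y⁆)^[n] X ≤ V := by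
  induction n with
  | zero => exact h
  | succ n ih =>
    rw [Function.iterate_succ_apply']
    exact (commutator_mono le_rfl ih).trans (commutator_le_right _ _)

theorem iter_ad_iSup {G : Type*} [Group G] {ι : Sort*} (J : Subgroup G) (n : ℕ)
    {V : Subgroup G} [V.Normal] (hV : ⁅V, V⁆ = ⊥) {X : ι → Subgroup G} (hX : ∀ i, X i ≤ V)
    (h : V ≤ ⨆ i, X i) : (fun Y => ⁅J, Y⁆)^[n] V ≤ ⨆ i, (fun Y => ⁅J, Y⁆)^[n] (X i) := by
  induction n with
  | zero => exact h
  | succ n ih =>
    rw [Function.iterate_succ_apply', commutator_comm]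
    refine commutator_le_of_le_iSup ih (fun i => ?_) fun i => ?_
    · refine (iter_ad_le J n (hX i)).trans ((commutator_eq_bot_iff_le_centralizer.1 hV).trans ?_)
      refine (centralizer_le ?_).trans (centralizer_le_normalizer _)
      exact iSup_le fun i => iter_ad_le J (n + 1) (hX i)
    · rw [commutator_comm, ← Function.iterate_succ_apply' (fun Y => ⁅J, Y⁆)]
      exact le_iSup (fun i => (fun Y => ⁅J, Y⁆)^[n + 1] (X i)) i

theorem nilpotent_of_family {A : Type*} [Group A] [Finite A] (hA : IsMulCommutative A) (m : ℕ) :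
    ∀ (n : ℕ) (N : Type u) [Group N] [Finite N], Nat.card N = n → Group.IsSolvable N →
      ∀ φ : A →* MulAut N, (Nat.card A).Coprime (Nat.card N) → ∀ 𝓕 : Set (Subgroup N),
      sSup 𝓕 = ⊤ → (∀ J ∈ 𝓕, ∀ B, Coc B → (fun Y => ⁅J, Y⁆)^[m] (Fx φ B) = ⊥) →
      Group.IsNilpotent N := by
  intro n
  induction n using Nat.strong_induction_on with | _ n ih => ?_
  intro N _ _ hn hs φ hcop 𝓕 hsup had
  rcases subsingleton_or_nontrivial N with h | h
  · infer_instance
  obtain ⟨V, ⟨hV0, hVn, hVi⟩, hmin⟩ := exists_minimal_of_wellFoundedLT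
    (fun V : Subgroup N => V ≠ ⊥ ∧ V.Normal ∧ ActInv φ V) ⟨⊤, top_ne_bot, inferInstance, actInv_top φ⟩
  have hmin' : ∀ W : Subgroup N, W.Normal → ActInv φ W → W ≤ V → W = ⊥ ∨ W = V := by
    intro W h1 h2 h3
    by_cases h0 : W = ⊥
    · exact Or.inl h0
    · exact Or.inr (le_antisymm h3 (hmin ⟨h0, h1, h2⟩ h3))
  have hab : ⁅V, V⁆ = ⊥ :=
    (hmin' _ inferInstance (hVi.commutator hVi) (commutator_le_left _ _)).resolve_right
      (Group.IsSolvable.commutator_lt_of_ne_bot hV0).ne
  have hcomm : ∀ x ∈ V, ∀ y ∈ V, x * y = y * x := fun x hx y hy =>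
    ((commutator_eq_bot_iff_le_centralizer.1 hab) hy x hx)
  have hcV : (Nat.card A).Coprime (Nat.card V) :=
    hcop.coprime_dvd_right (card_subgroup_dvd_card V)
  have hAs : Group.IsSolvable A := by
    letI : CommGroup A := { (inferInstance : Group A) with mul_comm := hA.is_comm.comm }
    infer_instance
  -- the quotient is nilpotent
  have hq : Group.IsNilpotent (N ⧸ V) := by
    refine ih _ ?_ (N ⧸ V) rfl inferInstance (quotHom φ V hVi)
      (hcop.coprime_dvd_right (card_quotient_dvd_card V))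
      ((fun J => J.map (QuotientGroup.mk' V)) '' 𝓕) ?_ ?_
    · rw [← hn, card_eq_card_quotient_mul_card_subgroup V]
      exact lt_mul_of_one_lt_right Nat.card_pos (one_lt_card_iff_ne_bot V |>.2 hV0)
    · rw [sSup_image, ← (gc_map_comap (QuotientGroup.mk' V)).l_sSup, hsup]
      exact map_top_of_surjective _ (QuotientGroup.mk'_surjective V)
    · rintro _ ⟨J, hJ, rfl⟩ B hB
      have hVB : ActInv (φ.comp B.subtype) V := fun b => hVi b
      have e : Fx (quotHom φ V hVi) B = (Fx φ B).map (QuotientGroup.mk' V) :=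
        actFixed_quotHom hVB (hcV.coprime_dvd_left (card_subgroup_dvd_card B))
          (Or.inl inferInstance)
      rw [e, ← map_iter_ad, had J hJ B hB, Subgroup.map_bot]
  -- `V` is a `q`-group
  obtain ⟨q, hq', hqV⟩ := Nat.exists_prime_and_dvd (one_lt_card_iff_ne_bot V |>.2 hV0).ne'
  haveI := Fact.mk hq'
  have hVq : IsPGroup q V := by
    let W : Subgroup N :=
      { carrier := {x | x ∈ V ∧ x ^ q = 1}
        one_mem' := ⟨one_mem _, one_pow _⟩
        mul_mem' := by
          rintro a b ⟨a1, a2⟩ ⟨b1, b2⟩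
          exact ⟨mul_mem a1 b1, by
            rw [Commute.mul_pow (hcomm a a1 b b1), a2, b2, one_mul]⟩
        inv_mem' := by
          rintro a ⟨a1, a2⟩
          exact ⟨inv_mem a1, by rw [inv_pow, a2, inv_one]⟩ }
    have h1 : W.Normal := ⟨fun x hx g => ⟨hVn.conj_mem x hx.1 g, by rw [conj_pow, hx.2]; group⟩⟩
    have h2 : ActInv φ W := fun a x hx => ⟨hVi a x hx.1, by rw [← map_pow, hx.2, map_one]⟩
    obtain ⟨v, hv⟩ := exists_prime_orderOf_dvd_card' q hqV
    have h3 : W ≠ ⊥ := by
      intro h0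
      have : (v : N) ∈ W := ⟨v.2, by rw [← coe_pow, ← hv, pow_orderOf_eq_one, coe_one]⟩
      rw [h0, mem_bot] at this
      rw [show v = 1 from Subtype.ext this, orderOf_one] at hv
      exact hq'.one_lt.ne hv
    have h4 := (hmin' W h1 h2 fun x hx => hx.1).resolve_left h3
    intro x
    refine ⟨1, Subtype.ext ?_⟩
    have : (x : N) ∈ W := h4.ge x.2
    rw [pow_one]; exact this.2
  obtain ⟨P⟩ : Nonempty (Sylow q (N ⧸ V)) := inferInstance
  haveI hPn : (P : Subgroup (N ⧸ V)).Normal :=
    Sylow.normal_of_normalizerCondition Group.normalizerCondition_of_isNilpotent P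
  haveI hPc : (P : Subgroup (N ⧸ V)).Characteristic := Sylow.characteristic_of_normal P hPn
  set Q : Subgroup N := (P : Subgroup (N ⧸ V)).comap (QuotientGroup.mk' V) with hQ
  have hQq : IsPGroup q Q :=
    P.isPGroup'.comap_of_ker_isPGroup _ (by rw [QuotientGroup.ker_mk']; exact hVq)
  have hVQ : V ≤ Q := fun x hx => by
    rw [hQ, mem_comap, QuotientGroup.mk'_apply, (QuotientGroup.eq_one_iff x).2 hx]
    exact one_mem _
  have hQi : ActInv φ Q := actInv_comap_mk' (h := hVi) (actInv_of_characteristic _ _)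
  have hVQ' : ⁅V, Q⁆ = ⊥ := by
    refine (hmin' _ inferInstance (hVi.commutator hQi) (commutator_le_left _ _)).resolve_right
      fun e => hV0 ?_
    obtain ⟨k, hk⟩ := (isNilpotent_iff_lowerCentralSeries Q).1 hQq.isNilpotent
    have : ∀ k, V ≤ Q.lowerCentralSeries k := by
      intro k
      induction k with
      | zero => exact hVQ
      | succ k ih => rw [← e]; exact commutator_mono ih le_rfl
    exact eq_bot_iff.2 (hk ▸ this k)
  refine Subgroup.isNilpotent_of_ker_le_center (QuotientGroup.mk' V) ?_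
  rw [QuotientGroup.ker_mk']
  have key : (⊤ : Subgroup N) ≤ centralizer (V : Set N) := by
    rw [← hsup]
    refine sSup_le fun J hJ g hg => H93.mem_of_forall_primePow fun y hy r hr ⟨k, hk⟩ => ?_
    have hyJ : zpowers y ≤ J := zpowers_le.2 (zpowers_le.2 hg hy)
    have hyr : IsPGroup r (zpowers y) := IsPGroup.of_card (by rw [Nat.card_zpowers, hk])
    by_cases hrq : r = q
    · subst hrq
      have h1 : (zpowers y).map (QuotientGroup.mk' V) ≤ P := by
        obtain ⟨P', hP'⟩ := (hyr.map (QuotientGroup.mk' V)).exists_le_sylow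
        haveI := Sylow.unique_of_normal P hPn
        rwa [Subsingleton.elim P' P] at hP'
      have h2 : y ∈ Q := h1 ⟨y, mem_zpowers y, rfl⟩
      rw [commutator_comm] at hVQ'
      exact commutator_eq_bot_iff_le_centralizer.1 hVQ' h2
    · haveI := Fact.mk hr
      have h1 := commutator_commutator_eq (A := zpowers y) (K := V)
        (le_top.trans (normalizer_eq_top V).ge) (IsPGroup.coprime_card_of_ne r q hrq _ _ hyr hVq)
      have h2 : ∀ n, ⁅V, zpowers y⁆ ≤ (fun Y => ⁅J, Y⁆)^[n] V := by
        intro n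
        induction n with
        | zero => exact commutator_le_left _ _
        | succ n ih =>
          rw [Function.iterate_succ_apply', ← h1, commutator_comm J]
          exact commutator_mono ih hyJ
      have h3 := (h2 m).trans (iter_ad_iSup J m hab (fun _ => inf_le_left) (le_iSup_Fx hA hcop hVi))
      have h4 : ⁅zpowers y, V⁆ = ⊥ := by
        rw [commutator_comm, eq_bot_iff]
        refine h3.trans (iSup_le fun B => ?_)
        rw [← had J hJ B B.2]
        exact iter_ad_mono le_rfl m inf_le_right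
      exact commutator_eq_bot_iff_le_centralizer.1 h4 (mem_zpowers y)
  intro v hv
  rw [mem_center_iff]
  intro g
  exact (key (mem_top g) v hv).symm

end Cfsg.Agent.FG.Sh
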