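import Mathlib
import Cfsg.Agent.Loc.LieGr
import Cfsg.Agent.FG.ShLie
import Cfsg.Agent.FG.ShNil

/-!
Bounded nilpotency class for a nilpotent group generated by a family of subgroups acting
nilpotently on the fixed points of cocyclic subgroups of an elementary abelian operator group.
-/

set_option autoImplicit false
set_option linter.style.haveILetI false

namespace Cfsg.Agent.FG.Sh

open Cfsg.Agent.Loc.H78.Lie Cfsg.Agent.GT.CopAct
open scoped commutatorElement

universe u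

variable {N : Type u} [Group N]

/-- The part of the graded Lie ring that belongs to a subgroup. -/
def LJ (J : Subgroup N) : AddSubgroup (Gr N) :=
  AddSubgroup.closure {v | ∃ i, ∃ x ∈ J, x ∈ γ N i ∧ ι i x = v}

theorem ι_mem_LJ {J : Subgroup N} {i : ℕ} {x : N} (hx : x ∈ J) (hi : x ∈ γ N i) : ι i x ∈ LJ J :=
  AddSubgroup.subset_closure ⟨i, x, hx, hi, rfl⟩

theorem LJ_le {J : Subgroup N} {S : AddSubgroup (Gr N)}
    (h : ∀ i, ∀ x ∈ J, x ∈ γ N i → ι i x ∈ S) : LJ J ≤ S :=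
  (AddSubgroup.closure_le _).2 (by rintro _ ⟨i, x, hx, hi, rfl⟩; exact h i x hx hi)

theorem LJ_mono {J K : Subgroup N} (h : J ≤ K) : LJ J ≤ LJ K :=
  LJ_le fun _ _ hx hi => ι_mem_LJ (h hx) hi

theorem LJ_bot : LJ (⊥ : Subgroup N) = ⊥ :=
  eq_bot_iff.2 (LJ_le fun i x hx _ => by rw [Subgroup.mem_bot.1 hx, ι_one]; exact zero_mem _)

theorem LJ_top : LJ (⊤ : Subgroup N) = ⊤ :=
  eq_top_iff.2 fun v _ => Gr.induction_on v (zero_mem _)
    (fun _ _ hx => ι_mem_LJ (Subgroup.mem_top _) hx) fun _ _ => add_mem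

theorem br_LJ (J K : Subgroup N) : br (LJ J) (LJ K) ≤ LJ ⁅J, K⁆ := by
  refine br_le.2 fun a ha b hb => ?_
  have h1 : LJ J ≤ preL b (LJ ⁅J, K⁆) := LJ_le fun i x hx hi => by
    have h2 : LJ K ≤ preR (ι i x) (LJ ⁅J, K⁆) := LJ_le fun j y hy hj => by
      show ⁅ι i x, ι j y⁆ ∈ LJ ⁅J, K⁆
      rw [lie_ι hi hj]
      exact ι_mem_LJ (Subgroup.commutator_mem_commutator hx hy) (comm_mem_γ hi hj)
    exact h2 hb
  exact h1 ha

theorem iter_br_LJ (J : Subgroup N) (n : ℕ) (X : Subgroup N) :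
    (br (LJ J))^[n] (LJ X) ≤ LJ ((fun Y => ⁅J, Y⁆)^[n] X) := by
  induction n with
  | zero => exact le_rfl
  | succ n ih =>
    rw [Function.iterate_succ_apply', Function.iterate_succ_apply']
    exact (br_mono le_rfl ih).trans (br_LJ _ _)

theorem dser_LJ (n : ℕ) (X : Subgroup N) :
    dser (LJ X) n ≤ LJ ((fun Y => ⁅Y, Y⁆)^[n] X) := by
  induction n with
  | zero => exact le_rfl
  | succ n ih =>
    rw [dser_succ, Function.iterate_succ_apply']
    exact (br_mono ih ih).trans (br_LJ _ _)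

theorem dser_mono' {𝔤 : Type*} [LieRing 𝔤] {X Y : AddSubgroup 𝔤} (h : X ≤ Y) (n : ℕ) :
    dser X n ≤ dser Y n := by
  induction n with
  | zero => exact h
  | succ n ih => rw [dser_succ, dser_succ]; exact br_mono ih ih

theorem exists_pr_of_mem_LJ {J : Subgroup N} {v : Gr N} (hv : v ∈ LJ J) (i : ℕ) :
    ∃ x ∈ J, x ∈ γ N i ∧ pr i v = ι i x := by
  refine AddSubgroup.closure_induction (p := fun v _ => ∃ x ∈ J, x ∈ γ N i ∧ pr i v = ι i x)
    ?_ ?_ ?_ ?_ hv
  · rintro _ ⟨j, x, hx, hj, rfl⟩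
    by_cases h : j = i
    · subst h; exact ⟨x, hx, hj, pr_ι_self hj⟩
    · exact ⟨1, one_mem _, one_mem _, by rw [pr_ι_ne h hj, ι_one]⟩
  · exact ⟨1, one_mem _, one_mem _, by rw [map_zero, ι_one]⟩
  · rintro _ _ _ _ ⟨x, hx, hi, e⟩ ⟨y, hy, hj, e'⟩
    exact ⟨x * y, mul_mem hx hy, mul_mem hi hj, by rw [map_add, e, e', ι_mul hi hj]⟩
  · rintro _ _ ⟨x, hx, hi, e⟩
    exact ⟨x⁻¹, inv_mem hx, inv_mem hi, by rw [map_neg, e, ι_inv hi]⟩

theorem sum_pr {n : ℕ} (hn : γ N n = ⊥) (v : Gr N) : ∑ i ∈ Finset.range n, pr i v = v := by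
  refine Gr.induction_on v (by simp) (fun j x hx => ?_) fun v w hv hw => ?_
  · by_cases hj : j < n
    · rw [Finset.sum_eq_single j (fun i _ h => pr_ι_ne (Ne.symm h) hx)
        (fun h => absurd (Finset.mem_range.2 hj) h), pr_ι_self hx]
    · have : x = 1 := Subgroup.mem_bot.1
        (hn ▸ Subgroup.lowerCentralSeries_antitone _ (not_lt.1 hj) hx)
      simp [this, ι_one]
  · simp only [map_add, Finset.sum_add_distrib, hv, hw]

theorem finite_Gr [Finite N] {n : ℕ} (hn : γ N n = ⊥) : Finite (Gr N) := by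
  refine Finite.of_surjective (fun f : Fin n → N => ∑ i : Fin n, ι i (f i)) fun v => ?_
  choose x _ hx using fun i => exists_pr_eq i v
  refine ⟨fun i => x i, ?_⟩
  rw [← sum_pr hn v, Finset.sum_range]
  exact Finset.sum_congr rfl fun i _ => (hx i).symm

theorem card_smul_Gr [Finite N] (v : Gr N) : Nat.card N • v = 0 := by
  refine Gr.induction_on v (smul_zero _) (fun i x hx => ?_) fun v w hv hw => ?_
  · rw [← ι_pow hx, pow_card_eq_one', ι_one]
  · rw [smul_add, hv, hw, add_zero]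

theorem autGr_one (v : Gr N) : autGr 1 v = v := by
  refine Gr.induction_on v (map_zero _) (fun i x hx => autGr_ι _ hx) fun v w hv hw => ?_
  rw [map_add, hv, hw]

theorem autGr_mul (α β : MulAut N) (v : Gr N) : autGr (α * β) v = autGr α (autGr β v) := by
  refine Gr.induction_on v (by simp) (fun i x hx => ?_) fun v w hv hw => ?_
  · rw [autGr_ι _ hx, autGr_ι _ hx, autGr_ι _ (aut_mem_γ β hx)]; rfl
  · rw [map_add, map_add, map_add, hv, hw]

variable {A : Type*} [Group A]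

/-- The action on the graded Lie ring, written multiplicatively. -/
noncomputable def grAct (φ : A →* MulAut N) : A →* MulAut (Multiplicative (Gr N)) :=
  letI : MulDistribMulAction A (Multiplicative (Gr N)) :=
    { smul := fun a v => Multiplicative.ofAdd (autGr (φ a) v.toAdd)
      one_smul := fun v => by
        show Multiplicative.ofAdd (autGr (φ 1) v.toAdd) = v
        rw [map_one, autGr_one]; rfl
      mul_smul := fun a b v => by
        show Multiplicative.ofAdd (autGr (φ (a * b)) v.toAdd) =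
          Multiplicative.ofAdd (autGr (φ a) (autGr (φ b) v.toAdd))
        rw [map_mul, autGr_mul]
      smul_mul := fun a v w => congrArg Multiplicative.ofAdd (map_add (autGr (φ a)) _ _)
      smul_one := fun a => congrArg Multiplicative.ofAdd (map_zero (autGr (φ a))) }
  MulDistribMulAction.toMulAut A (Multiplicative (Gr N))

theorem grAct_apply (φ : A →* MulAut N) (a : A) (v : Multiplicative (Gr N)) :
    grAct φ a v = Multiplicative.ofAdd (autGr (φ a) v.toAdd) := rfl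

/-- Invariant additive subgroups. -/
def GInv (φ : A →* MulAut N) (M : AddSubgroup (Gr N)) : Prop := ∀ a, ∀ v ∈ M, autGr (φ a) v ∈ M

theorem gInv_LJ {φ : A →* MulAut N} {J : Subgroup N} (hJ : ActInv φ J) : GInv φ (LJ J) :=
  fun a _ hv => (show LJ J ≤ (LJ J).comap (autGr (φ a)) from LJ_le fun i x hx hi => by
    rw [AddSubgroup.mem_comap, autGr_ι _ hi]
    exact ι_mem_LJ (hJ a x hx) (aut_mem_γ _ hi)) hv

theorem GInv.br {φ : A →* MulAut N} {M M' : AddSubgroup (Gr N)} (h : GInv φ M) (h' : GInv φ M') :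
    GInv φ (br M M') :=
  fun a _ hv => (show Loc.H78.Lie.br M M' ≤ (Loc.H78.Lie.br M M').comap (autGr (φ a)) from
    br_le.2 fun x hx y hy => by
      rw [AddSubgroup.mem_comap, autGr_lie]
      exact lie_mem_br (h a x hx) (h' a y hy)) hv

variable [Finite A] [Finite N]

theorem mem_LJ_Fx {n : ℕ} (hn : γ N n = ⊥) (hA : IsMulCommutative A) {φ : A →* MulAut N}
    (hcop : (Nat.card A).Coprime (Nat.card N)) {H : Subgroup N} (hH : ActInv φ H) (B : Subgroup A)
    {v : Gr N} (hv : v ∈ LJ H) (hB : ∀ b ∈ B, autGr (φ b) v = v) : v ∈ LJ (H ⊓ Fx φ B) := by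
  have hAs : Group.IsSolvable A := by
    letI : CommGroup A := { (inferInstance : Group A) with mul_comm := hA.is_comm.comm }
    infer_instance
  rw [← sum_pr hn v]
  refine sum_mem fun i _ => ?_
  obtain ⟨x, hx, hi, e⟩ := exists_pr_of_mem_LJ hv i
  have h1 : ActInv (φ.comp B.subtype) (H ⊓ γ N (i + 1)) :=
    fun b y hy => ⟨hH b y hy.1, aut_mem_γ _ hy.2⟩
  obtain ⟨c, hc, hxc⟩ := act_exists_fixed_inv_mul_mem h1
    ((hcop.coprime_dvd_left (Subgroup.card_subgroup_dvd_card B)).coprime_dvd_right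
      (Subgroup.card_subgroup_dvd_card _)) (Or.inl inferInstance) (g := x) (fun b => by
      refine ⟨H.mul_mem (H.inv_mem hx) (hH b x hx), ?_⟩
      have h2 := pr_autGr (φ b) i v
      rw [hB b b.2, e, autGr_ι _ hi] at h2
      have h3 := aut_mem_γ (φ b) hi
      show x⁻¹ * φ b x ∈ γ N (i + 1)
      rw [← ι_eq_zero_iff (mul_mem (inv_mem hi) h3), ι_mul (inv_mem hi) h3, ι_inv hi, ← h2,
        neg_add_cancel])
  have h4 : c = x * (x⁻¹ * c) := by group
  have h5 : ι i c = ι i x := by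
    rw [h4, ι_mul hi (γ_succ_le i hxc.2), ι_eq_zero hxc.2, add_zero]
  rw [e, ← h5]
  exact ι_mem_LJ ⟨h4 ▸ mul_mem hx hxc.1, hc⟩ (h4 ▸ mul_mem hi (γ_succ_le i hxc.2))

theorem GInv.le_of_coc {n : ℕ} (hn : γ N n = ⊥) (hA : IsMulCommutative A) {φ : A →* MulAut N}
    (hcop : (Nat.card A).Coprime (Nat.card N)) {M S : AddSubgroup (Gr N)} (hM : GInv φ M)
    (h : ∀ B, Coc B → ∀ v ∈ M, (∀ b ∈ B, autGr (φ b) v = v) → v ∈ S) : M ≤ S := by
  haveI := finite_Gr hn
  have : AddSubgroup.toSubgroup M ≤ AddSubgroup.toSubgroup S := by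
    refine act_le_of_cocyclic hA (φ := grAct φ) (fun a v hv => hM a _ hv) ?_
      fun B hB v hv hb => h B hB _ hv fun b hb' => congrArg Multiplicative.toAdd (hb b hb')
    refine Nat.coprime_of_dvd fun q hq h1 h2 => ?_
    haveI := Fact.mk hq
    obtain ⟨v, hv⟩ := exists_prime_orderOf_dvd_card' q h2
    have h3 : q ∣ Nat.card N := by
      rw [← hv, orderOf_dvd_iff_pow_eq_one]
      exact Subtype.ext (card_smul_Gr (Multiplicative.toAdd (v : Multiplicative (Gr N))))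
    exact hq.one_lt.ne' (Nat.eq_one_of_dvd_coprimes hcop h1 h3)
  exact fun v hv => this hv

/-- The bound, monotone in the size of the family. -/
def bnd (p s m e : ℕ) : ℕ := (Finset.range (s + 1)).sup fun t => bound p t m e

theorem lcs_eq_bot_of_nilpotent [hN : Group.IsNilpotent N] {p : ℕ} (hp : p.Prime)
    (hA : IsMulCommutative A) {φ : A →* MulAut N} (hcop : (Nat.card A).Coprime (Nat.card N))
    (hpN : p.Coprime (Nat.card N)) (𝓕 : Set (Subgroup N)) {s m e : ℕ} (hs : 𝓕.ncard ≤ s)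
    (hinv : ∀ J ∈ 𝓕, ActInv φ J) (hsup : sSup 𝓕 = ⊤)
    (had : ∀ J ∈ 𝓕, ∀ B, Coc B → (fun Y => ⁅J, Y⁆)^[m] (Fx φ B) = ⊥)
    (hcl : ∀ J ∈ 𝓕, ∀ K ∈ 𝓕, ∀ B, Coc B → ∃ X ∈ 𝓕, ⁅J, K⁆ ⊓ Fx φ B ≤ X)
    {a : A} (ha : a ^ p = 1) (hae : (fun Y => ⁅Y, Y⁆)^[e] (Fx φ (Subgroup.zpowers a)) = ⊥) :
    γ N (bnd p s m e) = ⊥ := by
  classical
  obtain ⟨n, hn⟩ := Subgroup.nilpotent_iff_lowerCentralSeries.1 hN
  set 𝓨 : Finset (AddSubgroup (Gr N)) := (Set.toFinite 𝓕).toFinset.image LJ with h𝓨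
  have hmem : ∀ Y, Y ∈ 𝓨 ↔ ∃ J ∈ 𝓕, LJ J = Y := fun Y => by simp [h𝓨]
  have hcard : 𝓨.card ≤ s :=
    Finset.card_image_le.trans ((Set.ncard_eq_toFinset_card 𝓕 (Set.toFinite 𝓕)).ge.trans hs)
  obtain ⟨r, hr⟩ : ∃ r, ∀ x : Gr N, r • p • x = x := by
    obtain ⟨r, hr⟩ := Nat.exists_mul_mod_eq_of_coprime 1 hpN Nat.card_pos.ne'
    refine ⟨r, fun x => ?_⟩
    have h1 : ∀ k : ℕ, k • x = (k % Nat.card N) • x := fun k => by
      conv_lhs => rw [← Nat.mod_add_div k (Nat.card N), add_smul, mul_comm, mul_smul,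
        card_smul_Gr, smul_zero, add_zero]
    rw [smul_smul, h1, mul_comm, hr.2, ← h1, one_smul]
  have hcl' : ∀ Y ∈ 𝓨, ∀ Y' ∈ 𝓨, ∀ M ≤ br Y Y', GInv φ M → M ≤ ⨆ Z ∈ 𝓨, M ⊓ Z := by
    intro Y hY Y' hY' M hM hMi
    obtain ⟨J, hJ, rfl⟩ := (hmem Y).1 hY
    obtain ⟨K, hK, rfl⟩ := (hmem Y').1 hY'
    refine hMi.le_of_coc hn hA hcop fun B hB v hv hb => ?_
    obtain ⟨X, hX, hle⟩ := hcl J hJ K hK B hB
    have := LJ_mono hle (mem_LJ_Fx hn hA hcop ((hinv J hJ).commutator (hinv K hK)) B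
      (br_LJ J K (hM hv)) hb)
    exact le_iSup₂_of_le (f := fun Z (_ : Z ∈ 𝓨) => M ⊓ Z) (LJ X) ((hmem _).2 ⟨X, hX, rfl⟩)
      le_rfl ⟨hv, this⟩
  have hYi : ∀ Y ∈ 𝓨, GInv φ Y := fun Y hY => by
    obtain ⟨J, hJ, rfl⟩ := (hmem Y).1 hY
    exact gInv_LJ (hinv J hJ)
  have htop : GInv φ ⊤ := fun _ _ _ => AddSubgroup.mem_top _
  have hspan : (⊤ : AddSubgroup (Gr N)) ≤ ⨆ Y ∈ 𝓨, Y := by
    set S := ⨆ Y ∈ 𝓨, Y with hS
    have h1 : br S S ≤ S := by
      have h0 : S ≤ ⨆ Y : 𝓨, (Y : AddSubgroup (Gr N)) := by rw [hS, iSup_subtype']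
      refine br_le_of_iSup h0 h0 fun Y Y' x hx y hy => ?_
      refine (hcl' _ Y.2 _ Y'.2 _ le_rfl ((hYi _ Y.2).br (hYi _ Y'.2))).trans ?_ (lie_mem_br hx hy)
      exact iSup₂_mono fun _ _ => inf_le_right
    have h2 : ∀ x : N, ι 0 x ∈ S := by
      let T : Subgroup N :=
        { carrier := {x | ι 0 x ∈ S}
          one_mem' := by show ι 0 (1 : N) ∈ S; rw [ι_one]; exact zero_mem _
          mul_mem' := fun {x y} hx hy => by
            show ι 0 (x * y) ∈ S
            rw [ι_mul (Subgroup.mem_top x) (Subgroup.mem_top y)]; exact add_mem hx hy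
          inv_mem' := fun {x} hx => by
            show ι 0 x⁻¹ ∈ S
            rw [ι_inv (Subgroup.mem_top x)]; exact neg_mem hx }
      have : sSup 𝓕 ≤ T := sSup_le fun J hJ x hx =>
        le_iSup₂_of_le (f := fun Y (_ : Y ∈ 𝓨) => Y) (LJ J) ((hmem _).2 ⟨J, hJ, rfl⟩) le_rfl
          (ι_mem_LJ hx (Subgroup.mem_top x))
      exact fun x => this (hsup ▸ Subgroup.mem_top x)
    have h3 : ∀ i, ∀ x ∈ γ N i, ι i x ∈ S := by
      intro i
      induction i with
      | zero => exact fun x _ => h2 x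
      | succ i ih =>
        intro x hx
        refine Subgroup.closure_induction (p := fun x _ => ι (i + 1) x ∈ S) ?_ ?_ ?_ ?_
          ((Subgroup.mem_lowerCentralSeries_succ_iff _ i x).mp hx)
        · rintro _ ⟨a, ha, b, -, rfl⟩
          have := lie_ι (i := i) (j := 0) ha (Subgroup.mem_top b)
          rw [add_zero] at this
          rw [← this]
          exact h1 (lie_mem_br (ih a ha) (h2 b))
        · rw [ι_one]; exact zero_mem _
        · intro a b ha hb h1 h2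
          rw [ι_mul ha hb]; exact add_mem h1 h2
        · intro a ha h1
          rw [ι_inv ha]; exact neg_mem h1
    exact fun v _ => Gr.induction_on v (zero_mem _) h3 fun _ _ => add_mem
  have main := lcs_eq_bot_of_family hp (autGr (φ a)) (autGr_lie _) (fun x => by
      rw [autGr_iterate, ← map_pow, ha, map_one, autGr_one]) r hr 𝓨 (m := m) (e := e)
    (fun Y hY => ?_) (fun Y hY y hy => hYi Y hY a y hy) (GInv φ)
    (fun M hM Y hY b v hv => ⟨hM b v hv.1, hYi Y hY b v hv.2⟩) (fun _ _ => GInv.br) hcl' htop hspan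
    (C := (autGr (φ a)).eqLocus (AddMonoidHom.id _)) (fun _ => Iff.rfl) (fun b v hv => ?_) ?_
  · have h1 : γ N (bound p 𝓨.card m e) ≤ γ N (bound p 𝓨.card m e + 1) := fun x hx => by
      rw [← ι_eq_zero_iff hx, ← AddSubgroup.mem_bot, ← main]
      exact ι_mem_lcs _ x hx
    have h2 : ∀ k, γ N (bound p 𝓨.card m e) ≤ γ N (bound p 𝓨.card m e + k) := by
      have h3 : ∀ k, γ N (bound p 𝓨.card m e + k) ≤ γ N (bound p 𝓨.card m e + k + 1) := by
        intro k
        induction k with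
        | zero => exact h1
        | succ k ih => exact Subgroup.commutator_mono ih le_rfl
      intro k
      induction k with
      | zero => exact le_rfl
      | succ k ih => exact ih.trans (h3 k)
    rw [eq_bot_iff, ← hn]
    refine le_trans (Subgroup.lowerCentralSeries_antitone _ ?_) ((h2 n).trans
      (Subgroup.lowerCentralSeries_antitone _ (Nat.le_add_left _ _)))
    exact Finset.le_sup (f := fun t => bound p t m e) (Finset.mem_range.2 (Nat.lt_succ_of_le hcard))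
  · obtain ⟨J, hJ, rfl⟩ := (hmem Y).1 hY
    have h1 : (⊤ : AddSubgroup (Gr N)) ≤ ⨆ B : {B : Subgroup A // Coc B}, LJ (Fx φ B) :=
      htop.le_of_coc hn hA hcop fun B hB v _ hb =>
        le_iSup (fun B : {B : Subgroup A // Coc B} => LJ (Fx φ B)) ⟨B, hB⟩
          (LJ_mono inf_le_right (mem_LJ_Fx hn hA hcop (actInv_top φ) B (LJ_top.ge trivial) hb))
    rw [eq_bot_iff]
    refine (iter_br_mono _ m h1).trans ((iter_br_iSup _ m _).trans (iSup_le fun B => ?_))
    exact (iter_br_LJ J m _).trans (by rw [had J hJ B B.2, LJ_bot])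
  · show autGr (φ a) (autGr (φ b) v) = autGr (φ b) v
    rw [← autGr_mul, ← map_mul, hA.is_comm.comm a b, map_mul, autGr_mul, show autGr (φ a) v = v from hv]
  · rw [eq_bot_iff, ← LJ_bot, ← hae]
    refine (dser_mono' (fun v hv => ?_) e).trans (dser_LJ e _)
    refine LJ_mono inf_le_right (mem_LJ_Fx hn hA hcop (actInv_top φ) _ (LJ_top.ge trivial) ?_)
    intro b hb
    obtain ⟨k, rfl⟩ := mem_powers_iff_mem_zpowers.2 hb
    show autGr (φ (a ^ k)) v = v
    rw [map_pow, ← autGr_iterate]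
    exact Function.iterate_fixed hv k

end Cfsg.Agent.FG.Sh
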