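import Mathlib
import Cfsg.Agent.Perm.ZassField

/-!
# Bender's involution count for a TI-subgroup inverted by an involution
-/

set_option autoImplicit false
set_option linter.style.haveILetI false

namespace Cfsg.Agent.FG.TI

open Cfsg.Agent.Perm.Zass MulAction

variable {G : Type*} [Group G]

/-- The normaliser of `M`. -/
abbrev NN (M : Subgroup G) : Subgroup G := Subgroup.normalizer (M : Set G)

/-- The hypotheses. -/
structure Ctx (M : Subgroup G) (z : G) : Prop where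
  ne : ∃ x ∈ M, x ≠ 1
  ti : ∀ g x, x ∈ M → x ≠ 1 → g * x * g⁻¹ ∈ M → g ∈ NN M
  zz : z * z = 1
  z1 : z ≠ 1
  zN : z ∈ NN M
  fac : ∀ n ∈ NN M, ∃ x ∈ M, ∃ d ∈ NN M, d * z = z * d ∧ n = x * d
  odd : ∀ x ∈ M, x ≠ 1 → ∀ t : G, t * t = 1 → t * x = x * t → t = 1

theorem conj_mem {M : Subgroup G} {n x : G} (hn : n ∈ NN M) (hx : x ∈ M) : n * x * n⁻¹ ∈ M :=
  (Subgroup.mem_normalizer_iff.mp hn x).mp hx

theorem conj_mem' {M : Subgroup G} {n x : G} (hn : n ∈ NN M) (hx : x ∈ M) : n⁻¹ * x * n ∈ M := by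
  simpa using conj_mem ((NN M).inv_mem hn) hx

theorem leN {M : Subgroup G} {x : G} (hx : x ∈ M) : x ∈ NN M := Subgroup.le_normalizer hx

namespace Ctx

variable [Finite G] {M : Subgroup G} {z : G} (h : Ctx M z)
include h

omit [Finite G] in
theorem fpf {t x : G} (ht : t * t = 1) (ht1 : t ≠ 1) (hx : x ∈ M) (hc : t * x = x * t) : x = 1 := by
  by_contra hx1
  exact ht1 (h.odd x hx hx1 t ht hc)

omit [Finite G] in
theorem sq_eq_one {x : G} (hx : x ∈ M) (h2 : x * x = 1) : x = 1 := by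
  by_contra hx1
  exact hx1 (h.odd x hx hx1 x h2 rfl)

theorem inv {t x : G} (htN : t ∈ NN M) (ht : t * t = 1) (ht1 : t ≠ 1) (hx : x ∈ M) :
    t * x * t⁻¹ = x⁻¹ :=
  conj_eq_inv_of_fpf (E := M) ht (fun _ hy => conj_mem htN hy)
    (fun _ hy hc => h.fpf ht ht1 hy hc) hx

theorem zinv {x : G} (hx : x ∈ M) : z * x * z⁻¹ = x⁻¹ := h.inv h.zN h.zz h.z1 hx

theorem comm {x y : G} (hx : x ∈ M) (hy : y ∈ M) : x * y = y * x :=
  mul_comm_of_conj_eq_inv (E := M) (t := z) (fun _ hw => h.zinv hw) hx hy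

omit [Finite G] in
theorem zi : z⁻¹ = z := inv_eq_self_of_mul_self h.zz

theorem exists_mul_z {t : G} (htN : t ∈ NN M) (ht : t * t = 1) (ht1 : t ≠ 1) :
    ∃ x ∈ M, t = x * z := by
  obtain ⟨x, hx, d, hd, hdz, rfl⟩ := h.fac t htN
  have h1 := h.inv htN ht ht1 (M.inv_mem hx)
  have hdd : d * d = 1 := by
    have h2 : (x * d)⁻¹ = x * d := inv_eq_self_of_mul_self ht
    rw [h2, inv_inv] at h1
    calc d * d = x⁻¹ * (x * d * x⁻¹ * (x * d)) := by group
      _ = 1 := by rw [h1]; group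
  have hd1 : d ≠ 1 := by
    rintro rfl
    rw [mul_one] at ht ht1
    exact ht1 (h.sq_eq_one hx ht)
  refine ⟨x, hx, ?_⟩
  obtain ⟨y, hy, hy1⟩ := h.ne
  have h3 : d * z = 1 := by
    refine h.odd y hy hy1 _ ?_ ?_
    · calc d * z * (d * z) = d * (z * d) * z := by group
        _ = (d * d) * (z * z) := by rw [← hdz]; group
        _ = 1 := by rw [hdd, h.zz, one_mul]
    · have e1 := h.inv hd hdd hd1 (M.inv_mem hy)
      have e2 := h.zinv hy
      calc d * z * y = d * (z * y * z⁻¹) * d⁻¹ * (d * z) := by group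
        _ = y * (d * z) := by rw [e2, e1, inv_inv]
  rw [eq_inv_of_mul_eq_one_left h3, h.zi]

theorem mul_mem {t s : G} (htN : t ∈ NN M) (ht : t * t = 1) (ht1 : t ≠ 1) (hsN : s ∈ NN M)
    (hs : s * s = 1) (hs1 : s ≠ 1) : t * s ∈ M := by
  obtain ⟨x, hx, rfl⟩ := h.exists_mul_z htN ht ht1
  obtain ⟨y, hy, rfl⟩ := h.exists_mul_z hsN hs hs1
  have : x * z * (y * z) = x * (z * y * z⁻¹) := by rw [h.zi]; group
  rw [this, h.zinv hy]
  exact M.mul_mem hx (M.inv_mem hy)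

theorem exists_sqrt {x : G} (hx : x ∈ M) : ∃ y ∈ M, y * y = x := by
  have hinj : Function.Injective (fun y : M => y * y) := by
    intro a b hab
    have hab' : (a : G) * a = b * b := congrArg Subtype.val hab
    have h1 : (b : G)⁻¹ * a = 1 := by
      refine h.sq_eq_one (M.mul_mem (M.inv_mem b.2) a.2) ?_
      calc (b : G)⁻¹ * a * ((b : G)⁻¹ * a) = (b : G)⁻¹ * (a * (b : G)⁻¹) * a := by group
        _ = (b : G)⁻¹ * (b : G)⁻¹ * (a * a) := by
          rw [h.comm a.2 (M.inv_mem b.2)]; group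
        _ = 1 := by rw [hab']; group
    exact Subtype.ext (inv_mul_eq_one.mp h1).symm
  obtain ⟨y, hy⟩ := Finite.surjective_of_injective hinj ⟨x, hx⟩
  exact ⟨y, y.2, congrArg Subtype.val hy⟩

theorem exists_conj {t : G} (htN : t ∈ NN M) (ht : t * t = 1) (ht1 : t ≠ 1) :
    ∃ y ∈ M, t = y * z * y⁻¹ := by
  obtain ⟨x, hx, rfl⟩ := h.exists_mul_z htN ht ht1
  obtain ⟨y, hy, rfl⟩ := h.exists_sqrt hx
  refine ⟨y, hy, ?_⟩
  have e := h.zinv (M.inv_mem hy)
  calc y * y * z = y * (z * y⁻¹ * z⁻¹) * z := by rw [e, inv_inv]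
    _ = y * z * y⁻¹ := by group

theorem eq_z {t : G} (htN : t ∈ NN M) (ht : t * t = 1) (ht1 : t ≠ 1) (hc : t * z = z * t) :
    t = z := by
  obtain ⟨x, hx, rfl⟩ := h.exists_mul_z htN ht ht1
  have : x = 1 := h.fpf h.zz h.z1 hx (by
    have := mul_right_cancel (show x * z * z = z * x * z by rw [hc, mul_assoc])
    exact this.symm)
  rw [this, one_mul]

omit [Finite G] in
theorem eq_one_of_coset {u x : G} (hu : u * u = 1) (huN : u ∉ NN M) (hx : x ∈ M)
    (hux : u * x * (u * x) = 1) : x = 1 := by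
  by_contra hx1
  refine huN (h.ti u x hx hx1 ?_)
  have : u * x * u⁻¹ = x⁻¹ := by
    rw [inv_eq_self_of_mul_self hu, eq_inv_iff_mul_eq_one, ← hux]; group
  rw [this]; exact M.inv_mem hx

/-- Involutions of `N ∩ N^g` are unique. -/
theorem uniq {g t s : G} (hg : g ∉ NN M) (htN : t ∈ NN M) (ht : t * t = 1) (ht1 : t ≠ 1)
    (hsN : s ∈ NN M) (hs : s * s = 1) (hs1 : s ≠ 1) (hgt : g * t * g⁻¹ ∈ NN M)
    (hgs : g * s * g⁻¹ ∈ NN M) : t = s := by
  have h1 := h.mul_mem htN ht ht1 hsN hs hs1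
  have h2 := h.mul_mem hgt (conj_mul_self ht) (conj_ne_one ht1) hgs (conj_mul_self hs)
    (conj_ne_one hs1)
  have h3 : t * s = 1 := by
    by_contra hne
    refine hg (h.ti g _ h1 hne ?_)
    have : g * (t * s) * g⁻¹ = g * t * g⁻¹ * (g * s * g⁻¹) := by group
    rw [this]; exact h2
  rw [eq_inv_of_mul_eq_one_left h3, inv_eq_self_of_mul_self hs]

theorem exists_inv (hbig : M.index < Nat.card {g : G // orderOf g = 2}) {g : G}
    (hg : g ∉ NN M) : ∃ x ∈ M, g * x * (g * x) = 1 := by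
  classical
  by_contra hno
  push Not at hno
  let f : {g : G // orderOf g = 2} → G ⧸ M := fun u =>
    if u.1 ∈ NN M then ((u.1 * z * g : G) : G ⧸ M) else (u.1 : G ⧸ M)
  have hmem : ∀ u : {g : G // orderOf g = 2}, u.1 ∈ NN M → u.1 * z ∈ M := fun u hu =>
    h.mul_mem hu (orderOf_eq_two_iff'.mp u.2).1 (orderOf_eq_two_iff'.mp u.2).2 h.zN h.zz h.z1
  have hmix : ∀ u v : {g : G // orderOf g = 2}, u.1 ∈ NN M →
      ((u.1 * z * g : G) : G ⧸ M) ≠ (v.1 : G ⧸ M) := by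
    intro u v hu he
    rw [QuotientGroup.eq] at he
    have hx := hmem u hu
    set x := u.1 * z
    refine hno _ (M.mul_mem he hx) ?_
    have hv := (orderOf_eq_two_iff'.mp v.2).1
    calc g * ((x * g)⁻¹ * v * x) * (g * ((x * g)⁻¹ * v * x)) = x⁻¹ * (v.1 * v.1) * x := by group
      _ = 1 := by rw [hv]; group
  have hinj : Function.Injective f := by
    intro u v huv
    by_cases hu : u.1 ∈ NN M <;> by_cases hv : v.1 ∈ NN M <;>
      simp only [f, hu, hv, if_true, if_false] at huv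
    · rw [QuotientGroup.eq] at huv
      have hy : (u.1 * z)⁻¹ * (v.1 * z) ∈ M := M.mul_mem (M.inv_mem (hmem u hu)) (hmem v hv)
      have h1 : (u.1 * z)⁻¹ * (v.1 * z) = 1 := by
        by_contra hne
        refine hg ((NN M).inv_mem_iff.mp (h.ti g⁻¹ _ hy hne ?_))
        have : g⁻¹ * ((u.1 * z)⁻¹ * (v.1 * z)) * g⁻¹⁻¹ = (u.1 * z * g)⁻¹ * (v.1 * z * g) := by group
        rw [this]; exact huv
      exact Subtype.ext (mul_right_cancel (inv_mul_eq_one.mp h1))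
    · exact absurd huv (hmix u v hu)
    · exact absurd huv.symm (hmix v u hv)
    · rw [QuotientGroup.eq] at huv
      have h1 := h.eq_one_of_coset (orderOf_eq_two_iff'.mp u.2).1 hu huv (by
        have := (orderOf_eq_two_iff'.mp v.2).1
        simpa using this)
      exact Subtype.ext (inv_mul_eq_one.mp h1)
  have := Nat.card_le_card_of_injective f hinj
  exact absurd this (not_le.mpr hbig)

end Ctx

/-- The hypotheses together with the conclusion of the count. -/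
structure Big (M : Subgroup G) (z : G) : Prop extends Ctx M z where
  ex : ∀ g, g ∉ NN M → ∃ x ∈ M, g * x * (g * x) = 1

namespace Big

variable [Finite G] {M : Subgroup G} {z : G} (h : Big M z)
include h

omit [Finite G] in
theorem exists_inverted {u n : G} (hu : u * u = 1) (huN : u ∉ NN M) (hn : n ∈ NN M) :
    ∃ x ∈ M, u * (n * x) * u⁻¹ = (n * x)⁻¹ := by
  obtain ⟨x, hx, e⟩ := h.ex (u * n) (fun hh => huN (((NN M).mul_mem_cancel_right hn).mp hh))
  refine ⟨x, hx, ?_⟩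
  rw [inv_eq_self_of_mul_self hu, eq_inv_iff_mul_eq_one, ← e]; group

theorem exists_decomp_inv {u : G} (hu : u * u = 1) (huN : u ∉ NN M) :
    ∃ y ∈ M, ∃ c, c ∉ NN M ∧ c * z = z * c ∧ u = y * c * y⁻¹ := by
  obtain ⟨x, hx, e⟩ := h.exists_inverted hu huN h.zN
  have htN : z * x ∈ NN M := (NN M).mul_mem h.zN (leN hx)
  have ht : z * x * (z * x) = 1 := by
    calc z * x * (z * x) = z * x * z⁻¹ * x := by rw [h.zi]; group
      _ = 1 := by rw [h.zinv hx]; group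
  have ht1 : z * x ≠ 1 := by
    intro e1
    have : z ∈ M := by rw [eq_inv_of_mul_eq_one_left e1]; exact M.inv_mem hx
    exact h.z1 (h.sq_eq_one this h.zz)
  obtain ⟨y, hy, hyt⟩ := h.exists_conj htN ht ht1
  rw [inv_eq_self_of_mul_self ht, hyt] at e
  refine ⟨y, hy, y⁻¹ * u * y, fun hh => huN ?_, ?_, by group⟩
  · have := (NN M).mul_mem ((NN M).mul_mem (leN hy) hh) ((NN M).inv_mem (leN hy))
    simpa [mul_assoc] using this
  · calc y⁻¹ * u * y * z = y⁻¹ * (u * (y * z * y⁻¹) * u⁻¹) * u * y := by group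
      _ = z * (y⁻¹ * u * y) := by rw [e]; group

theorem comm_z {c n : G} (hc : c ∉ NN M) (hcz : c * z = z * c) (hn : n ∈ NN M)
    (hcn : c * n * c⁻¹ ∈ NN M) : n * z = z * n := by
  have h1 : n * z * n⁻¹ = z := by
    refine h.uniq hc ((NN M).mul_mem ((NN M).mul_mem hn h.zN) ((NN M).inv_mem hn))
      (conj_mul_self h.zz) (conj_ne_one h.z1) h.zN h.zz h.z1 ?_ ?_
    · have : c * (n * z * n⁻¹) * c⁻¹ = (c * n * c⁻¹) * (c * z * c⁻¹) * (c * n * c⁻¹)⁻¹ := by group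
      rw [this, hcz, mul_inv_cancel_right]
      exact (NN M).mul_mem ((NN M).mul_mem hcn h.zN) ((NN M).inv_mem hcn)
    · rw [hcz, mul_inv_cancel_right]; exact h.zN
  calc n * z = n * z * n⁻¹ * n := by group
    _ = z * n := by rw [h1]

theorem sq_out {c : G} (hc : c ∉ NN M) (hcz : c * z = z * c) : c * c = 1 := by
  obtain ⟨x, hx, e⟩ := h.ex c hc
  have huN : c * x ∉ NN M := fun hh => hc (((NN M).mul_mem_cancel_right (leN hx)).mp hh)
  have h1 : z * (c * x) * z⁻¹ = c * x * (x⁻¹ * x⁻¹) := by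
    calc z * (c * x) * z⁻¹ = (z * c) * z⁻¹ * (z * x * z⁻¹) := by group
      _ = c * x * (x⁻¹ * x⁻¹) := by rw [← hcz, h.zinv hx]; group
  have h2 := h.eq_one_of_coset e huN (M.mul_mem (M.inv_mem hx) (M.inv_mem hx)) (by
    rw [← h1]; exact conj_mul_self e)
  have h3 : x⁻¹ = 1 := h.sq_eq_one (M.inv_mem hx) h2
  rw [inv_eq_one.mp h3, mul_one] at e
  exact e

theorem inv_D {c d : G} (hc : c ∉ NN M) (hcz : c * z = z * c) (hd : d ∈ NN M)
    (hdz : d * z = z * d) : c * d * c⁻¹ = d⁻¹ := by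
  obtain ⟨x, hx, e⟩ := h.exists_inverted (h.sq_out hc hcz) hc hd
  have hn : d * x ∈ NN M := (NN M).mul_mem hd (leN hx)
  have h1 := h.comm_z hc hcz hn (by rw [e]; exact (NN M).inv_mem hn)
  have h2 : x = 1 := h.fpf h.zz h.z1 hx (by
    have : d * (z * x) = d * (x * z) := by
      calc d * (z * x) = (d * z) * x := by group
        _ = z * (d * x) := by rw [hdz]; group
        _ = d * (x * z) := by rw [← h1]; group
    exact mul_left_cancel this)
  rw [h2, mul_one] at e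
  exact e

theorem exists_decomp {g : G} (hg : g ∉ NN M) :
    ∃ y ∈ M, ∃ c, c ∉ NN M ∧ c * z = z * c ∧ ∃ x ∈ M, g = y * c * x := by
  obtain ⟨x, hx, e⟩ := h.ex g hg
  have huN : g * x ∉ NN M := fun hh => hg (((NN M).mul_mem_cancel_right (leN hx)).mp hh)
  obtain ⟨y, hy, c, hc, hcz, e2⟩ := h.exists_decomp_inv e huN
  refine ⟨y, hy, c, hc, hcz, y⁻¹ * x⁻¹, M.mul_mem (M.inv_mem hy) (M.inv_mem hx), ?_⟩
  calc g = g * x * x⁻¹ := by group
    _ = _ := by rw [e2]; group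

theorem conj_inj {y y' c c' : G} (hy : y ∈ M) (hy' : y' ∈ M) (hc : c ∉ NN M)
    (hcz : c * z = z * c) (hcz' : c' * z = z * c') (e : y * c * y⁻¹ = y' * c' * y'⁻¹) : y = y' := by
  have hw : y⁻¹ * y' ∈ M := M.mul_mem (M.inv_mem hy) hy'
  set w := y⁻¹ * y' with hwdef
  have e1 : c = w * c' * w⁻¹ := by
    calc c = y⁻¹ * (y * c * y⁻¹) * y := by group
      _ = _ := by rw [e, hwdef]; group
  have h1 : w * z * w⁻¹ = z := by
    have hN : w * z * w⁻¹ ∈ NN M :=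
      (NN M).mul_mem ((NN M).mul_mem (leN hw) h.zN) ((NN M).inv_mem (leN hw))
    refine h.uniq hc hN (conj_mul_self h.zz) (conj_ne_one h.z1) h.zN h.zz h.z1 ?_ ?_
    · have : c * (w * z * w⁻¹) * c⁻¹ = w * z * w⁻¹ := by
        calc c * (w * z * w⁻¹) * c⁻¹ = w * (c' * z) * c'⁻¹ * w⁻¹ := by rw [e1]; group
          _ = _ := by rw [hcz']; group
      rw [this]; exact hN
    · rw [hcz, mul_inv_cancel_right]; exact h.zN
  have h2 : w = 1 := h.fpf h.zz h.z1 hw (by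
    calc z * w = w * z * w⁻¹ * w := by rw [h1]
      _ = w * z := by group)
  exact inv_mul_eq_one.mp h2

theorem decomp_inj {y y' c c' x x' : G} (hy : y ∈ M) (hy' : y' ∈ M) (hc : c ∉ NN M)
    (hc' : c' ∉ NN M) (hcz : c * z = z * c) (hcz' : c' * z = z * c') (hx : x ∈ M) (hx' : x' ∈ M)
    (e : y * c * x = y' * c' * x') : y = y' ∧ c = c' ∧ x = x' := by
  have hu := conj_mul_self (g := y) (h.sq_out hc hcz)
  have hu' := conj_mul_self (g := y') (h.sq_out hc' hcz')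
  have huN : y * c * y⁻¹ ∉ NN M := fun hh => hc (by
    have := (NN M).mul_mem ((NN M).mul_mem ((NN M).inv_mem (leN hy)) hh) (leN hy)
    simpa [mul_assoc] using this)
  have hw : y * x * x'⁻¹ * y'⁻¹ ∈ M :=
    M.mul_mem (M.mul_mem (M.mul_mem hy hx) (M.inv_mem hx')) (M.inv_mem hy')
  have e1 : y * c * y⁻¹ * (y * x * x'⁻¹ * y'⁻¹) = y' * c' * y'⁻¹ := by
    calc y * c * y⁻¹ * (y * x * x'⁻¹ * y'⁻¹) = (y * c * x) * x'⁻¹ * y'⁻¹ := by group
      _ = _ := by rw [e]; group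
  have h1 := h.eq_one_of_coset hu huN hw (by rw [e1]; exact hu')
  rw [h1, mul_one] at e1
  have h2 := h.conj_inj hy hy' hc hcz hcz' e1
  subst h2
  have h3 : c = c' := by simpa using e1
  subst h3
  exact ⟨rfl, rfl, mul_left_cancel e⟩

theorem free_D {c d y : G} (hc : c ∉ NN M) (hcz : c * z = z * c) (hd : d ∈ NN M)
    (hdz : d * z = z * d) (hy : y ∈ M) (hy1 : y ≠ 1) (hdy : d * y = y * d) : d = 1 := by
  have hg : c * y * c⁻¹ ∉ NN M := fun hh =>
    hy1 (h.fpf h.zz h.z1 hy (h.comm_z hc hcz (leN hy) hh).symm)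
  obtain ⟨y₁, hy₁, c', hc', hcz', x₁, hx₁, e⟩ := h.exists_decomp hg
  have e1 := h.inv_D hc hcz ((NN M).inv_mem hd) (by
    calc d⁻¹ * z = d⁻¹ * (z * d) * d⁻¹ := by group
      _ = z * d⁻¹ := by rw [← hdz]; group)
  have e2 : d * (c * y * c⁻¹) * d⁻¹ = c * y * c⁻¹ := by
    rw [inv_inv] at e1
    calc d * (c * y * c⁻¹) * d⁻¹ = (c * d⁻¹ * c⁻¹) * (c * y * c⁻¹) * (c * d⁻¹ * c⁻¹)⁻¹ := by
          rw [e1]
      _ = c * (d⁻¹ * (y * d)) * c⁻¹ := by group
      _ = _ := by rw [← hdy]; group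
  have e3 : d * y₁ * d⁻¹ * (d * c' * d⁻¹) * (d * x₁ * d⁻¹) = y₁ * c' * x₁ := by
    rw [← e, ← e2, e]; group
  have h4 := (h.decomp_inj (conj_mem hd hy₁) hy₁ (fun hh => hc' (by
      have := (NN M).mul_mem ((NN M).mul_mem ((NN M).inv_mem hd) hh) hd
      simpa [mul_assoc] using this)) hc' (by
      calc d * c' * d⁻¹ * z = d * c' * d⁻¹ * (z * d) * d⁻¹ := by group
        _ = d * (c' * z) * d⁻¹ := by rw [← hdz]; group
        _ = (d * z) * c' * d⁻¹ := by rw [hcz']; group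
        _ = _ := by rw [hdz]; group) hcz' (conj_mem hd hx₁) hx₁ e3).2.1
  have h5 := h.inv_D hc' hcz' hd hdz
  refine h.odd y hy hy1 d ?_ hdy
  have h6 : c' * d * c'⁻¹ = d := by
    calc c' * d * c'⁻¹ = (d * c' * d⁻¹) * d * c'⁻¹ := by rw [h4]
      _ = d := by group
  rw [h6] at h5
  exact mul_eq_one_iff_eq_inv.mpr h5

/-- The centraliser of `z`. -/
abbrev HH (z : G) : Subgroup G := Subgroup.centralizer ({z} : Set G)

omit h [Finite G] in
theorem mem_HH {c : G} : c ∈ HH z ↔ c * z = z * c := Subgroup.mem_centralizer_singleton_iff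

omit [Finite G] in
theorem card_N : Nat.card (NN M) = Nat.card M * Nat.card ↥(NN M ⊓ HH z) := by
  rw [← Nat.card_prod]
  symm
  refine Nat.card_congr (Equiv.ofBijective (fun p : M × ↥(NN M ⊓ HH z) =>
    (⟨p.1 * p.2, (NN M).mul_mem (leN p.1.2) p.2.2.1⟩ : NN M)) ⟨?_, ?_⟩)
  · rintro ⟨x, d⟩ ⟨x', d'⟩ e
    have e' : (x : G) * d = x' * d' := congrArg Subtype.val e
    have hw : (x' : G)⁻¹ * x ∈ M := M.mul_mem (M.inv_mem x'.2) x.2
    have e1 : (x' : G)⁻¹ * x = d' * (d : G)⁻¹ := by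
      calc (x' : G)⁻¹ * x = (x' : G)⁻¹ * (x * d) * (d : G)⁻¹ := by group
        _ = _ := by rw [e']; group
    have h1 : (x' : G)⁻¹ * x = 1 := h.fpf h.zz h.z1 hw (by
      rw [e1]; exact (mem_HH.mp ((HH z).mul_mem d'.2.2 ((HH z).inv_mem d.2.2))).symm)
    have h2 : (x : G) = x' := (inv_mul_eq_one.mp h1).symm
    rw [h2] at e'
    exact Prod.ext (Subtype.ext h2) (Subtype.ext (mul_left_cancel e'))
  · rintro ⟨n, hn⟩
    obtain ⟨x, hx, d, hd, hdz, rfl⟩ := h.fac n hn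
    exact ⟨(⟨x, hx⟩, ⟨d, hd, mem_HH.mpr hdz⟩), rfl⟩

theorem card_G : Nat.card G = Nat.card (NN M) +
    Nat.card M * Nat.card {c : G // c ∈ HH z ∧ c ∉ NN M} * Nat.card M := by
  classical
  rw [← Nat.card_prod, ← Nat.card_prod, ← Nat.card_sum]
  symm
  refine Nat.card_congr (Equiv.ofBijective (fun p => Sum.elim (fun n : NN M => (n : G))
    (fun q : (M × {c : G // c ∈ HH z ∧ c ∉ NN M}) × M => (q.1.1 : G) * q.1.2 * q.2) p) ⟨?_, ?_⟩)
  · have hout : ∀ q : (M × {c : G // c ∈ HH z ∧ c ∉ NN M}) × M,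
        (q.1.1 : G) * q.1.2 * q.2 ∉ NN M := fun q hh => q.1.2.2.2 (by
      rwa [(NN M).mul_mem_cancel_right (leN q.2.2), (NN M).mul_mem_cancel_left (leN q.1.1.2)] at hh)
    rintro (n | q) (n' | q') e
    · exact congrArg Sum.inl (Subtype.ext e)
    · have e' : (n : G) = (q'.1.1 : G) * q'.1.2 * q'.2 := e
      exact absurd (e' ▸ n.2) (hout q')
    · have e' : (q.1.1 : G) * q.1.2 * q.2 = n' := e
      exact absurd (e'.symm ▸ n'.2) (hout q)
    · obtain ⟨h1, h2, h3⟩ := h.decomp_inj q.1.1.2 q'.1.1.2 q.1.2.2.2 q'.1.2.2.2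
        (mem_HH.mp q.1.2.2.1) (mem_HH.mp q'.1.2.2.1) q.2.2 q'.2.2 e
      exact congrArg Sum.inr (Prod.ext (Prod.ext (Subtype.ext h1) (Subtype.ext h2)) (Subtype.ext h3))
  · intro g
    by_cases hg : g ∈ NN M
    · exact ⟨Sum.inl ⟨g, hg⟩, rfl⟩
    · obtain ⟨y, hy, c, hc, hcz, x, hx, rfl⟩ := h.exists_decomp hg
      exact ⟨Sum.inr ((⟨y, hy⟩, ⟨c, mem_HH.mpr hcz, hc⟩), ⟨x, hx⟩), rfl⟩

omit h in
theorem card_H : Nat.card (HH z) =
    Nat.card ↥(NN M ⊓ HH z) + Nat.card {c : G // c ∈ HH z ∧ c ∉ NN M} := by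
  classical
  rw [← Nat.card_sum]
  symm
  refine Nat.card_congr (Equiv.ofBijective (fun p => Sum.elim
    (fun n : ↥(NN M ⊓ HH z) => (⟨n, n.2.2⟩ : HH z))
    (fun q : {c : G // c ∈ HH z ∧ c ∉ NN M} => (⟨q, q.2.1⟩ : HH z)) p) ⟨?_, ?_⟩)
  · rintro (n | q) (n' | q') e
    · exact congrArg Sum.inl (Subtype.ext (congrArg (fun t : HH z => (t : G)) e))
    · exact absurd (show (q' : G) ∈ NN M from (congrArg Subtype.val e : (n : G) = q') ▸ n.2.1)
        q'.2.2
    · exact absurd (show (q : G) ∈ NN M from (congrArg Subtype.val e : (q : G) = n').symm ▸ n'.2.1)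
        q.2.2
    · exact congrArg Sum.inr (Subtype.ext (congrArg (fun t : HH z => (t : G)) e))
  · intro g
    by_cases hg : (g : G) ∈ NN M
    · exact ⟨Sum.inl ⟨g, hg, g.2⟩, rfl⟩
    · exact ⟨Sum.inr ⟨g, g.2, hg⟩, rfl⟩

end Big

end Cfsg.Agent.FG.TI
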