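import Mathlib
import Cfsg.Agent.FG.TIInv
import Cfsg.Prelude.Def_Transfer

/-!
# Bender's involution count: the doubly transitive case
-/

set_option autoImplicit false
set_option linter.style.haveILetI false

namespace Cfsg.Agent.FG.TI

open Cfsg.Agent.Perm.Zass MulAction
open scoped MatrixGroups

variable {G : Type*} [Group G]

theorem smul_coe_eq (N : Subgroup G) (g x : G) :
    g • ((x : G) : G ⧸ N) = ((g * x : G) : G ⧸ N) := rfl

theorem fix_iff {N : Subgroup G} {g x : G} :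
    g • ((x : G) : G ⧸ N) = x ↔ x⁻¹ * g * x ∈ N := by
  rw [smul_coe_eq, eq_comm, QuotientGroup.eq, mul_assoc]

namespace Big

variable [Finite G] {M : Subgroup G} {z : G} (h : Big M z) {c : G} (hc : c ∉ NN M)
  (hcz : c * z = z * c)
include h hc hcz

theorem fix_D {g : G} (hg : g ∈ NN M) (hb : g • ((c : G) : G ⧸ NN M) = c) : g * z = z * g := by
  rw [fix_iff] at hb
  have hi := inv_eq_self_of_mul_self (h.sq_out hc hcz)
  exact h.comm_z hc hcz hg (by rw [hi] at hb ⊢; exact hb)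

theorem fix_M {y u : G} (hy : y ∈ M) (hu : u ∈ M)
    (hb : u • ((y * c : G) : G ⧸ NN M) = (y * c : G)) : u = 1 := by
  have h1 : u • ((c : G) : G ⧸ NN M) = c := by
    rw [fix_iff] at hb ⊢
    have : (y * c)⁻¹ * u * (y * c) = c⁻¹ * u * c := by
      calc (y * c)⁻¹ * u * (y * c) = c⁻¹ * (y⁻¹ * (u * y)) * c := by group
        _ = _ := by rw [h.comm hu hy]; group
    rwa [this] at hb
  exact h.fpf h.zz h.z1 hu (h.fix_D hc hcz (leN hu) h1).symm

variable (hA : ∀ c', c' ∉ NN M → c' * z = z * c' → c * c' ∈ NN M)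
include hA

theorem exists_pt {p : G ⧸ NN M} (hp : p ≠ ((1 : G) : G ⧸ NN M)) :
    ∃ y ∈ M, p = ((y * c : G) : G ⧸ NN M) := by
  obtain ⟨g, rfl⟩ := QuotientGroup.mk_surjective p
  have hg : g ∉ NN M := fun hh => hp (by rw [QuotientGroup.eq]; simpa using hh)
  obtain ⟨y, hy, c', hc', hcz', x, hx, rfl⟩ := h.exists_decomp hg
  refine ⟨y, hy, ?_⟩
  rw [eq_comm, QuotientGroup.eq]
  have : (y * c)⁻¹ * (y * c' * x) = c⁻¹ * c' * x := by group
  rw [this, inv_eq_self_of_mul_self (h.sq_out hc hcz)]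
  exact (NN M).mul_mem (hA c' hc' hcz') (leN hx)

omit h hc hcz hA [Finite G] in
theorem fix_one {g : G} : g • ((1 : G) : G ⧸ NN M) = (1 : G) ↔ g ∈ NN M := by
  rw [fix_iff]; simp

theorem exists_two {p q : G ⧸ NN M} (hpq : p ≠ q) :
    ∃ g : G, g • ((1 : G) : G ⧸ NN M) = p ∧ g • ((c : G) : G ⧸ NN M) = q := by
  obtain ⟨g, rfl⟩ := QuotientGroup.mk_surjective p
  have h1 : g⁻¹ • q ≠ ((1 : G) : G ⧸ NN M) := by
    intro e
    apply hpq
    rw [inv_smul_eq_iff, smul_coe_eq, mul_one] at e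
    exact e.symm
  obtain ⟨y, hy, e⟩ := h.exists_pt hc hcz hA h1
  refine ⟨g * y, ?_, ?_⟩
  · rw [mul_smul, fix_one.mpr (leN hy), smul_coe_eq, mul_one]
  · rw [mul_smul, smul_coe_eq _ y c, ← e, smul_inv_smul]

omit h hcz hA [Finite G] in
theorem ne_one {y : G} (hy : y ∈ M) : ((y * c : G) : G ⧸ NN M) ≠ ((1 : G) : G ⧸ NN M) := by
  intro e
  rw [eq_comm, QuotientGroup.eq, inv_one, one_mul, (NN M).mul_mem_cancel_left (leN hy)] at e
  exact hc e

theorem isZT : IsZT G (G ⧸ NN M) where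
  two := by
    intro p q r s hpq hrs
    obtain ⟨g, h1, h2⟩ := h.exists_two hc hcz hA hpq
    obtain ⟨k, h3, h4⟩ := h.exists_two hc hcz hA hrs
    exact ⟨k * g⁻¹, by rw [mul_smul, ← h1, inv_smul_smul, h3],
      by rw [mul_smul, ← h2, inv_smul_smul, h4]⟩
  three := by
    intro g p q r hpq hqr hpr hp hq hr
    obtain ⟨k, rfl, rfl⟩ := h.exists_two hc hcz hA hpq
    have hr1 : k⁻¹ • r ≠ ((1 : G) : G ⧸ NN M) := fun e => hpr (by rw [← e, smul_inv_smul])
    obtain ⟨y, hy, e⟩ := h.exists_pt hc hcz hA hr1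
    have hy1 : y ≠ 1 := by
      rintro rfl
      exact hqr (by rw [one_mul] at e; rw [← e, smul_inv_smul])
    set d := k⁻¹ * g * k with hd
    have ha : d • ((1 : G) : G ⧸ NN M) = (1 : G) := by
      rw [hd, mul_smul, mul_smul, hp, inv_smul_smul]
    have hb : d • ((c : G) : G ⧸ NN M) = c := by
      rw [hd, mul_smul, mul_smul, hq, inv_smul_smul]
    have hyb : d • ((y * c : G) : G ⧸ NN M) = (y * c : G) := by
      rw [← e, hd, mul_smul, mul_smul, smul_inv_smul, hr]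
    have hdN := fix_one.mp ha
    have hdz := h.fix_D hc hcz hdN hb
    have hw : y⁻¹ * (d * y * d⁻¹) ∈ M := M.mul_mem (M.inv_mem hy) (conj_mem hdN hy)
    have h5 : y⁻¹ * (d * y * d⁻¹) = 1 := by
      refine h.fix_M hc hcz M.one_mem hw ?_
      rw [one_mul, mul_smul, mul_smul, mul_smul, inv_smul_eq_iff.mpr hb.symm, smul_coe_eq _ y c, hyb,
        smul_coe_eq, inv_mul_cancel_left]
    have h6 : d = 1 := h.free_D hc hcz hdN hdz hy hy1 (by
      calc d * y = y * (y⁻¹ * (d * y * d⁻¹)) * d := by group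
        _ = y * d := by rw [h5, mul_one])
    calc g = k * d * k⁻¹ := by rw [hd]; group
      _ = 1 := by rw [h6]; group
  third := by
    intro p q
    obtain ⟨y, hy, hy1⟩ := h.ne
    have h1 := ne_one hc hy
    have h2 : ((c : G) : G ⧸ NN M) ≠ ((1 : G) : G ⧸ NN M) := by
      simpa using ne_one hc M.one_mem
    have h3 : ((y * c : G) : G ⧸ NN M) ≠ (c : G) := fun e => hy1
      (h.fix_M hc hcz M.one_mem hy (by rw [one_mul, smul_coe_eq, e]))
    by_contra hno
    push Not at hno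
    have k1 := hno ((1 : G) : G ⧸ NN M)
    have k2 := hno ((c : G) : G ⧸ NN M)
    have k3 := hno ((y * c : G) : G ⧸ NN M)
    by_cases e1 : ((1 : G) : G ⧸ NN M) = p
    · have := k2 (e1 ▸ h2)
      have := k3 (e1 ▸ h1)
      exact h3 (by simp [*])
    · have e2 := k1 e1
      by_cases e3 : ((c : G) : G ⧸ NN M) = p
      · exact h1 ((k3 (e3 ▸ h3)).trans e2.symm)
      · exact h2 ((k2 e3).trans e2.symm)
  nonempty := ⟨((1 : G) : G ⧸ NN M)⟩

theorem isKer : IsKer ((1 : G) : G ⧸ NN M) M := by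
  refine (h.isZT hc hcz hA).isKer_of_reg (fun u hu => fix_one.mpr (leN hu)) ?_
  intro p q hp hq
  obtain ⟨y, hy, rfl⟩ := h.exists_pt hc hcz hA hp
  obtain ⟨w, hw, rfl⟩ := h.exists_pt hc hcz hA hq
  refine ⟨⟨w * y⁻¹, M.mul_mem hw (M.inv_mem hy)⟩, ?_, ?_⟩
  · change (w * y⁻¹) • _ = _
    rw [smul_coe_eq]; congr 1; group
  · rintro ⟨u, hu⟩ e
    change u • _ = _ at e
    have h1 : y * w⁻¹ * u = 1 := by
      refine h.fix_M hc hcz hy (M.mul_mem (M.mul_mem hy (M.inv_mem hw)) hu) ?_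
      rw [mul_smul, e, smul_coe_eq]; congr 1; group
    refine Subtype.ext ?_
    change u = w * y⁻¹
    calc u = w * y⁻¹ * (y * w⁻¹ * u) := by group
      _ = _ := by rw [h1, mul_one]

theorem caseA : ∃ (F : Type) (_ : Field F) (_ : Fintype F) (p : ℕ) (_ : Fact p.Prime) (_ : CharP F p),
    Fintype.card F = Nat.card M ∧ Cfsg.IsElementaryAbelian p M ∧
      (Nonempty (G ≃* (GL (Fin 2) F ⧸ Subgroup.center (GL (Fin 2) F))) ∨
        (Fintype.card F % 4 = 1 ∧
          Nonempty (G ≃* Matrix.ProjectiveSpecialLinearGroup (Fin 2) F))) := by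
  have hZ := h.isZT hc hcz hA
  have hK := h.isKer hc hcz hA
  have hab : ((1 : G) : G ⧸ NN M) ≠ ((c : G) : G ⧸ NN M) := by
    simpa using (ne_one hc M.one_mem).symm
  have hcc := h.sq_out hc hcz
  have hev : Even (Nat.card ↥(stabilizer G ((1 : G) : G ⧸ NN M) ⊓
      stabilizer G ((c : G) : G ⧸ NN M))) := by
    rw [even_iff_two_dvd, ← orderOf_eq_two_iff'.mpr ⟨h.zz, h.z1⟩]
    refine Subgroup.orderOf_dvd_natCard _ (mem_stab2.mpr ⟨fix_one.mpr h.zN, ?_⟩)
    rw [fix_iff, mul_assoc, ← hcz, inv_mul_cancel_left]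
    exact h.zN
  have h1 := hZ.card_le_of_even hab hev
  have h2 := hK.card_add_one hZ
  have hle : Nat.card M - 1 ≤ 2 * Nat.card ↥(stabilizer G ((1 : G) : G ⧸ NN M) ⊓
      stabilizer G ((c : G) : G ⧸ NN M)) := by omega
  obtain ⟨p, f, hp, hpow, hcard⟩ := hK.exists_prime_of_le hZ hab.symm hle
  obtain ⟨F, _, _, hF, hiso⟩ := hK.exists_iso hZ hab hle hcc (by rw [smul_coe_eq, mul_one])
    (by rw [smul_coe_eq, hcc]) (fun x hx => by
      have hxN := fix_one.mp (mem_stab2.mp hx).1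
      exact h.inv_D hc hcz hxN (h.fix_D hc hcz hxN (mem_stab2.mp hx).2))
  obtain ⟨r, hr⟩ := CharP.exists F
  obtain ⟨n, hrp, hn⟩ := FiniteField.card F r
  have hrp' : r = p := by
    have : r ∣ p ^ f := by
      rw [← hcard, ← hF, hn]; exact dvd_pow_self r n.ne_zero
    exact (Nat.prime_dvd_prime_iff_eq hrp hp).mp (hrp.dvd_of_dvd_pow this)
  subst hrp'
  refine ⟨F, inferInstance, inferInstance, r, ⟨hp⟩, hr, hF,
    ⟨⟨⟨fun a b => Subtype.ext (h.comm a.2 b.2)⟩⟩, hpow⟩, ?_⟩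
  rcases hiso with ⟨-, e, -⟩ | ⟨h3, -, e⟩
  · exact Or.inl e
  · refine Or.inr ⟨?_, e⟩
    obtain ⟨k, hk⟩ := hev
    have : 0 < Nat.card M := Nat.card_pos
    omega

end Big

end Cfsg.Agent.FG.TI
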